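import Cfsg.Agent.H49.LQEnd
import Cfsg.Agent.H51.Constraint
import Cfsg.Agent.S3247
import Cfsg.Agent.S2206

/-! L2Q-P1E: the end of the exceptional configuration with `|V| = 8`. -/

set_option autoImplicit false

namespace Cfsg.Agent.H19.LqP

open Cfsg Subgroup Cfsg.Agent.H93.LQ Cfsg.Agent.H83

universe u v

theorem p1e : P1eStmt.{u, v} := by
  intro G F _ _ _ _ H h8 tE one r3 hc
  have := H.En
  have := H.Es
  have : Fact (Nat.Prime 2) := ⟨Nat.prime_two⟩
  have z0 : H.z 0 = 1 := by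
    have := H.z_add 0 0
    rw [add_zero] at this
    exact mul_eq_left.1 this.symm
  have zz : ∀ b, H.z b * H.z b = 1 := fun b => by
    rw [← H.z_add, ← two_mul, H.two, zero_mul, z0]
  have r2 : ¬ PRankLE 2 2 H.E := fun h => by
    have := h (H.V.subgroupOf H.E) ⟨⟨fun x y => by
      obtain ⟨a, ha⟩ := (H.memV _).1 (mem_subgroupOf.1 x.2)
      obtain ⟨b, hb⟩ := (H.memV _).1 (mem_subgroupOf.1 y.2)
      refine Subtype.ext (Subtype.ext ?_)
      change ((x : H.E) : G) * (y : H.E) = (y : H.E) * (x : H.E)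
      rw [ha, hb, ← H.z_add, ← H.z_add, add_comm]⟩⟩ fun x hx => by
      obtain ⟨a, ha⟩ := (H.memV _).1 (mem_subgroupOf.1 hx)
      refine Subtype.ext ?_
      change (x : G) ^ 2 = 1
      rw [ha, sq, zz]
    rw [Nat.card_congr (subgroupOfEquivOfLe H.VE).toEquiv, h8] at this
    omega
  have z1 : IsPConstrained 2 ↥(H.E ⊓ centralizer {H.z 1}) :=
    hc _ ((H.memV _).2 ⟨1, rfl⟩) fun e => one_ne_zero (H.z_inj (e.trans z0.symm))
  have cx : ∀ x : H.E, orderOf x = 2 → IsPConstrained 2 ↥(centralizer ({x} : Set H.E)) := by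
    intro x hx
    obtain ⟨g, hg⟩ := isConj_iff.1 (one x x.2 (by rw [orderOf_coe, hx]))
    rw [← H51.isPConstrained_map_iff (H3.coprime_card_ker_of_injective H.E.subtype_injective 2)]
    rw [← H51.isPConstrained_map_iff (f := (MulAut.conj g).toMonoidHom)
      (H3.coprime_card_ker_of_injective (MulAut.conj g).injective 2)] at z1
    suffices e : map H.E.subtype (centralizer {x}) =
        map (MulAut.conj g).toMonoidHom (H.E ⊓ centralizer {H.z 1}) from e ▸ z1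
    ext y
    simp only [mem_map, mem_inf, mem_centralizer_singleton_iff]
    constructor
    · rintro ⟨w, hw, rfl⟩
      have hw' : (w : G) * x = x * w := congrArg Subtype.val hw
      refine ⟨g⁻¹ * w * g, ⟨by simpa using H.En.conj_mem _ w.2 g⁻¹, ?_⟩, by simp [mul_assoc]⟩
      rw [← hg] at hw'
      calc g⁻¹ * w * g * H.z 1 = g⁻¹ * (w * (g * H.z 1 * g⁻¹)) * g := by group
        _ = _ := by rw [hw']; group
    · rintro ⟨w, ⟨hw, hw'⟩, rfl⟩
      refine ⟨⟨g * w * g⁻¹, H.En.conj_mem _ hw g⟩, Subtype.ext ?_, rfl⟩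
      change g * w * g⁻¹ * x = x * (g * w * g⁻¹)
      rw [← hg]
      calc g * w * g⁻¹ * (g * H.z 1 * g⁻¹) = g * (w * H.z 1) * g⁻¹ := by group
        _ = _ := by rw [hw']; group
  have key := S2206.result H.Ena r3 r2 fun T hT hT1 => by
    obtain ⟨⟨z, hz⟩, hz1⟩ := ne_bot_iff_exists_ne_one.mp (OZ_ne_bot hT hT1)
    obtain ⟨a, b, c⟩ := mem_OZ.mp hz
    exact S3247.aux (cx z (orderOf_eq_prime c fun e => hz1 (Subtype.ext e))) hT
      (le_cent_singleton.mpr b) (cent_le_cent_singleton a)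
  rcases key with ⟨K, _, _, hK, e⟩ | ⟨K, _, _, hK, e⟩ | ⟨K, _, _, hK, e⟩ | h
  · exact .inl ⟨H49.LQEnd.lie_of_bender (.inl ⟨K, _, _,
      charP_of_card_eq_prime_pow (p := 2) (f := 3) hK, by omega, e⟩), tE⟩
  · exact .inl ⟨H49.LQEnd.lie_of_bender (.inr (.inl ⟨K, _, _, 3, by norm_num, hK, e⟩)), tE⟩
  · exact .inl ⟨H49.LQEnd.lie_of_bender (.inr (.inr ⟨K, _, _, 1, le_rfl, hK, e⟩)), tE⟩
  · exact .inr ⟨H.k0.cardV ▸ h8, h⟩

end Cfsg.Agent.H19.LqP
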