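import Cfsg.Agent.H24.MFus
import Cfsg.Agent.H23.Dbl2c
import Cfsg.Prelude.Def_Local
import Cfsg.Prelude.Def_Spor_Conway
import Cfsg.Prelude.Def_Spor_Mathieu

/-!
# No `2`-component of type `M23` or `McL`: definitions and the statements of the pieces

`θ n` for `n < 128` is the element `σ (n % 16) * β (n / 16 % 4) * f ^ (n / 64)` of a Sylow
`2`-subgroup of `2⁴:A₇`.
-/

set_option autoImplicit false
open scoped Pointwise commutatorElement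
open Subgroup

namespace Cfsg.Agent.H19.MW
open Cfsg.Agent.H24.MH Cfsg.Agent.H23.D2 Cfsg.Agent.H8
open Cfsg.Agent.H42 (tb)

universe u v

local notation "C[" A "]" => Subgroup.centralizer (SetLike.coe A)
local notation "N[" A "]" => Subgroup.normalizer (SetLike.coe A)

/-- the matrix of `θ n` on the first subgroup of order 16 -/
def am (n : ℕ) : ℕ := mm (vM (n / 16 % 4 * 4)) (bif Nat.blt n 64 then I4 else fM)

/-- the matrix of `θ n` on the second subgroup of order 16 -/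
def bm (n : ℕ) : ℕ := mm (vM (n % 16 / 4 * 4)) (bif Nat.blt n 64 then I4 else fM)

/-- the multiplication table -/
def tm (n m : ℕ) : ℕ :=
  (n % 16 ^^^ mm (am n) (m % 16)) +
    16 * (n / 16 % 4 ^^^ mm (bif Nat.blt n 64 then I4 else fM) (m / 16 % 4 * 4) / 4) +
    64 * ((n / 64 + m / 64) % 2)

/-- coordinates of the second subgroup of order 16 -/
def up (u : ℕ) : ℕ := u % 4 + 16 * (u / 4)

section
variable {G : Type u} [Group G]

/-- `θ` is a model of the Sylow `2`-subgroup -/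
structure TM (θ : ℕ → G) : Prop where
  mul : ∀ n < 128, ∀ m < 128, θ n * θ m = θ (tm n m)
  inj : ∀ n < 128, ∀ m < 128, θ n = θ m → n = m

/-- the subgroup generated by the `θ n` with `p n` -/
def sp (θ : ℕ → G) (p : ℕ → Bool) : Subgroup G := closure {x | ∃ n < 128, p n = true ∧ θ n = x}

def T0 (θ : ℕ → G) : Subgroup G := sp θ fun _ => true
def QQ (θ : ℕ → G) : Subgroup G := sp θ fun n => Nat.blt n 64
def VV (θ : ℕ → G) : Subgroup G := sp θ fun n => Nat.blt n 16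
def UU (θ : ℕ → G) : Subgroup G := sp θ fun n => Nat.blt n 64 && Nat.blt (n % 16) 4
def ZZ (θ : ℕ → G) : Subgroup G := sp θ fun n => Nat.blt n 4

/-- the conjugate model -/
def cj (t : G) (θ : ℕ → G) : ℕ → G := fun n => t * θ n * t⁻¹

/-- What is used of `M23` and `McL`. -/
structure Mod (B : Type v) [Group B] (V : Subgroup B) (σ : ℕ → B) : Prop where
  aut : Aut V σ m7
  odd : Odd (N[V]).index
  one : ∀ x y : B, orderOf x = 2 → orderOf y = 2 → IsConj x y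
  inn : ∀ φ : MulAut B, (∀ v ∈ V, φ v ∈ V) → ∃ b, ∀ x, φ x = b * x * b⁻¹
  simple : IsSimpleGroup B

/-- `c` acts trivially on `J / O` -/
def Triv (J O : Subgroup G) (c : G) : Prop := ∀ x ∈ J, c * x * c⁻¹ * x⁻¹ ∈ O

/-- the configuration of the main theorem -/
structure Cfg {B : Type v} [Group B] (t : G) (J : Subgroup G) (π : J →* B) : Prop where
  ord : orderOf t = 2
  JC : ∀ x ∈ J, x * t = t * x
  NJ : ∀ c, c * t = t * c → c ∈ N[J]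
  surj : Function.Surjective π
  odd : Odd (Nat.card π.ker)
  NO : ∀ c, c * t = t * c → c ∈ N[π.ker.map J.subtype]
  tr : ∀ c, c * t = t * c → (∃ n, c ^ 2 ^ n = 1) → Triv J (π.ker.map J.subtype) c → c = 1 ∨ c = t

/-- `J / O` has the local structure of `M23` or `McL` -/
structure JD (J O : Subgroup G) (θ : ℕ → G) : Prop where
  tm : TM θ
  le : O ≤ J
  odd : Odd (Nat.card O)
  nO : J ≤ N[O]
  mem : ∀ n < 128, θ n ∈ J
  syl : IsSylowIn 2 (T0 θ) J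
  act : ∀ g ∈ J, g ∈ N[VV θ] → ∃ M, tb m7 M = true ∧ Act θ g M
  real : ∀ M, tb m7 M = true → ∃ g ∈ J, Act θ g M
  cen : ∀ c ∈ J, c ∈ C[VV θ] → ∃ v < 16, θ v * c ∈ O
  one : ∀ a ∈ J, orderOf a = 2 → ∃ g ∈ J, g * a * g⁻¹ = θ 1
  lam : ∃ h ∈ J, Act θ h hM ∧ Act (fun u => θ (up u)) h hM
  inn : ∀ c ∈ N[J], c ∈ N[O] → c ∈ N[VV θ] → ∃ j ∈ J, Triv J O (j * c)
  inv : ∀ y ∈ N[J], y ∈ N[O] → y ∈ N[T0 θ] → y ∉ N[VV θ] → ∀ m < 128,
    Triv J O (θ m * (y * y)) → ∃ n < 128, Triv J O (θ n * y * (θ n * y))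
  simp : ∀ K ≤ J, J ≤ N[K] → K ≤ O ∨ J ≤ K ⊔ O
  zt : ∀ x ∈ J, Triv J O x → x ∈ O

/-- the centraliser of `t` -/
structure Ctx (t : G) (J O : Subgroup G) (θ : ℕ → G) : Prop extends JD J O θ where
  tt : t * t = 1
  tJ : t ∉ J
  JC : ∀ x ∈ J, x * t = t * x
  NJ : ∀ c, c * t = t * c → c ∈ N[J]
  NO : ∀ c, c * t = t * c → c ∈ N[O]
  tr : ∀ c, c * t = t * c → Triv J O c → c ∈ O ∨ c * t ∈ O

/-- the double of `V` -/
structure DW (t : G) (J W : Subgroup G) (θ : ℕ → G) : Prop where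
  le : VV θ ≤ W
  comm : ∀ x ∈ W, ∀ y ∈ W, x * y = y * x
  card : Nat.card W = 256
  nm : t ∉ W
  wsq : ∀ w ∈ W, w * w ∈ VV θ
  fix : ∀ w ∈ W, w * t = t * w → w ∈ VV θ
  br : ∀ w ∈ W, ∃ v ∈ VV θ, w * t * w⁻¹ = t * v
  onto : ∀ v ∈ VV θ, ∃ w ∈ W, w * t * w⁻¹ = t * v
  type : (∀ w ∈ W, w * w = 1) ∨ (∀ w ∈ W, t * w * t = w⁻¹)
  tN : T0 θ ≤ N[W]
  real : ∀ M, tb m7 M = true → ∃ g ∈ J, g ∈ N[W] ∧ Act θ g M
  syl : IsSylowIn 2 (W ⊔ zpowers t) (NN t (VV θ))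

/-- the local group `N(W) / O(C(W))` -/
structure Loc (t : G) (M W : Subgroup G) (θ : ℕ → G) : Prop where
  tm : TM θ
  spl : Spl t M
  mem : ∀ n < 128, θ n ∈ M
  syl : IsSylowIn 2 (T0 θ) M
  act : ∀ g ∈ M, ∃ A, tb m7 A = true ∧ Act θ g A
  real : ∀ A, tb m7 A = true → ∃ g ∈ M, Act θ g A
  cen : ∀ c ∈ M, c ∈ C[VV θ] → c ∈ VV θ
  nW : W.Normal
  cW : C[W] ≤ W
  sq : ∀ w ∈ W, w * w = 1
  card : Nat.card W = 256
  le : VV θ ≤ W
  nm : t ∉ W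
  fix : ∀ w ∈ W, w * t = t * w → w ∈ VV θ
  br : ∀ w ∈ W, ∃ v ∈ VV θ, w * t * w⁻¹ = t * v
  onto : ∀ v ∈ VV θ, ∃ w ∈ W, w * t * w⁻¹ = t * v

/-- an invariant complement to `V` in `W`, with coordinates `s` -/
structure SW (t : G) (M W : Subgroup G) (θ s : ℕ → G) : Prop where
  pre : Pre s
  mem : ∀ v < 16, s v ∈ W
  diag : ∀ v < 16, s v * cj t s v = θ v
  act : ∀ g ∈ M, ∀ A, Act θ g A → Act s g A

/-- the product `Y × Y ^ t` -/
structure PR (t : G) (M W Y : Subgroup G) (θ η : ℕ → G) : Prop where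
  tm : TM η
  mem : ∀ n < 128, η n ∈ Y
  syl : IsSylowIn 2 (T0 η) Y
  diag : ∀ n < 128, η n * cj t η n = θ n
  comm : ∀ y ∈ Y, ∀ y' ∈ Y, y * (t * y' * t⁻¹) = t * y' * t⁻¹ * y
  disj : ∀ y ∈ Y, t * y * t⁻¹ ∈ Y → y = 1
  dM : ∀ y ∈ Y, y * (t * y * t⁻¹) ∈ M
  real : ∀ A, tb m7 A = true → ∃ y ∈ Y, Act η y A
  perf : ⁅Y, Y⁆ = Y
  eqW : W = VV η ⊔ VV (cj t η)
  ncl : ∀ K : Subgroup G, K.Normal → T0 θ ≤ K → Y ≤ K

/-- the wreathed `2`-subgroup `(S₁ × S₂)⟨t⟩` in `G` -/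
structure Wr (t : G) (F : Subgroup G) (θ η : ℕ → G) : Prop where
  tm : TM η
  comm : ∀ n < 128, ∀ m < 128, η n * cj t η m = cj t η m * η n
  disj : ∀ n < 128, ∀ m < 128, η n = cj t η m → n = 0
  diag : ∀ n < 128, η n * cj t η n = θ n
  memF : ∀ n < 128, η n ∈ F
  real : ∀ A, tb m7 A = true → ∃ y ∈ C[T0 (cj t η)], Act η y A
  foc : T0 η ≤ ⁅F ⊓ C[T0 (cj t η)], F ⊓ C[T0 (cj t η)]⁆
  full : ∀ g ∈ N[(VV η ⊔ VV (cj t η) : Subgroup G)],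
    (∃ A, tb m7 A = true ∧ Act η g A) ∨ ∃ A, tb m7 A = true ∧ Act η (t * g) A
  cen : ∃ O1 : Subgroup G, Odd (Nat.card O1) ∧ O1 ≤ C[(VV η ⊔ VV (cj t η) : Subgroup G)] ∧
    N[(VV η ⊔ VV (cj t η) : Subgroup G)] ≤ N[O1] ∧
    ∀ c ∈ C[(VV η ⊔ VV (cj t η) : Subgroup G)], ∃ w ∈ VV η ⊔ VV (cj t η), w * c ∈ O1
  syl : IsSylowIn 2 (VV η ⊔ VV (cj t η) ⊔ zpowers t) (NN t (VV θ))

/-- `S = S₁ × S₂` -/
def SS (t : G) (η : ℕ → G) : Subgroup G := T0 η ⊔ T0 (cj t η)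

/-- `Z₁ × Z₂` -/
def ZH (t : G) (η : ℕ → G) : Subgroup G := ZZ η ⊔ ZZ (cj t η)

/-- the four subgroups of order 64: factor `i`, first or second subgroup of order 16 -/
def XX (t : G) (η : ℕ → G) (i j : Bool) : Subgroup G :=
  (bif j then UU (bif i then cj t η else η) else VV (bif i then cj t η else η)) ⊔ ZH t η

/-- the permutation of the four subgroups induced by `g` -/
def Ty (t : G) (η : ℕ → G) (g : G) (e a b : Bool) : Prop :=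
  ∀ j, MulAut.conj g • XX t η false j = XX t η e (xor j a) ∧
    MulAut.conj g • XX t η true j = XX t η (!e) (xor j b)

/-- the standing hypothesis of the end game -/
structure EC (t : G) (J O F P : Subgroup G) (θ η : ℕ → G) : Prop where
  ctx : Ctx t J O θ
  wr : Wr t F θ η
  syl : IsSylowIn 2 P ⊤
  tP : t ∈ P
  SP : SS t η ≤ P

/-- basic facts on `S` -/
structure SK (t : G) (P : Subgroup G) (θ η : ℕ → G) : Prop where
  ty : ∀ g ∈ N[SS t η], ∃ e a b, Ty t η g e a b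
  ker : ∀ g ∈ P, Ty t η g false false false → g ∈ SS t η
  nts : ∀ s ∈ SS t η, ¬ IsConj t s
  cls : ∀ s ∈ SS t η, t * s * (t * s) = 1 → ∃ c ∈ SS t η, c * t * c⁻¹ = t * s
  cent : ∀ s ∈ SS t η, s * t = t * s → s ∈ T0 θ
  e256 : ∀ E ≤ SS t η, (∀ x ∈ E, x * x = 1) → 256 ≤ Nat.card E →
    ∃ i j, E = XX t η false i ⊔ XX t η true j
  nZ : ∀ g ∈ N[SS t η], ∀ e a b, Ty t η g e a b →
    MulAut.conj g • ZZ η = ZZ (bif e then cj t η else η) ∧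
    MulAut.conj g • ZZ (cj t η) = ZZ (bif e then η else cj t η)
  rk4 : ∀ x ∈ N[SS t η], Ty t η x false true true → ∀ E ≤ SS t η, (∀ y ∈ E, y * y = 1) →
    (∀ y ∈ E, y * x = x * y) → Nat.card E ≤ 16

/-- a large `2`-subgroup in the centraliser of `x` -/
structure RD (x : G) (A D : Subgroup G) : Prop where
  mem : x ∈ A
  le : A ≤ D
  two : IsPGroup 2 D
  cen : ∀ a ∈ A, ∀ d ∈ D, a * d = d * a
  sq : ∀ a ∈ A, a * a = 1
  card : 64 ≤ Nat.card A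
  big : 128 ≤ Nat.card A ∨ (256 ≤ Nat.card D ∧ (∀ d ∈ D, d * d = 1 → d ∈ A) ∧
    ∃ ζ, ∀ d ∈ D, d * d = 1 ∨ d * d = ζ)

end

/-! ### The statements -/

def MainStmt : Prop :=
  ∀ (G : Type u) [Group G] [Finite G] (F : Subgroup G), F.Normal → IsSimpleGroup F →
    ¬ IsMulCommutative F → C[F] = ⊥ → ∀ (B : Type v) [Group B] (V : Subgroup B) (σ : ℕ → B),
    Mod B V σ → ∀ (t : G) (J : Subgroup G) (π : J →* B), Cfg t J π → False

def Mod23Stmt : Prop :=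
  ∀ (B : Type v) [Group B] [Finite B], Spor.IsoM23 B → ∃ V σ, Mod B V σ

def ModMcLStmt : Prop :=
  ∀ (B : Type v) [Group B] [Finite B], Spor.IsoMcL B → ∃ V σ, Mod B V σ

def InnStmt : Prop :=
  ∀ (B : Type v) [Group B] [Finite B] (θ : ℕ → B), TM θ → Aut (VV θ) θ m7 →
    Odd (N[VV θ]).index → C[UU θ] ≤ UU θ → N[VV θ] ⊔ N[UU θ] = ⊤ →
    ∀ φ : MulAut B, (∀ v ∈ VV θ, φ v ∈ VV θ) → ∃ b, ∀ x, φ x = b * x * b⁻¹

def InvBStmt : Prop :=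
  ∀ (B : Type v) [Group B] [Finite B] (θ : ℕ → B), TM θ → Aut (VV θ) θ m7 → ∀ h : B, Act θ h hM →
    Act (fun u => θ (up u)) h hM → ∀ φ : MulAut B, (∀ x ∈ T0 θ, φ x ∈ T0 θ) →
    (¬ ∀ v ∈ VV θ, φ v ∈ VV θ) → ∀ m < 128, (∀ x, θ m * φ (φ x) * (θ m)⁻¹ = x) →
    ∃ n < 128, ∀ x, θ n * φ (θ n * φ x * (θ n)⁻¹) * (θ n)⁻¹ = x

def LiftStmt : Prop :=
  ∀ (G : Type u) [Group G] [Finite G] (B : Type v) [Group B] (V : Subgroup B) (σ : ℕ → B),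
    Mod B V σ → ∀ (J : Subgroup G) (π : J →* B), Function.Surjective π → Odd (Nat.card π.ker) →
    ∃ θ, JD J (π.ker.map J.subtype) θ

def CtxStmt : Prop :=
  ∀ (G : Type u) [Group G] [Finite G] (B : Type v) [Group B] (V : Subgroup B) (σ : ℕ → B),
    Mod B V σ → ∀ (t : G) (J : Subgroup G) (π : J →* B), Cfg t J π → ∃ J' O θ, Ctx t J' O θ

def ZstStmt : Prop :=
  ∀ (G : Type u) [Group G] (θ : ℕ → G), TM θ → ∀ y : G, y * y = 1 → y ∈ N[T0 θ] → y ∉ N[VV θ] →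
    ((∀ z ∈ ZZ θ, z * y = y * z) ∧ ∀ z ∈ ZZ θ, ∃ w ∈ T0 θ, w * y * w⁻¹ = y * z) ∨
    ((∃ w ∈ T0 θ, w * y * w⁻¹ = y * θ 1) ∧ ∃ q ∈ T0 θ, q * y = y * q ∧ q * q = θ 1)

def RedStmt : Prop :=
  ∀ (G : Type u) [Group G] [Finite G] (L O : Subgroup G) (θ : ℕ → G), oddCore G = ⊥ →
    IsStandardSubgroup L → ¬ L.Normal → JD L O θ → O ≤ C[L] → ¬ 4 ∣ Nat.card C[L]

def StartStmt : Prop :=
  ∀ (G : Type u) [Group G] [Finite G] (F : Subgroup G), F.Normal → IsSimpleGroup F →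
    ¬ IsMulCommutative F → C[F] = ⊥ → ∀ (t : G) (J O : Subgroup G) (θ : ℕ → G), Ctx t J O θ →
    T0 θ ≤ F ∧ IsConj t (t * θ 1)

def Nt2Stmt : Prop :=
  ∀ (G : Type u) [Group G] [Finite G] (t : G) (J O : Subgroup G) (θ : ℕ → G), Ctx t J O θ →
    ∀ X : Subgroup G, IsPGroup 2 X → t ∉ X → (∀ x ∈ X, x * t = t * x) →
    (∀ a ∈ X, a * a = 1 → ∀ x ∈ X, a * x = x * a) →
    (64 ≤ Nat.card X ∨ (32 ≤ Nat.card X ∧ ∃ A ≤ X, (∀ a ∈ A, a * a = 1) ∧ 8 ≤ Nat.card A)) → False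

def DblStmt : Prop :=
  ∀ (G : Type u) [Group G] [Finite G] (t : G) (J O : Subgroup G) (θ : ℕ → G), Ctx t J O θ →
    IsConj t (t * θ 1) → ∃ W, DW t J W θ

def TypeStmt : Prop :=
  ∀ (G : Type u) [Group G] [Finite G] (t : G) (J O W : Subgroup G) (θ : ℕ → G), Ctx t J O θ →
    DW t J W θ → ∀ w ∈ W, w * w = 1

def FusStmt : Prop :=
  ∀ (G : Type u) [Group G] [Finite G] (t : G) (J O W : Subgroup G) (θ : ℕ → G), Ctx t J O θ →
    DW t J W θ → (∀ w ∈ W, w * w = 1) → IsConj t (t * θ 1) →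
    ∃ k ∈ N[W], k * t * k⁻¹ = t * θ 16

def SplitStmt : Prop :=
  ∀ (G : Type u) [Group G] [Finite G] (t : G) (M W : Subgroup G) (θ : ℕ → G), Loc t M W θ →
    ∃ s, SW t M W θ s

def TrbStmt : Prop :=
  ∀ (G : Type u) [Group G] [Finite G] (t : G) (M W : Subgroup G) (θ : ℕ → G), Loc t M W θ →
    IsConj t (t * θ 16) → ∃ x : G, x * t * x⁻¹ * (t * θ 16)⁻¹ ∈ W ∧
      x * θ 16 * x⁻¹ * (θ 16)⁻¹ ∈ W ∧ x * θ 32 * x⁻¹ * (θ 32)⁻¹ ∈ W

def XbStmt : Prop :=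
  ∀ (G : Type u) [Group G] [Finite G] (t : G) (M W : Subgroup G) (θ s : ℕ → G), Loc t M W θ →
    SW t M W θ s → IsConj t (t * θ 16) → ∀ x : G, x * t * x⁻¹ * (t * θ 16)⁻¹ ∈ W →
    x * θ 16 * x⁻¹ * (θ 16)⁻¹ ∈ W → x * θ 32 * x⁻¹ * (θ 32)⁻¹ ∈ W →
    ∃ y : G, Act s y b1M ∧ Act (cj t s) y I4

def ProdStmt : Prop :=
  ∀ (G : Type u) [Group G] [Finite G] (t : G) (M W : Subgroup G) (θ s : ℕ → G), Loc t M W θ →
    SW t M W θ s → ∀ y : G, Act s y b1M → Act (cj t s) y I4 → ∃ Y η, PR t M W Y θ η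

/-- a matrix normalising `A₇` lies in `A₇` -/
def Norm7Stmt : Prop :=
  ∀ R < 65536, (∀ v < 16, mm R v = 0 → v = 0) →
    (∀ A, tb m7 A = true → ∃ A', tb m7 A' = true ∧ mm R A = mm A' R) → tb m7 R = true

def FullStmt : Prop :=
  ∀ (G : Type u) [Group G] [Finite G] (t : G) (M W Y : Subgroup G) (θ η : ℕ → G), Loc t M W θ →
    PR t M W Y θ η → ∀ g : G,
    (∃ A, tb m7 A = true ∧ Act η g A) ∨ ∃ A, tb m7 A = true ∧ Act η (t * g) A

def WrStmt : Prop :=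
  ∀ (G : Type u) [Group G] [Finite G] (t : G) (J O W F : Subgroup G) (θ : ℕ → G), Ctx t J O θ →
    DW t J W θ → (∀ w ∈ W, w * w = 1) → (∃ k ∈ N[W], k * t * k⁻¹ = t * θ 16) → F.Normal →
    T0 θ ≤ F → ∃ η, Wr t F θ η

def SkStmt : Prop :=
  ∀ (G : Type u) [Group G] [Finite G] (t : G) (J O F P : Subgroup G) (θ η : ℕ → G),
    EC t J O F P θ η → SK t P θ η

def SqStmt : Prop :=
  ∀ (G : Type u) [Group G] [Finite G] (t : G) (J O F P : Subgroup G) (θ η : ℕ → G),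
    EC t J O F P θ η → SK t P θ η → P ≤ N[SS t η]

def OutStmt : Prop :=
  ∀ (G : Type u) [Group G] [Finite G] (t : G) (J O F P : Subgroup G) (θ η : ℕ → G),
    EC t J O F P θ η → SK t P θ η → P ≤ N[SS t η] → ∀ x ∈ P, ∀ e, Ty t η x e true true →
    ∃ y ∈ P, y * y = 1 ∧ y * t = t * y ∧ Ty t η y false true true ∧ y ∉ J ∧ y * t ∉ J ∧
      MulAut.conj y • VV θ = UU θ

def NtsStmt : Prop :=
  ∀ (G : Type u) [Group G] [Finite G] (t : G) (J O F P : Subgroup G) (θ η : ℕ → G),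
    EC t J O F P θ η → SK t P θ η → P ≤ N[SS t η] → ∀ x ∈ P, Ty t η x false true true →
    ¬ IsConj t x

def RcStmt : Prop :=
  ∀ (G : Type u) [Group G] [Finite G] (t : G) (J O F P : Subgroup G) (θ η : ℕ → G),
    EC t J O F P θ η → SK t P θ η → P ≤ N[SS t η] → ∀ x ∈ P, x * x = 1 →
    Ty t η x false false true → ∃ A D, RD x A D

def NrsStmt : Prop :=
  ∀ (G : Type u) [Group G] [Finite G] (t : G) (J O F P : Subgroup G) (θ η : ℕ → G),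
    EC t J O F P θ η → SK t P θ η → P ≤ N[SS t η] → ∀ r ∈ P, Ty t η r false false true →
    ∀ x ∈ P, Ty t η x false true true → ∀ s ∈ P, ∀ a b, Ty t η s true a b → s * x = x * s →
    ∀ A D, D ≤ P → RD x A D → False

def ExtStmt : Prop :=
  ∀ (G : Type u) [Group G] [Finite G] (t : G) (J O F P : Subgroup G) (θ η : ℕ → G),
    EC t J O F P θ η → SK t P θ η → P ≤ N[SS t η] → ∀ x ∈ P, x * x = 1 → x * t = t * x →
    x ∉ J → x * t ∉ J → ∃ g : G, g * t * g⁻¹ ∈ P ∧ g * x * g⁻¹ ∈ P ∧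
      IsSylowIn 2 (P ⊓ centralizer {g * x * g⁻¹}) (centralizer {g * x * g⁻¹}) ∧
      (∃ a, Ty t η (g * t * g⁻¹) true a a) ∧
      (Ty t η (g * x * g⁻¹) false true true ∨ ∃ a, Ty t η (g * x * g⁻¹) true a a) ∧
      Nat.card (P ⊓ centralizer {g * x * g⁻¹} : Subgroup G) ≤ 2 ^ 13

def CenStmt : Prop :=
  ∀ (G : Type u) [Group G] [Finite G] (t : G) (J O F P : Subgroup G) (θ η : ℕ → G),
    EC t J O F P θ η → SK t P θ η → ∀ y ∈ N[SS t η], Ty t η y false true true →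
    ∀ s ∈ SS t η, s * s = 1 → ∃ g : G, g * s * g⁻¹ ∈ C[SS t η]

def SplStmt : Prop :=
  ∀ (G : Type u) [Group G] [Finite G] (t : G) (F : Subgroup G) (θ η : ℕ → G), t * t = 1 →
    Wr t F θ η → F.Normal → IsSimpleGroup F → IsSylowIn 2 (SS t η) F → False

def FinStmt : Prop :=
  ∀ (G : Type u) [Group G] [Finite G] (t : G) (J O F P : Subgroup G) (θ η : ℕ → G),
    EC t J O F P θ η → SK t P θ η → P ≤ N[SS t η] → F.Normal → IsSimpleGroup F →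
    ¬ IsMulCommutative F → False

theorem eqns_MWDefs : True := by
  have := @am.eq_1
  have := @bm.eq_1
  have := @tm.eq_1
  have := @up.eq_1
  have := @sp.eq_1.{0}
  have := @T0.eq_1.{0}
  have := @QQ.eq_1.{0}
  have := @VV.eq_1.{0}
  have := @UU.eq_1.{0}
  have := @ZZ.eq_1.{0}
  have := @cj.eq_1.{0}
  have := @Triv.eq_1.{0}
  have := @SS.eq_1.{0}
  have := @ZH.eq_1.{0}
  have := @XX.eq_1.{0}
  have := @Ty.eq_1.{0}
  have := @MainStmt.eq_1.{0, 0}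
  have := @Mod23Stmt.eq_1.{0}
  have := @ModMcLStmt.eq_1.{0}
  have := @InnStmt.eq_1.{0}
  have := @InvBStmt.eq_1.{0}
  have := @LiftStmt.eq_1.{0, 0}
  have := @CtxStmt.eq_1.{0, 0}
  have := @ZstStmt.eq_1.{0}
  have := @RedStmt.eq_1.{0}
  have := @StartStmt.eq_1.{0}
  have := @Nt2Stmt.eq_1.{0}
  have := @DblStmt.eq_1.{0}
  have := @TypeStmt.eq_1.{0}
  have := @FusStmt.eq_1.{0}
  have := @SplitStmt.eq_1.{0}
  have := @TrbStmt.eq_1.{0}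
  have := @XbStmt.eq_1.{0}
  have := @ProdStmt.eq_1.{0}
  have := @Norm7Stmt.eq_1
  have := @FullStmt.eq_1.{0}
  have := @WrStmt.eq_1.{0}
  have := @SkStmt.eq_1.{0}
  have := @SqStmt.eq_1.{0}
  have := @OutStmt.eq_1.{0}
  have := @NtsStmt.eq_1.{0}
  have := @RcStmt.eq_1.{0}
  have := @NrsStmt.eq_1.{0}
  have := @ExtStmt.eq_1.{0}
  have := @CenStmt.eq_1.{0}
  have := @SplStmt.eq_1.{0}
  have := @FinStmt.eq_1.{0}
  trivial

end Cfsg.Agent.H19.MW
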