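import Cfsg.Agent.H19.GaloisBlock
import Cfsg.Agent.H21.PSum
import Cfsg.Agent.S0952

/-! Sums over `p`-regular elements and a criterion for the principal block. -/

namespace Cfsg.Agent.H19

open Cfsg
open scoped ComplexConjugate

universe u

variable {M : Ideal AlgInt} {p : ℕ} {G : Type u} [Group G]

theorem orderOf_conj_eq (u x : G) : orderOf (u * x * u⁻¹) = orderOf x :=
  (SemiconjBy.orderOf_eq u (x := x) (y := u * x * u⁻¹) (by simp [SemiconjBy])).symm

theorem orderOf_eq_of_isConj {x y : G} (h : IsConj x y) : orderOf x = orderOf y := by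
  obtain ⟨u, rfl⟩ := isConj_iff.1 h
  exact (orderOf_conj_eq u x).symm

/-- The sum of `χ` over the `p`-regular elements. -/
noncomputable def regSum (p : ℕ) (χ : G → ℂ) : ℂ := ∑ᶠ x ∈ {x : G | ¬ p ∣ orderOf x}, χ x

theorem regSum_eq_sum [Fintype G] (p : ℕ) (χ : G → ℂ) :
    regSum p χ = ∑ x : G, if p ∣ orderOf x then 0 else χ x := by
  classical
  unfold regSum
  rw [finsum_mem_eq_finite_toFinset_sum _ (Set.toFinite _)]
  rw [Finset.sum_ite, Finset.sum_const_zero, zero_add]
  refine Finset.sum_congr ?_ fun _ _ => rfl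
  ext x; simp

variable [Finite G]

theorem mem_principalBlock_of_regSum_ne_zero (hM : IsPModular p M) (χ : IrrCharacter G)
    (h : regSum p χ.1 ≠ 0) : χ ∈ principalBlock M G := by
  haveI : Fact p.Prime := ⟨hM.1⟩
  by_contra hχ
  apply h
  have hns : ¬ SameBlock M χ.1 (oneIrr G).1 := fun hs => hχ (sameBlock_symm hM.2.1 hs)
  have := Cfsg.Agent.S0952.result p M hM χ (oneIrr G) hns
  simpa [regSum, oneIrr_coe] using this

theorem regSum_mem_Vr {χ : G → ℂ} (hχ : ∀ g, χ g ∈ Vr M) : regSum p χ ∈ Vr M := by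
  classical
  letI := Fintype.ofFinite G
  rw [regSum_eq_sum]
  refine Subring.sum_mem (Vr M).toSubring fun x _ => ?_
  split_ifs
  · exact zero_mem _
  · exact hχ x

open Classical in
/-- Reduce the regular sum to the centralizer of a `p`-subgroup. -/
theorem red_regSum_eq [Fintype G] (hM : IsPModular p M) {χ : G → ℂ} (hχ : IsClassFunction G χ)
    (hV : ∀ g, χ g ∈ Vr M) {P : Subgroup G} (hP : IsPGroup p P) :
    red M (regSum p χ) =
      ∑ x : G with (x ∈ Subgroup.centralizer (P : Set G) ∧ ¬ p ∣ orderOf x), red M (χ x) := by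
  haveI : Fact p.Prime := ⟨hM.1⟩
  haveI := charP_kk hM
  rw [regSum_eq_sum, red_sum]
  · rw [H21.sum_eq_sum_centralizer hP]
    · rw [Finset.sum_filter, Finset.sum_filter]
      refine Finset.sum_congr rfl fun x _ => ?_
      by_cases h1 : x ∈ Subgroup.centralizer (P : Set G) <;> by_cases h2 : p ∣ orderOf x <;>
        simp [h1, h2, red_zero]
    · intro u _ x
      rw [orderOf_conj_eq, hχ x u]
    · intro a
      rw [nsmul_eq_mul, CharP.cast_eq_zero, zero_mul]
  · intro x _
    split_ifs
    · exact zero_mem _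
    · exact hV x

open Classical in
/-- In characteristic two the terms `x`, `x⁻¹` cancel. -/
theorem red_regSum_two (hM : IsPModular 2 M) {χ : G → ℂ} (hχ : IsClassFunction G χ)
    (hV : ∀ g, χ g ∈ Vr M) {P : Subgroup G} (hP : IsPGroup 2 P)
    (h : ∀ x ∈ Subgroup.centralizer (P : Set G), ¬ 2 ∣ orderOf x →
      red M (χ x⁻¹) = red M (χ x)) :
    red M (regSum 2 χ) = red M (χ 1) := by
  letI := Fintype.ofFinite G
  haveI := charP_kk hM
  rw [red_regSum_eq hM hχ hV hP]
  set s : Finset G :=
    Finset.univ.filter fun x => x ∈ Subgroup.centralizer (P : Set G) ∧ ¬ 2 ∣ orderOf x with hs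
  have h1 : (1 : G) ∈ s := by simp [hs]
  rw [← Finset.add_sum_erase s _ h1]
  have : ∑ x ∈ s.erase 1, red M (χ x) = 0 := by
    refine Finset.sum_involution (fun x _ => x⁻¹) ?_ ?_ ?_ ?_
    · intro x hx
      have hx' := (Finset.mem_filter.1 (Finset.mem_of_mem_erase hx)).2
      rw [h x hx'.1 hx'.2, ← two_mul]
      have : (2 : kk M) = 0 := by exact_mod_cast CharP.cast_eq_zero (kk M) 2
      rw [this, zero_mul]
    · intro x hx _ hinv
      have hx' := (Finset.mem_filter.1 (Finset.mem_of_mem_erase hx)).2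
      have hx1 : x ≠ 1 := Finset.ne_of_mem_erase hx
      apply hx'.2
      have h2 : x ^ 2 = 1 := by
        rw [pow_two]; nth_rewrite 1 [← hinv]; exact inv_mul_cancel x
      have := orderOf_eq_prime h2 hx1
      rw [this]
    · intro x hx
      have hx' := (Finset.mem_filter.1 (Finset.mem_of_mem_erase hx)).2
      have hx1 : x ≠ 1 := Finset.ne_of_mem_erase hx
      refine Finset.mem_erase.2 ⟨by simpa using hx1, Finset.mem_filter.2 ⟨Finset.mem_univ _, ?_⟩⟩
      exact ⟨inv_mem hx'.1, by simpa using hx'.2⟩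
    · intro x _; simp
  rw [this, add_zero]

theorem red_char_one_ne_zero (hM : IsPModular p M) {χ : G → ℂ} (hχ : IsCharacter G χ)
    (h : ¬ p ∣ charDegree χ) : red M (χ 1) ≠ 0 := by
  rw [← charDegree_cast hχ, red_ne_zero_iff (natCast_mem_Vr _)]
  exact (val_natCast_eq_one_iff hM _).2 h

/-- Criterion for the principal `2`-block. -/
theorem mem_principalBlock_two (hM : IsPModular 2 M) (χ : IrrCharacter G)
    (hodd : ¬ 2 ∣ charDegree χ.1) {P : Subgroup G} (hP : IsPGroup 2 P)
    (h : ∀ x ∈ Subgroup.centralizer (P : Set G), ¬ 2 ∣ orderOf x →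
      red M (χ.1 x⁻¹) = red M (χ.1 x)) : χ ∈ principalBlock M G := by
  apply mem_principalBlock_of_regSum_ne_zero hM
  intro h0
  have := red_regSum_two hM (H11.isClassFunction_of_irr χ.2) (irr_mem_Vr χ) hP h
  rw [h0, red_zero] at this
  exact red_char_one_ne_zero hM (H11.irr_isCharacter χ) hodd this.symm

theorem not_dvd_index_centralizer [Fact p.Prime] (P : Sylow p G) {x : G}
    (hx : x ∈ Subgroup.centralizer ((P : Subgroup G) : Set G)) :
    ¬ p ∣ (Subgroup.centralizer ({x} : Set G)).index := by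
  have hle : (P : Subgroup G) ≤ Subgroup.centralizer ({x} : Set G) := by
    intro u hu
    rw [Subgroup.mem_centralizer_iff] at hx ⊢
    intro y hy
    rw [Set.mem_singleton_iff.1 hy]
    exact (hx u hu).symm
  intro hd
  exact P.not_dvd_index (hd.trans (Subgroup.index_dvd_of_le hle))

/-- For `p'`-degree characters and classes of `p'`-length, central characters determine values. -/
theorem red_centralChar_eq (hM : IsPModular p M) {χ : G → ℂ} (hχ : IsCharacter G χ)
    (hd : ¬ p ∣ charDegree χ) (x : G) :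
    red M (centralChar χ x) =
      ((Subgroup.centralizer ({x} : Set G)).index : kk M) * red M (χ x) / red M (χ 1) := by
  have hv : val M (χ 1) = 1 := by
    rw [← charDegree_cast hχ]; exact (val_natCast_eq_one_iff hM _).2 hd
  unfold centralChar
  rw [red_div (mul_mem (natCast_mem_Vr _) (char_mem_Vr hχ x)) hv,
    red_mul (natCast_mem_Vr _) (char_mem_Vr hχ x), red_natCast]

theorem red_eq_of_red_centralChar_eq (hM : IsPModular p M) {χ ψ : G → ℂ} (hχ : IsCharacter G χ)
    (hψ : IsCharacter G ψ) (hd : ¬ p ∣ charDegree χ) (h1 : ψ 1 = χ 1) {x : G}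
    (hx : ¬ p ∣ (Subgroup.centralizer ({x} : Set G)).index)
    (h : red M (centralChar χ x) = red M (centralChar ψ x)) : red M (χ x) = red M (ψ x) := by
  haveI := charP_kk hM
  have hd' : ¬ p ∣ charDegree ψ := by rwa [charDegree_congr h1]
  rw [red_centralChar_eq hM hχ hd, red_centralChar_eq hM hψ hd', h1] at h
  have h0 := red_char_one_ne_zero hM hχ hd
  have h2 : ((Subgroup.centralizer ({x} : Set G)).index : kk M) ≠ 0 := by
    rwa [Ne, CharP.cast_eq_zero_iff (kk M) p]
  rw [div_left_inj' h0] at h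
  exact mul_left_cancel₀ h2 h

/-- A set of full defect contains a character of `p'`-degree. -/
theorem exists_not_dvd_of_blockDefect_eq (hp : p.Prime) {B : Set (IrrCharacter G)}
    (hB : B.Nonempty) (hdef : blockDefect p B = (Nat.card G).factorization p) :
    ∃ χ ∈ B, ¬ p ∣ charDegree χ.1 := by
  have hne : ((fun χ : IrrCharacter G => (charDegree (χ : G → ℂ)).factorization p) '' B).Nonempty :=
    hB.image _
  obtain ⟨χ, hχ, hχe⟩ := Nat.sInf_mem hne
  refine ⟨χ, hχ, ?_⟩
  have hle : (charDegree χ.1).factorization p ≤ (Nat.card G).factorization p :=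
    (Nat.factorization_le_iff_dvd (charDegree_ne_zero χ) Nat.card_pos.ne').2
      (charDegree_dvd_card χ) p
  unfold blockDefect at hdef
  rw [← hχe] at hdef
  simp only at hdef
  have h0 : (charDegree χ.1).factorization p = 0 := by omega
  intro hd
  have := (hp.dvd_iff_one_le_factorization (charDegree_ne_zero χ)).1 hd
  omega

/-- An odd-degree character in the same `2`-block as a character inverting the odd-order
elements lies in the principal block. -/
theorem mem_principalBlock_two_of_sameBlock (hM : IsPModular 2 M) (χ ψ : IrrCharacter G)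
    (hodd : ¬ 2 ∣ charDegree χ.1) (hs : SameBlock M χ.1 ψ.1)
    (h : ∀ x : G, ¬ 2 ∣ orderOf x → ψ.1 x = χ.1 x⁻¹) : χ ∈ principalBlock M G := by
  haveI : Fact (Nat.Prime 2) := ⟨Nat.prime_two⟩
  obtain ⟨P⟩ : Nonempty (Sylow 2 G) := inferInstance
  refine mem_principalBlock_two hM χ hodd P.isPGroup' fun x hx hx2 => ?_
  rw [← h x hx2]
  have h1 : ψ.1 1 = χ.1 1 := by simpa using h 1 (by simp)
  exact (red_eq_of_red_centralChar_eq hM (H11.irr_isCharacter χ) (H11.irr_isCharacter ψ) hodd h1
    (not_dvd_index_centralizer P hx) ((sameBlock_iff_red hM.2.1 χ ψ).1 hs x)).symm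

theorem mem_principalBlock_two_of_inv (hM : IsPModular 2 M) (χ : IrrCharacter G)
    (hodd : ¬ 2 ∣ charDegree χ.1) (h : ∀ x : G, ¬ 2 ∣ orderOf x → χ.1 x⁻¹ = χ.1 x) :
    χ ∈ principalBlock M G :=
  mem_principalBlock_two_of_sameBlock hM χ χ hodd (sameBlock_refl hM.2.1 _)
    fun x hx => (h x hx).symm

end Cfsg.Agent.H19
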