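import Cfsg.Agent.H22.Knorr
import Cfsg.Agent.H23.Coset
import Cfsg.Agent.H21.Feit
import Cfsg.Agent.H19.RealBlock
import Cfsg.Agent.H13.Elementary
import Cfsg.Agent.H3.Cores
import Cfsg.Agent.H17.First

/-!
# Principal blocks and normal subgroups: Alperin's restriction theorem
-/

set_option autoImplicit false
set_option linter.unusedSectionVars false

namespace Cfsg.Agent.H19

open Cfsg.Agent.H17 (Cg)

universe u

variable {M : Ideal AlgInt} {p : ℕ}

theorem relIndex_dvd_index_of_normal_right {G : Type*} [Group G] [Finite G] (C N : Subgroup G)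
    [N.Normal] : C.relIndex N ∣ C.index := by
  have h1 := H3.card_sup_mul_card_inf C N
  have h2 := H3.card_inf_mul_relIndex C N
  have h3 := H3.card_mul_relIndex (le_sup_left : C ≤ C ⊔ N)
  have h4 : C.relIndex N = C.relIndex (C ⊔ N) := by
    rw [← h2, ← h3] at h1
    have hC : 0 < Nat.card C := Nat.card_pos
    have hI : 0 < Nat.card (C ⊓ N : Subgroup G) := Nat.card_pos
    have : Nat.card C * Nat.card (C ⊓ N : Subgroup G) * C.relIndex (C ⊔ N) =
        Nat.card C * Nat.card (C ⊓ N : Subgroup G) * C.relIndex N := by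
      rw [mul_assoc _ _ (C.relIndex N), ← h1]; ring
    exact (Nat.eq_of_mul_eq_mul_left (Nat.mul_pos hC hI) this).symm
  rw [h4]
  exact Subgroup.relIndex_dvd_index_of_le le_sup_left

theorem index_Cg_coe {G : Type*} [Group G] (L : Subgroup G) (x : L) :
    (Cg x).index = (Cg (x : G)).relIndex L := by
  rw [Subgroup.relIndex, H17.subgroupOf_Cg]

section Hom

variable {K : Type*} {E : Type*} [Group K] [Finite K] [Group E] [Finite E]

theorem mem_principal_of_hom (hM : M.IsMaximal) {ι : K →* E} (hι : Function.Injective ι)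
    [ι.range.Normal] {χ : IrrCharacter E} (hχ : χ ∈ principalBlock M E) {θ : IrrCharacter K}
    (h : ∀ k, χ.1 (ι k) = θ.1 k) : θ ∈ principalBlock M K := by
  have h1 : H22.irrMap (MonoidHom.ofInjective hι) θ ∈ principalBlock M ι.range := by
    refine H22.mem_principal_of_over hM hχ (H22.over_of_res_eq fun n => ?_)
    obtain ⟨k, rfl⟩ := (MonoidHom.ofInjective hι).surjective n
    rw [H22.irrMap_apply_apply, ← h]; rfl
  rwa [← H22.principalBlock_image (MonoidHom.ofInjective hι), H22.irrMap_mem_image] at h1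

theorem exists_principal_over_hom (hM : M.IsMaximal) {ι : K →* E} (hι : Function.Injective ι)
    [ι.range.Normal] [Fintype K] {θ : IrrCharacter K} (hθ : θ ∈ principalBlock M K) :
    ∃ χ ∈ principalBlock M E, classInner (fun k => χ.1 (ι k)) θ.1 ≠ 0 := by
  letI := Fintype.ofFinite ι.range
  have h1 : H22.irrMap (MonoidHom.ofInjective hι) θ ∈ principalBlock M ι.range := by
    rwa [← H22.principalBlock_image (MonoidHom.ofInjective hι), H22.irrMap_mem_image]
  obtain ⟨χ, hχ, h⟩ := (H22.covers_principal (N := ι.range) hM).exists_over hM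
    isPBlock_principalBlock isPBlock_principalBlock h1
  refine ⟨χ, hχ, ?_⟩
  rw [H22.over_iff, H22.classInner_irrMap] at h
  exact h

end Hom

section Principal

variable {G : Type*} [Group G] [Finite G]

theorem red_centralChar_principal (hM : M.IsMaximal) {χ : IrrCharacter G}
    (hχ : χ ∈ principalBlock M G) (x : G) :
    red M (centralChar χ.1 x) = ((Cg x).index : kk M) := by
  have := (sameBlock_iff_red hM _ _).1
    (sameBlock_of_mem hM isPBlock_principalBlock hχ (oneIrr_mem_principalBlock hM)) x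
  rw [this, oneIrr_coe, centralChar_const_one, red_natCast]

theorem apply_ne_zero_of_principal (hM : IsPModular p M) {χ : IrrCharacter G}
    (hχ : χ ∈ principalBlock M G) {x : G} (hx : ¬ p ∣ (Cg x).index) : χ.1 x ≠ 0 := by
  haveI := charP_kk hM
  intro h0
  have := red_centralChar_principal hM.2.1 hχ x
  rw [centralChar, h0, mul_zero, zero_div, red_zero, eq_comm, CharP.cast_eq_zero_iff _ p] at this
  exact hx this

theorem red_apply_of_principal (hM : IsPModular p M) {χ : IrrCharacter G}
    (hχ : χ ∈ principalBlock M G) (hd : ¬ p ∣ charDegree χ.1) {x : G}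
    (hx : ¬ p ∣ (Cg x).index) : red M (χ.1 x) = red M (χ.1 1) := by
  haveI := charP_kk hM
  have h1 := red_centralChar_principal hM.2.1 hχ x
  have h2 := red_char_one_ne_zero hM (H11.irr_isCharacter χ) hd
  have h3 : ((Cg x).index : kk M) ≠ 0 := by rwa [Ne, CharP.cast_eq_zero_iff _ p]
  rw [red_centralChar_eq hM (H11.irr_isCharacter χ) hd, div_eq_iff h2] at h1
  exact mul_left_cancel₀ h3 h1

theorem mem_principal_of_red [Fact p.Prime] (hM : IsPModular p M) {χ : IrrCharacter G}
    (hd : ¬ p ∣ charDegree χ.1)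
    (h : ∀ x, ¬ p ∣ orderOf x → ¬ p ∣ (Cg x).index → red M (χ.1 x) = red M (χ.1 1)) :
    χ ∈ principalBlock M G := by
  haveI := charP_kk hM
  refine H21.mem_of_forall_reg hM isPBlock_principalBlock (oneIrr_mem_principalBlock hM.2.1)
    fun g hg => ?_
  rw [← red_eq_iff (centralChar_mem_Vr _ _) (centralChar_mem_Vr _ _), oneIrr_coe,
    centralChar_const_one, red_natCast, red_centralChar_eq hM (H11.irr_isCharacter χ) hd]
  by_cases hx : p ∣ (Cg g).index
  · rw [(CharP.cast_eq_zero_iff (kk M) p _).2 hx, zero_mul, zero_div]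
  · rw [h g hg hx, mul_div_assoc, div_self (red_char_one_ne_zero hM (H11.irr_isCharacter χ) hd),
      mul_one]

end Principal

/-- Alperin: over a solvable quotient every coset of which contains an element of `p'` class size,
the characters of the principal block restrict irreducibly. -/
theorem irr_res_of_principal (hM : IsPModular p M) {K : Type*} [Group K] [Finite K] (m : ℕ) :
    ∀ (E : Type u) [Group E] [Finite E] (ι : K →* E) (_ : Function.Injective ι)
      [ι.range.Normal] (_ : Group.IsSolvable (E ⧸ ι.range))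
      (_ : ∀ x : E, ∃ k : K, ¬ p ∣ (Cg (ι k * x)).index), Nat.card E = m →
      ∀ χ ∈ principalBlock M E, IsIrrCharacter K (fun k => χ.1 (ι k)) := by
  induction m using Nat.strong_induction_on with
  | _ m ih =>
  intro G _ _ ι hι hn hsol hC hm χ hχ
  letI := Fintype.ofFinite G
  letI := Fintype.ofFinite K
  by_cases htop : ι.range = ⊤
  · have hs : Function.Surjective ι := MonoidHom.range_eq_top.1 htop
    exact H11.isIrrCharacter_comp_mulEquiv χ.2 (MulEquiv.ofBijective ι ⟨hι, hs⟩)
  haveI : Nontrivial (G ⧸ ι.range) := QuotientGroup.nontrivial_iff.2 htop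
  have hlt := Group.IsSolvable.commutator_lt_top_of_nontrivial (G ⧸ ι.range)
  set D : Subgroup G := (commutator (G ⧸ ι.range)).comap (QuotientGroup.mk' ι.range) with hD
  have hDtop : D ≠ ⊤ := by
    intro h
    apply hlt.ne
    rw [eq_top_iff]
    intro x _
    obtain ⟨y, rfl⟩ := QuotientGroup.mk'_surjective ι.range x
    have : y ∈ D := h ▸ Subgroup.mem_top y
    exact this
  obtain ⟨L, hL, hDL⟩ := (eq_top_or_exists_le_coatom D).resolve_left hDtop
  have hιL : ι.range ≤ L := by
    refine le_trans ?_ hDL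
    intro x hx
    rw [hD, Subgroup.mem_comap, QuotientGroup.mk'_apply, (QuotientGroup.eq_one_iff x).2 hx]
    exact one_mem _
  have hcomm : commutator G ≤ L := by
    refine le_trans ?_ hDL
    rw [hD, ← Subgroup.map_le_iff_le_comap, commutator_def, Subgroup.map_commutator]
    exact Subgroup.commutator_mono le_top le_top
  haveI hLn : L.Normal := Subgroup.Normal.of_commutator_le G hcomm
  letI : Fintype L := Fintype.ofFinite _
  let ι' : K →* L := ι.codRestrict L fun n => hιL ⟨n, rfl⟩
  have hι' : Function.Injective ι' := fun a b h => hι (congrArg Subtype.val h)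
  have hr : ι'.range = ι.range.subgroupOf L := by
    ext x
    simp only [MonoidHom.mem_range, Subgroup.mem_subgroupOf]
    exact ⟨fun ⟨n, h⟩ => ⟨n, congrArg Subtype.val h⟩, fun ⟨n, h⟩ => ⟨n, Subtype.ext h⟩⟩
  haveI hn' : ι'.range.Normal := by rw [hr]; infer_instance
  have hsol' : Group.IsSolvable (L ⧸ ι'.range) := by
    refine Group.isSolvable_of_isSolvable_injective
      (f := QuotientGroup.map ι'.range ι.range L.subtype (by rw [hr]; exact le_rfl)) ?_
    rw [injective_iff_map_eq_one]
    intro x hx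
    obtain ⟨y, rfl⟩ := QuotientGroup.mk_surjective x
    rw [QuotientGroup.map_mk, QuotientGroup.eq_one_iff] at hx
    rw [QuotientGroup.eq_one_iff, hr]
    exact hx
  have hC' : ∀ x : L, ∃ k : K, ¬ p ∣ (Cg (ι' k * x)).index := by
    intro x
    obtain ⟨k, hk⟩ := hC x
    refine ⟨k, fun h => hk (h.trans ?_)⟩
    rw [index_Cg_coe]
    exact relIndex_dvd_index_of_normal_right _ L
  obtain ⟨s, hs⟩ : ∃ s, s ∉ L := by
    by_contra h
    push Not at h
    exact hL.1 (eq_top_iff.2 fun x _ => h x)
  have hgen : ∀ x : G, ∃ n : ℤ, x * (s ^ n)⁻¹ ∈ L.subtype.range := by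
    intro x
    have h1 : L ⊔ Subgroup.zpowers s = ⊤ := hL.2 _ (lt_of_le_of_ne le_sup_left fun h =>
      hs (h ▸ Subgroup.mem_sup_right (Subgroup.mem_zpowers s)))
    have h2 : x ∈ L ⊔ Subgroup.zpowers s := h1 ▸ Subgroup.mem_top x
    rw [← SetLike.mem_coe, Subgroup.normal_mul] at h2
    obtain ⟨a, ha, _, ⟨n, rfl⟩, rfl⟩ := h2
    exact ⟨n, by simpa using ha⟩
  have hLr : L.subtype.range.Normal := by rw [Subgroup.range_subtype]; exact hLn
  obtain ⟨k, hk⟩ := hC s
  have hirr := H23.irr_restrict_of_ne_zero L.subtype_injective hLr hgen χ.2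
    (k₀ := ι' k) (apply_ne_zero_of_principal hM hχ hk)
  exact ih (Nat.card L) (hm ▸ H13.card_lt_of_ne_top hL.1) L ι' hι' hsol' hC' rfl ⟨_, hirr⟩
    (mem_principal_of_hom hM.2.1 L.subtype_injective hχ fun _ => rfl)

/-- Under the hypotheses of Alperin's theorem the characters of the principal block of the normal
subgroup extend to the principal block. -/
theorem exists_principal_ext (hM : IsPModular p M) {K : Type*} [Group K] [Finite K]
    {E : Type u} [Group E] [Finite E] {ι : K →* E} (hι : Function.Injective ι)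
    [ι.range.Normal] (hsol : Group.IsSolvable (E ⧸ ι.range))
    (hC : ∀ x : E, ∃ k : K, ¬ p ∣ (Cg (ι k * x)).index) {θ : IrrCharacter K}
    (hθ : θ ∈ principalBlock M K) : ∃ χ ∈ principalBlock M E, ∀ k, χ.1 (ι k) = θ.1 k := by
  letI := Fintype.ofFinite K
  obtain ⟨χ, hχ, h⟩ := exists_principal_over_hom hM.2.1 hι hθ
  exact ⟨χ, hχ, congrFun (H11.irr_eq_of_classInner_ne_zero
    (irr_res_of_principal hM _ E ι hι hsol hC rfl χ hχ) θ.2 h)⟩

end Cfsg.Agent.H19
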