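import Cfsg.Agent.Lead.T3Defs

/-!
# Root groups of a spherical building: freeness and the elements `m(u)`
-/

set_option autoImplicit false

namespace Cfsg.Agent.H19.T3Free

open Cfsg.Agent.H35 Cfsg.Agent.Lead.T3 Equiv

universe u

section Basic

variable {I W : Type} [Group W] {X : Cox I W} {C : Type u} (B : Bld X C)

theorem s_mem {K : Set I} {i : I} (hi : i ∈ K) : X.s i ∈ X.WJ K := InvGen.s_mem_closure hi

theorem wJ_mem [Finite W] (K : Set I) : X.wJ K ∈ X.WJ K := (X.wJ_spec K).1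

theorem apt_mem {σ : W → C} (hσ : B.Apt σ) {K : Set I} {w : W} (hw : w ∈ X.WJ K) :
    σ w ∈ B.res K (σ 1) := by
  show B.δ _ _ ∈ X.WJ K
  rw [hσ]
  simpa using hw

theorem aut_mem {K : Set I} {c : C} {g : Perm C} (hg : g ∈ B.Aut K c) {x : C}
    (hx : x ∈ B.res K c) : g x ∈ B.res K c := by
  by_contra hn
  exact hn ((g.injective (hg.1 _ hn)).symm ▸ hx)

theorem aut_δ {K : Set I} {c : C} {g : Perm C} (hg : g ∈ B.Aut K c) {x y : C}
    (hx : x ∈ B.res K c) (hy : y ∈ B.res K c) : B.δ (g x) (g y) = B.δ x y := hg.2 x hx y hy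

/-- Two distinct chambers of a panel are adjacent. -/
theorem adj_of_ne {i : I} {x y z : C} (hxy : B.δ x y = X.s i) (hyz : B.δ y z = X.s i)
    (hne : x ≠ z) : B.δ x z = X.s i := by
  rcases B.step i x y z hxy with h | h
  · rw [hyz, X.s_mul_s, B.eq_one] at h
    exact absurd h hne
  · rw [h, hyz]

theorem m_comm (i j : I) : X.m i j = X.m j i := by
  unfold Cox.m
  rw [← orderOf_inv]
  simp

theorem ne_of_m {i j : I} (h : 2 ≤ X.m i j) : i ≠ j := by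
  rintro rfl
  unfold Cox.m at h
  rw [X.s_mul_s, orderOf_one] at h
  omega

end Basic

variable {I W : Type} [Group W] [Finite W] {X : Cox I W} {C : Type u} [Finite C] (B : Bld X C)

theorem res_trans (hB1 : Ba1Stmt.{u}) {K : Set I} {c x y : C} (hx : x ∈ B.res K c)
    (hy : B.δ x y ∈ X.WJ K) : y ∈ B.res K c := by
  obtain ⟨-, -, -, -, h5, -⟩ := hB1 B
  rw [← h5 K c x hx]
  exact hy

theorem res_δ (hB1 : Ba1Stmt.{u}) {K : Set I} {c x y : C} (hx : x ∈ B.res K c)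
    (hy : y ∈ B.res K c) : B.δ x y ∈ X.WJ K := by
  obtain ⟨-, -, -, -, h5, -⟩ := hB1 B
  rw [← h5 K c x hx] at hy
  exact hy

theorem free3 (hB1 : Ba1Stmt.{u}) (hB3 : Ba3Stmt.{u}) {K : Set I} {c₀ : C}
    {g : Perm C} (hg : g ∈ B.Aut K c₀) {c : C} (hc : c ∈ B.res K c₀) {d : C}
    (hd : B.δ c d = X.wJ K) (h1 : g c = c) (h2 : g d = d)
    (h3 : ∀ i ∈ K, ∀ x ∈ B.pan c i, g x = x) : g = 1 := by
  obtain ⟨-, -, -, -, h5, -⟩ := hB1 B
  have e := h5 K c₀ c hc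
  obtain ⟨-, h⟩ := hB3 B B
  have := h K c d g id (fun x hx y hy => aut_δ B hg (e ▸ hx) (e ▸ hy))
    (fun _ _ _ _ => rfl) hd h1 h2 h3
  ext x
  by_cases hx : x ∈ B.res K c₀
  · exact this (e ▸ hx)
  · exact hg.1 x hx

theorem free4 (hCx : CxStmt) (hB1 : Ba1Stmt.{u}) {σ : W → C} (hσ : B.Apt σ) {K : Set I}
    {g : Perm C} (hg : g ∈ B.Aut K (σ 1)) {v : W} (hv : v ∈ X.WJ K) (u : W)
    (h1 : g (σ v) = σ (u * v)) (h2 : g (σ (v * X.wJ K)) = σ (u * (v * X.wJ K))) {w : W}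
    (hw : w ∈ X.WJ K) : g (σ w) = σ (u * w) := by
  obtain ⟨-, c2, -⟩ := hCx X
  obtain ⟨-, -, -, -, -, -, -, -, h9, -⟩ := hB1 B
  have hvw : v * X.wJ K ∈ X.WJ K := mul_mem hv (wJ_mem K)
  have e1 : B.δ (σ (u * v)) (g (σ w)) = v⁻¹ * w := by
    rw [← h1, aut_δ B hg (apt_mem B hσ hv) (apt_mem B hσ hw), hσ]
  have e2 : B.δ (g (σ w)) (σ (u * (v * X.wJ K))) = w⁻¹ * v * X.wJ K := by
    rw [← h2, aut_δ B hg (apt_mem B hσ hw) (apt_mem B hσ hvw), hσ, mul_assoc]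
  refine h9 (σ (u * v)) (σ (u * (v * X.wJ K))) _ _ ?_ ?_ ?_
  · rw [e1, hσ]; group
  · rw [e2, hσ]; group
  · rw [e1, e2, hσ]
    have := (c2 K (w⁻¹ * v) (mul_mem (inv_mem hw) hv)).2
    have h3 : X.len (v⁻¹ * w) = X.len (w⁻¹ * v) := by
      rw [← X.len_inv]; simp
    rw [show (u * v)⁻¹ * (u * (v * X.wJ K)) = X.wJ K by group, h3]
    omega

theorem free2 (hRt : RtStmt) (hB1 : Ba1Stmt.{u}) {σ : W → C} (hσ : B.Apt σ) {K : Set I}
    {n : Perm C} (hn : n ∈ B.Aut K (σ 1)) {u : W} (hu : u ∈ X.WJ K)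
    (hnσ : ∀ w ∈ X.WJ K, n (σ w) = σ (u * w)) (v : W) (i : I) {g : Perm C}
    (hg : g ∈ B.R σ K v i) : n * g * n⁻¹ ∈ B.R σ K (u * v) i := by
  obtain ⟨-, -, -, -, -, r6, -⟩ := hRt X
  obtain ⟨g1, g2, g3⟩ := hg
  have key : ∀ w ∈ X.WJ K, n⁻¹ (σ w) = σ (u⁻¹ * w) := fun w hw => by
    rw [Perm.inv_eq_iff_eq, hnσ _ (mul_mem (inv_mem hu) hw), mul_inv_cancel_left]
  have hr : ∀ w, w ∈ X.rt (u * v) i → u⁻¹ * w ∈ X.rt v i := fun w hw => by
    rw [← r6 u, mul_inv_cancel_left]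
    exact hw
  refine ⟨mul_mem (mul_mem hn g1) (inv_mem hn), fun w hw ha => ?_, fun w hw j hj ha hb x hx => ?_⟩
  · rw [Perm.mul_apply, Perm.mul_apply, key w hw, g2 _ (mul_mem (inv_mem hu) hw) (hr w ha),
      ← key w hw]
    exact n.apply_symm_apply _
  · have hxr : x ∈ B.res K (σ 1) :=
      res_trans B hB1 (apt_mem B hσ hw) (by rw [show B.δ (σ w) x = X.s j from hx]; exact s_mem hj)
    have hx' : n⁻¹ x ∈ B.pan (σ (u⁻¹ * w)) j := by
      show B.δ _ _ = _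
      rw [← key w hw, aut_δ B (inv_mem hn) (apt_mem B hσ hw) hxr]
      exact hx
    rw [Perm.mul_apply, Perm.mul_apply, g3 _ (mul_mem (inv_mem hu) hw) j hj (hr w ha)
      (by rw [mul_assoc]; exact hr _ hb) _ hx']
    exact n.apply_symm_apply _

/-- An automorphism fixing two opposite chambers fixes a chamber opposite any given one. -/
theorem exists_opp (hCx : CxStmt) (hB1 : Ba1Stmt.{u}) {K : Set I} {c₀ : C}
    {g : Perm C} (hg : g ∈ B.Aut K c₀) {x d z : C} (hx : x ∈ B.res K c₀) (hz : z ∈ B.res K c₀)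
    (hd : B.δ x d = X.wJ K) (h1 : g x = x) (h2 : g d = d) :
    ∃ e, B.δ z e = X.wJ K ∧ g e = e := by
  obtain ⟨c1, c2, -⟩ := hCx X
  have hres := @res_trans _ _ _ _ _ _ _ B hB1
  have ha : B.δ x z ∈ X.WJ K := res_δ B hB1 hx hz
  obtain ⟨b1, b2, -, -, -, -, -, -, h9, -⟩ := hB1 B
  set a := B.δ x z with ha_def
  obtain ⟨e, he1, he2⟩ := b2 x d (a * X.wJ K) (X.wJ K * (a⁻¹ * X.wJ K))
    (by rw [hd, mul_assoc, ← mul_assoc (X.wJ K), c1, one_mul, mul_inv_cancel_left])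
  have l1 := (c2 K a ha).2
  have l2 := (c2 K a⁻¹ (inv_mem ha)).2
  have l3 := (c2 K (a⁻¹ * X.wJ K) (mul_mem (inv_mem ha) (wJ_mem K))).1
  rw [X.len_inv] at l2
  have her : e ∈ B.res K c₀ := hres hx (by rw [he1]; exact mul_mem ha (wJ_mem K))
  have hdr : d ∈ B.res K c₀ := hres hx (by rw [hd]; exact wJ_mem K)
  refine ⟨e, ?_, h9 x d _ _ ?_ ?_ ?_⟩
  · have hzx : B.δ z x = a⁻¹ := B.symm _ _
    rw [b1 z x e (by rw [hzx, he1, inv_mul_cancel_left, X.len_inv]; omega), hzx, he1,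
      inv_mul_cancel_left]
  · conv_lhs => rw [← h1]
    exact aut_δ B hg hx her
  · conv_lhs => rw [← h2]
    exact aut_δ B hg her hdr
  · have e1 : B.δ x (g e) = a * X.wJ K := by
      conv_lhs => rw [← h1]
      rw [aut_δ B hg hx her, he1]
    have e2 : B.δ (g e) d = X.wJ K * (a⁻¹ * X.wJ K) := by
      conv_lhs => rw [← h2]
      rw [aut_δ B hg her hdr, he2]
    rw [e1, e2, hd]
    omega

theorem free1 (hCx : CxStmt) (hRt : RtStmt) (hB1 : Ba1Stmt.{u}) (hB3 : Ba3Stmt.{u}) {σ : W → C}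
    (hσ : B.Apt σ) {K : Set I} {v : W} (hv : v ∈ X.WJ K) {i : I} (hi : i ∈ K)
    (hj : ∃ j ∈ K, 3 ≤ X.m i j) {g : Perm C} (hg : g ∈ B.R σ K v i) {x : C}
    (hx : x ∈ B.pan (σ v) i) (hgx : g x = x) : g = 1 := by
  obtain ⟨j, hjK, hm⟩ := hj
  obtain ⟨g1, g2, g3⟩ := hg
  have hij : i ≠ j := ne_of_m (X := X) (by omega)
  obtain ⟨r1, r2, r3, -, -, -, r7⟩ := hRt X
  obtain ⟨-, c2, -, -, -, -, -, c8⟩ := hCx X
  have hvi : v * X.s i ∈ X.WJ K := mul_mem hv (s_mem hi)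
  have hvj : v * X.s j ∈ X.WJ K := mul_mem hv (s_mem hjK)
  have hxv : B.δ x (σ v) = X.s i := by
    rw [B.symm, show B.δ (σ v) x = X.s i from hx, X.inv_s]
  have hxr : x ∈ B.res K (σ 1) :=
    res_trans B hB1 (apt_mem B hσ hv) (by rw [show B.δ (σ v) x = X.s i from hx]; exact s_mem hi)
  have hd : g (σ (v * X.s i * X.wJ K)) = σ (v * X.s i * X.wJ K) :=
    g2 _ (mul_mem hvi (wJ_mem K)) ((r7 v i K hv hi _ hvi).2 ((r2 v i _).1 (r1 _ _)))
  have hxd : B.δ x (σ (v * X.s i * X.wJ K)) = X.wJ K := by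
    have e : B.δ (σ v) (σ (v * X.s i * X.wJ K)) = X.s i * X.wJ K := by rw [hσ]; group
    rw [B.step_up i x (σ v) _ hxv, e, X.s_mul_s_cancel_left]
    rw [e, X.s_mul_s_cancel_left]
    have := (c2 K _ (s_mem hi)).2
    omega
  obtain ⟨e, he1, he2⟩ := exists_opp B hCx hB1 g1 hxr (apt_mem B hσ hvj) hxd hgx hd
  have hy : v * X.s j ∈ X.rt v i := by
    refine ((r3 v i v j).2 ?_).1 (r1 v i)
    intro h
    unfold Cox.rf at h
    exact hij (X.inj (mul_left_cancel (mul_right_cancel h))).symm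
  refine free3 B hB1 hB3 g1 (apt_mem B hσ hvj) he1 (g2 _ hvj hy) he2 fun k hk z hz => ?_
  refine g3 _ hvj k hk hy (((r3 v i (v * X.s j) k).2 ?_).1 hy) z hz
  intro h
  unfold Cox.rf at h
  have h' : X.s k = X.s j * (X.s i * X.s j) := by
    have h2 : X.s j * X.s k * X.s j = X.s i := by
      have : v * (X.s j * X.s k * X.s j) * v⁻¹ = v * X.s i * v⁻¹ := by
        rw [← h, mul_inv_rev, X.inv_s]; simp only [mul_assoc]
      exact mul_left_cancel (mul_right_cancel this)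
    rw [← h2, X.s_mul_s_cancel_right, X.s_mul_s_cancel_left]
  have l3 := (c8 j i hij.symm).1 3 (by rw [m_comm]; exact hm)
  simp only [InvGen.altw, InvGen.wp_cons, InvGen.wp_nil, mul_one] at l3
  rw [← h', X.exch.len_s] at l3
  omega

theorem mel (hCx : CxStmt) (hRt : RtStmt) (hB1 : Ba1Stmt.{u}) (hB3 : Ba3Stmt.{u}) {σ : W → C}
    (hσ : B.Apt σ) {K : Set I} (hM : B.Mou K (σ 1)) {v : W} (hv : v ∈ X.WJ K) {i : I} (hi : i ∈ K)
    (hj : ∃ j ∈ K, 3 ≤ X.m i j) {g : Perm C} (hg : g ∈ B.R σ K v i) (hg1 : g ≠ 1) :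
    ∃ a ∈ B.R σ K (v * X.s i) i, ∃ b ∈ B.R σ K (v * X.s i) i,
      ∀ w ∈ X.WJ K, (a * g * b) (σ w) = σ (X.rf v i * w) := by
  obtain ⟨r1, r2, -, -, -, -, r7⟩ := hRt X
  obtain ⟨c1, c2, c3, -, -, c6, -⟩ := hCx X
  have hvi : v * X.s i ∈ X.WJ K := mul_mem hv (s_mem hi)
  have hc : σ v ∈ B.res K (σ 1) := apt_mem B hσ hv
  have hc1 : σ (v * X.s i) ∈ B.res K (σ 1) := apt_mem B hσ hvi
  have e01 : B.δ (σ v) (σ (v * X.s i)) = X.s i := by rw [hσ]; group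
  have e10 : B.δ (σ (v * X.s i)) (σ v) = X.s i := by rw [B.symm, e01, X.inv_s]
  -- every nontrivial element of the root group moves `σ (v s_i)` inside its panel
  have mv : ∀ h ∈ B.R σ K v i, h ≠ 1 → h (σ (v * X.s i)) ∈ B.pan (σ (v * X.s i)) i := by
    intro h hh hh1
    refine adj_of_ne B e10 ?_ fun he => hh1 ?_
    · conv_lhs => rw [← hh.2.1 v hv (r1 v i)]
      rw [aut_δ B hh.1 hc hc1, e01]
    · exact free1 B hCx hRt hB1 hB3 hσ hv hi hj hh e01 he.symm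
  obtain ⟨b, hb, hbc⟩ := hM σ hσ (apt_mem B hσ (one_mem _)) _ hvi i hi (σ v) e10 _
    (mv g⁻¹ (inv_mem hg) (inv_ne_one.2 hg1))
  obtain ⟨a, ha, hac⟩ := hM σ hσ (apt_mem B hσ (one_mem _)) _ hvi i hi _ (mv g hg hg1) (σ v) e10
  refine ⟨a, ha, b, hb, fun w hw => ?_⟩
  have hn : a * g * b ∈ B.Aut K (σ 1) := mul_mem (mul_mem ha.1 hg.1) hb.1
  have hrf : X.rf v i * v = v * X.s i := by unfold Cox.rf; group
  have n0 : (a * g * b) (σ v) = σ (v * X.s i) := by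
    rw [Perm.mul_apply, Perm.mul_apply, hbc, show g (g⁻¹ _) = _ from g.apply_symm_apply _,
      ha.2.1 _ hvi (r1 _ _)]
  have n1 : (a * g * b) (σ (v * X.s i)) = σ v := by
    rw [Perm.mul_apply, Perm.mul_apply, hb.2.1 _ hvi (r1 _ _), hac]
  refine free4 B hCx hB1 hσ hn hv _ (by rw [hrf, n0]) ?_ hw
  rw [← mul_assoc, hrf]
  have hvw : v * X.wJ K ∈ X.WJ K := mul_mem hv (wJ_mem K)
  have hviw : v * X.s i * X.wJ K ∈ X.WJ K := mul_mem hvi (wJ_mem K)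
  have hd1 : σ (v * X.wJ K) ∈ B.res K (σ 1) := apt_mem B hσ hvw
  have hd : σ (v * X.s i * X.wJ K) ∈ B.res K (σ 1) := apt_mem B hσ hviw
  have rd1 : v * X.wJ K ∈ X.rt (v * X.s i) i :=
    (r7 _ i K hvi hi v hv).2 fun h => (r2 v i v).1 h (r1 v i)
  have rd : v * X.s i * X.wJ K ∈ X.rt v i := (r7 v i K hv hi _ hvi).2 ((r2 v i _).1 (r1 _ _))
  obtain ⟨-, hop, -⟩ := c3 K i hi
  have hwi : (X.wJ K)⁻¹ = X.wJ K := inv_eq_of_mul_eq_one_right (c1 K)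
  have edd : B.δ (σ (v * X.wJ K)) (σ (v * X.s i * X.wJ K)) = X.s (X.op K i) := by
    rw [hσ, show (v * X.wJ K)⁻¹ * (v * X.s i * X.wJ K) = (X.wJ K)⁻¹ * X.s i * X.wJ K by group,
      hwi, hop, mul_assoc, c1, mul_one]
  have hsi : X.s (X.op K i) ∈ X.WJ {X.op K i} := s_mem rfl
  have p1 : σ (v * X.s i * X.wJ K) ∈ B.res {X.op K i} (σ (v * X.wJ K)) := by
    show B.δ _ _ ∈ X.WJ _
    rw [edd]; exact hsi
  have p2 : g (σ (v * X.wJ K)) ∈ B.res {X.op K i} (σ (v * X.wJ K)) := by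
    refine res_trans B hB1 p1 ?_
    have := aut_δ B hg.1 hd hd1
    rw [hg.2.1 _ hviw rd] at this
    rw [this, B.symm, edd, X.inv_s]
    exact hsi
  have p3 : (a * g * b) (σ (v * X.wJ K)) ∈ B.res {X.op K i} (σ (v * X.wJ K)) := by
    rw [Perm.mul_apply, Perm.mul_apply, hb.2.1 _ hvw rd1]
    show B.δ _ _ ∈ X.WJ _
    have := aut_δ B ha.1 hd1 (aut_mem B hg.1 hd1)
    rw [ha.2.1 _ hvw rd1] at this
    rw [this]
    exact p2
  obtain ⟨-, -, -, -, -, -, -, h8, -⟩ := hB1 B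
  have hl : ∀ p, B.δ p (σ v) = X.wJ K * X.s i → ∀ j ∈ ({X.op K i} : Set I),
      X.len (B.δ p (σ v)) ≤ X.len (X.s j * B.δ p (σ v)) := by
    rintro p hp j rfl
    rw [hp, hop, X.s_mul_s_cancel_left, ← hop]
    have := (c2 K _ (s_mem hi)).1
    omega
  rw [← h8 _ _ (σ v) _ p3 (hl _ ?_), h8 _ _ (σ v) _ p1 (hl _ ?_)]
  · rw [hσ, show (v * X.s i * X.wJ K)⁻¹ * v = (X.wJ K)⁻¹ * (X.s i)⁻¹ by group, hwi, X.inv_s]
  · have := aut_δ B hn hd1 hc1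
    rw [n1] at this
    rw [this, hσ, show (v * X.wJ K)⁻¹ * (v * X.s i) = (X.wJ K)⁻¹ * X.s i by group, hwi]

/-- **FREE** -/
theorem freeStmt (hCx : CxStmt) (hRt : RtStmt) (hB1 : Ba1Stmt.{u}) (hB3 : Ba3Stmt.{u}) :
    FreeStmt.{u} := by
  intro I W _ _ X C _ B σ K hσ
  exact ⟨fun v hv i hi hj g hg x hx h => free1 B hCx hRt hB1 hB3 hσ hv hi hj hg hx h,
    fun n hn u hu h v i g hg => free2 B hRt hB1 hσ hn hu h v i hg,
    fun g hg c hc d hd h1 h2 h3 => free3 B hB1 hB3 hg hc hd h1 h2 h3,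
    fun g hg v hv u _ h1 h2 w hw => free4 B hCx hB1 hσ hg hv u h1 h2 hw⟩

/-- **MEL** -/
theorem melStmt (hCx : CxStmt) (hRt : RtStmt) (hB1 : Ba1Stmt.{u}) (hB3 : Ba3Stmt.{u}) :
    MelStmt.{u} := by
  intro I W _ _ X C _ B σ K hσ hM v hv i hi hj g hg hg1
  exact mel B hCx hRt hB1 hB3 hσ hM hv hi hj hg hg1

end Cfsg.Agent.H19.T3Free
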