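import Cfsg.Agent.H19.MWDbl

/-! # MW project: homomorphisms defined on a subgroup, odd parts -/

set_option autoImplicit false
set_option maxRecDepth 100000
set_option synthInstance.maxSize 2048
open scoped Pointwise commutatorElement
open Subgroup

namespace Cfsg.Agent.H19.MW
open Cfsg.Agent.H24.MH Cfsg.Agent.H23.D2 Cfsg.Agent.H8
open Cfsg.Agent.H42 (tb cnt cnt_eq_card)

local notation "C[" A "]" => Subgroup.centralizer (SetLike.coe A)
local notation "N[" A "]" => Subgroup.normalizer (SetLike.coe A)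

universe u v
variable {G : Type*} [Group G]

/-- a central Sylow `2`-subgroup has a normal complement -/
theorem exists_odd_part [Finite G] {W C : Subgroup G} (s : IsSylowIn 2 W C) (hc : C ≤ C[W]) :
    ∃ O1 : Subgroup G, Odd (Nat.card O1) ∧ (∀ x, x ∈ O1 ↔ x ∈ C ∧ Odd (orderOf x)) ∧
      ∀ c ∈ C, ∃ w ∈ W, w * c ∈ O1 := by
  haveI : (W.subgroupOf C).Normal := ⟨fun n hn g => by
    rw [mem_subgroupOf] at hn ⊢
    exact norm_conj (C_le_N (hc g.2)) hn⟩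
  haveI : Fact (Nat.Prime 2) := ⟨Nat.prime_two⟩
  obtain ⟨k, hk⟩ := (s.isPGroup.comap_subtype (K := C)).exists_card_eq
  have ho : Odd (W.subgroupOf C).index := Nat.not_even_iff_odd.1 fun e =>
    s.not_dvd (even_iff_two_dvd.1 e)
  obtain ⟨K, hK⟩ := exists_right_complement'_of_coprime (N := W.subgroupOf C)
    (by rw [show Nat.card (W.subgroupOf C) = 2 ^ k from hk]
        exact Nat.Coprime.pow_left k (Nat.coprime_two_left.2 ho))
  have h1 : Odd (Nat.card (K.map C.subtype)) := by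
    rw [card_map_of_injective C.subtype_injective, ← hK.symm.index_eq_card]; exact ho
  have h2 : ∀ c ∈ C, ∃ w ∈ W, w * c ∈ K.map C.subtype := fun c a => by
    obtain ⟨⟨⟨x, hx⟩, ⟨y, hy⟩⟩, e, -⟩ := hK.existsUnique ⟨c, a⟩
    refine ⟨(x : G)⁻¹, inv_mem hx, y, hy, ?_⟩
    have : (x : G) * y = c := congrArg Subtype.val e
    rw [← this]; simp
  refine ⟨_, h1, fun x => ⟨fun a => ⟨map_subtype_le _ a, odd_of_mem h1 a⟩, fun a => ?_⟩, h2⟩
  obtain ⟨w, hw, e⟩ := h2 x a.1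
  have cm : Commute w x := mem_C.1 (hc a.1) w hw
  obtain ⟨n, hn⟩ := two_of_mem s.isPGroup hw
  have : w = 1 := eq_one_of_odd_two (n := n) (by
    have e1 : w = w * x * x⁻¹ := by group
    rw [e1]
    refine Odd.of_dvd_nat ((odd_of_mem h1 e).mul (orderOf_inv x ▸ a.2))
      (Commute.orderOf_mul_dvd_mul_orderOf ?_)
    exact (cm.mul_left (Commute.refl x)).inv_right) hn
  rwa [this, one_mul] at e

theorem two_mem_of_odd [Finite G] {D : Subgroup G} {x o : G} (h2 : ∃ n, x ^ 2 ^ n = 1)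
    (ho : Odd (orderOf o)) (hn : o ∈ N[D]) (h : x * o⁻¹ ∈ D) : x ∈ D := by
  obtain ⟨n, h2⟩ := h2
  have key : ∀ m : ℕ, x ^ m * (o ^ m)⁻¹ ∈ D := fun m => by
    induction m with
    | zero => simp
    | succ m ih =>
      have := mul_mem h (norm_conj hn ih)
      rwa [show x * o⁻¹ * (o * (x ^ m * (o ^ m)⁻¹) * o⁻¹) = x ^ (m + 1) * (o ^ (m + 1))⁻¹ by
        rw [pow_succ' x, pow_succ' o]; group] at this
  refine mem_of_pow_odd h2 ho ?_
  simpa using key (orderOf o)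

section PH
variable {K : Type*} [Group K] {H : Subgroup G} (π : H →* K)

open Classical in
/-- the extension of `π` by `1` -/
noncomputable def ex (g : G) : K := if h : g ∈ H then π ⟨g, h⟩ else 1

/-- image of a subgroup -/
def im (A : Subgroup G) : Subgroup K := (A.subgroupOf H).map π

/-- preimage of a subgroup -/
def pre (B : Subgroup K) : Subgroup G := (B.comap π).map H.subtype

variable {π}

theorem ex_eq {g : G} (h : g ∈ H) : ex π g = π ⟨g, h⟩ := dif_pos h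

theorem ex_coe (g : H) : ex π (g : G) = π g := ex_eq g.2

theorem ex_mul {a b : G} (ha : a ∈ H) (hb : b ∈ H) : ex π (a * b) = ex π a * ex π b := by
  rw [ex_eq ha, ex_eq hb, ex_eq (mul_mem ha hb), ← map_mul]; rfl

theorem ex_one : ex π 1 = 1 := by rw [ex_eq (one_mem H)]; exact map_one π

theorem ex_inv {a : G} (ha : a ∈ H) : ex π a⁻¹ = (ex π a)⁻¹ := by
  rw [ex_eq ha, ex_eq (inv_mem ha), ← map_inv]; rfl

theorem ex_pow {a : G} (ha : a ∈ H) (n : ℕ) : ex π (a ^ n) = ex π a ^ n := by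
  rw [ex_eq ha, ex_eq (pow_mem ha n), ← map_pow]; rfl

theorem ex_conj {a b : G} (ha : a ∈ H) (hb : b ∈ H) :
    ex π (a * b * a⁻¹) = ex π a * ex π b * (ex π a)⁻¹ := by
  rw [ex_mul (mul_mem ha hb) (inv_mem ha), ex_mul ha hb, ex_inv ha]

theorem ex_div {a b : G} (ha : a ∈ H) (hb : b ∈ H) : ex π (a * b⁻¹) = 1 ↔ ex π a = ex π b := by
  rw [ex_mul ha (inv_mem hb), ex_inv hb, mul_inv_eq_one]

theorem ex_surj (h : Function.Surjective π) (y : K) : ∃ g ∈ H, ex π g = y := by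
  obtain ⟨g, rfl⟩ := h y
  exact ⟨g, g.2, ex_coe g⟩

theorem mem_im {A : Subgroup G} {y : K} : y ∈ im π A ↔ ∃ a ∈ A, a ∈ H ∧ ex π a = y :=
  ⟨fun ⟨a, h, e⟩ => ⟨a, h, a.2, (ex_coe a).trans e⟩,
    fun ⟨a, h, k, e⟩ => ⟨⟨a, k⟩, h, (ex_eq k).symm.trans e⟩⟩

theorem ex_mem_im {A : Subgroup G} {a : G} (h : a ∈ A) (k : a ∈ H) : ex π a ∈ im π A :=
  mem_im.2 ⟨a, h, k, rfl⟩

theorem mem_pre {B : Subgroup K} {x : G} : x ∈ pre π B ↔ x ∈ H ∧ ex π x ∈ B :=
  ⟨fun ⟨a, h, e⟩ => e ▸ ⟨a.2, by rw [coe_subtype, ex_coe]; exact h⟩,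
    fun ⟨k, h⟩ => ⟨⟨x, k⟩, by rw [ex_eq k] at h; exact h, rfl⟩⟩

theorem pre_le {B : Subgroup K} : pre π B ≤ H := fun _ h => (mem_pre.1 h).1

theorem mem_ker_map {x : G} : x ∈ π.ker.map H.subtype ↔ x ∈ H ∧ ex π x = 1 := mem_pre (B := ⊥)

theorem im_mono {A B : Subgroup G} (h : A ≤ B) : im π A ≤ im π B := map_mono (comap_mono h)

theorem im_pre_le {B : Subgroup K} : im π (pre π B) ≤ B := fun _ h => by
  obtain ⟨a, h1, -, rfl⟩ := mem_im.1 h
  exact (mem_pre.1 h1).2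

theorem im_pre (h : Function.Surjective π) {B : Subgroup K} : im π (pre π B) = B :=
  le_antisymm im_pre_le fun y hy => by
    obtain ⟨g, hg, rfl⟩ := ex_surj h y
    exact ex_mem_im (mem_pre.2 ⟨hg, hy⟩) hg

theorem im_normal (h : Function.Surjective π) {A : Subgroup G} (hA : H ≤ N[A]) :
    (im π A).Normal := ⟨fun n hn g => by
  obtain ⟨a, h1, h2, rfl⟩ := mem_im.1 hn
  obtain ⟨g, hg, rfl⟩ := ex_surj h g
  rw [← ex_conj hg h2]
  exact ex_mem_im (norm_conj (hA hg) h1) (mul_mem (mul_mem hg h2) (inv_mem hg))⟩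

theorem im_comm {A B : Subgroup G} : ⁅im π A, im π B⁆ ≤ im π ⁅A, B⁆ :=
  commutator_le.2 fun x hx y hy => by
    obtain ⟨a, a1, a2, rfl⟩ := mem_im.1 hx
    obtain ⟨b, b1, b2, rfl⟩ := mem_im.1 hy
    refine mem_im.2 ⟨⁅a, b⁆, commutator_mem_commutator a1 b1,
      mul_mem (mul_mem (mul_mem a2 b2) (inv_mem a2)) (inv_mem b2), ?_⟩
    rw [commutatorElement_def, commutatorElement_def,
      ex_mul (mul_mem (mul_mem a2 b2) (inv_mem a2)) (inv_mem b2), ex_conj a2 b2, ex_inv b2]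

theorem sylow_im [Finite G] {S A : Subgroup G} (s : IsSylowIn 2 S A) (hA : A ≤ H) :
    IsSylowIn 2 (im π S) (im π A) := (s.subgroupOf hA).map π

theorem card_im {A : Subgroup G} (hA : A ≤ H) (hi : ∀ a ∈ A, ex π a = 1 → a = 1) :
    Nat.card (im π A) = Nat.card A := by
  refine (Nat.card_eq_of_bijective (fun a : A => (⟨ex π a, ex_mem_im a.2 (hA a.2)⟩ : im π A))
    ⟨fun a b e => Subtype.ext (mul_inv_eq_one.1 (hi _ (mul_mem a.2 (inv_mem b.2))
      ((ex_div (hA a.2) (hA b.2)).2 (congrArg Subtype.val e)))), fun ⟨y, hy⟩ => ?_⟩).symm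
  obtain ⟨a, h1, -, rfl⟩ := mem_im.1 hy
  exact ⟨⟨a, h1⟩, rfl⟩

theorem act_ex {σ : ℕ → G} (hσ : ∀ v < 16, σ v ∈ H) {g : G} (hg : g ∈ H) {M : ℕ}
    (a : Act σ g M) : Act (fun n => ex π (σ n)) (ex π g) M :=
  ⟨a.1, fun v hv => by rw [← ex_conj hg (hσ v hv), a.2 v hv]⟩

theorem tm_ex {θ : ℕ → G} (h : TM θ) (hθ : ∀ n < 128, θ n ∈ H)
    (hi : ∀ n < 128, ex π (θ n) = 1 → θ n = 1) : TM fun n => ex π (θ n) where
  mul n hn m hm := by rw [← ex_mul (hθ n hn) (hθ m hm), h.mul n hn m hm]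
  inj n hn m hm e := by
    have h1 := (ex_div (hθ n hn) (hθ m hm)).2 e
    rw [h.inv hm, h.mul n hn _ (iv_lt m hm)] at h1
    have h2 := hi _ (tm_lt n hn _ (iv_lt m hm)) h1
    rw [← h.mul n hn _ (iv_lt m hm), ← h.inv hm, mul_inv_eq_one] at h2
    exact h.inj n hn m hm h2

theorem sp_ex {θ : ℕ → G} (hθ : ∀ n < 128, θ n ∈ H) (p : ℕ → Bool) :
    sp (fun n => ex π (θ n)) p = im π (sp θ p) := by
  refine le_antisymm (sp_le fun n hn hp => ex_mem_im (th_mem_sp θ hn hp) (hθ n hn)) fun y hy => ?_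
  obtain ⟨a, h1, -, rfl⟩ := mem_im.1 hy
  exact (mem_pre.1 (sp_le (K := pre π (sp (fun n => ex π (θ n)) p)) (fun n hn hp =>
    mem_pre.2 ⟨hθ n hn, th_mem_sp (fun n => ex π (θ n)) hn hp⟩) h1)).2

/-- a Sylow subgroup of the preimage of a `2`-group maps onto it -/
theorem onto_two [Finite G] {R D : Subgroup G} (s : IsSylowIn 2 R D) (hD : D ≤ H)
    (h2 : IsPGroup 2 (im π D)) {d : G} (hd : d ∈ D) : ∃ r ∈ R, ex π r = ex π d := by
  haveI : Fact (Nat.Prime 2) := ⟨Nat.prime_two⟩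
  have := (sylow_im (π := π) s hD).eq_of_le h2 le_rfl (im_mono s.le)
  obtain ⟨r, a, -, e⟩ := mem_im.1 (this.le (ex_mem_im hd (hD hd)))
  exact ⟨r, a, e⟩

end PH

theorem eqns_MWKit4 : True := by
  have := @ex.eq_1.{0, 0}
  have := @im.eq_1.{0, 0}
  have := @pre.eq_1.{0, 0}
  trivial

end Cfsg.Agent.H19.MW
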