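import Cfsg.Agent.H19.MWWr
import Cfsg.Agent.H23.Dbl2e
import Cfsg.Agent.H52.FStar
import Cfsg.Agent.S0205

/-! # MW project: assembly -/

set_option autoImplicit false
set_option maxRecDepth 100000
set_option synthInstance.maxSize 2048
open scoped Pointwise commutatorElement
open Subgroup

namespace Cfsg.Agent.H19.MW
open Cfsg.Agent.H24.MH Cfsg.Agent.H23.D2 Cfsg.Agent.H8
open Cfsg.Agent.H42 (tb cnt cnt_eq_card)

local notation "C[" A "]" => Subgroup.centralizer (SetLike.coe A)
local notation "N[" A "]" => Subgroup.normalizer (SetLike.coe A)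

universe u v
variable {G : Type*} [Group G]

/-- every nontrivial normal subgroup contains the self-centralising simple normal subgroup -/
theorem F_le {F K : Subgroup G} (nF : F.Normal) (sF : IsSimpleGroup F) (cF : C[F] = ⊥)
    (nK : K.Normal) : K = ⊥ ∨ F ≤ K := by
  rcases sF.eq_bot_or_eq_top_of_normal (K.subgroupOf F) inferInstance with e | e
  · refine Or.inl (le_bot_iff.1 (cF ▸ fun k hk => mem_C.2 fun f hf => ?_))
    have h1 : f * k * f⁻¹ * k⁻¹ ∈ F := by
      simpa [mul_assoc] using mul_mem hf (nF.conj_mem _ (inv_mem hf) k)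
    have h2 : (⟨_, h1⟩ : F) ∈ K.subgroupOf F := mul_mem (nK.conj_mem _ hk f) (inv_mem hk)
    rw [e, mem_bot] at h2
    have h3 : f * k * f⁻¹ * k⁻¹ = 1 := congrArg Subtype.val h2
    rwa [mul_inv_eq_one, mul_inv_eq_iff_eq_mul] at h3
  · exact Or.inr (subgroupOf_eq_top.1 e)

theorem not_odd [Finite G] {F : Subgroup G} (sF : IsSimpleGroup F) (aF : ¬ IsMulCommutative F) :
    ¬ Odd (Nat.card F) := fun h => by
  haveI := S0205.result h
  exact aF ⟨⟨IsSimpleGroup.comm_iff_isSolvable.2 this⟩⟩

theorem odd_normal [Finite G] {F K : Subgroup G} (nF : F.Normal) (sF : IsSimpleGroup F)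
    (aF : ¬ IsMulCommutative F) (cF : C[F] = ⊥) (nK : K.Normal) (h : Odd (Nat.card K)) : K = ⊥ :=
  (F_le nF sF cF nK).resolve_right fun e => not_odd sF aF (h.of_dvd_nat (card_dvd_of_le e))

theorem main (hC : CtxStmt.{u, v}) (hS : StartStmt.{u}) (hT : TypeStmt.{u}) (hF : FusStmt.{u})
    (hW : WrStmt.{u}) (hK : SkStmt.{u}) (hQ : SqStmt.{u}) (hE : FinStmt.{u}) : MainStmt.{u, v} := by
  intro G _ _ F nF sF aF cF B _ V σ m t J π c
  haveI : Fact (Nat.Prime 2) := ⟨Nat.prime_two⟩
  obtain ⟨J', O, θ, h⟩ := hC G B V σ m t J π c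
  obtain ⟨h1, h2⟩ := hS G F nF sF aF cF t J' O θ h
  obtain ⟨W, d⟩ := dbl G t J' O θ h h2
  have hs := hT G t J' O W θ h d
  obtain ⟨η, w⟩ := hW G t J' O W F θ h d hs (hF G t J' O W θ h d hs h2) nF h1
  obtain ⟨P, p1, p2⟩ := exists_isSylowIn_ge (H := ⊤)
    ((pgroup_zp (x := t) (n := 1) (by simpa [pow_two] using h.tt)).to_sup_of_normal_right'
      w.tp.isPGroup (zpowers_le.2 (t_NS h.tt))) le_top
  have e : EC t J' O F P θ η :=
    ⟨h, w, p1, p2 (mem_sup_left (mem_zpowers t)), le_sup_right.trans p2⟩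
  have k := hK G t J' O F P θ η e
  exact hE G t J' O F P θ η e k (hQ G t J' O F P θ η e k) nF sF aF

theorem no_std (hM : MainStmt.{u, u}) (hL : LiftStmt.{u, u}) (hR : RedStmt.{u}) {G : Type u}
    [Group G] [Finite G] (hF : IsSimpleGroup (generalizedFittingSubgroup G))
    (hF' : ¬ IsMulCommutative (generalizedFittingSubgroup G)) (L : Subgroup G)
    (hA : IsStandardSubgroup L) {V : Subgroup (L ⧸ oddCore L)} {σ : ℕ → L ⧸ oddCore L}
    (m : Mod (L ⧸ oddCore L) V σ) : False := by
  have nF : (generalizedFittingSubgroup G).Normal := H52.fstar_normal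
  have cF : C[generalizedFittingSubgroup G] = ⊥ := by
    refine (F_le nF hF ?_ inferInstance).resolve_right fun e => hF' ⟨⟨fun a b =>
      Subtype.ext (mem_C.1 (e b.2) a a.2)⟩⟩
    rcases hF.eq_bot_or_eq_top_of_normal
      (C[generalizedFittingSubgroup G].subgroupOf (generalizedFittingSubgroup G)) inferInstance
      with e | e
    · refine le_bot_iff.1 fun x hx => ?_
      have : (⟨x, H52.centralizer_fstar_le hx⟩ : generalizedFittingSubgroup G) ∈
        C[generalizedFittingSubgroup G].subgroupOf (generalizedFittingSubgroup G) := hx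
      rw [e, mem_bot] at this
      exact congrArg Subtype.val this
    · exact absurd ⟨⟨fun a b => Subtype.ext (mem_C.1 (subgroupOf_eq_top.1 e b.2) a a.2)⟩⟩ hF'
  generalize generalizedFittingSubgroup G = F at hF hF' nF cF
  have hO : oddCore G = ⊥ := odd_normal nF hF hF' cF inferInstance
    (Nat.coprime_two_right.1 H52.coprime_card_pPrimeCore)
  obtain ⟨t, tC, ht⟩ := H10.Std.exists_invol hA
  have hk : (QuotientGroup.mk' (oddCore L)).ker = oddCore L := QuotientGroup.ker_mk' _
  have ho : Odd (Nat.card (QuotientGroup.mk' (oddCore L)).ker) := by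
    rw [hk]; exact Nat.coprime_two_right.1 H52.coprime_card_pPrimeCore
  obtain ⟨θ, j⟩ := hL G _ V σ m L _ (QuotientGroup.mk'_surjective _) ho
  have hn : ¬ L.Normal := fun n => by
    rcases F_le nF hF cF n with e | e
    · have := j.mem 1 (by norm_num)
      rw [e, mem_bot, j.tm.eq_one (by norm_num)] at this
      exact one_ne_zero this
    · have := centralizer_le e tC
      rw [cF, mem_bot] at this
      exact ne_of_ord ht this
  have hOC : (QuotientGroup.mk' (oddCore L)).ker.map L.subtype ≤ C[L] := by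
    rcases H52.IsQuasisimple.normal_eq_top_or_le_center hA.1 (oddCore L) with e | e
    · have := j.odd
      rw [hk, e, ← MonoidHom.range_eq_map, range_subtype] at this
      have h2 := this.of_dvd_nat (card_dvd_of_le j.T0_le)
      rw [j.tm.card_T0] at h2
      exact absurd h2 (by decide)
    · rintro _ ⟨x, hx, rfl⟩
      exact mem_C.2 fun y hy => congrArg Subtype.val (mem_center_iff.1 (e (hk ▸ hx)) ⟨y, hy⟩)
  have h4 := hR G L _ θ hO hA hn j hOC
  have NJ : ∀ c, c * t = t * c → c ∈ N[L] := fun c e =>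
    H10.Std.cent_le_norm hA ht tC (mem_centralizer_singleton_iff.2 e)
  refine hM G F nF hF hF' cF _ V σ m t L _ ⟨ht, fun x hx => mem_C.1 tC x hx, NJ,
    QuotientGroup.mk'_surjective _, ho, fun c e => ?_, fun c e h2 tr => ?_⟩
  · rw [hk]
    haveI : (oddCore L).Characteristic := H52.pPrimeCore_characteristic
    exact H52.normalizer_le_normalizer_map_subtype _ (NJ c e)
  · refine two_K h4 ht tC (cent_of_comm_le hA.1.1 (fun a ha => ?_) (NJ c e)) h2 e
    simpa [mul_assoc] using inv_mem (hOC (tr a ha))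

end Cfsg.Agent.H19.MW
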