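import Cfsg.Agent.H19.MWMain
import Cfsg.Agent.S0215

/-! # MW project: CTX, ZST, START -/

set_option autoImplicit false
set_option maxRecDepth 100000
set_option synthInstance.maxSize 2048
open scoped Pointwise commutatorElement
open Subgroup

namespace Cfsg.Agent.H19.MW
open Cfsg.Agent.H24.MH Cfsg.Agent.H23.D2 Cfsg.Agent.H8
open Cfsg.Agent.H42 (tb cnt cnt_eq_card)

local notation "C[" A "]" => Subgroup.centralizer (SetLike.coe A)
local notation "N[" A "]" => Subgroup.normalizer (SetLike.coe A)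

universe u v
variable {G : Type*} [Group G]

theorem zst : ZstStmt.{u} := by
  intro G _ θ h y yy hy hn
  have yi : y⁻¹ = y := inv_eq_of_mul_eq_one_right yy
  have cc : ∀ a b : G, y * a * y⁻¹ = b → y * b * y⁻¹ = a := fun a b e => by
    rw [← e, yi]
    calc y * (y * a * y) * y = (y * y) * a * (y * y) := by group
      _ = a := by rw [yy]; group
  have key : ∀ v < 16, 4 ≤ v → ∃ a < 16, 4 ≤ a ∧ y * θ v * y⁻¹ = θ (up a) := fun v hv h4 => by
    obtain ⟨a, ha, e⟩ := h.mem_UU.1 ((h.swap hy hn).1 ▸ conj_mem_conj.2 (h.bV.mem v hv))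
    refine ⟨a, ha, not_lt.1 fun c => ?_, e.symm⟩
    have := norm_conj' (h.NZ_of hy) ((h.th_ZZ (up_lt' ha)).2 (by unfold up; omega))
    rw [e, show y⁻¹ * (y * θ v * y⁻¹) * y = θ v by group, h.th_ZZ (by omega)] at this
    omega
  have lt : ∀ v < 16, ∀ a < 16, tm v (up a) < 64 ∧ tm (tm v (up a)) (tm v (up a)) < 4 := by
    decide +kernel
  have inv : ∀ v < 16, ∀ a < 16, y * θ v * y⁻¹ = θ (up a) →
      y * θ (tm v (up a)) * y⁻¹ = (θ (tm v (up a)))⁻¹ := fun v hv a ha e => by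
    rw [← h.mul v (by omega) _ (up_lt' ha), mul_inv_rev, h.pre.inv hv, h.preU.inv ha,
      show y * (θ v * θ (up a)) * y⁻¹ = y * θ v * y⁻¹ * (y * θ (up a) * y⁻¹) by group, e, cc _ _ e]
  have mv : ∀ n < 64, tm n n < 4 → y * θ n * y⁻¹ = (θ n)⁻¹ →
      θ n * y * (θ n)⁻¹ = y * θ (tm n n) := fun n a b e => by
    have e1 : θ n * y = y * (θ n)⁻¹ := by
      conv_lhs => rw [← cc _ _ e, yi, mul_assoc, yy, mul_one]
    rw [e1, ← h.pre.inv (u := tm n n) (by omega), ← h.mul n (by omega) n (by omega)]; group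
  obtain ⟨a, ha, a4, ea⟩ := key 4 (by norm_num) le_rfl
  obtain ⟨z, hz, ez⟩ := h.mem_ZZ.1 (norm_conj (h.NZ_of hy) ((h.th_ZZ (n := 2) (by norm_num)).2
    (by norm_num)))
  have e1 : y * θ 1 * y⁻¹ = θ 1 := by rw [h.one_fix hy, mul_inv_cancel_right]
  have e3 : θ 3 = θ 1 * θ 2 := h.pre 1 (by norm_num) 2 (by norm_num)
  have z2 : z = 2 ∨ z = 3 := by
    have h0 : z ≠ 0 := fun e => by
      rw [e, h.zero, eq_comm, mul_inv_eq_one, mul_eq_left, h.eq_one (by norm_num)] at ez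
      omega
    have h1 : z ≠ 1 := fun e => by
      have := cc _ _ ez.symm
      rw [e, e1] at this
      exact absurd (h.inj 1 (by norm_num) 2 (by norm_num) this) (by norm_num)
    omega
  obtain ⟨l1, l2⟩ := lt 4 (by norm_num) a ha
  have i1 := inv 4 (by norm_num) a ha ea
  rcases z2 with rfl | rfl
  · left
    have fz : ∀ z < 4, y * θ z * y⁻¹ = θ z := fun z hz => by
      interval_cases z
      · rw [h.zero]; group
      · exact e1
      · exact ez.symm
      · rw [e3]; nth_rw 2 [← e1, ez]; group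
    refine ⟨fun z hz => ?_, fun z hz => ?_⟩
    · obtain ⟨n, hn, rfl⟩ := h.mem_ZZ.1 hz
      exact (mul_inv_eq_iff_eq_mul.1 (fz n hn)).symm
    obtain ⟨n, hn, rfl⟩ := h.mem_ZZ.1 hz
    obtain ⟨c, hc, c4, ec⟩ := key 8 (by norm_num) (by norm_num)
    obtain ⟨d, hd, d4, ed⟩ := key 12 (by norm_num) (by norm_num)
    have e12 : d = a ^^^ c := h.bU.inj2 hd (xor_lt16 ha hc) (by
      refine Eq.trans ?_ (h.preU a ha c hc).symm
      show θ (up d) = θ (up a) * θ (up c)
      rw [← ea, ← ec, ← ed, show (12 : ℕ) = 4 ^^^ 8 from rfl, h.pre 4 (by norm_num) 8 (by norm_num)]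
      group)
    obtain ⟨l3, l4⟩ := lt 8 (by norm_num) c hc
    obtain ⟨l5, l6⟩ := lt 4 (by norm_num) c hc
    have m1 := mv _ l1 l2 i1
    have m2 := mv _ l3 l4 (inv 8 (by norm_num) c hc ec)
    have sy : θ (tm (tm 4 (up c)) (tm 4 (up c))) = θ (tm (tm (up a) 8) (tm (up a) 8)) := by
      have l7 := tm_lt _ (up_lt' ha) 8 (by norm_num)
      rw [← fz _ l6, ← h.mul _ l7 _ l7, ← h.mul _ (up_lt' ha) 8 (by norm_num),
        ← h.mul _ (by omega) _ (by omega), ← h.mul 4 (by norm_num) _ (up_lt' hc), ← ea,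
        ← cc _ _ ec]
      group
    have l8 := tm_lt _ (up_lt' ha) 8 (by norm_num)
    rcases (by decide +kernel : ∀ a < 16, ∀ c < 16, 4 ≤ a → 4 ≤ c → 4 ≤ a ^^^ c →
      tm (tm 4 (up c)) (tm 4 (up c)) = tm (tm (up a) 8) (tm (up a) 8) → ∀ n < 4, n = 0 ∨
        n = tm (tm 4 (up a)) (tm 4 (up a)) ∨ n = tm (tm 8 (up c)) (tm 8 (up c)) ∨
        n = tm (tm 4 (up a)) (tm 4 (up a)) ^^^ tm (tm 8 (up c)) (tm 8 (up c))) a ha c hc a4 c4
      (e12 ▸ d4) (h.inj _ (by omega) _ (tm_lt _ l8 _ l8) sy) n hn with e | e | e | e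
    · exact ⟨1, one_mem _, by rw [e, h.zero]; group⟩
    · exact ⟨_, th_T0 θ (by omega), e ▸ m1⟩
    · exact ⟨_, th_T0 θ (by omega), e ▸ m2⟩
    · refine ⟨θ (tm 8 (up c)) * θ (tm 4 (up a)), mul_mem (th_T0 θ (by omega)) (th_T0 θ (by omega)), ?_⟩
      have cm := (h.comm_iff (by omega) (by omega)).2 (comm_Z _ l3 _ l2)
      rw [e, Nat.xor_comm, h.pre _ (by omega) _ (by omega), ← mul_assoc, ← m2]
      calc _ = θ (tm 8 (up c)) * (θ (tm 4 (up a)) * y * (θ (tm 4 (up a)))⁻¹) * (θ (tm 8 (up c)))⁻¹ := by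
            group
        _ = θ (tm 8 (up c)) * y * (θ (tm 8 (up c)))⁻¹ * (θ (tm 8 (up c)) *
            θ (tm (tm 4 (up a)) (tm 4 (up a)))) * (θ (tm 8 (up c)))⁻¹ := by rw [m1]; group
        _ = _ := by rw [cm]; group
  · right
    have hw := l1.trans (by norm_num : 64 < 128)
    have f : y * θ (tm (tm 4 (up a)) (tm 4 (up a))) * y⁻¹ = θ (tm (tm 4 (up a)) (tm 4 (up a))) := by
      nth_rw 2 [← h.pre.inv (u := tm _ _) (by omega)]
      rw [← h.mul _ hw _ hw, mul_inv_rev, ← i1]; group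
    have n0 := (by decide +kernel : ∀ a < 16, 4 ≤ a → tm (tm 4 (up a)) (tm 4 (up a)) ≠ 0) a ha a4
    have e4 : tm (tm 4 (up a)) (tm 4 (up a)) = 1 := by
      by_contra c
      have : tm (tm 4 (up a)) (tm 4 (up a)) = 2 ∨ tm (tm 4 (up a)) (tm 4 (up a)) = 3 := by omega
      rcases this with e | e <;> rw [e] at f
      · exact absurd (h.inj 3 (by norm_num) 2 (by norm_num) (ez.trans f)) (by norm_num)
      · exact absurd (h.inj 2 (by norm_num) 3 (by norm_num) ((cc _ _ ez.symm).symm.trans f))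
          (by norm_num)
    have e5 : θ (tm 4 (up a)) * θ (tm 4 (up a)) = θ 1 := by rw [h.mul _ hw _ hw, e4]
    have cm := (h.comm_iff hw (by norm_num)).2 (comm_Z _ l1 2 (by norm_num))
    refine ⟨⟨_, th_T0 θ hw, e4 ▸ mv _ l1 l2 i1⟩, θ (tm 4 (up a)) * θ 2,
      mul_mem (th_T0 θ hw) (th_T0 θ (by norm_num)), ?_, ?_⟩
    · symm
      rw [← mul_inv_eq_iff_eq_mul, show y * (θ (tm 4 (up a)) * θ 2) * y⁻¹ =
        y * θ (tm 4 (up a)) * y⁻¹ * (y * θ 2 * y⁻¹) by group, i1, ← ez, e3, ← e5]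
      group
    · rw [mul_assoc, ← mul_assoc (θ 2), ← cm, mul_assoc, h.pre.sq (by norm_num), mul_one, e5]

theorem Mod.cent {B : Type*} [Group B] {V : Subgroup B} {σ : ℕ → B} (m : Mod B V σ) {z : B}
    (hz : ∀ b, b * z = z * b) : z = 1 := by
  obtain ⟨v, hv, rfl⟩ := m.aut.bas.surj z (m.aut.bas.cen (mem_C.2 fun b _ => hz b))
  obtain ⟨g, a⟩ := m.aut.real hM m7_h
  rw [hM_fpf v hv (m.aut.bas.fix_of_comm a hv (hz g)), m.aut.bas.mul.zero]

theorem ctx (hL : LiftStmt.{u, v}) : CtxStmt.{u, v} := by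
  intro G _ _ B _ V σ m t J π c
  haveI : Fact (Nat.Prime 2) := ⟨Nat.prime_two⟩
  have tt : t * t = 1 := sq_of_ord c.ord
  have ho : Odd (Nat.card (π.ker.map J.subtype)) := by
    rw [card_map_of_injective J.subtype_injective]; exact c.odd
  have zt : ∀ j ∈ J, Triv J (π.ker.map J.subtype) j ↔ ex π j = 1 := fun j hj => by
    refine ⟨fun a => m.cent fun b => ?_, fun a x hx => mem_ker_map.2
      ⟨mul_mem (mul_mem (mul_mem hj hx) (inv_mem hj)) (inv_mem hx), ?_⟩⟩
    · obtain ⟨x, hx, rfl⟩ := ex_surj c.surj b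
      have := (ex_div (mul_mem (mul_mem hj hx) (inv_mem hj)) hx).1 (mem_ker_map.1 (a x hx)).2
      rw [ex_conj hj hx, mul_inv_eq_iff_eq_mul] at this
      exact this.symm
    · rw [ex_div (mul_mem (mul_mem hj hx) (inv_mem hj)) hx, ex_conj hj hx, a]; group
  have hk : ∀ j ∈ J, j ∈ π.ker.map J.subtype ↔ ex π j = 1 := fun j hj => by
    rw [mem_ker_map]; exact and_iff_right hj
  have kJ : π.ker.map J.subtype ≤ J := map_subtype_le _
  have NO := c.NO
  have tr := c.tr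
  generalize π.ker.map J.subtype = O at ho zt hk kJ NO tr
  let K : Subgroup G :=
    { carrier := {x | x * t = t * x ∧ Triv J O x}
      mul_mem' := fun {a b} ha hb => ⟨(show Commute a t from ha.1).mul_left hb.1,
        ha.2.mul hb.2 (NO a ha.1)⟩
      one_mem' := ⟨by simp, triv_one J O⟩
      inv_mem' := fun {a} ha => ⟨(show Commute a t from ha.1).inv_left, ha.2.inv (NO a ha.1)⟩ }
  have tK : t ∈ K := ⟨rfl, fun x hx => by rw [← c.JC x hx]; simp⟩
  obtain ⟨O', o1, hO, hc⟩ := exists_odd_part (W := zpowers t) (C := K)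
    (isSylowIn_of_maximal (zpowers_le.2 tK) (pgroup_zp (n := 1) (by simpa [pow_two] using tt))
      fun Q hQ a _ x hx => by
        rcases tr x (a hx).1 (two_of_mem hQ hx) (a hx).2 with e | e <;> simp [e])
    fun x hx => mem_C.2 fun y hy => comm_of_zpowers hy hx.1.symm
  have NO' : ∀ g, g * t = t * g → g ∈ N[O'] := fun g hg => mem_N_of fun x hx => by
    obtain ⟨⟨a1, a2⟩, a3⟩ := (hO x).1 hx
    exact (hO _).2 ⟨⟨((show Commute g t from hg).mul_left a1).mul_left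
      (show Commute g t from hg).inv_left, a2.conj (c.NJ g hg) (NO g hg)⟩, by
        rwa [← (MulAut.conj g).orderOf_eq x] at a3⟩
  have JO : J ≤ N[O'] := fun j hj => NO' j (c.JC j hj)
  have k1 : ∀ j ∈ J, j ∈ O' ↔ ex π j = 1 := fun j hj =>
    ⟨fun a => (zt j hj).1 ((hO j).1 a).1.2, fun a => (hO j).2 ⟨⟨c.JC j hj, (zt j hj).2 a⟩,
      odd_of_mem ho ((hk j hj).2 a)⟩⟩
  choose f f1 o f2 f3 using fun x : (J ⊔ O' : Subgroup G) => (mem_sup_N JO).1 x.2
  have wd : ∀ (x : (J ⊔ O' : Subgroup G)), ∀ j ∈ J, ∀ p ∈ O', j * p = x → ex π (f x) = ex π j :=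
    fun x j hj p hp e => by
      have : j⁻¹ * f x = p * (o x)⁻¹ := by
        rw [inv_mul_eq_iff_eq_mul, ← mul_assoc, e, ← f3 x, mul_inv_cancel_right]
      have h1 := (k1 _ (mul_mem (inv_mem hj) (f1 x))).1 (this ▸ mul_mem hp (inv_mem (f2 x)))
      rw [ex_mul (inv_mem hj) (f1 x), ex_inv hj, inv_mul_eq_one] at h1
      exact h1.symm
  let π' : (J ⊔ O' : Subgroup G) →* B := MonoidHom.mk' (fun x => ex π (f x)) fun x y => by
    rw [← ex_mul (f1 x) (f1 y)]
    refine wd _ _ (mul_mem (f1 x) (f1 y)) _ (mul_mem (norm_conj' (JO (f1 y)) (f2 x)) (f2 y)) ?_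
    rw [coe_mul, ← f3 x, ← f3 y]; group
  have ek : π'.ker.map (J ⊔ O').subtype = O' := by
    ext x
    constructor
    · rintro ⟨x, hx, rfl⟩
      rw [coe_subtype, ← f3 x]
      exact mul_mem ((k1 _ (f1 x)).2 hx) (f2 x)
    · intro hx
      exact ⟨⟨x, mem_sup_right hx⟩, (wd _ 1 (one_mem _) x hx (one_mul x)).trans ex_one, rfl⟩
  obtain ⟨θ, j⟩ := hL G B V σ m _ π' (fun b => by
    obtain ⟨x, hx, rfl⟩ := ex_surj c.surj b
    exact ⟨⟨x, mem_sup_left hx⟩, wd _ x hx 1 (one_mem _) (mul_one x)⟩) (by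
    rw [← card_map_of_injective (J ⊔ O').subtype_injective, ek]; exact o1)
  rw [ek] at j
  refine ⟨_, O', θ, j, tt, fun a => ?_, fun x hx => ?_, fun g hg => ?_, NO', fun g hg a => ?_⟩
  · obtain ⟨x, hx, p, hp, e⟩ := (mem_sup_N JO).1 a
    have h1 : x ∈ K := by
      rw [eq_mul_inv_of_mul_eq e]; exact mul_mem tK (inv_mem ((hO p).1 hp).1)
    have := ((hO t).1 (e ▸ mul_mem ((k1 x hx).2 ((zt x hx).1 h1.2)) hp)).2
    rw [c.ord] at this
    exact absurd this (by decide)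
  · obtain ⟨y, hy, p, hp, rfl⟩ := (mem_sup_N JO).1 hx
    exact (show Commute y t from c.JC y hy).mul_left ((hO p).1 hp).1.1
  · rw [mem_N_iff, smul_sup, mem_N_iff.1 (c.NJ g hg), mem_N_iff.1 (NO' g hg)]
  · obtain ⟨w, hw, e⟩ := hc g ⟨hg, fun x hx => by
      have h1 := mul_mem (norm_conj (c.NJ g hg) hx) (inv_mem hx)
      exact (hk _ h1).2 ((k1 _ h1).1 (a x (mem_sup_left hx)))⟩
    rcases mem_zp_two tt hw with rfl | rfl
    · exact Or.inl (by simpa using e)
    · exact Or.inr (hg ▸ e)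

theorem start : StartStmt.{u} := by
  intro G _ _ F nF sF aF cF t J O θ h
  haveI : Fact (Nat.Prime 2) := ⟨Nat.prime_two⟩
  obtain ⟨g, g1, g2⟩ : ∃ g : G, g * t * g⁻¹ * t = t * (g * t * g⁻¹) ∧ g * t * g⁻¹ ≠ t := by
    by_contra c
    push Not at c
    have hO : pPrimeCore 2 G = ⊥ := odd_normal nF sF aF cF inferInstance
      (Nat.coprime_two_right.1 H52.coprime_card_pPrimeCore)
    have : t ∈ C[F] := mem_C.2 fun f _ => by
      have := H6.zstar G (u := t) ⟨h.ord, fun g e => c g e.symm⟩ f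
      rw [hO, mem_bot, mul_inv_eq_one, mul_inv_eq_iff_eq_mul] at this
      exact this.symm
    rw [cF, mem_bot] at this
    exact h.ne_one this
  have sq : ∀ g : G, g * t * g⁻¹ * (g * t * g⁻¹) = 1 := fun g => (h.cj g).tt
  constructor
  · rcases h.simp (J ⊓ F) inf_le_left (fun x hx => mem_N_of fun y hy =>
      ⟨norm_conj (le_normalizer hx) hy.1, nF.conj_mem _ hy.2 x⟩) with e | e
    · exfalso
      have key : ∀ c ∈ F, c * t = t * c → (∃ n, c ^ 2 ^ n = 1) → c = 1 ∨ c = t := by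
        rintro c hc ct ⟨n, hn⟩
        refine (h.tr c ct fun x hx => e ⟨J.mul_mem (norm_conj (h.NJ c ct) hx) (inv_mem hx), by
          simpa [mul_assoc] using mul_mem hc (nF.conj_mem _ (inv_mem hc) x)⟩).imp
          (fun a => eq_one_of_odd_two (odd_of_mem h.odd a) hn) fun a => ?_
        have := eq_one_of_odd_two (odd_of_mem h.odd a) (n := n + 1) (by
          rw [(show Commute c t from ct).mul_pow, pow_succ, pow_mul, hn, one_pow, one_mul, mul_comm,
            pow_mul, pow_two, h.tt, one_pow])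
        rw [eq_inv_of_mul_eq_one_left this, h.tinv]
      by_cases tF : t ∈ F
      · exact (key _ (nF.conj_mem _ tF g) g1 ⟨1, by simpa [pow_two] using sq g⟩).elim
          (h.cj g).ne_one g2
      have p1 : IsPGroup 2 (zpowers t) := pgroup_zp (n := 1) (by simpa [pow_two] using h.tt)
      obtain ⟨P, hP, tP⟩ := exists_isSylowIn_ge (H := ⊤) p1 le_top
      have s := hP.inf_of_le_normalizer (N := F) le_normalizer_of_normal
      rw [top_inf_eq] at s
      have tN : t ∈ N[(P ⊓ F : Subgroup G)] := mem_N_of fun x hx =>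
        ⟨norm_conj (le_normalizer (tP (mem_zpowers t))) hx.1, nF.conj_mem _ hx.2 t⟩
      have e1 : zpowers t ⊔ P ⊓ F ≤ zpowers t := by
        by_contra c
        obtain ⟨y, ⟨y1, y2⟩, y3⟩ := SetLike.exists_of_lt (lt_inf_normalizer_of_lt
          (hP.isPGroup.to_le (sup_le tP inf_le_left : zpowers t ⊔ P ⊓ F ≤ P))
          (lt_of_le_of_ne le_sup_left fun e => c e.ge))
        have y4 : y * t = t * y := mul_inv_eq_iff_eq_mul.1
          ((mem_zp_two h.tt (norm_conj y2 (mem_zpowers t))).resolve_left (h.cj y).ne_one)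
        rcases (mem_sup_zp h.tt tN).1 y1 with a | a
        · rcases key y a.2 y4 (two_of_mem s.isPGroup a) with e | e <;> simp [e] at y3
        · rcases key _ a.2 (by rw [mul_assoc, h.tt, ← mul_assoc, ← y4, mul_assoc, h.tt])
            (two_of_mem s.isPGroup a) with e | e
          · exact y3 (by rw [eq_inv_of_mul_eq_one_left e]; simp)
          · exact tF (e ▸ a.2)
      have e2 : P ⊓ F = ⊥ := le_bot_iff.1 fun x hx =>
        (mem_zp_two h.tt (e1 (mem_sup_right hx))).resolve_right fun e => tF (e ▸ hx.2)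
      refine not_odd sF aF (Nat.not_even_iff_odd.1 fun c => s.not_dvd ?_)
      rw [e2, relIndex_bot_left]
      exact even_iff_two_dvd.1 c
    · refine sp_le fun n hn _ => ?_
      obtain ⟨k, hk, o, ho, e1⟩ := (mem_sup_N (inf_le_left.trans h.nO)).1 (e (h.mem n hn))
      exact two_mem_of_odd ⟨3, h.tm.pow_eight hn⟩ (odd_of_mem h.odd ho)
        (le_normalizer_of_normal (mem_top o)) (by rw [← e1, mul_inv_cancel_right]; exact hk.2)
  obtain ⟨c, cJ, e⟩ := h.sylT (R := zpowers (g * t * g⁻¹))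
    (pgroup_zp (n := 1) (by simpa [pow_two] using sq g)) fun x hx => comm_of_zpowers hx g1
  obtain ⟨e1, e2, e3⟩ := e _ (conj_mem_conj.2 (mem_zpowers _))
  have e4 : c * (g * t * g⁻¹) * c⁻¹ ≠ t := fun a => g2 (by
    rw [mul_inv_eq_iff_eq_mul, ← h.JC c cJ] at a; exact mul_left_cancel a)
  rw [show c * (g * t * g⁻¹) * c⁻¹ = c * g * t * (c * g)⁻¹ by group] at e1 e2 e3 e4
  generalize c * g = k at e1 e2 e3 e4
  have cj1 : IsConj t (k * t * k⁻¹) := isConj_iff.2 ⟨k, rfl⟩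
  rcases e3 with a | a | a
  · exact (h.ntJ (h.T0_le a) cj1).elim
  · have := h.conj_ta (h.T0_le a) (by
      nth_rw 2 [e1]
      rw [mul_assoc, ← mul_assoc t, h.tt, one_mul, sq]) fun b => e4 (by
      rw [eq_inv_of_mul_eq_one_left b, h.tinv])
    rw [e1, ← mul_assoc, h.tt, one_mul] at this
    exact cj1.trans this.symm
  have H := h.cj k
  have fin : ∀ z : G, z * z = 1 → z ≠ 1 → z * (k * t * k⁻¹) = k * t * k⁻¹ * z →
      (∃ w ∈ T0 θ, w * (k * t * k⁻¹) * w⁻¹ = k * t * k⁻¹ * z) →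
      (z ∈ MulAut.conj k • J ∨ z * (k * t * k⁻¹) ∈ MulAut.conj k • J) → IsConj t (t * θ 1) := by
    rintro z z1 z2 z3 ⟨w, -, z4⟩ (b | b)
    · refine ((cj1.trans (isConj_iff.2 ⟨w, z4⟩)).trans (H.conj_ta b z1 z2).symm).trans
        (isConj_iff.2 ⟨k⁻¹, ?_⟩)
      simp only [cj]; group
    · exact (H.ntJ b (isConj_iff.2 ⟨w, z4.trans z3.symm⟩)).elim
  have mz : ∀ n < 4, θ n ∈ ZZ θ := fun n hn => (h.tm.th_ZZ (by omega)).2 hn
  have nz : ∀ n < 4, n ≠ 0 → θ n ≠ 1 := fun n hn a b => a ((h.tm.eq_one (by omega)).1 b)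
  rcases zst G θ h.tm _ (sq k) e2 a with ⟨b1, b2⟩ | ⟨b1, q, -, b2, b3⟩
  · have f := fun n hn h0 => fin (θ n) (h.tm.pre.sq (by omega)) (nz n hn h0) (b1 _ (mz n hn))
      (b2 _ (mz n hn))
    by_contra c
    refine c (f 3 (by norm_num) (by norm_num) ?_)
    rw [show θ 3 = θ 1 * θ 2 from h.tm.pre 1 (by norm_num) 2 (by norm_num)]
    exact H.two' (b1 _ (mz 1 (by norm_num))) (b1 _ (mz 2 (by norm_num)))
      (fun x => c (f 1 (by norm_num) (by norm_num) x)) fun x => c (f 2 (by norm_num) (by norm_num) x)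
  · exact fin _ (h.tm.pre.sq (by norm_num)) (nz 1 (by norm_num) (by norm_num))
      (h.tm.one_fix e2).symm b1 (b3 ▸ H.sq_in b2)

end Cfsg.Agent.H19.MW
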