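import Mathlib

/-! Natural modules of a chamber-transitive subgroup: all or nothing. -/

set_option autoImplicit false

namespace Cfsg.Agent.H19.CkA

open Subgroup

variable {F : Type*} [Field F]

/-- An additive subgroup of the plane that meets all lines in sets of the same size. -/
theorem cnt [Finite F] (A : AddSubgroup (F × F))
    (h : ∀ y : F, ∃ c : F, c ≠ 0 ∧ ∀ t, (0, t) ∈ A ↔ (c * t, y * (c * t)) ∈ A) : A = ⊥ ∨ A = ⊤ := by
  classical
  have := Fintype.ofFinite F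
  obtain ⟨p, hp⟩ := CharP.exists F
  obtain ⟨f, hpp, hf⟩ := FiniteField.card F p
  let S : AddSubgroup F := A.comap (AddMonoidHom.inr F F)
  have hS : ∀ t, t ∈ S ↔ (0, t) ∈ A := fun t => Iff.rfl
  by_cases h0 : S = ⊥
  · refine .inl (eq_bot_iff.2 ?_)
    rintro ⟨u, v⟩ huv
    by_cases hu : u = 0
    · subst hu
      have : v ∈ S := huv
      rw [h0, AddSubgroup.mem_bot] at this
      rw [this]; exact zero_mem _
    · obtain ⟨c, hc, e⟩ := h (v / u)
      have : u / c ∈ S := (e _).2 (by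
        rwa [mul_div_cancel₀ _ hc, div_mul_cancel₀ _ hu])
      rw [h0, AddSubgroup.mem_bot, div_eq_zero_iff] at this
      exact absurd this (not_or.2 ⟨hu, hc⟩)
  by_cases h1 : S = ⊤
  · refine .inr (eq_top_iff.2 ?_)
    rintro ⟨u, v⟩ -
    obtain ⟨c, hc, e⟩ := h 0
    have h2 := (e (u / c)).1 ((hS _).1 (h1 ▸ AddSubgroup.mem_top _))
    have h3 := A.add_mem h2 ((hS v).1 (h1 ▸ AddSubgroup.mem_top _))
    simpa [mul_div_cancel₀ _ hc] using h3
  exfalso
  let Sf := Finset.univ.filter fun t : F => t ∈ S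
  let Af := Finset.univ.filter fun v : F × F => v ∈ A
  have cS : Nat.card S = Sf.card := by
    rw [Nat.card_eq_fintype_card, Fintype.card_subtype]
  have cA : Nat.card A = Af.card := by
    rw [Nat.card_eq_fintype_card, Fintype.card_subtype]
  have e1 : (Af.filter fun v => v.1 = 0).card = Sf.card := by
    refine Finset.card_nbij' (fun v => v.2) (fun t => (0, t)) ?_ ?_ ?_ ?_
    · rintro ⟨u, v⟩ hv
      simp only [Af, Sf, Finset.coe_filter, Finset.mem_filter, Finset.mem_univ, true_and,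
        Set.mem_setOf_eq] at hv ⊢
      obtain ⟨h2, rfl⟩ := hv
      exact h2
    · intro t ht
      simp only [Af, Sf, Finset.coe_filter, Finset.mem_filter, Finset.mem_univ, true_and,
        Set.mem_setOf_eq] at ht ⊢
      exact ⟨ht, trivial⟩
    · rintro ⟨u, v⟩ hv
      simp only [Af, Finset.coe_filter, Set.mem_setOf_eq] at hv
      exact Prod.ext hv.2.symm rfl
    · exact fun _ _ => rfl
  have e2 : (Af.filter fun v => ¬ v.1 = 0).card = Fintype.card F * (Sf.card - 1) := by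
    rw [Finset.card_eq_sum_card_fiberwise (f := fun v : F × F => v.2 / v.1) (t := Finset.univ)
      (fun _ _ => Finset.mem_coe.2 (Finset.mem_univ _)), ← Finset.card_univ, ← smul_eq_mul,
      ← Finset.sum_const]
    refine Finset.sum_congr rfl fun y _ => ?_
    obtain ⟨c, hc, e⟩ := h y
    rw [← Finset.card_erase_of_mem (s := Sf) (a := 0) (by simp [Sf])]
    refine Finset.card_nbij' (fun v => v.1 / c) (fun t => (c * t, y * (c * t))) ?_ ?_ ?_ ?_
    · rintro ⟨u, v⟩ hv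
      simp only [Af, Sf, Finset.coe_filter, Finset.mem_filter, Finset.mem_univ, true_and,
        Set.mem_setOf_eq, Finset.coe_erase, Set.mem_diff, Set.mem_singleton_iff] at hv ⊢
      obtain ⟨⟨h2, h3⟩, rfl⟩ := hv
      exact ⟨(e _).2 (by rwa [mul_div_cancel₀ _ hc, div_mul_cancel₀ _ h3]), div_ne_zero h3 hc⟩
    · intro t ht
      simp only [Af, Sf, Finset.coe_filter, Finset.mem_filter, Finset.mem_univ, true_and,
        Set.mem_setOf_eq, Finset.coe_erase, Set.mem_diff, Set.mem_singleton_iff] at ht ⊢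
      exact ⟨⟨(e t).1 ht.1, mul_ne_zero hc ht.2⟩, mul_div_cancel_right₀ _ (mul_ne_zero hc ht.2)⟩
    · rintro ⟨u, v⟩ hv
      simp only [Af, Finset.coe_filter, Finset.mem_filter, Set.mem_setOf_eq] at hv
      obtain ⟨⟨-, h3⟩, rfl⟩ := hv
      simp only [mul_div_cancel₀ _ hc, div_mul_cancel₀ _ h3]
    · exact fun t _ => mul_div_cancel_left₀ _ hc
  have e3 := Finset.card_filter_add_card_filter_not (s := Af) fun v => v.1 = 0
  rw [e1, e2, ← cS, ← cA, hf] at e3
  have d1 : Nat.card S ∣ p ^ (f : ℕ) := by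
    rw [← hf, ← Nat.card_eq_fintype_card]; exact S.card_addSubgroup_dvd_card
  have d2 : Nat.card A ∣ p ^ ((f : ℕ) + f) := by
    rw [pow_add, ← hf, ← Nat.card_eq_fintype_card, ← Nat.card_prod]
    exact A.card_addSubgroup_dvd_card
  obtain ⟨b, hb, eb⟩ := (Nat.dvd_prime_pow hpp).1 d1
  obtain ⟨c, -, ec⟩ := (Nat.dvd_prime_pow hpp).1 d2
  have b0 : 1 < Nat.card S := (S.one_lt_card_iff_ne_bot).2 h0
  have bf : b ≠ f := fun e => h1 (S.eq_top_of_card_eq (by
    rw [eb, e, ← hf, Nat.card_eq_fintype_card]))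
  rw [eb, ec] at e3
  rw [eb] at b0
  have l1 : p ^ b < p ^ c := by
    have : 0 < p ^ (f : ℕ) * (p ^ b - 1) := Nat.mul_pos (pow_pos hpp.pos _) (by omega)
    omega
  have l2 : p ^ (b + 1) ∣ p ^ c :=
    pow_dvd_pow p ((Nat.pow_lt_pow_iff_right hpp.one_lt).1 l1)
  have l3 : p ^ (b + 1) ∣ p ^ (f : ℕ) * (p ^ b - 1) := (pow_dvd_pow p (by omega)).mul_right _
  rw [← e3] at l2
  have := (Nat.pow_dvd_pow_iff_le_right hpp.one_lt).1 ((Nat.dvd_add_left l3).1 l2)
  omega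

variable {G : Type*} [Group G]

/-- `g` normalizes `K` and maps the one-parameter family `x` to `x'` modulo `K`. -/
def Mp (K : Subgroup G) (x x' : F → G) (g : G) : Prop :=
  (∀ k ∈ K, g * k * g⁻¹ ∈ K) ∧ ∃ c : F, c ≠ 0 ∧ ∀ t, (x' (c * t))⁻¹ * (g * x t * g⁻¹) ∈ K

theorem Mp.mul {K : Subgroup G} {x x' x'' : F → G} {g g' : G} (h' : Mp K x' x'' g')
    (h : Mp K x x' g) : Mp K x x'' (g' * g) := by
  obtain ⟨a, c, hc, b⟩ := h
  obtain ⟨a', c', hc', b'⟩ := h'
  refine ⟨fun k hk => ?_, c' * c, mul_ne_zero hc' hc, fun t => ?_⟩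
  · convert a' _ (a k hk) using 1
    group
  · convert mul_mem (b' (c * t)) (a' _ (b t)) using 1
    rw [mul_assoc c']
    group

theorem Mp.one (K : Subgroup G) (x : F → G) : Mp K x x 1 :=
  ⟨fun k hk => by simpa using hk, 1, one_ne_zero, fun t => by simp⟩

theorem conj_inv_mem [Finite G] {K : Subgroup G} {g : G} (h : ∀ k ∈ K, g * k * g⁻¹ ∈ K) :
    ∀ k ∈ K, g⁻¹ * k * g ∈ K := fun k hk => by
  have := (mem_normalizer_iff.1 (inv_mem (mem_normalizer_fintype h)) k).1 hk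
  rwa [inv_inv] at this

theorem one_of_add {x : F → G} (a : ∀ s t, x (s + t) = x s * x t) : x 0 = 1 := by
  have := a 0 0
  rw [add_zero] at this
  exact mul_eq_left.1 this.symm

theorem neg_of_add {x : F → G} (a : ∀ s t, x (s + t) = x s * x t) (t : F) : x (-t) = (x t)⁻¹ :=
  eq_inv_of_mul_eq_one_left (by rw [← a, neg_add_cancel, one_of_add a])

/-- All or nothing in the section `x₁ x₂ K / K`. -/
theorem ari [Finite F] [Finite G] {K H : Subgroup G} {x₁ x₂ : F → G}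
    (a₁ : ∀ s t, x₁ (s + t) = x₁ s * x₁ t) (a₂ : ∀ s t, x₂ (s + t) = x₂ s * x₂ t)
    (n₁ : ∀ t, ∀ k ∈ K, x₁ t * k * (x₁ t)⁻¹ ∈ K) (n₂ : ∀ t, ∀ k ∈ K, x₂ t * k * (x₂ t)⁻¹ ∈ K)
    (cm : ∀ s t, (x₂ t)⁻¹ * (x₁ s * x₂ t * (x₁ s)⁻¹) ∈ K)
    (hh : ∀ y, ∃ h ∈ H, Mp K x₂ (fun t => x₁ t * x₂ (y * t)) h) :
    (∀ u v, ∀ k ∈ K, x₁ u * x₂ v * k ∈ H → u = 0 ∧ v = 0) ∨
      ∀ u v, ∃ k ∈ K, x₁ u * x₂ v * k ∈ H := by
  have m₁ := fun t => conj_inv_mem (n₁ t)
  have m₂ := fun t => conj_inv_mem (n₂ t)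
  let A : AddSubgroup (F × F) :=
    { carrier := {p | ∃ k ∈ K, x₁ p.1 * x₂ p.2 * k ∈ H}
      zero_mem' := ⟨1, one_mem _, by simp [one_of_add a₁, one_of_add a₂]⟩
      add_mem' := by
        rintro ⟨u, v⟩ ⟨u', v'⟩ ⟨k, hk, h⟩ ⟨k', hk', h'⟩
        refine ⟨_, mul_mem (mul_mem (m₂ v' _ (cm (-u') v)) (m₂ v' _ (m₁ u' k hk))) hk', ?_⟩
        convert mul_mem h h' using 1
        simp only [Prod.fst_add, Prod.snd_add, a₁, a₂, neg_of_add a₁]
        group
      neg_mem' := by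
        rintro ⟨u, v⟩ ⟨k, hk, h⟩
        refine ⟨_, mul_mem (cm u (-v)) (n₁ u _ (n₂ v _ (inv_mem hk))), ?_⟩
        convert inv_mem h using 1
        simp only [Prod.fst_neg, Prod.snd_neg, neg_of_add a₁, neg_of_add a₂]
        group }
  have hA : ∀ u v, (u, v) ∈ A ↔ ∃ k ∈ K, x₁ u * x₂ v * k ∈ H := fun _ _ => Iff.rfl
  rcases cnt A (fun y => by
    obtain ⟨h, hH, b, c, hc, e⟩ := hh y
    refine ⟨c, hc, fun t => ?_⟩
    rw [hA, hA, one_of_add a₁, one_mul]
    constructor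
    · rintro ⟨k, hk, h1⟩
      refine ⟨_, mul_mem (e t) (b k hk), ?_⟩
      convert mul_mem (mul_mem hH h1) (inv_mem hH) using 1
      group
    · rintro ⟨k, hk, h1⟩
      refine ⟨_, conj_inv_mem b _ (mul_mem (inv_mem (e t)) hk), ?_⟩
      convert mul_mem (mul_mem (inv_mem hH) h1) hH using 1
      group) with e | e
  · refine .inl fun u v k hk h => ?_
    have : (u, v) ∈ A := ⟨k, hk, h⟩
    rwa [e, AddSubgroup.mem_bot, Prod.mk_eq_zero] at this
  · exact .inr fun u v => (hA u v).1 (e ▸ AddSubgroup.mem_top _)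

/-- A subgroup that contains a `B`-invariant root group and satisfies `G = H B` is everything. -/
theorem full [IsSimpleGroup G] {H B : Subgroup G} (ft : ∀ g, ∃ h ∈ H, ∃ b ∈ B, g = h * b)
    {x : F → G} (hB : ∀ b ∈ B, Mp ⊥ x x b) (h1 : x 1 ≠ 1) (hx : ∀ t, x t ∈ H) : H = ⊤ := by
  rcases IsSimpleGroup.eq_bot_or_eq_top_of_normal (normalClosure (Set.range x)) inferInstance
    with e | e
  · exact absurd (mem_bot.1 (e ▸ subset_normalClosure ⟨1, rfl⟩)) h1
  · rw [eq_top_iff, ← e, normalClosure, closure_le]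
    intro z hz
    obtain ⟨_, ⟨t, rfl⟩, hc⟩ := Group.mem_conjugatesOfSet_iff.1 hz
    obtain ⟨g, rfl⟩ := isConj_iff.1 hc
    obtain ⟨h, hh, b, hb, rfl⟩ := ft g
    obtain ⟨-, c, -, e⟩ := hB b hb
    have := inv_mul_eq_one.1 (mem_bot.1 (e t))
    have e2 : h * b * x t * (h * b)⁻¹ = h * x (c * t) * h⁻¹ := by rw [this]; group
    rw [SetLike.mem_coe, e2]
    exact mul_mem (mul_mem hh (hx _)) (inv_mem hh)

theorem card_le_cover [Finite G] {ι : Type*} [Finite ι] {V N : Subgroup G} (x : ι → G)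
    (h : ∀ v ∈ V, ∃ t, (x t)⁻¹ * v ∈ N) :
    Nat.card V ≤ Nat.card ι * Nat.card (V ⊓ N : Subgroup G) := by
  choose f hf using h
  rw [← (N.subgroupOf V).index_mul_card, ← inf_subgroupOf_left,
    Nat.card_congr (subgroupOfEquivOfLe (inf_le_left : V ⊓ N ≤ V)).toEquiv, inf_subgroupOf_left]
  refine Nat.mul_le_mul_right _ (Nat.card_le_card_of_injective
    (fun c : V ⧸ N.subgroupOf V => f c.out c.out.2) fun c d e => ?_)
  rw [← c.out_eq, ← d.out_eq]
  refine QuotientGroup.eq.2 (mem_subgroupOf.2 ?_)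
  have h1 := hf _ c.out.2
  have h2 := hf _ d.out.2
  simp only at e
  rw [← e] at h2
  convert mul_mem (inv_mem h1) h2 using 1
  simp only [coe_mul, coe_inv]
  group

/-- Peeling off a root group. -/
theorem peel {N : Subgroup G} {x : F → G} (a : ∀ s t, x (s + t) = x s * x t)
    (n : ∀ t, ∀ k ∈ N, x t * k * (x t)⁻¹ ∈ N) {S : Set G}
    (hS : ∀ s ∈ S, s ∈ N ∨ ∃ t, x t = s) {g : G} (hg : g ∈ closure S) :
    ∃ t, (x t)⁻¹ * g ∈ N := by
  induction hg using closure_induction with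
  | mem s hs =>
    rcases hS s hs with h | ⟨t, rfl⟩
    · exact ⟨0, by simpa [one_of_add a] using h⟩
    · exact ⟨t, by simp⟩
  | one => exact ⟨0, by simp [one_of_add a]⟩
  | mul g g' _ _ h h' =>
    obtain ⟨t, h⟩ := h
    obtain ⟨t', h'⟩ := h'
    refine ⟨t + t', ?_⟩
    convert mul_mem (n (-t') _ h) h' using 1
    rw [a, neg_of_add a]
    group
  | inv g _ h =>
    obtain ⟨t, h⟩ := h
    refine ⟨-t, ?_⟩
    convert n t _ (inv_mem h) using 1
    rw [neg_of_add a]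
    group

theorem eqns_ckAri : True := by
  have := @Mp.eq_1.{0, 0}
  trivial

end Cfsg.Agent.H19.CkA
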