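import Cfsg.Agent.H74.CksDefs
import Cfsg.Agent.H19.CkAri
import Cfsg.Agent.H34.Twist4
import Cfsg.Agent.H40.SplitPar
import Cfsg.Agent.S2326
import Cfsg.Agent.S1055

/-! CKS-G2V: chamber-transitive subgroups of `G₂(q)`. -/

set_option autoImplicit false

namespace Cfsg.Agent.H19.CkG

open Subgroup Cfsg.Lie Cfsg.Agent.H34 Cfsg.Agent.H19.CkA

variable {F : Type} [Field F] (C : Cert chevG2)

/-- The group generated by the root groups of index at least `m`. -/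
def cc (F : Type) [Field F] (C : Cert chevG2) (m : ℕ) : Subgroup (chevG2.group F) :=
  closure {g | ∃ r, m ≤ r ∧ r < 12 ∧ ∃ t, C.xg F r t = g}

theorem mem_cc {m r : ℕ} (h1 : m ≤ r) (h2 : r < 12) (t : F) : C.xg F r t ∈ cc F C m :=
  subset_closure ⟨r, h1, h2, t, rfl⟩

theorem cc_mono {m n : ℕ} (h : m ≤ n) : cc F C n ≤ cc F C m :=
  closure_mono fun _ ⟨r, h1, h2⟩ => ⟨r, h.trans h1, h2⟩

theorem cc_12 : cc F C 12 = ⊥ := by
  rw [eq_bot_iff, cc, closure_le]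
  rintro _ ⟨r, h1, h2, -⟩
  omega

theorem nm_cc {m : ℕ} {g : chevG2.group F}
    (h : ∀ r, m ≤ r → r < 12 → ∀ t, g * C.xg F r t * g⁻¹ ∈ cc F C m) :
    ∀ k ∈ cc F C m, g * k * g⁻¹ ∈ cc F C m := by
  have : cc F C m ≤ (cc F C m).comap (MulAut.conj g).toMonoidHom := by
    conv_lhs => rw [cc]
    rw [closure_le]
    rintro _ ⟨r, h1, h2, t, rfl⟩
    exact h r h1 h2 t
  exact this

theorem cx {r s : ℕ} (hr : r < 12) (hs : s < 12) (h1 : s ≠ r) (h2 : s ≠ chevG2.neg r) (y u : F) :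
    C.xg F r y * C.xg F s u * (C.xg F r y)⁻¹ = C.xg F s u * ((chevG2.commTerms r s).map fun c =>
      C.xg F c.1 (c.2.1 * y ^ c.2.2.1 * u ^ c.2.2.2)).prod := by
  have := Cert.xg_comm (C := C) (F := F) hr hs h1 h2 (-y) u
  rw [Cert.xg_neg, ChevalleyDatum.commWord, List.map_map] at this
  simp only [neg_neg, Function.comp_def] at this
  rw [mul_assoc, this]
  group

theorem cx_self (r : ℕ) (y u : F) : C.xg F r y * C.xg F r u * (C.xg F r y)⁻¹ = C.xg F r u := by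
  rw [← Cert.xg_neg, ← Cert.xg_add, ← Cert.xg_add]
  congr 1
  ring

theorem cx_mem {r s : ℕ} (hr : 6 ≤ r) (hr' : r < 12) (hs : 6 ≤ s) (hs' : s < 12) (y u : F) :
    (C.xg F s u)⁻¹ * (C.xg F r y * C.xg F s u * (C.xg F r y)⁻¹) ∈ cc F C (s + 1) := by
  by_cases e : s = r
  · rw [e, cx_self, inv_mul_cancel]; exact one_mem _
  have k : ∀ r ∈ [6, 7, 8, 9, 10, 11], ∀ s ∈ [6, 7, 8, 9, 10, 11], s ≠ chevG2.neg r ∧
      ∀ c ∈ chevG2.commTerms r s, s + 1 ≤ c.1 ∧ c.1 < 12 := by decide +kernel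
  obtain ⟨k1, k2⟩ := k r (by simp only [List.mem_cons]; omega) s
    (by simp only [List.mem_cons]; omega)
  rw [cx C hr' hs' e k1, inv_mul_cancel_left]
  exact list_prod_mem (List.forall_mem_map.2 fun c hc => mem_cc C (k2 c hc).1 (k2 c hc).2 _)

theorem nm_x {r m : ℕ} (hr : 6 ≤ r) (hr' : r < 12) (hm : 6 ≤ m) (y : F) :
    ∀ k ∈ cc F C m, C.xg F r y * k * (C.xg F r y)⁻¹ ∈ cc F C m :=
  nm_cc C fun s h1 h2 t => by
    have := mul_mem (mem_cc C h1 h2 t) (cc_mono C (by omega : m ≤ s + 1)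
      (cx_mem C hr hr' (hm.trans h1) h2 y t))
    rwa [mul_inv_cancel_left] at this

theorem nf {m : ℕ} (hm : 6 ≤ m) (hm' : m < 12) {g : chevG2.group F} (hg : g ∈ cc F C m) :
    ∃ t, (C.xg F m t)⁻¹ * g ∈ cc F C (m + 1) :=
  peel (Cert.xg_add m) (fun t => nm_x C hm hm' (by omega) t) (by
    rintro _ ⟨r, h1, h2, t, rfl⟩
    rcases h1.eq_or_lt with rfl | h
    · exact .inr ⟨t, rfl⟩
    · exact .inl (mem_cc C h h2 t)) hg

theorem pos_iff (r : Fin chevG2.nroots) : C.S.pos r ↔ 6 ≤ (r : ℕ) :=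
  (C.pos_iff r).trans (by revert r; unfold ChevalleyDatum.IsPosRoot; decide +kernel)

theorem Up_le : (C.split F).Up ≤ cc F C 6 :=
  Split.U_le fun r hr x hx => by
    obtain ⟨t, rfl⟩ := Cert.mem_X.1 hx
    exact mem_cc C ((pos_iff C r).1 hr) r.2 t

theorem mp_B {K : Subgroup (chevG2.group F)} {s : ℕ} (hs : s < 12)
    (h1 : ∀ r, 6 ≤ r → r < 12 → ∀ y, Mp K (C.xg F s) (C.xg F s) (C.xg F r y))
    (h2 : ∀ h ∈ (C.split F).H, ∀ k ∈ K, h * k * h⁻¹ ∈ K) :
    ∀ b ∈ (C.split F).B, Mp K (C.xg F s) (C.xg F s) b := by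
  intro b hb
  obtain ⟨u, hu, h, hh, rfl⟩ := Split.mem_B.1 hb
  refine Mp.mul ?_ (x' := C.xg F s) ?_
  · refine Split.U_ind_left (Mp.one K _) (fun r hr x hx g _ ih => Mp.mul ?_ ih) u hu
    obtain ⟨t, rfl⟩ := Cert.mem_X.1 hx
    exact h1 r ((pos_iff C r).1 hr) r.2 t
  · obtain ⟨a, -, e⟩ := Cert.conj_xg (Split.H_le_N hh)
    refine ⟨h2 h hh, a ⟨s, hs⟩, Units.ne_zero _, fun t => ?_⟩
    rw [e ⟨s, hs⟩ t, Split.ν_H hh]
    exact inv_mul_cancel (C.xg F s _) ▸ one_mem _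

theorem mp_cc {s : ℕ} (hs : 6 ≤ s) (hs' : s < 12) :
    ∀ b ∈ (C.split F).B, Mp (cc F C (s + 1)) (C.xg F s) (C.xg F s) b :=
  mp_B C hs' (fun r h1 h2 y => ⟨nm_x C h1 h2 (by omega) y, 1, one_ne_zero, fun t => by
    rw [one_mul]; exact cx_mem C h1 h2 hs hs' y t⟩) fun h hh => nm_cc C fun r h1 h2 t => by
    obtain ⟨a, -, e⟩ := Cert.conj_xg (Split.H_le_N hh)
    rw [e ⟨r, h2⟩ t, Split.ν_H hh]
    exact mem_cc C h1 h2 _

theorem ex_n (i : Fin chevG2.rank) : ∃ n : chevG2.group F, ∀ r < 12, ∃ c : F, c ≠ 0 ∧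
    ∀ t, n * C.xg F r t * n⁻¹ = C.xg F (chevG2.reflectRoot i r) (c * t) := by
  obtain ⟨a, -, e⟩ := Cert.conj_xg
    (Cert.ng_mem_N (C := C) (F := F) (C.V.basic.simple_lt i i.2) one_ne_zero)
  refine ⟨_, fun r hr => ⟨a ⟨r, hr⟩, Units.ne_zero _, fun t => (e ⟨r, hr⟩ t).trans ?_⟩⟩
  rw [Cert.ν_ng (C := C) i one_ne_zero]
  have := Cert.word_val (C := C) [i] ⟨r, hr⟩
  simp only [List.map_cons, List.map_nil, List.foldr_cons, List.foldr_nil] at this
  rw [← this]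
  simp

theorem cm0 {r s : ℕ} (h : r < 12 ∧ s < 12 ∧ s ≠ r ∧ s ≠ chevG2.neg r ∧ chevG2.commTerms r s = [])
    (y u : F) : C.xg F r y * C.xg F s u * (C.xg F r y)⁻¹ = C.xg F s u := by
  rw [cx C h.1 h.2.1 h.2.2.1 h.2.2.2.1, h.2.2.2.2]; simp

theorem c67 (y u : F) : C.xg F 6 y * C.xg F 7 u * (C.xg F 6 y)⁻¹ = C.xg F 7 u * C.xg F 8 (y * u) *
    (C.xg F 9 (y * u ^ 2) * C.xg F 10 (-(y * u ^ 3)) * C.xg F 11 (-2 * y ^ 2 * u ^ 3)) := by
  rw [cx C (by decide) (by decide) (by decide) (by decide +kernel), show chevG2.commTerms 6 7 =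
    [(8, 1, 1, 1), (9, 1, 1, 2), (10, -1, 1, 3), (11, -2, 2, 3)] by decide +kernel]
  simp [mul_assoc]

theorem c610 (y u : F) : C.xg F 6 y * C.xg F 10 u * (C.xg F 6 y)⁻¹ =
    C.xg F 10 u * C.xg F 11 (y * u) := by
  rw [cx C (by decide) (by decide) (by decide) (by decide +kernel),
    show chevG2.commTerms 6 10 = [(11, 1, 1, 1)] by decide +kernel]
  simp

/-- The elements of `X_{2a+b} X_{3a+b} X_{3a+2b}`. -/
noncomputable def ee (C : Cert chevG2) (s a b : F) : chevG2.group F :=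
  C.xg F 9 s * C.xg F 10 a * C.xg F 11 b

theorem c78 (y u : F) : C.xg F 7 y * C.xg F 8 u * (C.xg F 7 y)⁻¹ =
    C.xg F 8 u * ee C (-2 * y * u) (-3 * y ^ 2 * u) (3 * y * u ^ 2) := by
  rw [cx C (by decide) (by decide) (by decide) (by decide +kernel), show chevG2.commTerms 7 8 =
    [(9, -2, 1, 1), (10, -3, 2, 1), (11, 3, 1, 2)] by decide +kernel]
  simp [ee, mul_assoc]

theorem ee_mul (s a b s' a' b' : F) :
    ee C s a b * ee C s' a' b' = ee C (s + s') (a + a') (b + b') := by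
  have e1 := cm0 C (r := 11) (s := 9) (by decide +kernel) b s'
  have e2 := cm0 C (r := 11) (s := 10) (by decide +kernel) b a'
  have e3 := cm0 C (r := 10) (s := 9) (by decide +kernel) a s'
  simp only [ee, Cert.xg_add]
  conv_rhs => rw [← e3, ← e1, ← e2]
  group

theorem ee_zero : ee C (0 : F) 0 0 = 1 := by simp [ee, Cert.xg_zero]

theorem ee_inv (s a b : F) : (ee C s a b)⁻¹ = ee C (-s) (-a) (-b) :=
  inv_eq_of_mul_eq_one_right (by rw [ee_mul]; simp [ee_zero])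

theorem c7e (y s a b : F) : C.xg F 7 y * ee C s a b * (C.xg F 7 y)⁻¹ = ee C s (3 * y * s + a) b := by
  have e1 : C.xg F 7 y * C.xg F 9 s * (C.xg F 7 y)⁻¹ = C.xg F 9 s * C.xg F 10 (3 * y * s) := by
    rw [cx C (by decide) (by decide) (by decide) (by decide +kernel),
      show chevG2.commTerms 7 9 = [(10, 3, 1, 1)] by decide +kernel]
    simp
  have e2 := cm0 C (r := 7) (s := 10) (by decide +kernel) y a
  have e3 := cm0 C (r := 7) (s := 11) (by decide +kernel) y b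
  rw [ee, ee, Cert.xg_add, ← mul_assoc (C.xg F 9 s), ← e1]
  conv_rhs => rw [← e2, ← e3]
  group

theorem c8e (y s a b : F) : C.xg F 8 y * ee C s a b * (C.xg F 8 y)⁻¹ = ee C s a (3 * y * s + b) := by
  have e1 : C.xg F 8 y * C.xg F 9 s * (C.xg F 8 y)⁻¹ = C.xg F 9 s * C.xg F 11 (3 * y * s) := by
    rw [cx C (by decide) (by decide) (by decide) (by decide +kernel),
      show chevG2.commTerms 8 9 = [(11, 3, 1, 1)] by decide +kernel]
    simp
  have e2 := cm0 C (r := 8) (s := 10) (by decide +kernel) y a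
  have e3 := cm0 C (r := 8) (s := 11) (by decide +kernel) y b
  have e4 := cm0 C (r := 11) (s := 10) (by decide +kernel) (3 * y * s) a
  calc C.xg F 8 y * ee C s a b * (C.xg F 8 y)⁻¹ = C.xg F 8 y * C.xg F 9 s * (C.xg F 8 y)⁻¹ *
        (C.xg F 8 y * C.xg F 10 a * (C.xg F 8 y)⁻¹) *
        (C.xg F 8 y * C.xg F 11 b * (C.xg F 8 y)⁻¹) := by rw [ee]; group
    _ = _ := by
      rw [e1, e2, e3, ee, Cert.xg_add]
      conv_rhs => rw [← e4]
      group

theorem ex_W {w : chevG2.group F} (hw : w ∈ cc F C 10) : ∃ a b, w = C.xg F 10 a * C.xg F 11 b := by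
  obtain ⟨a, h1⟩ := nf C (by norm_num) (by norm_num) hw
  obtain ⟨b, h2⟩ := nf C (by norm_num) (by norm_num) h1
  rw [cc_12, mem_bot, inv_mul_eq_one, eq_inv_mul_iff_mul_eq] at h2
  exact ⟨a, b, h2.symm⟩

theorem ex_K {k : chevG2.group F} (hk : k ∈ cc F C 9) : ∃ s a b, k = ee C s a b := by
  obtain ⟨s, h1⟩ := nf C (by norm_num) (by norm_num) hk
  obtain ⟨a, b, h2⟩ := ex_W C h1
  exact ⟨s, a, b, by rw [ee, mul_assoc, ← h2]; group⟩

theorem comm_rr (t u s a b s' a' b' : F) :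
    (C.xg F 8 u * ee C s' a' b')⁻¹ * (C.xg F 7 t * ee C s a b * (C.xg F 8 u * ee C s' a' b') *
      (C.xg F 7 t * ee C s a b)⁻¹) =
      ee C (-2 * t * u) (-3 * t ^ 2 * u + 3 * t * s') (3 * t * u ^ 2 - 3 * u * s) := by
  have e1 := c8e C (-u) s a b
  rw [Cert.xg_neg] at e1
  calc _ = (ee C s' a' b')⁻¹ * (C.xg F 8 u)⁻¹ * (C.xg F 7 t * C.xg F 8 u * (C.xg F 7 t)⁻¹) *
        (C.xg F 7 t * ((C.xg F 8 u)⁻¹ * ee C s a b * (C.xg F 8 u)⁻¹⁻¹ * ee C s' a' b' *
          (ee C s a b)⁻¹) * (C.xg F 7 t)⁻¹) := by group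
    _ = _ := by
      rw [e1, c78, mul_assoc (ee C s' a' b')⁻¹, inv_mul_cancel_left, ee_inv, ee_inv, ee_mul,
        ee_mul, ee_mul, c7e, ee_mul]
      congr 1 <;> ring

theorem comm_rd (t s a b s' a' b' : F) :
    (ee C s' a' b')⁻¹ * (C.xg F 7 t * ee C s a b * ee C s' a' b' * (C.xg F 7 t * ee C s a b)⁻¹) =
      C.xg F 10 (3 * t * s') * C.xg F 11 0 * 1 := by
  calc _ = (ee C s' a' b')⁻¹ *
        (C.xg F 7 t * (ee C s a b * ee C s' a' b' * (ee C s a b)⁻¹) * (C.xg F 7 t)⁻¹) := by group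
    _ = ee C 0 (3 * t * s') 0 := by
      rw [ee_inv, ee_inv, ee_mul, ee_mul, c7e, ee_mul]
      congr 1 <;> ring
    _ = _ := by rw [ee, Cert.xg_zero, one_mul, mul_one]

theorem mp_bot {x x' : F → chevG2.group F} {g : chevG2.group F} {c : F} (hc : c ≠ 0)
    (h : ∀ t, g * x t * g⁻¹ = x' (c * t)) : Mp ⊥ x x' g :=
  ⟨fun k hk => by rw [mem_bot.1 hk]; simp, c, hc, fun t => by rw [h]; simp⟩

section

variable [Finite F] {H : Subgroup (chevG2.group F)} (hF : ∃ a : F, a ≠ 0 ∧ a ≠ 1) (hH : H ≠ ⊤)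
  (ft : ∀ g, ∃ h ∈ H, ∃ b ∈ (C.split F).B, g = h * b)
include hF hH ft

omit hF hH [Finite F] in
theorem ex_h {K : Subgroup (chevG2.group F)} {x x' x'' : F → chevG2.group F}
    (hB : ∀ b ∈ (C.split F).B, Mp K x x b) {n g : chevG2.group F} (hn : Mp K x x' n)
    (hg : Mp K x' x'' g) : ∃ h ∈ H, Mp K x x'' h := by
  obtain ⟨h, hh, b, hb, e⟩ := ft (g * n)
  exact ⟨h, hh, (eq_mul_inv_of_mul_eq e.symm) ▸ (hg.mul hn).mul (hB _ (inv_mem hb))⟩

theorem nat_bot {r s : ℕ} (hs : s < 12) (hB : ∀ b ∈ (C.split F).B, Mp ⊥ (C.xg F s) (C.xg F s) b)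
    (cm : ∀ y u, C.xg F r y * C.xg F s u * (C.xg F r y)⁻¹ = C.xg F s u) (i : Fin chevG2.rank)
    (hi : chevG2.reflectRoot i s = r) (j : ℕ)
    (hj : ∀ y t, C.xg F j y * C.xg F r t * (C.xg F j y)⁻¹ = C.xg F r t * C.xg F s (y * t)) :
    ∀ u v, C.xg F r u * C.xg F s v * 1 ∈ H → u = 0 ∧ v = 0 := by
  have := (S1055.result hF).1
  have : Finite (chevG2.group F) := by
    have := Fintype.ofFinite F
    classical infer_instance
  obtain ⟨n, hn⟩ := ex_n (F := F) C i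
  obtain ⟨c, hc, e⟩ := hn s hs
  rw [hi] at e
  have b1 : ∀ g : chevG2.group F, ∀ k ∈ (⊥ : Subgroup (chevG2.group F)),
      g * k * g⁻¹ ∈ (⊥ : Subgroup (chevG2.group F)) := fun g k hk => by rw [mem_bot.1 hk]; simp
  rcases ari (K := ⊥) (H := H) (Cert.xg_add (C := C) r) (Cert.xg_add (C := C) s) (fun _ => b1 _)
    (fun _ => b1 _) (fun y u => by rw [cm]; simp) (fun y => ex_h C ft hB (mp_bot hc e)
      (mp_bot (g := C.xg F j y) one_ne_zero fun t => by rw [hj, one_mul])) with h | h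
  · exact fun u v => h u v 1 (one_mem _)
  · refine absurd (full ft hB (mt (Cert.xg_eq_one_iff hs).1 one_ne_zero) fun t => ?_) hH
    obtain ⟨k, hk, h1⟩ := h 0 t
    rwa [mem_bot.1 hk, Cert.xg_zero, one_mul, mul_one] at h1

theorem hW : ∀ u v, C.xg F 10 u * C.xg F 11 v * 1 ∈ H → u = 0 ∧ v = 0 :=
  nat_bot C hF hH ft (by norm_num) (cc_12 (F := F) C ▸ mp_cc C (by norm_num) (by norm_num))
    (cm0 C (by decide +kernel)) (1 : Fin 2) (by decide +kernel) 6 (c610 C)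

theorem hW3 (h3 : (3 : F) = 0) : ∀ u v, C.xg F 8 u * C.xg F 9 v * 1 ∈ H → u = 0 ∧ v = 0 := by
  have k : ∀ r, 6 ≤ r → r < 12 → ∀ y u : F,
      C.xg F r y * C.xg F 9 u * (C.xg F r y)⁻¹ = C.xg F 9 u := fun r h1 h2 y u => by
    have e : ∀ s, ee C s (0 : F) 0 = C.xg F 9 s := fun s => by simp [ee, Cert.xg_zero]
    interval_cases r
    · exact cm0 C (by decide +kernel) y u
    · rw [← e, c7e, h3]; simp
    · rw [← e, c8e, h3]; simp
    · exact cx_self C 9 y u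
    · exact cm0 C (by decide +kernel) y u
    · exact cm0 C (by decide +kernel) y u
  refine nat_bot C hF hH ft (by norm_num) (mp_B C (by norm_num)
    (fun r h1 h2 y => mp_bot one_ne_zero fun t => by rw [k r h1 h2, one_mul])
    fun h _ k hk => by rw [mem_bot.1 hk]; simp) (k 8 (by norm_num) (by norm_num)) (0 : Fin 2)
    (by decide +kernel) 7 fun y t => ?_
  have e2 : (-2 : F) = 1 := by linear_combination -h3
  have e3 : (-3 : F) = 0 := by linear_combination -h3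
  rw [c78, e2, e3, h3]
  simp [ee, Cert.xg_zero]

theorem hY : ∀ u v, ∀ k ∈ cc F C 9, C.xg F 7 u * C.xg F 8 v * k ∈ H → u = 0 ∧ v = 0 := by
  have : Finite (chevG2.group F) := by
    have := Fintype.ofFinite F
    classical infer_instance
  obtain ⟨n, hn⟩ := ex_n (F := F) C (1 : Fin 2)
  have mn : Mp (cc F C 9) (C.xg F 8) (C.xg F 7) n := by
    refine ⟨nm_cc C fun r h1 h2 t => ?_, ?_⟩
    · obtain ⟨c, -, e⟩ := hn r h2
      have : ∀ r < 12, 9 ≤ r → 9 ≤ chevG2.reflectRoot (1 : Fin 2) r ∧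
        chevG2.reflectRoot (1 : Fin 2) r < 12 := by decide +kernel
      rw [e]
      exact mem_cc C (this r h2 h1).1 (this r h2 h1).2 _
    · obtain ⟨c, hc, e⟩ := hn 8 (by norm_num)
      refine ⟨c, hc, fun t => ?_⟩
      rw [e, show chevG2.reflectRoot (1 : Fin 2) 8 = 7 by decide +kernel, inv_mul_cancel]
      exact one_mem _
  refine (ari (H := H) (Cert.xg_add (C := C) 7) (Cert.xg_add (C := C) 8)
    (nm_x C (by norm_num) (by norm_num) (by norm_num))
    (nm_x C (by norm_num) (by norm_num) (by norm_num))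
    (fun y u => cx_mem C (by norm_num) (by norm_num) (by norm_num) (by norm_num) y u)
    (fun y => ex_h C ft (mp_cc C (by norm_num) (by norm_num)) mn (g := C.xg F 6 y)
      ⟨nm_x C (by norm_num) (by norm_num) (by norm_num) y, 1, one_ne_zero, fun t => by
        rw [c67, one_mul, inv_mul_cancel_left]
        exact mul_mem (mul_mem (mem_cc C (by norm_num) (by norm_num) _)
          (mem_cc C (by norm_num) (by norm_num) _)) (mem_cc C (by norm_num) (by norm_num) _)⟩)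
    ).resolve_right fun h => ?_
  obtain ⟨k', hk', r'⟩ := h 0 1
  obtain ⟨s', a', b', rfl⟩ := ex_K C hk'
  rw [Cert.xg_zero, one_mul] at r'
  have key : ∀ t, ∃ s a b, C.xg F 7 t * ee C s a b ∈ H ∧
      ee C (-2 * t * 1) (-3 * t ^ 2 * 1 + 3 * t * s') (3 * t * 1 ^ 2 - 3 * 1 * s) ∈ H := fun t => by
    obtain ⟨k, hk, r⟩ := h t 0
    obtain ⟨s, a, b, rfl⟩ := ex_K C hk
    rw [Cert.xg_zero, mul_one] at r
    exact ⟨s, a, b, r, comm_rr C t 1 s a b s' a' b' ▸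
      mul_mem (inv_mem r') (mul_mem (mul_mem r r') (inv_mem r))⟩
  obtain ⟨s, a, b, r, d⟩ := key 1
  have h6 := (hW C hF hH ft _ _ (comm_rd C 1 s a b _ _ _ ▸
    mul_mem (inv_mem d) (mul_mem (mul_mem r d) (inv_mem r)))).1
  rcases mul_eq_zero.1 (show (2 : F) * 3 = 0 by linear_combination -h6) with h2 | h3
  · have k2 : ∀ t : F, t ≠ 0 → t = s' := fun t ht => by
      obtain ⟨s, a, b, -, d⟩ := key t
      rw [show -2 * t * 1 = 0 by linear_combination -t * h2, ee, Cert.xg_zero, one_mul] at d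
      have := (hW C hF hH ft _ _ (by rwa [mul_one])).1
      refine mul_left_cancel₀ ht ?_
      linear_combination -this + (t * s' - t ^ 2) * h2
    obtain ⟨c, c0, c1⟩ := hF
    exact c1 ((k2 c c0).trans (k2 1 one_ne_zero).symm)
  · rw [show (-3 : F) * 1 ^ 2 * 1 + 3 * 1 * s' = 0 by linear_combination (s' - 1) * h3,
      show (3 : F) * 1 * 1 ^ 2 - 3 * 1 * s = 0 by linear_combination (1 - s) * h3, ee,
      Cert.xg_zero, Cert.xg_zero, mul_one] at d
    have := (hW3 C hF hH ft h3 0 _ (by rwa [Cert.xg_zero, one_mul])).2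
    exact one_ne_zero (show (1 : F) = 0 by linear_combination h3 + this)

end

theorem g2v : H74.Cks.G2vStmt := by
  intro F _ _ p _ _ h3 H hH ft
  classical
  let C : Cert chevG2 := cert (by simp)
  have hF : ∃ a : F, a ≠ 0 ∧ a ≠ 1 := by
    by_contra hc
    have : (Finset.univ : Finset F) ⊆ {0, 1} := fun a _ => by
      by_contra h
      simp only [Finset.mem_insert, Finset.mem_singleton, not_or] at h
      exact hc ⟨a, h⟩
    have := (Finset.card_le_card this).trans Finset.card_le_two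
    rw [Finset.card_univ] at this
    omega
  obtain ⟨U, hU⟩ := S2326.result (F := F) p chevG2 (by simp)
  have eU : (U : Subgroup (chevG2.group F)) = (C.split F).Up := by
    rw [hU]; ext g; exact Cert.mem_Up.symm
  have ft' : ∀ g, ∃ h ∈ H, ∃ b ∈ (C.split F).B, g = h * b := fun g => by
    have := ft U g
    rwa [eU, H40.normalizer_Up] at this
  refine ⟨U, ?_⟩
  rw [eU]
  have k1 := card_le_cover (V := (C.split F).Up ⊓ H) (N := cc F C 7) (C.xg F 6) fun v hv =>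
    nf C (by norm_num) (by norm_num) (Up_le C hv.1)
  have k2 := card_le_cover (V := (C.split F).Up ⊓ H ⊓ cc F C 7) (N := cc F C 10) (C.xg F 9)
    fun v hv => by
      obtain ⟨t, h1⟩ := nf C (by norm_num) (by norm_num) hv.2
      obtain ⟨u, h2⟩ := nf C (by norm_num) (by norm_num) h1
      obtain ⟨rfl, rfl⟩ := hY C hF hH ft' t u _ h2 (by
        rw [mul_assoc, mul_inv_cancel_left, mul_inv_cancel_left]; exact hv.1.2)
      simp only [Cert.xg_zero, inv_one, one_mul] at h2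
      exact nf C (by norm_num) (by norm_num) h2
  have k3 : (C.split F).Up ⊓ H ⊓ cc F C 7 ⊓ cc F C 10 = ⊥ := eq_bot_iff.2 fun v hv => by
    obtain ⟨a, b, e⟩ := ex_W C hv.2
    obtain ⟨rfl, rfl⟩ := hW C hF hH ft' a b (by rw [mul_one, ← e]; exact hv.1.1.2)
    rw [e, Cert.xg_zero, Cert.xg_zero, mul_one]
    exact one_mem _
  rw [k3, card_bot, mul_one] at k2
  rw [← Nat.card_eq_fintype_card, sq]
  exact k1.trans (Nat.mul_le_mul_left _ k2)

theorem eqns_ckG2v : True := by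
  have := @cc.eq_1
  have := @ee.eq_1
  trivial

end Cfsg.Agent.H19.CkG
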