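import Cfsg.Agent.H96.D4Defs
import Cfsg.Agent.H83.Base

/-!
# Project D4F, pieces TRM and TK
-/

set_option autoImplicit false
set_option linter.style.haveILetI false

namespace Cfsg.Agent.H19.D4Tk

open Cfsg.Agent.H96.CP Cfsg.Agent.H96.DF Subgroup

universe u

/-- **D4F-TRM** -/
theorem trm : TrmStmt.{u} := by
  intro D _ _ M _ _ T B hTB hf m hm
  classical
  haveI := Fintype.ofFinite (D ⧸ B)
  haveI := Fintype.ofFinite T
  let f : D ⧸ B → M := fun q => q.out • m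
  have f1 : ∀ g : D, f (g : D ⧸ B) = g • m := fun g => by
    obtain ⟨b, hb⟩ := QuotientGroup.mk_out_eq_mul B g
    simp only [f]
    rw [hb, mul_smul, hm b b.2]
  have f2 : ∀ (d : D) q, f (d • q) = d • f q := fun d q => by
    obtain ⟨g, rfl⟩ := QuotientGroup.mk_surjective q
    rw [MulAction.Quotient.smul_mk, f1, f1, smul_eq_mul, mul_smul]
  let π : D ⧸ B → MulAction.orbitRel.Quotient T (D ⧸ B) := Quotient.mk _
  haveI := Fintype.ofFinite (MulAction.orbitRel.Quotient T (D ⧸ B))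
  have p1 : ∀ x y, π x = π y ↔ ∃ t : T, t • y = x := fun x y => Quotient.eq
  have p0 : ∀ x, π x = π ((1 : D) : D ⧸ B) ↔ x = ((1 : D) : D ⧸ B) := fun x => by
    refine ⟨fun h => ?_, fun h => by rw [h]⟩
    obtain ⟨t, rfl⟩ := (p1 _ _).1 h
    exact QuotientGroup.eq.2 (by simpa using hTB t.2)
  have key : ∑ q, f q = m + ∑ g ∈ (Finset.univ.erase (π ((1 : D) : D ⧸ B))).image fun ω => ω.out.out,
      ∑ᶠ t : T, (t : D) • g • m := by
    rw [← Finset.sum_fiberwise Finset.univ π, ← Finset.add_sum_erase _ _ (Finset.mem_univ (π ((1 : D) : D ⧸ B))),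
      Finset.sum_image fun _ _ _ _ e => Quotient.out_injective (Quotient.out_injective e)]
    congr 1
    · rw [Finset.sum_eq_single_of_mem ((1 : D) : D ⧸ B) (by simp) fun x hx h =>
        absurd ((p0 x).1 (Finset.mem_filter.1 hx).2) h, f1, one_smul]
    refine Finset.sum_congr rfl fun ω hω => ?_
    have h1 : π ω.out = ω := Quotient.out_eq ω
    have h2 : ω.out.out ∉ B := fun h => (Finset.mem_erase.1 hω).1 (by
      rw [← h1, p0, ← QuotientGroup.out_eq' ω.out]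
      exact QuotientGroup.eq.2 (by simpa using h))
    rw [finsum_eq_sum_of_fintype]
    refine (Finset.sum_bij (fun (t : T) _ => t • ω.out) (fun t _ => ?_) (fun s _ t _ e => ?_)
      (fun x hx => ?_) fun t _ => (f2 t ω.out).symm).symm
    · exact Finset.mem_filter.2 ⟨Finset.mem_univ _, ((p1 _ _).2 ⟨t, rfl⟩).trans h1⟩
    · rw [← QuotientGroup.out_eq' ω.out] at e
      have h3 := QuotientGroup.eq.1 (show ((s * ω.out.out : D) : D ⧸ B) = ((t * ω.out.out : D) : D ⧸ B) from e)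
      have h4 := hf _ h2 _ (s⁻¹ * t).2 (by simpa [mul_assoc] using h3)
      exact inv_mul_eq_one.1 (Subtype.ext h4)
    · obtain ⟨t, ht⟩ := (p1 x ω.out).1 ((Finset.mem_filter.1 hx).2.trans h1.symm)
      exact ⟨t, Finset.mem_univ _, ht⟩
  refine ⟨(Finset.univ.erase (π ((1 : D) : D ⧸ B))).image fun ω => ω.out.out, fun d => ?_⟩
  rw [← key, Finset.smul_sum]
  simp only [← f2]
  exact Equiv.sum_comp (MulAction.toPerm d) f

variable {F K : Type u} [Field F] [Field K] [Algebra F K] {C : Tri F K}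

theorem ρ_inj {s t : K} (h : ρ C s = ρ C t) : s = t := by
  simpa [ρ_apply, rmap, e3] using congrArg (fun g : V F K ≃ₗ[F] V F K => (g e3).2.2.1) h

theorem ρ_pow (t : K) (n : ℕ) : ρ C t ^ n = ρ C (n * t) := by
  induction n with
  | zero => simp [ρ_zero]
  | succ n ih => rw [pow_succ, ih, ← ρ_add]; push_cast; rw [add_one_mul]

/-- **D4F-TK** -/
theorem tk [Finite K] {p : ℕ} [Fact p.Prime] [CharP F p] (hk : Kap C) : TkStmt C p := by
  intro D h
  classical
  haveI : Finite F := Finite.of_injective _ (algebraMap F K).injective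
  haveI : Finite (V F K ≃ₗ[F] V F K) :=
    Finite.of_injective (fun g => (g : V F K → V F K)) DFunLike.coe_injective
  haveI := Fintype.ofFinite K
  let T0 : Subgroup (V F K ≃ₗ[F] V F K) :=
    { carrier := {g | ∃ t, g = ρ C t}
      one_mem' := ⟨0, (ρ_zero C).symm⟩
      mul_mem' := by rintro _ _ ⟨s, rfl⟩ ⟨t, rfl⟩; exact ⟨_, (ρ_add C s t).symm⟩
      inv_mem' := by rintro _ ⟨s, rfl⟩; exact ⟨_, ρ_inv C s⟩ }
  have pp : ∀ t, ρ C t ^ p ^ 1 = 1 := fun t => by
    rw [pow_one, ρ_pow, ← map_natCast (algebraMap F K), CharP.cast_eq_zero, map_zero, zero_mul, ρ_zero]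
  have pT : IsPGroup p T0 := H83.isPGroup_iff.2 (by rintro _ ⟨t, rfl⟩; exact ⟨1, pp t⟩)
  have nv : ∀ d, d ∈ normalizer (T0 : Set (V F K ≃ₗ[F] V F K)) ↔ NV C d := fun d =>
    ⟨fun hd t => (mem_normalizer_iff.1 hd _).1 ⟨t, rfl⟩, fun hd =>
      mem_normalizer_fintype (by rintro _ ⟨t, rfl⟩; exact hd t)⟩
  letI : DistribMulAction D (V F K → V F K → V F K → V F K → F) :=
    { smul := fun g φ a b c d => φ (g.1⁻¹ a) (g.1⁻¹ b) (g.1⁻¹ c) (g.1⁻¹ d)
      one_smul := fun _ => rfl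
      mul_smul := fun _ _ _ => rfl
      smul_zero := fun _ => rfl
      smul_add := fun _ _ _ => rfl }
  have act : ∀ (g : D) (φ : V F K → V F K → V F K → V F K → F) a b c d,
      (g • φ) a b c d = φ (g.1⁻¹ a) (g.1⁻¹ b) (g.1⁻¹ c) (g.1⁻¹ d) := fun _ _ _ _ _ _ => rfl
  obtain ⟨I, hI⟩ := trm D (V F K → V F K → V F K → V F K → F) (T0.subgroupOf D)
    ((normalizer (T0 : Set (V F K ≃ₗ[F] V F K))).subgroupOf D) (fun g hg => le_normalizer hg)
    (fun g hg t ht e => by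
      obtain ⟨s, hs⟩ := ht
      have hs' : t.1 = ρ C s := hs
      have e' : g.1⁻¹ * ρ C s * g.1 ∈ normalizer (T0 : Set (V F K ≃ₗ[F] V F K)) := hs' ▸ e
      obtain ⟨r, hr⟩ := h.syl (zpowers (g.1⁻¹ * ρ C s * g.1) ⊔ T0)
        (sup_le (zpowers_le.2 (mul_mem (mul_mem (inv_mem g.2) (h.rho s)) g.2))
          (by rintro _ ⟨t, rfl⟩; exact h.rho t))
        (H83.isPGroup_sup (H83.isPGroup_zpowers (k := 1) (by
          rw [← inv_inv g.1, inv_inv g.1⁻¹, conj_pow, pp, mul_one, mul_inv_cancel])) pT (zpowers_le.2 e'))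
        (fun t => mem_sup_right ⟨t, rfl⟩) _ (mem_sup_left (mem_zpowers _))
      by_contra t1
      exact hg (inv_mem_iff.1 ((nv g.1⁻¹).2 (h.ti g.1⁻¹ (inv_mem g.2) s r
        (fun s0 => t1 (Subtype.ext (by rw [hs', s0, ρ_zero]; rfl))) (by rwa [inv_inv]))) :
          g.1 ∈ normalizer (T0 : Set (V F K ≃ₗ[F] V F K))))
    (kap C) fun b hb => by
      obtain ⟨t, c, θ, e, h1, -⟩ := h.nm _ (inv_mem b.2) ((nv _).1 (inv_mem hb))
      funext a b c d
      rw [act, e]
      simp only [LinearEquiv.mul_apply]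
      rw [hk.rho, hk.tor, hk.gal, h1, one_mul]
  haveI := Fintype.ofFinite (T0.subgroupOf D)
  refine ⟨∑ g ∈ I, ∑ᶠ t : T0.subgroupOf D, (t : D) • g • kap C,
    ⟨I.image fun g => g.1⁻¹, fun a b c d => ?_⟩, fun g hg a b c d => ?_⟩
  · rw [Finset.sum_image fun _ _ _ _ e => Subtype.ext (inv_injective e)]
    simp only [Finset.sum_apply, finsum_eq_sum_of_fintype, act]
    refine Finset.sum_congr rfl fun g _ => (Fintype.sum_bijective
      (fun s => ⟨⟨ρ C (-s), h.rho _⟩, ⟨-s, rfl⟩⟩) ⟨fun s t e => ?_, ?_⟩ _ _ fun s => ?_).symm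
    · exact neg_injective (ρ_inj (congrArg (fun x => x.1.1) e))
    · rintro ⟨t, s, hs⟩
      exact ⟨-s, Subtype.ext (Subtype.ext ((congrArg (ρ C) (neg_neg s)).trans hs.symm))⟩
    · simp only [ρ_inv, neg_neg]
  · simpa only [act, Pi.add_apply, coe_inv, inv_inv] using
      congrFun (congrFun (congrFun (congrFun (hI (⟨g, hg⟩ : D)⁻¹) a) b) c) d

end Cfsg.Agent.H19.D4Tk
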