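import Cfsg.Agent.H19.PowFixed
import Cfsg.Agent.H72.DetExt
import Cfsg.Prelude.Def_Transfer

/-! Determinants and Galois action; canonical extensions are Galois invariant. -/

namespace Cfsg.Agent.H19

open Cfsg
open scoped ComplexConjugate

universe u

variable {G : Type u} [Group G] [Finite G]

theorem detChar_gal {χ : G → ℂ} (hχ : IsCharacter G χ) (σ : ℂ →+* ℂ) (g : G) :
    detChar (fun g => σ (χ g)) g = σ (detChar χ g) := by
  obtain ⟨n, ρ, rfl⟩ := hχ
  have : (fun g => σ (ρ.character g)) = (H12.galRep ρ σ).character :=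
    funext fun g => (H12.galRep_character ρ σ g).symm
  rw [this, H72.detChar_character, H72.detChar_character]
  change LinearMap.det (Matrix.toLin' ((LinearMap.toMatrix' (ρ g)).map σ)) = _
  rw [LinearMap.det_toLin', ← LinearMap.det_toMatrix', RingHom.map_det]
  rfl

theorem detChar_comp_pow {χ : G → ℂ} (hχ : IsCharacter G χ) {k : ℕ}
    (hk : k.Coprime (Nat.card G)) (g : G) :
    detChar (fun g => χ (g ^ k)) g = detChar χ (g ^ k) := by
  obtain ⟨σ, hσ⟩ := H12.exists_ringEquiv_character_pow hk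
  have : (fun g => χ (g ^ k)) = fun g => σ.toRingHom (χ g) := funext fun g => (hσ χ hχ g).symm
  rw [this, detChar_gal hχ]
  exact hσ _ (H72.isCharacter_detChar hχ).1 g

theorem detChar_conj {χ : G → ℂ} (hχ : IsCharacter G χ) (g : G) :
    detChar (fun g => conj (χ g)) g = conj (detChar χ g) :=
  detChar_gal hχ (starRingEnd ℂ) g

/-- The canonical extension of a fixed character is fixed. -/
theorem exists_fixed_ext_of_coprime (N : Subgroup G) [hN : N.Normal] {θ : N → ℂ}
    (hθ : IsIrrCharacter N θ)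
    (hinv : ∀ (g : G) (n : N), θ ⟨g * n * g⁻¹, hN.conj_mem n n.2 g⟩ = θ n) {d : ℕ} (hd : θ 1 = d)
    (hcop : N.index.Coprime (detOrder θ * d)) :
    ∃ χ : G → ℂ, IsIrrCharacter G χ ∧ (∀ n : N, χ n = θ n) ∧ detChar χ ^ detOrder θ = 1 ∧
      ∀ k : ℕ, k.Coprime (Nat.card G) → (∀ n, θ (n ^ k) = θ n) → ∀ g, χ (g ^ k) = χ g := by
  obtain ⟨χ, hχ, hχθ, hdet⟩ := H72.exists_irr_extension_of_coprime N hθ hinv hd hcop
  refine ⟨χ, hχ, hχθ, hdet, fun k hk hfix => ?_⟩
  have hc := H11.isCharacter_of_irr hχ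
  have hres : (fun n : N => χ n) = θ := funext hχθ
  have h1 : χ 1 = d := by rw [← hd, ← hχθ]; rfl
  have := H72.extension_unique_of_det N hc (H12.isCharacter_comp_pow hc hk) (hres ▸ hθ)
    (fun n => by rw [← SubgroupClass.coe_pow, hχθ, hχθ, hfix]) h1
    (hcop.coprime_dvd_right (dvd_mul_left _ _)) ?_
  · exact fun g => congrFun this g
  obtain ⟨μ, hμ⟩ := H72.exists_monoidHom_detChar hc
  funext g
  rw [detChar_comp_pow hc hk, hμ]
  have hN1 : ∀ n ∈ N, (μ ^ k * μ⁻¹) n = 1 := by
    intro n hn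
    have h2 := H72.detChar_of_res N hc hχθ
    have h3 := detChar_comp_pow (H11.isCharacter_of_irr hθ) (coprime_subgroup hk N) ⟨n, hn⟩
    rw [show (fun n => θ (n ^ k)) = θ from funext hfix, ← h2, ← h2, hμ] at h3
    simp only [SubmonoidClass.mk_pow, map_pow, Units.val_inj] at h3
    simp [← h3]
  have h4 := H72.pow_index_eq_one_of_trivial N (μ ^ k * μ⁻¹) hN1 g
  have h5 : μ g ^ detOrder θ = 1 := by
    have := congrFun hdet g
    rw [hμ] at this
    exact Units.ext (by simpa using this)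
  have h6 : (μ ^ k * μ⁻¹) g ^ detOrder θ = 1 := by
    simp only [MonoidHom.mul_apply, MonoidHom.pow_apply, MonoidHom.inv_apply, mul_pow, inv_pow]
    rw [← pow_mul, mul_comm k, pow_mul, h5]
    simp
  have h7 : (μ ^ k * μ⁻¹) g = 1 := by
    have := pow_gcd_eq_one.2 ⟨h4, h6⟩
    rwa [(hcop.coprime_dvd_right (dvd_mul_right _ _)).gcd_eq_one, pow_one] at this
  simp only [MonoidHom.mul_apply, MonoidHom.pow_apply, MonoidHom.inv_apply,
    mul_inv_eq_one] at h7
  simp only [map_pow, h7]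

omit [Finite G] in
theorem monoidHom_pow_eq_one_of_pResidual {p : ℕ} (hG : pResidual p G = ⊤) (μ : G →* ℂˣ)
    {m : ℕ} (hm : ∀ g : G, (orderOf g).Coprime p → g ^ m = 1) (g : G) : μ g ^ m = 1 := by
  have : pResidual p G ≤ (μ ^ m).ker := by
    unfold pResidual
    rw [Subgroup.closure_le]
    intro x hx
    simp only [SetLike.mem_coe, MonoidHom.mem_ker, MonoidHom.pow_apply]
    rw [← map_pow, hm x hx, map_one]
  exact this (hG ▸ Subgroup.mem_top g)

theorem pow_ordCompl_eq_one {p : ℕ} {g : G} (hg : (orderOf g).Coprime p) :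
    g ^ (Nat.card G / p ^ (Nat.card G).factorization p) = 1 := by
  rw [← orderOf_dvd_iff_pow_eq_one]
  have h2 : orderOf g ∣ p ^ (Nat.card G).factorization p *
      (Nat.card G / p ^ (Nat.card G).factorization p) := by
    rw [Nat.ordProj_mul_ordCompl_eq_self]; exact orderOf_dvd_natCard g
  exact (hg.pow_right _).dvd_of_dvd_mul_left h2

theorem not_dvd_detOrder_of_pResidual {p : ℕ} (hp : p.Prime) (hG : pResidual p G = ⊤)
    {θ : G → ℂ} (hθ : IsCharacter G θ) : ¬ p ∣ detOrder θ := by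
  obtain ⟨μ, hμ⟩ := H72.exists_monoidHom_detChar hθ
  have h1 : detOrder θ ∣ Nat.card G / p ^ (Nat.card G).factorization p := by
    unfold detOrder
    rw [orderOf_dvd_iff_pow_eq_one, hμ]
    funext g
    have := monoidHom_pow_eq_one_of_pResidual hG μ (fun g hg => pow_ordCompl_eq_one hg) g
    rw [Pi.pow_apply, ← Units.val_pow_eq_pow_val, this]; rfl
  exact fun h => Nat.not_dvd_ordCompl hp Nat.card_pos.ne' (h.trans h1)

/-- The number of linear characters of order dividing `m` of a cyclic quotient. -/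
theorem card_linear_pow_eq_one (N : Subgroup G) [N.Normal] (hcyc : IsCyclic (G ⧸ N)) {m : ℕ}
    (hm : m ∣ N.index) :
    Nat.card {lam : G →* ℂˣ // (∀ n ∈ N, lam n = 1) ∧ ∀ g, lam g ^ m = 1} = m := by
  haveI : NeZero m := ⟨ne_zero_of_dvd_ne_zero Subgroup.index_ne_zero_of_finite hm⟩
  obtain ⟨s', hs'⟩ := IsCyclic.exists_generator (α := G ⧸ N)
  obtain ⟨s, rfl⟩ := QuotientGroup.mk_surjective s'
  conv_rhs => rw [← Complex.card_rootsOfUnity m]
  have hgen : ∀ x : G, ∃ n ∈ N, ∃ i : ℤ, x = n * s ^ i := by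
    intro x
    obtain ⟨i, hi⟩ := Subgroup.mem_zpowers_iff.1 (hs' x)
    refine ⟨x * (s ^ i)⁻¹, ?_, i, by simp⟩
    rw [← QuotientGroup.eq_one_iff, QuotientGroup.mk_mul, QuotientGroup.mk_inv,
      QuotientGroup.mk_zpow, hi, mul_inv_cancel]
  refine Nat.card_congr (Equiv.ofBijective (fun lam => ⟨lam.1 s, lam.2.2 s⟩) ⟨?_, ?_⟩)
  · intro a b h
    have h' : a.1 s = b.1 s := congrArg Subtype.val h
    refine Subtype.ext (MonoidHom.ext fun x => ?_)
    obtain ⟨n, hn, i, rfl⟩ := hgen x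
    rw [map_mul, map_mul, a.2.1 n hn, b.2.1 n hn, map_zpow, map_zpow, h']
  · rintro ⟨ζ, hζ⟩
    have hζ' : ζ ^ m = 1 := hζ
    have hd : orderOf ζ ∣ orderOf (s : G ⧸ N) := by
      rw [orderOf_eq_card_of_forall_mem_zpowers hs']
      exact (orderOf_dvd_of_pow_eq_one hζ').trans hm
    have hs : monoidHomOfForallMemZpowers hs' hd (s : G ⧸ N) = ζ :=
      monoidHomOfForallMemZpowers_apply_gen hs' hd
    refine ⟨⟨(monoidHomOfForallMemZpowers hs' hd).comp (QuotientGroup.mk' N), fun n hn => ?_,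
      fun g => ?_⟩, Subtype.ext hs⟩
    · rw [MonoidHom.comp_apply, QuotientGroup.mk'_apply, (QuotientGroup.eq_one_iff n).2 hn, map_one]
    · obtain ⟨n, hn, i, rfl⟩ := hgen g
      rw [MonoidHom.comp_apply, QuotientGroup.mk'_apply, QuotientGroup.mk_mul,
        (QuotientGroup.eq_one_iff n).2 hn, one_mul, QuotientGroup.mk_zpow, map_zpow, hs,
        ← zpow_natCast, ← zpow_mul, mul_comm, zpow_mul, zpow_natCast, hζ', one_zpow]

/-- A character of `p'`-degree restricts irreducibly to a normal subgroup with cyclic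
`p`-quotient. -/
theorem isIrr_res_of_not_dvd_of_cyclic {p c : ℕ} (hp : p.Prime) (N : Subgroup G) [N.Normal]
    (hcyc : IsCyclic (G ⧸ N)) (hc : N.index = p ^ c) (χ : IrrCharacter G)
    (hχ : ¬ p ∣ charDegree χ.1) : IsIrrCharacter N (fun n : N => χ.1 n) := by
  letI := Fintype.ofFinite G
  letI : Fintype N := Fintype.ofFinite N
  obtain ⟨θ, hθ, hover⟩ := H14.exists_irr_under N χ.2
  have hdeg := H14.clifford_degree N χ.2 hθ hover
  obtain ⟨e, he⟩ := H11.exists_nat_classInner
    (H11.isCharacter_restrict (H11.irr_isCharacter χ) N) (H11.isCharacter_of_irr hθ)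
  obtain ⟨d, hd⟩ := H11.exists_nat_degree (H11.isCharacter_of_irr hθ)
  rw [he, hd, ← charDegree_cast_irr] at hdeg
  have hdeg' : charDegree χ.1 = e * (H14.inertia N θ).index * d := by exact_mod_cast hdeg
  have ht : (H14.inertia N θ).index = 1 := by
    have h1 : (H14.inertia N θ).index ∣ p ^ c :=
      hc ▸ Subgroup.index_dvd_of_le (H14.le_inertia N (H11.isClassFunction_of_irr hθ))
    obtain ⟨i, -, hi⟩ := (Nat.dvd_prime_pow hp).1 h1
    rcases i with _ | i
    · simpa using hi
    · exfalso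
      apply hχ
      rw [hdeg', hi, pow_succ]
      exact Dvd.dvd.mul_right (Dvd.dvd.mul_left (dvd_mul_left _ _) _) _
  have hinv := (H14.inertia_eq_top_iff N).1 (Subgroup.index_eq_one.1 ht)
  obtain ⟨s, hs⟩ := H23.exists_generator_of_isCyclic_quotient N hcyc
  obtain ⟨η, hη, hηθ⟩ := H23.exists_irr_extension N s hs hθ (hinv s)
  have hres : (fun n : N => η n) = θ := funext hηθ
  have hcomm : commutator G ≤ N := by
    rw [commutator_def, Subgroup.commutator_le]
    intro a _ b _
    rw [← QuotientGroup.eq_one_iff]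
    have := map_commutatorElement (QuotientGroup.mk' N) a b
    rw [QuotientGroup.mk'_apply] at this
    rw [this, commutatorElement_eq_one_iff_mul_comm]
    exact (IsCyclic.commutative.is_comm).comm _ _
  rw [H14.res_eq_of_ext_of_commutator_le N hcomm hη (hres ▸ hθ) χ.2 (hres ▸ hover), hres]
  exact hθ

end Cfsg.Agent.H19
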