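import Cfsg.Agent.H53.DgDefs
import Cfsg.Agent.H22.CuspD
import Cfsg.Agent.H19.GaloisNum

/-!
# Cuspidal characters of linear groups attached to powers of a faithful character
-/

set_option autoImplicit false

namespace Cfsg.Agent.H19.DgCu

open Polynomial Module Cfsg Cfsg.Agent.H19 Cfsg.Agent.H22.Cusp Cfsg.Agent.H53.Dg
open scoped ComplexConjugate MatrixGroups TensorProduct

section Spec

variable {k V : Type*} [Field k] [IsAlgClosed k] [AddCommGroup V] [Module k V]
  [FiniteDimensional k V]

theorem det_aeval (f : End k V) (P : k[X]) :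
    LinearMap.det (aeval f P) = (f.charpoly.roots.map fun a => eval a P).prod := by
  let φ : k[X] →* k := LinearMap.det.comp (aeval f : k[X] →ₐ[k] End k V).toMonoidHom
  let ψ : k[X] →* k :=
    { toFun := fun P => (f.charpoly.roots.map fun a => eval a P).prod
      map_one' := by simp
      map_mul' := fun P Q => by simp [Multiset.prod_map_mul] }
  have hs : f.charpoly.Splits := IsAlgClosed.splits _
  have hC : ∀ a : k, φ (C a) = ψ (C a) := fun a => by
    change LinearMap.det (aeval f (C a)) = (f.charpoly.roots.map fun b => eval b (C a)).prod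
    rw [aeval_C, Algebra.algebraMap_eq_smul_one, LinearMap.det_smul, map_one, mul_one]
    simp [← hs.natDegree_eq_card_roots, LinearMap.charpoly_natDegree]
  have hX : ∀ b : k, φ (C b - X) = ψ (C b - X) := fun b => by
    change LinearMap.det (aeval f (C b - X)) =
      (f.charpoly.roots.map fun a => eval a (C b - X)).prod
    rw [map_sub, aeval_C, aeval_X, ← LinearMap.eval_charpoly,
      hs.eval_eq_prod_roots_of_monic f.charpoly_monic]
    simp
  have hX' : ∀ b : k, φ (X - C b) = ψ (X - C b) := fun b => by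
    rw [show (X - C b : k[X]) = C (-1) * (C b - X) by simp, map_mul, map_mul, hC, hX]
  change φ P = ψ P
  rw [(IsAlgClosed.splits P).eq_prod_roots, map_mul, map_mul, hC, map_multiset_prod,
    map_multiset_prod, Multiset.map_map, Multiset.map_map]
  congr 2
  exact Multiset.map_congr rfl fun b _ => hX' b

theorem roots_charpoly_aeval (f : End k V) (P : k[X]) :
    (aeval f P).charpoly.roots = f.charpoly.roots.map fun a => eval a P := by
  have : (aeval f P).charpoly =
      ((f.charpoly.roots.map fun a => eval a P).map fun a => X - C a).prod := by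
    refine Polynomial.funext fun x => ?_
    rw [LinearMap.eval_charpoly, ← aeval_C f, ← map_sub, det_aeval, eval_multiset_prod,
      Multiset.map_map, Multiset.map_map]
    simp
  rw [this, roots_multiset_prod_X_sub_C]

theorem roots_charpoly_pow (f : End k V) (u : ℕ) :
    (f ^ u).charpoly.roots = f.charpoly.roots.map (· ^ u) := by
  simpa using roots_charpoly_aeval f (X ^ u)

end Spec

theorem bT_pow {F k V : Type*} [Field F] [Field k] [IsAlgClosed k] [Algebra F k] [AddCommGroup V]
    [Module F V] [FiniteDimensional F V] (T : k → ℂ) (f : End F V) (u : ℕ) :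
    bT T (f ^ u).charpoly = bT (fun x => T (x ^ u)) f.charpoly := by
  rw [bT, bT, aroots_def, aroots_def, ← LinearMap.charpoly_baseChange,
    ← LinearMap.charpoly_baseChange, LinearMap.baseChange_pow, roots_charpoly_pow,
    Multiset.map_map]
  rfl

section Teich

variable {p : ℕ} {M : Ideal AlgInt} (hM : IsPModular p M)
include hM

theorem teich_one : teich p M 1 = 1 := by
  have := teich_red hM (z := 1) (m := 1) (fun h => hM.1.one_lt.ne' (Nat.dvd_one.1 h)) (one_pow _)
  rwa [red_one] at this

theorem teich_zero : teich p M 0 = 0 := by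
  rcases teich_pow_eq_one_or hM 0 with h | ⟨m, hm, -, h⟩
  · exact h
  · rw [zero_pow (by rintro rfl; exact hm (dvd_zero p))] at h
    exact (zero_ne_one h).elim

theorem teich_neg_one (h : p ≠ 2) : teich p M (-1) = -1 := by
  have := teich_red hM (z := -1) (m := 2)
    (fun e => h ((Nat.prime_dvd_prime_iff_eq hM.1 Nat.prime_two).1 e)) (by simp)
  rwa [red_neg, red_one] at this

theorem teich_pow {x : kk M} {m : ℕ} (hm : ¬ p ∣ m) (hx : x ^ m = 1) (u : ℕ) :
    teich p M (x ^ u) = teich p M x ^ u := by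
  induction u with
  | zero => rw [pow_zero, pow_zero, teich_one hM]
  | succ u ih =>
    rw [pow_succ, teich_mul hM hm (by rw [← pow_mul, mul_comm, pow_mul, hx, one_pow]) hx, ih,
      pow_succ]

end Teich

section DD

variable {F V : Type*} [Field F] [AddCommGroup V] [Module F V] [Finite V]

theorem conj_DD (b : F[X] → ℂ) (g : End F V) :
    conj (DD b g) = DD (fun f => conj (b f)) g :=
  Dr_unique (fun f => conj (b f)) (fun W => conj (Dr b g W))
    (fun W hW => by rw [← map_sum, sum_Dr b hW]) (inv_top g)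

theorem conj_bT {k : Type*} [Field k] [Algebra F k] (T : k → ℂ) :
    (fun f : F[X] => conj (bT T f)) = bT fun x => conj (T x) := by
  funext f
  rw [bT, bT, map_multiset_sum, Multiset.map_map]
  rfl

theorem bT_X_sub_C_pow {k : Type*} [Field k] [Algebra F k] (T : k → ℂ) (a : F) (n : ℕ) :
    bT T ((X - C a) ^ n) = n * T (algebraMap F k a) := by
  rw [bT, aroots_pow, aroots_X_sub_C, Multiset.map_nsmul, Multiset.sum_nsmul,
    Multiset.map_singleton, Multiset.sum_singleton, nsmul_eq_mul]

theorem DD_neg_one {k : Type*} [Field k] [Algebra F k] (T : k → ℂ) (h1 : T 1 = 1) :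
    DD (bT (F := F) T) (-1 : End F V) = T (-1) * DD (bT (F := F) T) (1 : End F V) := by
  refine (Dr_unique (bT (F := F) T) (g := (-1 : End F V))
    (fun W => T (-1) * Dr (bT (F := F) T) (1 : End F V) W) (fun W hW => ?_) (inv_top _)).symm
  have hW1 : Inv (1 : End F V) W := fun _ h => h
  have e : invs (-1 : End F V) W = invs (1 : End F V) W := by
    ext Y
    rw [mem_invs, mem_invs]
    exact and_congr_right fun _ => ⟨fun _ _ h => h, fun _ _ h => Y.neg_mem h⟩
  have e1 : LinearMap.restrict (1 : End F V) hW1 = 1 := rfl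
  have e2 : LinearMap.restrict (-1 : End F V) hW = (0 : End F W) - (1 : F) • (1 : End F W) :=
    LinearMap.ext fun x => Subtype.ext (by rw [one_smul, zero_sub]; rfl)
  rw [← Finset.mul_sum, e, sum_Dr _ hW1, chp_eq hW1, chp_eq hW, e1, e2, LinearMap.charpoly_one,
    LinearMap.charpoly_sub_smul, LinearMap.charpoly_zero, pow_comp, X_comp, ← C_1,
    show (X + C 1 : F[X]) = X - C (-1) by simp, bT_X_sub_C_pow, bT_X_sub_C_pow, map_one, h1,
    map_neg, map_one]
  ring

end DD

section Cusp

variable {F Y : Type} [Field F] [AddCommGroup Y] [Module F Y] [Finite Y]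

theorem sum_UZ {b : F[X] → ℂ} (hb : ∀ f g : F[X], f.Monic → g.Monic → b (f * g) = b f + b g)
    {Z : Submodule F Y} (h0 : Z ≠ ⊥) (h1 : Z ≠ ⊤) :
    ∑ᶠ u : UZ Z, DD b ((u : Y ≃ₗ[F] Y) : End F Y) = 0 := by
  have : Finite (End F Y) := DFunLike.finite _
  have := Fintype.ofFinite (nilW Z)
  have := Fintype.ofFinite (UZ Z)
  rw [finsum_eq_sum_of_fintype, ← sum_DD_add hb h0 h1 (g := 1) (fun _ h => h)]
  refine Fintype.sum_bijective
    (fun u : UZ Z => (⟨((u : Y ≃ₗ[F] Y) : End F Y) - 1, fun x => u.2.2 x, fun x hx => by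
      rw [LinearMap.sub_apply, sub_eq_zero]; exact u.2.1 x hx⟩ : nilW Z)) ⟨?_, ?_⟩ _ _ ?_
  · intro u v h
    have h2 : ((u : Y ≃ₗ[F] Y) : End F Y) - 1 = ((v : Y ≃ₗ[F] Y) : End F Y) - 1 :=
      congrArg Subtype.val h
    exact Subtype.ext (LinearEquiv.toLinearMap_injective (sub_left_injective h2))
  · intro n
    have hn : ∀ x, n.1 (n.1 x) = 0 := fun x => n.2.2 _ (n.2.1 x)
    refine ⟨⟨LinearEquiv.ofLinear (1 + n.1) (1 - n.1) (LinearMap.ext fun x => by simp [hn])
      (LinearMap.ext fun x => by simp [hn]), fun z hz => ?_, fun x => ?_⟩, Subtype.ext ?_⟩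
    · simp [n.2.2 z hz]
    · simpa using n.2.1 x
    · exact add_sub_cancel_left _ _
  · intro u
    rw [add_sub_cancel]

/-- coordinates -/
theorem exists_equiv {n : ℕ} (h : finrank F Y = n) : ∃ e : GL (Fin n) F ≃ (Y ≃ₗ[F] Y),
    ∀ (b : F[X] → ℂ) [Finite F] (g : GL (Fin n) F),
      DD b ((e g : Y ≃ₗ[F] Y) : End F Y) = DD b (natRep F n g) := by
  let c : Y ≃ₗ[F] (Fin n → F) := (finBasisOfFinrankEq F Y h).equivFun
  let e1 : GL (Fin n) F ≃* ((Fin n → F) ≃ₗ[F] (Fin n → F)) :=
    Matrix.GeneralLinearGroup.toLin.trans (LinearMap.GeneralLinearGroup.generalLinearEquiv F _)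
  let e2 : ((Fin n → F) ≃ₗ[F] (Fin n → F)) ≃ (Y ≃ₗ[F] Y) :=
    { toFun := fun g => (c.trans g).trans c.symm
      invFun := fun g => (c.symm.trans g).trans c
      left_inv := fun g => by ext; simp
      right_inv := fun g => by ext; simp }
  refine ⟨e1.toEquiv.trans e2, fun b _ g => DD_congr b (φ := (c : Y →ₗ[F] (Fin n → F)))
    c.bijective fun x => ?_⟩
  exact c.apply_symm_apply _

end Cusp

theorem mul_conj_eq_one_iff {z w : ℂ} {N : ℕ} (hN : N ≠ 0) (hw : w ^ N = 1) :
    z * conj w = 1 ↔ z = w := by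
  have h1 : w * conj w = 1 := by
    rw [Complex.mul_conj', Complex.norm_eq_one_of_pow_eq_one hw hN]; simp
  refine ⟨fun h => ?_, fun h => h ▸ h1⟩
  calc z = z * (w * conj w) := by rw [h1, mul_one]
    _ = (z * conj w) * w := by ring
    _ = w := by rw [h, one_mul]

open Classical in
theorem cu (ha : AdamsStmt) (hz : ZeroStmt) : CuStmt := by
  intro F _ _ n u hn hu hreg
  have := Fintype.ofFinite F
  obtain ⟨p, hp⟩ := CharP.exists F
  have hpp : p.Prime := CharP.char_is_prime F p
  have : Fact p.Prime := ⟨hpp⟩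
  have : NeZero n := ⟨by omega⟩
  obtain ⟨M, hM⟩ := exists_isPModular hpp
  have := charP_kk hM
  let _ : Algebra (ZMod p) F := ZMod.algebra _ p
  let _ : Algebra (ZMod p) (kk M) := ZMod.algebra _ p
  let _ : Algebra F (kk M) := (IsAlgClosed.lift : F →ₐ[ZMod p] kk M).toRingHom.toAlgebra
  let K := FiniteField.Extension F p n
  have := Fintype.ofFinite K
  have hK : finrank F K = n := FiniteField.finrank_extension F p n
  let j : K →ₐ[F] kk M := IsAlgClosed.lift
  rw [Nat.card_eq_fintype_card] at hreg ⊢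
  set q := Fintype.card F with hqdef
  set N := q ^ n - 1 with hN
  have hq1 : 1 < q := Fintype.one_lt_card
  have hq : 1 < q ^ n := Nat.one_lt_pow (by omega) hq1
  have hN0 : 0 < N := by omega
  have hNK : Nat.card Kˣ = N := by
    rw [Nat.card_units, FiniteField.natCard_extension, Nat.card_eq_fintype_card]
  obtain ⟨r, -, hr⟩ := FiniteField.card F p
  have hpq : p ∣ q := by rw [hqdef, hr]; exact dvd_pow_self p r.ne_zero
  have hpN : ¬ p ∣ N := by
    intro h
    have h2 : p ∣ q ^ n - N := Nat.dvd_sub (dvd_pow hpq (by omega)) h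
    rw [show q ^ n - N = 1 by omega] at h2
    exact hpp.one_lt.ne' (Nat.dvd_one.1 h2)
  have hx : ∀ x : Kˣ, j x ^ N = 1 := fun x => by
    rw [← map_pow, ← Units.val_pow_eq_pow_val, ← hNK, pow_card_eq_one', Units.val_one, map_one]
  let θ₀ : Kˣ →* ℂ :=
    { toFun := fun x => teich p M (j x)
      map_one' := by simp [teich_one hM]
      map_mul' := fun x y => by
        rw [Units.val_mul, map_mul, teich_mul hM hpN (hx x) (hx y)] }
  have hθN : ∀ x, θ₀ x ^ N = 1 := fun x => (teich_spec hM hpN (hx x)).1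
  have hθi : Function.Injective θ₀ := by
    intro x y h
    have h1 : red M (teich p M (j x)) = red M (teich p M (j y)) := congrArg (red M) h
    rw [(teich_spec hM hpN (hx x)).2, (teich_spec hM hpN (hx y)).2] at h1
    exact Units.ext (j.injective h1)
  let T : kk M → ℂ := fun x => teich p M (x ^ u)
  let θ : Kˣ →* ℂ := θ₀.comp (powMonoidHom u)
  have hθ : ∀ x, θ x = θ₀ (x ^ u) := fun _ => rfl
  have hTθ : ∀ x : Kˣ, T (j x) = θ x := fun x => by
    change teich p M (j x ^ u) = teich p M (j ((x ^ u : Kˣ) : K))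
    rw [Units.val_pow_eq_pow_val, map_pow]
  have hT0 : T 0 = 0 := by simp only [T, zero_pow hu.ne', teich_zero hM]
  have hT1 : T 1 = 1 := by simp only [T, one_pow, teich_one hM]
  have hTs : T (-1) = if Odd q then (-1) ^ u else 1 := by
    split_ifs with h
    · have h2 : p ≠ 2 := by
        rintro rfl
        exact (Nat.not_even_iff_odd.2 h) (even_iff_two_dvd.2 hpq)
      change teich p M ((-1) ^ u) = _
      rw [teich_pow hM (m := 2)
        (fun e => h2 ((Nat.prime_dvd_prime_iff_eq hpp Nat.prime_two).1 e)) (by simp),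
        teich_neg_one hM h2]
    · have h2 : p = 2 := by
        rw [Nat.not_odd_iff_even, even_iff_two_dvd, hqdef, hr] at h
        exact ((Nat.prime_dvd_prime_iff_eq Nat.prime_two hpp).1
          (Nat.prime_two.dvd_of_dvd_pow h)).symm
      subst h2
      rw [CharTwo.neg_eq, hT1]
  -- the Galois group
  have hall : ∀ m : ℕ, (∀ x : Kˣ, x ^ m = 1) ↔ N ∣ m := fun m => by
    rw [← Monoid.exponent_dvd_iff_forall_pow_eq_one, IsCyclic.exponent_eq_card, hNK]
  have hgal : ∀ s : Gal(K/F), ∃ i < n, ∀ x : Kˣ, Units.map (s : K →* K) x = x ^ q ^ i := by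
    intro s
    obtain ⟨i, rfl⟩ := (FiniteField.bijective_frobeniusAlgEquivOfAlgebraic_pow F K).2 s
    refine ⟨i, i.2.trans_eq hK, fun x => Units.ext ?_⟩
    change (FiniteField.frobeniusAlgEquivOfAlgebraic F K ^ i.1) (x : K) = _
    rw [AlgEquiv.coe_pow, FiniteField.coe_frobeniusAlgEquivOfAlgebraic_iterate,
      Units.val_pow_eq_pow_val]
  have hgal' : ∀ i, ∃ s : Gal(K/F), ∀ x : Kˣ, Units.map (s : K →* K) x = x ^ q ^ i := by
    intro i
    refine ⟨FiniteField.frobeniusAlgEquivOfAlgebraic F K ^ i, fun x => Units.ext ?_⟩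
    change (FiniteField.frobeniusAlgEquivOfAlgebraic F K ^ i) (x : K) = _
    rw [AlgEquiv.coe_pow, FiniteField.coe_frobeniusAlgEquivOfAlgebraic_iterate,
      Units.val_pow_eq_pow_val]
  have hone : ∀ s : Gal(K/F), (∀ x : Kˣ, θ x = θ (Units.map (s : K →* K) x)) → s = 1 := by
    intro s hs
    obtain ⟨i, hi, e⟩ := hgal s
    rcases Nat.eq_zero_or_pos i with rfl | hi0
    · refine AlgEquiv.ext fun t => ?_
      rcases eq_or_ne t 0 with rfl | ht
      · simp
      · have := congrArg Units.val (e (Units.mk0 t ht))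
        simpa using this
    · refine absurd ((hall _).1 fun x => ?_) (hreg i hi0 hi)
      have h1 := hθi (hs x)
      rw [e, powMonoidHom_apply, powMonoidHom_apply, ← pow_mul] at h1
      have h2 : q ^ i * u = u * (q ^ i - 1) + u := by
        have := Nat.one_le_pow i q (by omega)
        zify [this]
        ring
      rw [h2, pow_add] at h1
      exact (right_eq_mul.1 h1)
  have hdual : ∀ (s : Gal(K/F)) (i : ℕ), (∀ x : Kˣ, Units.map (s : K →* K) x = x ^ q ^ i) →
      ((∀ x : Kˣ, θ x * θ (Units.map (s : K →* K) x) = 1) ↔ N ∣ u * (q ^ i + 1)) := by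
    intro s i e
    rw [← hall]
    refine forall_congr' fun x => ?_
    rw [← map_mul, e, hθ, map_eq_one_iff _ hθi, ← pow_succ', ← pow_mul, mul_comm]
  -- the character
  have main : ∀ (sd : Bool), (∑ s : Gal(K/F),
      if ∀ x : Kˣ, θ x * θ (Units.map (s : K →* K) x) = 1 then (1 : ℂ) else 0) =
        (if sd then 1 else 0) → Cusp F n sd (if Odd q then (-1) ^ u else 1) := by
    intro sd hsd Y _ _ _ hY
    have : Nontrivial Y := Module.nontrivial_of_finrank_pos (R := F) (by omega)
    let _ := Fintype.ofFinite (Y ≃ₗ[F] Y)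
    obtain ⟨e, he⟩ := exists_equiv hY
    let D : (kk M → ℂ) → (Y ≃ₗ[F] Y) → ℂ := fun S g => DD (bT S) (g : End F Y)
    have hD : IsGeneralizedCharacter _ (D T) :=
      isGen_Dr (b := bT T) (fun H _ _ W ρ => by
        have := ha H _ u (isGen_bT hM ρ)
        simpa only [map_pow, bT_pow] using this) ⊤ (Y ≃ₗ[F] Y)
        LinearEquiv.automorphismGroup.toLinearMapMonoidHom fun _ => inv_top _
    have hin : ∀ (T' : kk M → ℂ) (θ' : Kˣ →* ℂ), (∀ x : Kˣ, T' (j x) = θ' x) →
        classInner (D T) (D T') = ∑ s : Gal(K/F),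
          if ∀ x : Kˣ, θ x * conj (θ' (Units.map (s : K →* K) x)) = 1 then 1 else 0 := by
      intro T' θ' h'
      rw [← H11.classInner_comp_equiv e, ← classInner_DD j hn hK T T' hT0 θ θ' hTθ h']
      simp only [D, he]
    let c : ℂ := (((-1) ^ (n - 1) : ℤ) : ℂ)
    have hcc : c * c = 1 := by
      rw [← Int.cast_mul, ← mul_pow]
      simp
    have hc : conj c = c := map_intCast _ _
    let ψ : (Y ≃ₗ[F] Y) → ℂ := c • D T
    have hψ1 : ψ 1 = cd q n := by
      have h1 : bT (F := F) T (X - 1) = 1 := by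
        rw [bT, ← C_1, aroots_X_sub_C]
        simp [hT1]
      have h2 : D T 1 = ∏ i ∈ Finset.Ico 1 n, (1 - (q : ℂ) ^ i) := by
        have := DD_one (V := Y) (bT_mul T) h1
        rw [hY] at this
        exact this
      simp only [ψ, c, Pi.smul_apply, h2, smul_eq_mul, cd, Nat.cast_prod]
      rw [Finset.prod_congr rfl (g := fun i => -(1 - (q : ℂ) ^ i))
        (s₂ := Finset.Ico 1 n) (f := fun i => ((q ^ i - 1 : ℕ) : ℂ)) fun i _ => by
          rw [Nat.cast_sub (Nat.one_le_pow i q (by omega))]; push_cast; ring,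
        Finset.prod_neg, Nat.card_Ico]
      simp
    have hψ : IsIrrCharacter _ ψ := by
      refine H11.isIrrCharacter_of_isGen (H11.isGen_intCast_smul hD _) ?_ ?_
      · rw [H11.classInner_smul_left, H11.classInner_smul_right, ← mul_assoc, hc, hcc, one_mul,
          hin T θ hTθ, Finset.sum_eq_single 1, if_pos]
        · intro x
          exact (mul_conj_eq_one_iff hN0.ne' (hθN _)).2 rfl
        · intro s _ hs
          rw [if_neg]
          intro h
          exact hs (hone s fun x => (mul_conj_eq_one_iff hN0.ne' (hθN _)).1 (h x))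
        · simp
      · rw [hψ1]
        simp
    have hcj : (fun g => conj (ψ g)) = c • D fun x => conj (T x) := by
      funext g
      simp only [ψ, D, Pi.smul_apply, smul_eq_mul, map_mul, hc, conj_DD, conj_bT]
    have hip : classInner ψ (fun g => conj (ψ g)) = if sd then 1 else 0 := by
      rw [hcj, H11.classInner_smul_left, H11.classInner_smul_right, ← mul_assoc, hc, hcc, one_mul,
        hin _ ((starRingEnd ℂ : ℂ →* ℂ).comp θ) fun x => by rw [hTθ]; rfl, ← hsd]
      simp
    refine ⟨ψ, hψ, fun Z h0 h1 => hz _ ψ _ (H11.isCharacter_of_irr hψ) ?_, ?_, hip,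
      fun h g => ?_, ?_⟩
    · have := Fintype.ofFinite (UZ Z)
      have h2 := sum_UZ (bT_mul (F := F) T) h0 h1
      rw [finsum_eq_sum_of_fintype] at h2 ⊢
      simp only [ψ, D, Pi.smul_apply, smul_eq_mul, ← Finset.mul_sum, h2, mul_zero]
    · rw [hψ1, Nat.card_eq_fintype_card, hY]
    · by_contra hne
      have h2 : ψ ≠ fun g => conj (ψ g) := fun e => hne (congrFun e g).symm
      rw [H11.classInner_irr_of_ne hψ (H11.isIrrCharacter_conj hψ) h2, h] at hip
      simp at hip
    · have h2 : D T (LinearEquiv.neg F) = T (-1) * D T 1 := DD_neg_one T hT1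
      simp only [ψ, Pi.smul_apply, smul_eq_mul, h2, hTs]
      ring
  refine ⟨fun h => main false ?_, fun ⟨i, hi, h⟩ => main true ?_⟩
  · refine Finset.sum_eq_zero fun s _ => if_neg fun hs => ?_
    obtain ⟨i, hi, e⟩ := hgal s
    exact h i hi ((hdual s i e).1 hs)
  · obtain ⟨s, e⟩ := hgal' i
    have hs := (hdual s i e).2 h
    rw [Finset.sum_eq_single s, if_pos hs]
    · rfl
    · intro t _ hts
      rw [if_neg]
      intro ht
      refine hts (mul_inv_eq_one.1 (hone (t * s⁻¹) fun x => ?_))
      have h1 := hs (Units.map ((s⁻¹ : Gal(K/F)) : K →* K) x)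
      have h2 := ht (Units.map ((s⁻¹ : Gal(K/F)) : K →* K) x)
      have h3 : Units.map (s : K →* K) (Units.map ((s⁻¹ : Gal(K/F)) : K →* K) x) = x :=
        Units.ext (s.apply_symm_apply _)
      rw [h3] at h1
      exact mul_left_cancel₀ (left_ne_zero_of_mul_eq_one h1) (h1.trans h2.symm)
    · simp

end Cfsg.Agent.H19.DgCu
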