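import Cfsg.Agent.H42.HtDefs

/-!
# Project HT, piece JN: the normal closure is the model `2.HS`
-/

set_option autoImplicit false

namespace Cfsg.Agent.H19.HtJN

open Cfsg Cfsg.Agent.H63 Cfsg.Agent.H63.SL Cfsg.Agent.H42.HT Subgroup
open Cfsg.Agent.H68.HN Cfsg.Agent.H48.HS
open scoped commutatorElement

universe u

theorem nonsplit {L Q : Type*} [Group L] [Group Q] [Group.IsPerfect L]
    (h : Nat.card (center L) = 2 ∧ Nonempty (L ⧸ center L ≃* Q)) : IsNonsplitDoubleCover L Q :=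
  ⟨h.1, h.2, fun H hH => by
    have h2 := hH.index_eq_card.trans h.1
    have h3 : commutator L ≤ H := commutator_le.2 fun a _ b _ => by
      simp only [commutatorElement_def, mul_mem_iff_of_index_two h2, inv_mem_iff]; tauto
    rw [Group.IsPerfect.commutator_eq_top, top_le_iff] at h3
    rw [h3, index_top] at h2
    omega⟩

theorem jn : JnStmt.{u} := by
  classical
  intro _ G _ _ β τ w r hM hall H _ f hQ Y L hK ⟨e⟩ hw hc
  have := hK.perf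
  have := hK.nrm
  obtain ⟨q⟩ := hK.quo
  obtain ⟨η⟩ := exists_equiv_K1 (nonsplit ⟨hc, ⟨q.trans e⟩⟩)
  obtain ⟨J, hJ⟩ : ∃ J : K → G, ∀ a (h : a ∈ K1), J a = η ⟨a, h⟩ :=
    ⟨fun a => if h : a ∈ K1 then (η ⟨a, h⟩ : G) else 1, fun a h => dif_pos h⟩
  have hs : ∀ g ∈ L, ∃ a ∈ K1, J a = g := fun g hg =>
    ⟨_, (η.symm ⟨g, hg⟩).2, by rw [hJ _ (η.symm ⟨g, hg⟩).2]; simp⟩
  have hm : ∀ a ∈ K1, J a ∈ L := fun a ha => hJ a ha ▸ (η ⟨a, ha⟩).2
  have mul : ∀ a ∈ K1, ∀ b ∈ K1, J (a * b) = J a * J b := fun a ha b hb => by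
    rw [hJ _ ha, hJ _ hb, hJ _ (mul_mem ha hb)]
    exact congrArg Subtype.val (map_mul η ⟨a, ha⟩ ⟨b, hb⟩)
  have inj : ∀ a ∈ K1, ∀ b ∈ K1, J a = J b → a = b := fun a ha b hb h => by
    rw [hJ _ ha, hJ _ hb] at h
    exact congrArg Subtype.val (η.injective (Subtype.ext h))
  have cn : ∀ {s}, Cn J s ↔ f s = 1 := (Iff.intro (fun h g hg => by
    obtain ⟨a, ha, rfl⟩ := hs g hg
    exact (h a ha).symm) fun h a ha => (h _ (hm a ha)).symm).trans (hK.cen _)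
  have dom : ∀ n, ∃ k, Ac J n k := fun n => by
    obtain ⟨k, hk⟩ := aut_K1 ((η.trans (MulAut.conjNormal n)).trans η.symm)
    refine ⟨k, fun a ha => ?_⟩
    have : η.symm (MulAut.conjNormal n (η ⟨a, ha⟩)) = ⟨k * a * k⁻¹, conj_K1.2 ha⟩ :=
      Subtype.ext (hk ⟨a, ha⟩)
    rw [hJ _ ha, hJ _ (conj_K1.2 ha), ← this, MulEquiv.apply_symm_apply]
    rfl
  have s0 : S0 J := ⟨mul, inj, fun n _ => dom n⟩
  have ju : J eU = w := by
    obtain ⟨a, ha, rfl⟩ := hs w hw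
    rcases (s0.cn_iff ha).1 (cn.2 hQ.kw) with rfl | rfl
    exacts [absurd s0.one hM.w1, rfl]
  have inY : ∀ {n k}, Ac J n k → k ∈ K1 → f n ∈ Y := fun a hk => by
    obtain ⟨z, hz, rfl⟩ := s0.split a hk
    rw [map_mul, cn.1 hz, mul_one]
    exact hK.img _ (hm _ hk)
  have nτ : ¬ Commute τ r := fun c => hM.w1 (by
    have := hM.τr
    rwa [c.eq, mul_inv_cancel_right, left_eq_mul] at this)
  obtain ⟨κ, hκ⟩ := dom τ
  have κ1 : κ ∉ K1 := fun h => nτ (hK.cr _ (inY hκ h))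
  have jw : ∀ a ∈ K1, J (a * eU) = J a * w := fun a ha => by rw [mul _ ha _ eU_K1, ju]
  refine ⟨J, mul, inj, ju, cn.2 hQ.kr, fun n _ => dom n, fun n _ h => hQ.two n (cn.1 h),
    fun σ => hs _ (hK.hA ⟨σ, rfl⟩), fun S h1 h2 a ha => ?_, fun n _ h2 h3 => ?_,
    fun rr n _ nn => ?_⟩
  · refine hK.gen S ⟨fun x hx g => ?_⟩ (by rintro _ ⟨σ, rfl⟩; exact h2 σ) (hm a ha)
    exact (mem_normalizer_iff.1 (h1 ((mem_Mr hM.w2).2 (hall g))) x).1 hx
  · obtain ⟨k, hk⟩ := dom n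
    have k1 : k ∈ K1 := by
      by_contra h
      have := hK.cr _ (inY (hκ.mul hk) (mul_K1.2 (iff_of_false κ1 h)))
      exact nτ (by simpa using this.mul_left h2.inv_left)
    obtain ⟨y, hy, x, hx, rfl⟩ := hK.dec n h3 (inY hk k1)
    obtain ⟨a, ha, rfl⟩ := hs y hy
    have c := cn.2 hQ.kr a ha
    rcases hx with rfl | rfl | rfl | rfl
    · exact ⟨a, ha, .inl (mul_one _)⟩
    · exact ⟨_, mul_mem ha eU_K1, .inl (jw a ha).symm⟩
    · exact ⟨a, ha, .inr c.symm⟩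
    · exact ⟨_, mul_mem ha eU_K1, .inr (by rw [jw a ha, ← mul_assoc, ← c, mul_assoc])⟩
  · obtain ⟨k, hk⟩ := dom n
    by_contra h
    have k1 : k ∉ K1 := fun e => h (hK.cr _ (inY hk e))
    have kk := s0.sq_out hk (nn ▸ cn.2 hQ.kw) k1
    have κκ := s0.sq_out hκ (hM.τ2 ▸ Cn.one) κ1
    have ha := mul_K1.2 (iff_of_false κ1 k1)
    obtain ⟨c, hc, e⟩ := s0.split (hκ.mul hk) ha
    have ti : τ⁻¹ = τ := inv_eq_of_mul_eq_one_right hM.τ2
    have e1 : τ * J (κ * k) * τ⁻¹ * J (κ * k) = 1 := by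
      rw [hκ _ ha, ← mul _ (conj_K1.2 ha) _ ha, ← s0.one]
      congr 1
      rw [← mul_assoc κ κ, κκ, one_mul, mul_assoc, inv_mul_cancel_left, kk]
    have e2 : τ * c * τ⁻¹ = w * c⁻¹ := by
      have h1 : n = τ⁻¹ * (J (κ * k) * c) := by rw [← e, inv_mul_cancel_left]
      have h2 := (hκ.cn_conj hc) _ ha
      rw [← nn, h1, eq_mul_inv_iff_mul_eq]
      calc τ * c * τ⁻¹ * c = τ * J (κ * k) * τ⁻¹ * (J (κ * k) * (τ * c * τ⁻¹)) * c := by
            rw [← mul_assoc _ (J (κ * k)), e1, one_mul]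
        _ = _ := by rw [← h2]; nth_rewrite 1 [← ti]; group
    obtain ⟨s, m, hm2, ho⟩ := Nat.exists_eq_two_pow_mul_odd (orderOf_pos c).ne'
    have e3 : τ * c ^ m * τ⁻¹ * c ^ m = w := by
      obtain ⟨j, rfl⟩ := hm2
      rw [← conj_pow, e2, (hall c⁻¹).1.symm.mul_pow, inv_pow, inv_mul_cancel_right, pow_succ, pow_mul,
        pow_two, hM.w2, one_pow, one_mul]
    have cw := hM.rw.eq
    refine hM.w1 ?_
    rcases hQ.two _ (cn.1 (hc.pow m)) ⟨s, by rw [← pow_mul, mul_comm, ← ho, pow_orderOf_eq_one]⟩ with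
      x | x | x | x <;> rw [x] at e3 <;> rw [← e3]
    · simp
    · rw [hM.τw.eq, mul_inv_cancel_right, hM.w2]
    · rw [hM.τr, mul_assoc, ← cw, ← mul_assoc, rr, hM.w2]
    · rw [← conj_mul, hM.τr, hM.τw.eq, mul_inv_cancel_right, mul_assoc r w w, hM.w2, mul_one,
        ← mul_assoc, rr, hM.w2]

end Cfsg.Agent.H19.HtJN
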