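import Cfsg.Agent.H44.K5Defs
import Cfsg.Agent.H52.K0Conv
import Cfsg.Agent.H29.K0R0
import Cfsg.Agent.H47.K0R
import Cfsg.Agent.S0960

/-! Project K5, piece CYC. -/

set_option autoImplicit false

namespace Cfsg.Agent.H19.K5Cyc

open Cfsg Cfsg.Agent.H76.K0 Cfsg.Agent.H44.K5

universe u

theorem cyc : CycStmt.{u} := by
  intro G _ _ p hpf M hM P hP e he
  have hp : p.Prime := hpf.out
  have hcyc : IsCyclic (P : Subgroup G) := isCyclic_of_prime_card hP
  have hdiv : e ∣ p - 1 := by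
    have h1 := Subgroup.card_subgroup_dvd_card (P : Subgroup G).normalizerMonoidHom.range
    rw [← Subgroup.index_ker, Subgroup.normalizerMonoidHom_ker, IsCyclic.card_mulAut] at h1
    have h2 : Nat.card (P : Subgroup G) = p := hP
    rw [h2, Nat.totient_prime hp] at h1
    rw [← he]
    exact h1
  refine ⟨hdiv, ?_⟩
  by_cases h2 : p = 2
  · subst h2
    have e1 : e = 1 := Nat.dvd_one.1 hdiv
    rw [e1]
    exact H52.K0Conv.conv (H29.K0R0.r0 H47.K0R.r) G 2 M hM P 2 (Or.inl rfl) hP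
  · obtain ⟨hk, hd⟩ := S0960.result p M hM h2 P hP e he
    have h1 : ¬ (p : ℤ) ∣ 1 := fun h => hp.not_dvd_one (by exact_mod_cast h)
    have hpe : ¬ (p : ℤ) ∣ (e : ℤ) := fun h => by
      have h3 : p ∣ p - 1 := (Int.natCast_dvd_natCast.1 h).trans hdiv
      have h4 := hp.two_le
      have := Nat.le_of_dvd (by omega) h3
      omega
    have key : ∀ χ ∈ principalBlock M G, ¬ p ∣ charDegree (χ : G → ℂ) := fun χ hχ h => by
      have h' : (p : ℤ) ∣ (charDegree (χ : G → ℂ) : ℤ) := Int.natCast_dvd_natCast.2 h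
      rcases hd χ hχ with h5 | h5 | h5 | h5
      · exact h1 (by simpa using dvd_add h5.dvd h')
      · exact h1 (dvd_neg.1 (by simpa using dvd_add h5.dvd h'))
      · exact hpe (by simpa using dvd_add h5.dvd h')
      · exact hpe (dvd_neg.1 (by simpa using dvd_add h5.dvd h'))
    rw [← hk]
    exact Nat.card_congr (Equiv.subtypeEquivRight fun χ => ⟨fun h => h.1, fun h => ⟨h, key χ h⟩⟩)

end Cfsg.Agent.H19.K5Cyc
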