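import Mathlib
import Cfsg.Agent.H17.KnDef2
import Cfsg.Agent.H86.Theta
import Cfsg.Agent.H51.Constraint
import Cfsg.Agent.H8.GoldTool

/-!
# Balance for the centraliser of the central involution
-/

set_option autoImplicit false

namespace Cfsg.Agent.H19.KnBal

open Equiv Subgroup Cfsg.Agent.H11.A16 Cfsg.Agent.H63 Cfsg.Agent.H67 Cfsg.Agent.H8.GD
open Cfsg.Agent.H17.Kn

universe u

variable {G : Type u} [Group G] [Finite G]

/-- Balance into a 2-constrained subgroup. -/
theorem bal_of {H D : Subgroup G} (hH : IsPConstrained 2 H) (hD : IsPGroup 2 D) (h : D ≤ H) :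
    Oc C[D] ⊓ H ≤ Oc H := by
  have h1 := (H52.Lp_Opp_centralizer_of_pLayer_eq_bot (H52.isPConstrained_iff_pLayer_eq_bot.mp hH)
    (P := D.subgroupOf H) (hD.of_equiv (subgroupOfEquivOfLe h).symm)).2
  have e : centralizer (D.subgroupOf H : Set H) = (C[D] ⊓ H).subgroupOf H := by
    ext x
    simp only [mem_centralizer_iff, mem_subgroupOf, mem_inf, SetLike.mem_coe]
    exact ⟨fun a => ⟨fun d hd => congrArg Subtype.val (a ⟨d, h hd⟩ hd), x.2⟩,
      fun a d hd => Subtype.ext (a.1 d hd)⟩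
  rw [e] at h1
  have h2 := map_mono (f := H.subtype) h1
  rw [H52.map_Opp_subgroupOf inf_le_right, H52.Opp, map_pPrimeCore_subtype Nat.prime_two,
    map_pPrimeCore_subtype Nat.prime_two] at h2
  refine le_trans ?_ h2
  exact le_trans (le_inf inf_le_left (inf_le_inf_right _ (piCoreOf_le _ _))) (oc_inf_le inf_le_left)

theorem one_of {Γ : Type} [Group Γ] {H : Subgroup G} (f : H →* Γ) {x : H} (ho : Odd (orderOf x.1))
    (h2 : f x * f x = 1) : f x = 1 := by
  have a : orderOf (f x) ∣ orderOf x.1 := by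
    rw [Subgroup.orderOf_coe]; exact orderOf_map_dvd f x
  have b : orderOf (f x) ∣ 2 := orderOf_dvd_of_pow_eq_one (by rw [pow_two, h2])
  exact orderOf_eq_one_iff.1 (Nat.eq_one_of_dvd_coprimes (Nat.coprime_two_right.2 ho) a b)

theorem bal (hB : Base.{u}) : BalStmt.{u} := by
  intro G _ _ J φ s ρ n h
  obtain ⟨-, -, -, -, -, -, -, -, -, -, l1, l2, -⟩ := hB.m2.le
  have sq : ∀ u ∈ PP, u * u = 1 := hB.m2.ab.2.2.2.1
  have ep : EE ≤ PP := inf_le_left
  let f : C1[J z2] →* N2 := MonoidHom.mk' (fun g => ρ g) fun a b => h.mo.mul a a.2 b b.2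
  have hc : IsPConstrained 2 C1[J z2] := by
    refine (H51.isPConstrained_iff_of_coprime_ker (f := f) (fun m => ?_) ?_).2 ?_
    · obtain ⟨g, hg, e⟩ := h.mo.sur m
      exact ⟨⟨g, hg⟩, e⟩
    · rw [show f.ker = (Oc C1[J z2]).subgroupOf C1[J z2] from ext fun g => h.kerO g g.2]
      exact (isPi_compl_singleton_iff_coprime Nat.prime_two).1
        (isPi_subgroupOf (isPi_piCoreOf _ _) _)
    · have : PP.Normal := MonoidHom.normal_ker π2
      have h1 : PP ≤ pCore 2 N2 := H3.le_pCore fun u => ⟨1, Subtype.ext (by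
        simpa [pow_two] using sq u u.2)⟩
      exact H51.isPConstrained_of_centralizer_le fun g hg => h1 (hB.m3.cEE g fun e he =>
        (hg _ (h1 (ep he))).symm)
  refine ⟨fun g D hD hle => ?_, fun Y hY hle hn y hy => ?_⟩
  · have h3 := bal_of hc (isPGroup_cj hD g⁻¹) (by
      rw [← cj_le_cj_iff (g := g), cj_cj_inv, cj_centralizer_singleton]; exact hle)
    rw [← cj_le_cj_iff (g := g), cj_inf, cj_piCoreOf, cj_piCoreOf, cj_centralizer, cj_cj_inv,
      cj_centralizer_singleton] at h3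
    exact h3
  · have od : ∀ a ∈ Y, Odd (orderOf a) := fun a ha =>
      Odd.of_dvd_nat (odd_iff_isOdd.2 hY) (orderOf_dvd_natCard Y ha)
    refine (h.kerO y (hle hy)).1 (one_of f (x := ⟨y, hle hy⟩) (od y hy) (sq _ ?_))
    refine hB.m3.cEE _ fun e he => ?_
    have hS : e ∈ S2 := l2 (l1 (ep he))
    have hE := h.mo.le e hS
    have m : J e * y * (J e)⁻¹ * y⁻¹ ∈ Y :=
      mul_mem ((mem_normalizer_iff.1 (hn (mem_im (ep he))) y).1 hy) (inv_mem hy)
    have r : f ⟨J e, hE⟩ = e := h.mo.res e hS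
    have k := one_of f (x := ⟨J e, hE⟩ * ⟨y, hle hy⟩ * ⟨J e, hE⟩⁻¹ * ⟨y, hle hy⟩⁻¹) (od _ m) (sq _ (by
      rw [map_mul, map_mul, map_mul, map_inv, map_inv, r, mul_assoc, mul_assoc]
      refine mul_mem (ep he) ?_
      rw [← mul_assoc]
      exact (hB.m2.nrm _).1 _ (inv_mem (ep he))))
    rw [map_mul, map_mul, map_mul, map_inv, map_inv, r, mul_inv_eq_one, mul_inv_eq_iff_eq_mul] at k
    exact k.symm

end Cfsg.Agent.H19.KnBal
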