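import Cfsg.Agent.H93.LT2Defs
import Cfsg.Agent.H3.LTAl2

/-! The normal form `EN` of type `EE` with `g ≠ 1` (`stubs/notes/h93_lt2.md`, EE2). -/

set_option autoImplicit false
set_option linter.unusedSimpArgs false

namespace Cfsg.Agent.H19.LT

open Subgroup Cfsg.Agent.H85 Cfsg.Agent.H93.LT Cfsg.Agent.H3.LTB

universe u

variable {G : Type u} [Group G]

theorem lm {a b c : G} (e : a * b = c) (w : G) : a * (b * w) = c * w := by rw [← mul_assoc, e]

theorem cn_sw {t g v : G} (tt : t * t = 1) (gg : g * g = 1) (e : cn t g = t * v)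
    (c : Commute t v) (c' : Commute g v) : cn g t = g * v := by
  have ti := inv_eq_of_mul_eq_one_right tt
  have gi := inv_eq_of_mul_eq_one_right gg
  rw [cn, gi] at e
  calc cn g t = t * (g * t * g) * g := by
        rw [cn, ti, mul_assoc t (g * t * g), mul_assoc (g * t), gg, mul_one, mul_assoc]
    _ = g * v := by rw [e, ← mul_assoc, tt, one_mul, c'.eq]

theorem mv {x g v : G} (e : cn x g = x * v) : x * g = g * (x * v) := by rw [← e, cn]; group

theorem cn_1 (g : G) : cn (1 : G) g = 1 := by simp [cn]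

theorem cn_at1 (g : G) : cn g 1 = g := by simp [cn]

theorem conj_cn (t c : G) : IsConj t (cn t c) := isConj_iff.2 ⟨c⁻¹, by simp [cn]⟩

theorem mem_zp2 {s y : G} (hs : s * s = 1) (h : y ∈ zpowers s) : y = 1 ∨ y = s := by
  obtain ⟨k, rfl⟩ := h
  have h2 : ∀ j : ℤ, s ^ (2 * j) = 1 := fun j => by rw [zpow_mul, zpow_two, hs, one_zpow]
  obtain ⟨j, rfl | rfl⟩ := Int.even_or_odd' k
  · exact Or.inl (h2 j)
  · exact Or.inr (by simp only [zpow_add, h2, one_mul, zpow_one])

section hyp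

variable (h : Hyp G)

theorem f1 : h.f ≠ 1 := fun e => h.fL (e ▸ one_mem _)
theorem fz1 : h.f * h.z ≠ 1 := fun e => h.fL (eq_inv_of_mul_eq_one_left e ▸ inv_mem (zL h))
theorem a_ne_b : h.a ≠ h.b := fun e => nab h (by rw [e])

end hyp

section ee0

variable (h : EE0 G)

theorem xt : cn h.x h.t = h.x * h.z := cn_sw h.tt h.xx h.tx (tz h.toHyp) (E.xz h)
theorem mt' : cn h.m h.t = h.m * h.a := cn_sw h.tt h.mm h.tm h.ta h.ma
theorem nt' : cn h.n h.t = h.n * h.b := cn_sw h.tt h.nn h.tn h.tb h.nb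
theorem yt (hy : h.y ≠ 1) : cn h.t h.y = h.t * h.f := by
  rcases h.alt with e | e | e
  exacts [absurd e.1 hy, absurd e.1 hy, e.1]
theorem yt' (hy : h.y ≠ 1) : cn h.y h.t = h.y * h.f := cn_sw h.tt h.yy (yt h hy) h.tf h.yf

theorem w_eq : ∃ p ∈ h.P, h.w = h.x * p := ⟨_, h.wx, by rw [mul_inv_cancel_left]⟩

theorem comm_w {v : G} (c1 : Commute v h.x) (c2 : Commute v h.z) (c3 : Commute v h.f) :
    Commute v h.w := by
  obtain ⟨p, hp, e⟩ := w_eq h
  rw [e]; exact c1.mul_right (comm_P h.toHyp hp c2 c3)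

theorem zeta_t : cn (h.m * h.n * h.m * h.n) h.t = h.m * h.n * h.m * h.n * (h.w * h.x * h.z) := by
  have r1 := (comm_w h h.xa.symm h.za.symm h.fa.symm).symm.eq
  have r2 := (comm_w h h.xb.symm h.zb.symm h.fb.symm).symm.eq
  have r3 := (comm_w h h.mx h.mz h.mf).symm.eq
  have r4 := (comm_w h h.nx h.nz h.nf).symm.eq
  have r5 := (comm_w h (Commute.refl _) (E.xz h) h.xf).eq
  have r6 := (comm_w h (E.xz h).symm (Commute.refl _) (fz h.toHyp).symm).eq
  have s1 := h.xa.eq
  have s2 := h.xb.eq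
  have s3 := h.nx.symm.eq
  have s4 := h.za.eq
  have s5 := h.zb.eq
  have s6 := h.nz.symm.eq
  have s7 := (E.xz h).symm.eq
  have s8 := h.ma.symm.eq
  have s9 := h.nb.symm.eq
  have u1 := mv h.an
  have u2 := mv h.bm
  have u3 := mv (ba h.toHyp)
  have ww : h.w * h.w = 1 := by
    obtain ⟨p, hp, e⟩ := w_eq h
    have c := (comm_P h.toHyp hp (E.xz h) h.xf).symm.eq
    have pp : p * p = 1 := by
      rcases mem_P h.toHyp hp with k | k | k | k <;> rw [k]
      exacts [one_mul 1, h.zz, h.ff, by rw [mul_assoc, ← mul_assoc h.f, (fz h.toHyp).eq, mul_assoc,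
        h.ff, mul_one, h.zz]]
    rw [e, mul_assoc, lm c, mul_assoc, pp, mul_one, h.xx]
  simp only [cn_mul', mt', nt']
  simp only [mul_assoc, r1, r2, r3, r4, r5, r6, s1, s2, s3, s4, s5, s6, s7, s8, s9, u1, u2, u3,
    lm r1, lm r2, lm r3, lm r4, lm r5, lm r6, lm s1, lm s2, lm s3, lm s4, lm s5, lm s6, lm s7, lm s8,
    lm s9, lm u1, lm u2, lm u3, h.aa, h.bb, lm h.aa, lm h.bb, ww, lm ww, one_mul, mul_one]

variable [Finite G]

theorem mem_ZU {u : G} (hu : u ∈ closure {h.z, h.f, h.x, h.y}) :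
    ∃ q ∈ h.P, u = q ∨ u = q * h.x ∨ u = q * h.y ∨ u = q * h.x * h.y := by
  have xi := inv_eq_of_mul_eq_one_right h.xx
  have yi := inv_eq_of_mul_eq_one_right h.yy
  have k1 : ∀ v ∈ closure {h.z, h.f, h.x}, ∃ q ∈ h.P, v = q ∨ v = q * h.x := fun v hv => by
    rcases cases_closure (K := h.P) (a := h.x) (centralizer_le_normalizer _ fun _ hp =>
      (comm_P h.toHyp hp (E.xz h) h.xf).symm) h.xx (by
        rintro v (rfl | rfl | rfl)
        exacts [Or.inl (subset_closure (by simp)), Or.inl (subset_closure (by simp)), Or.inr rfl])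
      hv with k | k
    exacts [⟨_, k, Or.inl rfl⟩, ⟨_, k, Or.inr (by rw [mul_assoc, h.xx, mul_one])⟩]
  rcases cases_closure (K := closure {h.z, h.f, h.x}) (a := h.y) (mem_N_closure (by
      rintro v (rfl | rfl | rfl)
      exacts [(cn_comm (E.yz h).symm).symm ▸ subset_closure (by simp),
        (cn_comm h.yf.symm).symm ▸ subset_closure (by simp),
        (cn_comm h.xy).symm ▸ subset_closure (by simp)])) h.yy (by
      rintro v (rfl | rfl | rfl | rfl)
      exacts [Or.inl (subset_closure (by simp)), Or.inl (subset_closure (by simp)),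
        Or.inl (subset_closure (by simp)), Or.inr rfl]) hu with k | k
  · obtain ⟨q, hq, e⟩ := k1 _ k
    exact ⟨q, hq, e.imp_right Or.inl⟩
  · obtain ⟨q, hq, e | e⟩ := k1 _ k
    · exact ⟨q, hq, Or.inr (Or.inr (Or.inl (by rw [← e, mul_assoc, h.yy, mul_one])))⟩
    · exact ⟨q, hq, Or.inr (Or.inr (Or.inr (by rw [← e, mul_assoc, h.yy, mul_one])))⟩

theorem cenZ (k : Kit h.toHyp) {c : G} (hc : c ∈ E.T1 h) (h1 : cn h.t c = h.t)
    (h2 : cn h.f c = h.f) (h3 : cn h.a c = h.a) (h4 : cn h.b c = h.b) : c ∈ h.Z := by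
  have := (sylZ (kitA_of k)).eq_of_le (Q := E.T1 h ⊓ centralizer (h.T0 : Set G))
    (E.pT1 h).to_inf_left (le_inf ((Z_T0 h.toHyp).trans (T0_T1 h.toHyp _ _)) (Z_cent h.toHyp))
    inf_le_right
  exact this.le ⟨hc, cent_T0 h.toHyp (comm_of_cn h1) (comm_of_cn h2) (comm_of_cn h3) (comm_of_cn h4)⟩

end ee0

variable [Finite G]

/-- `y = 1` forces `w ∈ x ⟨z⟩` -/
theorem w_y1 (h : EE G) (hy : h.y = 1) : h.w = h.x ∨ h.w = h.x * h.z := by
  have e := zeta_t h.toEE0
  obtain ⟨q, hq, k⟩ := mem_ZU h.toEE0 h.mn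
  have cq : cn q h.t = q := cn_comm (comm_P h.toHyp hq (tz h.toHyp) h.tf).symm
  have xi := inv_eq_of_mul_eq_one_right h.xx
  have zi := inv_eq_of_mul_eq_one_right h.zz
  rw [hy, mul_one, mul_one] at k
  have k' : h.m * h.n * h.m * h.n = q ∨ h.m * h.n * h.m * h.n = q * h.x := by tauto
  rcases k' with k | k <;> rw [k] at e
  · rw [cq, left_eq_mul, mul_assoc] at e
    right
    rw [eq_inv_of_mul_eq_one_left e, mul_inv_rev, xi, zi, (E.xz h.toEE0).eq]
  · rw [cn_mul', cq, xt h.toEE0, ← mul_assoc, mul_right_inj, right_eq_mul] at e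
    left
    rw [eq_inv_of_mul_eq_one_left e, xi]

/-- `e² = t` is impossible -/
theorem ee_t (hk : KitStmt.{u}) (eu : EUStmt.{u}) (h : EE G) (hy : h.y ≠ 1)
    (he : h.e * h.e = h.t) : False := by
  have k := hk G h.toHyp
  obtain ⟨u1, u2, -, p3, n3, -, -, TT3⟩ := eu G h
  have ge : h.g = h.e := by
    rcases h.alt with e | e | e
    exacts [absurd e.1 hy, absurd e.1 hy, e.2.1]
  have e3 : h.e ∈ h.T3 := TT3 (eT h.toHyp)
  have t3 : h.t ∈ h.T3 := he ▸ mul_mem e3 e3
  have U3 : h.U ≤ h.T3 := closure_mono (by intro v; simp; tauto)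
  have eN : zpowers h.e ≤ normalizer (h.U : Set G) := zpowers_le_of_mem (n3 e3)
  have dec : ∀ v ∈ h.T3, ∃ u ∈ h.U, ∃ i : ℤ, v = u * h.e ^ i := fun v hv => by
    have : h.T3 ≤ h.U ⊔ zpowers h.e := (closure_le _).2 (by
      rintro v (rfl | rfl | rfl | rfl | rfl | rfl | rfl | rfl | rfl | rfl)
      iterate 8 exact mem_sup_left (subset_closure (by simp))
      · exact he ▸ mem_sup_right (mul_mem (mem_zpowers _) (mem_zpowers _))
      · exact ge ▸ mem_sup_right (mem_zpowers _))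
    obtain ⟨u, hu, _, ⟨i, rfl⟩, rfl⟩ := (mem_sup_of_le_normalizer eN).1 (this hv)
    exact ⟨u, hu, i, rfl⟩
  have key : ∀ c : G, cn h.e c ∈ h.T3 → h.t⁻¹ * cn h.t c ∈ h.U := fun c hc => by
    obtain ⟨u, hu, i, e⟩ := dec _ hc
    have e1 : cn h.t c = u * cn u (h.e ^ i)⁻¹ * h.t ^ i := by
      rw [← he, cn_mul', e, (Commute.refl h.e).mul_zpow]; simp only [cn]; group
    have hu' : u * cn u (h.e ^ i)⁻¹ ∈ h.U :=
      mul_mem hu (cn_mem (inv_mem (eN (zpow_mem (mem_zpowers _) i))) hu)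
    rcases mem_zp2 h.tt (zpow_mem (mem_zpowers h.t) i) with e2 | e2 <;> rw [e2] at e1
    · exact (u1 _ (by rw [e1, mul_one]; exact hu') (conj_cn _ c)).elim
    · have := cn_mem (n3 t3) hu'
      rw [e1]; convert this using 1; simp only [cn]; group
  have syl : IsSyl 2 h.T3 ⊤ := by
    obtain ⟨S, hS, l⟩ := exists_isSyl_ge p3 (le_top : h.T3 ≤ ⊤)
    rcases l.lt_or_eq with l' | l'
    · obtain ⟨c, -, -, hn, -, hc⟩ := k.climb _ S hS.isPGroup t3 l' (by
        rw [h.syl.eq_of_le (Q := S ⊓ centralizer {h.t}) hS.isPGroup.to_inf_left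
          (le_inf (TT3.trans l) h.syl.le) inf_le_right]
        exact TT3)
      have hu := key c (cn_mem hn e3)
      obtain ⟨v, hv, e | e⟩ := u2 _ hu (by
        rw [mul_inv_cancel_left, ← cn_mul', h.tt, cn_1])
      · rw [mul_inv_cancel_left] at e
        exact (hc v (U3 hv) e.symm).elim
      · exact absurd e.1 hy
    · exact l' ▸ hS
  refine u1 _ (k.trG h.T3 h.U h.T h.t syl U3 ?_ (he ▸ k.sqX _) h.tt t3 ?_ h.syl.isPGroup h.syl.le
    fun c hc => key c (hc _ (eT h.toHyp))) (IsConj.refl _)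
  · intro x hx y hy
    obtain ⟨u, hu, i, rfl⟩ := dec _ hx
    obtain ⟨v, hv, j, rfl⟩ := dec _ hy
    have z : ∀ i : ℤ, h.e ^ i ∈ normalizer (h.U : Set G) := fun i => eN (zpow_mem (mem_zpowers _) i)
    have := mul_mem (mul_mem (cn_mem (z i) (inv_mem hu))
      (cn_mem (z (j + i)) (mul_mem (inv_mem hv) hu))) (cn_mem (z j) hv)
    convert this using 1
    simp only [cn]; group
  · exact T0_T h.toHyp (Z_T0 h.toHyp (tZ h.toHyp))

omit [Finite G] in
theorem zg (h : EE G) (hg : h.g ≠ 1) : cn h.a h.g = h.b ∧ cn h.b h.g = h.a ∧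
    cn h.f h.g = h.f * h.z ∧ cn h.z h.g = h.z := by
  have k : cn h.a h.g = h.b ∧ cn h.b h.g = h.a ∧ cn h.f h.g = h.f * h.z := by
    rcases h.alt with e | e | e
    · rw [e.2.1] at hg ⊢; exact e_of h.toHyp hg
    · exact ⟨e.2.2.1, e.2.2.2.1, e.2.2.2.2.1⟩
    · rw [e.2.1] at hg ⊢; exact e_of h.toHyp hg
  refine ⟨k.1, k.2.1, k.2.2, ?_⟩
  calc cn h.z h.g = (cn h.a h.g)⁻¹ * cn (cn h.a h.g) (cn h.b h.g) := by
        rw [z_eq h.toHyp]; simp only [cn]; group
    _ = _ := by rw [k.1, k.2.1, ba h.toHyp, inv_mul_cancel_left]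

/-- the first step of the normal form -/
theorem step1 (hk : KitStmt.{u}) (eu : EUStmt.{u}) (h : EE G) (hg : h.g ≠ 1) :
    (h.g = h.e ∧ h.e * h.e = 1 ∧ (h.w = h.x ∨ h.w = h.x * h.z)) ∨
    (h.y = 1 ∧ h.e = 1 ∧ cn h.t h.g = h.t * h.f * h.z ∧
      ((h.w = h.x ∧ (h.g * h.g = h.x ∨ h.g * h.g = h.x * h.z)) ∨
        (h.w = h.x * h.z ∧ (h.g * h.g = h.x * h.f ∨ h.g * h.g = h.x * h.f * h.z)))) := by
  obtain ⟨ga, gb, gf, gz⟩ := zg h hg
  have gx := (h.sw hg).1
  have s1 := (E.xz h.toEE0).symm.eq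
  have s2 := h.xf.symm.eq
  have s3 := (fz h.toHyp).symm.eq
  have s4 := (tz h.toHyp).symm.eq
  have s5 := h.tf.symm.eq
  have z1 := h.z1
  have f1 := f1 h.toHyp
  have fz1 := fz1 h.toHyp
  have A : h.g = h.e → h.g = h.e ∧ h.e * h.e = 1 ∧ (h.w = h.x ∨ h.w = h.x * h.z) := fun ge => by
    obtain ⟨-, -, -, ee⟩ := h.he.resolve_left (ge ▸ hg)
    rw [← ge] at ee ⊢
    by_cases hy : h.y = 1
    · have hw := w_y1 h hy
      refine ⟨rfl, ee.resolve_right fun e => z1 ?_, hw⟩
      have := xt h.toEE0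
      rw [← e, cn_mul, gx] at this
      rcases hw with hw | hw
      · rw [hw, gx, hw] at this; exact left_eq_mul.1 this
      · rw [hw, cn_mul', gx, gz, hw, mul_assoc, h.zz, mul_one] at this; exact left_eq_mul.1 this
    · have e2 := ee.resolve_right fun e => ee_t hk eu h hy (ge ▸ e)
      refine ⟨rfl, e2, ?_⟩
      have := cn_at1 h.x
      rw [← e2, cn_mul, gx] at this
      obtain ⟨p, hp, e⟩ := w_eq h.toEE0
      rcases mem_P h.toHyp hp with k | k | k | k <;> rw [k] at e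
      · exact Or.inl (by rw [e, mul_one])
      · exact Or.inr e
      · rw [e, cn_mul', gx, gf, e] at this
        simp only [mul_assoc, lm h.ff, one_mul, mul_eq_left] at this
        exact absurd this z1
      · rw [e, cn_mul', cn_mul', gx, gf, gz, e] at this
        simp only [mul_assoc, s3, lm s3, lm h.ff, h.zz, lm h.zz, one_mul, mul_one,
          mul_eq_left] at this
        exact absurd this z1
  rcases h.alt with e | e | e
  · exact Or.inl (A e.2.1)
  · obtain ⟨hy, he, -, -, -, gt, -⟩ := e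
    refine Or.inr ⟨hy, he, gt, ?_⟩
    have hc : h.g * h.g * h.x ∈ h.Z := cenZ h.toEE0 (hk G _) (mul_mem h.gg (E.x1 h.toEE0))
      (by simp only [cn_mul, cn_mul', gt, gf, gz, h.tx, cn_comm h.xf.symm,
            cn_comm (E.xz h.toEE0).symm]
          simp only [mul_assoc, s3, lm s3, lm h.ff, h.ff, h.zz, lm h.zz, one_mul, mul_one])
      (by rw [cn_mul, cn_mul, gf, cn_mul' h.f, gf, gz, fzz h.toHyp, cn_comm h.xf.symm])
      (by rw [cn_mul, cn_mul, ga, gb, cn_comm h.xa.symm])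
      (by rw [cn_mul, cn_mul, gb, ga, cn_comm h.xb.symm])
    have fix : cn (h.g * h.g) h.g = h.g * h.g := by simp only [cn]; group
    generalize hc' : h.g * h.g * h.x = c at hc
    have e1 : h.g * h.g = c * h.x := by rw [← hc', mul_assoc, h.xx, mul_one]
    have u1 := mv h.tx
    have u2 : h.x * h.t = h.t * (h.x * h.z) := mv (xt h.toEE0)
    rw [e1, cn_mul', gx] at fix
    rw [e1]
    have hw := w_y1 h hy
    rcases mem_Z h.toHyp hc with k | k
    · rcases mem_P h.toHyp k with k | k | k | k <;> rw [k] at fix ⊢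
      · rw [cn_1, one_mul, one_mul] at fix
        exact Or.inl ⟨fix, Or.inl (one_mul _)⟩
      · rw [gz, mul_right_inj] at fix
        exact Or.inl ⟨fix, Or.inr s1⟩
      · rw [gf, mul_assoc, mul_right_inj] at fix
        exact Or.inr ⟨by rw [← s1, ← fix, lm h.zz, one_mul], Or.inl s2⟩
      · rw [cn_mul', gz, gf, ← mul_assoc, mul_assoc, mul_right_inj] at fix
        refine Or.inr ⟨by rw [← s1, ← fix, lm h.zz, one_mul], Or.inr ?_⟩
        simp only [mul_assoc, s1, s2, s3, lm s1, lm s2, lm s3]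
    · exfalso
      have e2 : c = c * h.t * h.t := by rw [mul_assoc, h.tt, mul_one]
      rcases mem_P h.toHyp k with k | k | k | k <;> rw [k] at e2 <;> rw [e2] at fix <;>
        rcases hw with hw | hw <;> rw [hw] at fix <;>
        simp only [cn_mul', cn_1, gt, gf, gz] at fix <;>
        simp only [mul_assoc, s1, s2, s3, s4, s5, lm s1, lm s2, lm s3, lm s4, lm s5, h.ff, h.zz,
          lm h.ff, lm h.zz, one_mul, mul_one, mul_right_inj, mul_eq_left, mul_eq_right,
          left_eq_mul, right_eq_mul, mul_left_inj] at fix <;>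
        first | exact f1 fix | exact fz1 fix | exact fz1 (by rw [fix, h.zz]) | exact fz1 (by rw [← fix, h.zz])
  · exact Or.inl (A e.2.1)

omit [Finite G] in
theorem cl_same {s s' : Set G} {v : G} (h1 : s ⊆ closure s') (hv : v ∈ closure s) :
    v ∈ closure s' := (closure_le _).2 h1 hv

/-- `g → g t`, `e → e'`, `w → w z`, `n → n b` -/
def renG (h : EE G) (hg : h.g ≠ 1) (e' : G)
    (he : (e' = h.e * h.t ∧ h.g = h.e ∧ h.e * h.e = 1) ∨ (e' = 1 ∧ h.e = 1)) : EE G :=
  have E1 : e' = 1 ∨ (cn h.a e' = h.b ∧ cn h.b e' = h.a ∧ cn h.f e' = h.f * h.z ∧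
      (e' * e' = 1 ∨ e' * e' = h.t)) := by
    rcases he with ⟨rfl, ge, ee⟩ | ⟨e, -⟩
    · obtain ⟨a, b, c⟩ := e_of h.toHyp (ge ▸ hg)
      refine Or.inr ⟨by rw [cn_mul, a, cn_comm h.tb.symm], by rw [cn_mul, b, cn_comm h.ta.symm],
        by rw [cn_mul, c, cn_comm (h.tf.mul_right (tz h.toHyp)).symm], Or.inl ?_⟩
      rw [mul_assoc, lm h.te.eq, mul_assoc, h.tt, mul_one, ee]
    · exact Or.inl e
  have bT : h.b ∈ E.T1 h.toEE0 := E.b1 h.toEE0
  have tN : ∀ v ∈ E.T1 h.toEE0, cn v h.t ∈ E.T1 h.toEE0 := fun _ hv =>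
    cn_mem (le_normalizer (E.t1 h.toEE0)) hv
  have wb : Commute h.b h.w := comm_w h.toEE0 h.xb.symm h.zb.symm h.fb.symm
  have wz : Commute h.z h.w := comm_w h.toEE0 (E.xz h.toEE0).symm (Commute.refl _) (fz h.toHyp).symm
  { h with
    e := e'
    g := h.g * h.t
    w := h.w * h.z
    n := h.n * h.b
    te := by
      rcases he with ⟨rfl, -⟩ | ⟨rfl, -⟩
      exacts [h.te.mul_right (Commute.refl _), Commute.one_right _]
    he' := E1.imp_right fun e => ⟨e.1, e.2.1, Or.inl e.2.2.1, e.2.2.2⟩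
    hT := by
      rcases he with ⟨rfl, -⟩ | ⟨rfl, e⟩
      · rw [h.hT]
        refine cl_swap ?_ ?_ <;> rintro v (rfl | rfl | rfl | rfl | rfl)
        iterate 4 exact subset_closure (by simp)
        · exact (mul_mem_cancel_right (subset_closure (by simp) : h.t ∈ _)).1
            (subset_closure (by simp))
        iterate 4 exact subset_closure (by simp)
        · exact mul_mem (subset_closure (by simp)) (subset_closure (by simp))
      · rw [h.hT, e]
    he := E1
    wx := show h.x⁻¹ * (h.w * h.z) ∈ h.P by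
      rw [← mul_assoc]; exact mul_mem h.wx (subset_closure (by simp))
    alt := by
      rcases he with ⟨rfl, ge, -⟩ | ⟨rfl, e1⟩
      · rcases h.alt with e | e | e
        · exact Or.inl ⟨e.1, by rw [ge], e.2.2⟩
        · exact absurd (ge.trans e.2.1) hg
        · exact Or.inr (Or.inr ⟨e.1, by rw [ge], e.2.2⟩)
      · rcases h.alt with e | ⟨c1, -, c2, c3, c4, c5, c6⟩ | e
        · exact absurd (e.2.1.trans e1) hg
        · refine Or.inr (Or.inl ⟨c1, rfl, by rw [cn_mul, c2, cn_comm h.tb.symm],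
            by rw [cn_mul, c3, cn_comm h.ta.symm],
            by rw [cn_mul, c4, cn_comm (h.tf.mul_right (tz h.toHyp)).symm], ?_, c6⟩)
          rw [cn_mul, c5, cn_comm (((Commute.refl _).mul_right h.tf).mul_right (tz h.toHyp)).symm]
        · exact absurd (e.2.1.trans e1) hg
    xg := by rw [cn_mul]; exact tN _ h.xg
    yg := by rw [cn_mul]; exact tN _ h.yg
    gg := by
      have : cn h.t h.g ∈ E.T1 h.toEE0 := by
        rcases h.alt with e | e | e
        · rw [e.2.1, cn_comm h.te]; exact E.t1 h.toEE0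
        · rw [e.2.2.2.2.2.1]
          exact mul_mem (mul_mem (E.t1 h.toEE0) (E.f1 h.toEE0)) (E.z1 h.toEE0)
        · rw [e.2.1, cn_comm h.te]; exact E.t1 h.toEE0
      have := mul_mem (mul_mem h.gg this) (E.t1 h.toEE0)
      convert this using 1
      simp only [cn]; group
    tn := by rw [cn_mul, h.tn, cn_comm (h.tb.mul_left (Commute.refl _))]
    nf := h.nf.mul_left h.fb.symm
    nz := h.nz.mul_left h.zb.symm
    nb := h.nb.mul_left (Commute.refl _)
    nn := by rw [mul_assoc, lm h.nb.symm.eq, mul_assoc, h.bb, mul_one, h.nn]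
    nx := h.nx.mul_left h.xb.symm
    ny := h.ny.mul_left h.yb.symm
    an := by rw [cn_mul, h.an, cn_mul', h.ab, cn_comm wb.symm, mul_assoc, wz.eq]
    ws := by rw [cn_mul', h.ws, h.zs]
    ns := by
      rw [cn_mul', h.ns, h.bs]
      simp only [mul_assoc, lm h.nz.symm.eq, h.zb.eq]
    ys := cl_same (by
      have hz : h.z ∈ closure {h.z, h.b, h.w * h.z, h.n * h.b} := subset_closure (by simp)
      have hb : h.b ∈ closure {h.z, h.b, h.w * h.z, h.n * h.b} := subset_closure (by simp)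
      rintro v (rfl | rfl | rfl | rfl)
      exacts [hz, hb, (mul_mem_cancel_right hz).1 (subset_closure (by simp)),
        (mul_mem_cancel_right hb).1 (subset_closure (by simp))]) h.ys
    sw := fun _ => by
      obtain ⟨c1, c2, c3⟩ := h.sw hg
      refine ⟨?_, by rw [cn_mul, c2, nt' h.toEE0], by rw [cn_mul, c3, cn_comm h.st]⟩
      obtain ⟨p, hp, e⟩ := w_eq h.toEE0
      rw [cn_mul, c1, e, cn_mul', xt h.toEE0, cn_comm (comm_P h.toHyp hp (tz h.toHyp) h.tf).symm,
        mul_assoc, mul_assoc, (comm_P h.toHyp hp (Commute.refl _) (fz h.toHyp).symm).eq]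
    mn := by
      have := mul_mem h.mn (subset_closure (by simp) : h.x ∈ closure {h.z, h.f, h.x, h.y})
      convert this using 1
      simp only [mul_assoc, lm (mv h.bm), lm h.nb.symm.eq, lm h.nx.symm.eq, h.xb.eq, lm h.bb,
        one_mul] }

/-- the second step of the normal form -/
def N1 (h : EE G) : Prop := h.g ≠ 1 ∧ h.w = h.x ∧
  ((h.g = h.e ∧ h.e * h.e = 1) ∨
    (h.y = 1 ∧ h.e = 1 ∧ (h.g * h.g = h.x ∨ h.g * h.g = h.x * h.z)))

theorem step2 (hk : KitStmt.{u}) (eu : EUStmt.{u}) (h : EE G) (hg : h.g ≠ 1) :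
    ∃ k : EE G, N1 k := by
  have g1 : h.g * h.t ≠ 1 := fun e => a_ne_b h.toHyp (by
    have := (zg h hg).1
    rwa [eq_inv_of_mul_eq_one_left e, cn_comm h.ta.symm.inv_right] at this)
  have s1 := (E.xz h.toEE0).symm.eq
  have s3 := (fz h.toHyp).symm.eq
  have s4 := (tz h.toHyp).symm.eq
  have s5 := h.tf.symm.eq
  rcases step1 hk eu h hg with ⟨ge, ee, hw | hw⟩ | ⟨hy, he, gt, ⟨hw, gg⟩ | ⟨hw, gg⟩⟩
  · exact ⟨h, hg, hw, Or.inl ⟨ge, ee⟩⟩
  · refine ⟨renG h hg _ (Or.inl ⟨rfl, ge, ee⟩), g1, ?_, Or.inl ⟨?_, ?_⟩⟩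
    · show h.w * h.z = h.x
      rw [hw, mul_assoc, h.zz, mul_one]
    · show h.g * h.t = h.e * h.t
      rw [ge]
    · show h.e * h.t * (h.e * h.t) = 1
      rw [mul_assoc, lm h.te.eq, mul_assoc, h.tt, mul_one, ee]
  · exact ⟨h, hg, hw, Or.inr ⟨hy, he, gg⟩⟩
  · refine ⟨renG h hg _ (Or.inr ⟨rfl, he⟩), g1, ?_, Or.inr ⟨hy, rfl, ?_⟩⟩
    · show h.w * h.z = h.x
      rw [hw, mul_assoc, h.zz, mul_one]
    · show h.g * h.t * (h.g * h.t) = h.x ∨ h.g * h.t * (h.g * h.t) = h.x * h.z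
      have : h.g * h.t * (h.g * h.t) = h.g * h.g * cn h.t h.g * h.t := by simp only [cn]; group
      rw [this, gt]
      rcases gg with gg | gg <;> rw [gg] <;>
        simp only [mul_assoc, s3, s4, s5, lm s3, lm s4, lm s5, h.tt, h.ff, h.zz, lm h.tt, lm h.ff,
          lm h.zz, one_mul, mul_one, true_or, or_true]

theorem zeta (h : EE G) (k : N1 h) :
    h.m * h.n * h.m * h.n = h.x ∨ h.m * h.n * h.m * h.n = h.x * h.z := by
  obtain ⟨hg, hw, gg⟩ := k
  obtain ⟨-, -, gf, gz⟩ := zg h hg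
  obtain ⟨gx, gm, -⟩ := h.sw hg
  have e := zeta_t h.toEE0
  rw [hw, h.xx, one_mul] at e
  rw [hw] at gx
  have s1 := (E.xz h.toEE0).symm.eq
  have s2 := h.xf.symm.eq
  have s3 := (fz h.toHyp).symm.eq
  have s6 := (E.yz h.toEE0).symm.eq
  have s7 := h.yf.symm.eq
  have z1 := h.z1
  have f1 := f1 h.toHyp
  have fz1 := fz1 h.toHyp
  have gn : cn h.n h.g = h.m := by
    rw [← gm, ← cn_mul]
    rcases gg with ⟨ge, ee⟩ | ⟨-, -, gg | gg⟩
    · rw [ge, ee, cn_at1]
    · rw [gg, cn_comm h.mx]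
    · rw [gg, cn_comm (h.mx.mul_right h.mz)]
  have fix : cn (h.m * h.n * h.m * h.n) h.g * (h.m * h.n * h.m * h.n) = 1 := by
    simp only [cn_mul', gm, gn]
    simp only [mul_assoc, lm h.mm, lm h.nn, h.nn, one_mul]
  obtain ⟨q, hq, k⟩ := mem_ZU h.toEE0 h.mn
  have cq : cn q h.t = q := cn_comm (comm_P h.toHyp hq (tz h.toHyp) h.tf).symm
  have k' : h.m * h.n * h.m * h.n = q * h.x := by
    by_cases hy : h.y = 1
    · rw [hy, mul_one, mul_one] at k
      refine (show _ ∨ _ by tauto : h.m * h.n * h.m * h.n = q ∨ _).resolve_left fun k => ?_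
      rw [k, cq, left_eq_mul] at e; exact z1 e
    · rcases k with k | k | k | k
      · rw [k, cq, left_eq_mul] at e; exact absurd e z1
      · exact k
      · rw [k, cn_mul', cq, yt' h.toEE0 hy, mul_assoc, mul_right_inj, mul_right_inj] at e
        exact absurd (by rw [e, h.zz]) fz1
      · rw [k, cn_mul', cn_mul', cq, yt' h.toEE0 hy, xt h.toEE0] at e
        simp only [mul_assoc, lm s6, s3, mul_right_inj, mul_eq_right] at e
        exact absurd e f1
  rw [k'] at fix ⊢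
  rcases mem_P h.toHyp hq with k | k | k | k <;> rw [k] at fix ⊢
  · exact Or.inl (one_mul _)
  · exact Or.inr s1
  all_goals
    simp only [cn_mul', gx, gf, gz] at fix
    simp only [mul_assoc, s1, s2, s3, lm s1, lm s2, lm s3, h.xx, h.ff, h.zz, lm h.xx, lm h.ff,
      lm h.zz, one_mul, mul_one] at fix
    exact absurd fix z1

theorem y_e (hk : KitStmt.{u}) (h : EE G) (k : N1 h) (hy : h.y ≠ 1) :
    cn h.y h.e = h.x * h.y ∨ cn h.y h.e = h.x * h.y * h.z := by
  obtain ⟨hg, hw, gg⟩ := k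
  obtain ⟨ge, ee⟩ := gg.resolve_right fun e => hy e.1
  obtain ⟨ga, gb, gf, gz⟩ := zg h hg
  obtain ⟨gx, -⟩ := h.sw hg
  have yg := h.yg
  rw [hw] at gx
  rw [ge] at ga gb gf gz gx yg
  have gt := cn_comm h.te
  have s1 := (E.xz h.toEE0).symm.eq
  have s2 := h.xf.symm.eq
  have s3 := (fz h.toHyp).symm.eq
  have s4 := (tz h.toHyp).symm.eq
  have s5 := h.tf.symm.eq
  have s6 := (E.yz h.toEE0).symm.eq
  have s7 := h.yf.symm.eq
  have s8 := h.xy.symm.eq
  have u1 : h.x * h.t = h.t * (h.x * h.z) := mv (xt h.toEE0)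
  have u2 : h.y * h.t = h.t * (h.y * h.f) := mv (yt' h.toEE0 hy)
  have z1 := h.z1
  have fz1 := fz1 h.toHyp
  have A : ∀ {u v u' v' : G}, cn u h.e = u' → cn v h.e = v' → cn u h.y = v →
      cn u' (cn h.y h.e) = v' := fun a b c => by rw [← a, cn_cn, c, b]
  have B : ∀ {v : G}, Commute v h.x → Commute v h.y → cn v (cn h.y h.e) = v →
      cn v (cn h.y h.e * h.x * h.y) = v := fun a b c => by
    rw [cn_mul, cn_mul, c, cn_comm a, cn_comm b]
  have hc : cn h.y h.e * h.x * h.y ∈ h.Z := cenZ h.toEE0 (hk G _)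
    (mul_mem (mul_mem yg (E.x1 h.toEE0)) (E.y1 h.toEE0))
    (by rw [cn_mul, cn_mul, A gt (v' := h.t * (h.f * h.z)) (by rw [cn_mul', gt, gf]) (yt h.toEE0 hy)]
        simp only [cn_mul', h.tx, yt h.toEE0 hy, cn_comm h.xf.symm, cn_comm (E.xz h.toEE0).symm,
          cn_comm h.yf.symm, cn_comm (E.yz h.toEE0).symm]
        simp only [mul_assoc, s3, lm s3, lm h.ff, h.ff, h.zz, lm h.zz, one_mul, mul_one])
    (B h.xf.symm h.yf.symm (A (u := h.f * h.z) (by rw [cn_mul', gf, gz, fzz h.toHyp])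
      (by rw [cn_mul', gf, gz, fzz h.toHyp]) (cn_comm (h.yf.mul_right (E.yz h.toEE0)).symm)))
    (B h.xa.symm h.ya.symm (A gb gb (cn_comm h.yb.symm)))
    (B h.xb.symm h.yb.symm (A ga ga (cn_comm h.ya.symm)))
  have sq : cn h.y h.e * cn h.y h.e = 1 := by rw [← cn_mul', h.yy, cn_1]
  have fix : cn (cn h.y h.e) h.e = h.y := by rw [← cn_mul, ee, cn_at1]
  generalize hc' : cn h.y h.e * h.x * h.y = c at hc
  have e1 : cn h.y h.e = c * h.x * h.y := by
    rw [← hc']
    simp only [mul_assoc, s8, lm s8, h.yy, lm h.xx, one_mul, mul_one]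
  rcases mem_Z h.toHyp hc with k | k
  · rw [e1, cn_mul', cn_mul', gx, e1] at fix
    rw [e1]
    rcases mem_P h.toHyp k with k | k | k | k <;> rw [k] at fix ⊢
    · exact Or.inl (by rw [one_mul])
    · exact Or.inr (by simp only [mul_assoc, lm s1, s6])
    all_goals
      simp only [cn_mul', gf, gz] at fix
      simp only [mul_assoc, s1, s2, s3, s6, s7, lm s1, lm s2, lm s3, lm s6, lm s7, h.xx, h.ff, h.zz,
        lm h.xx, lm h.ff, lm h.zz, one_mul, mul_one, mul_eq_left] at fix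
      exact absurd fix z1
  · exfalso
    have e2 : c = c * h.t * h.t := by rw [mul_assoc, h.tt, mul_one]
    rw [e1] at sq
    rcases mem_P h.toHyp k with k | k | k | k <;> rw [k] at e2 <;> rw [e2] at sq <;>
      simp only [mul_assoc, s1, s2, s3, s4, s5, s6, s7, s8, u1, u2, lm s1, lm s2, lm s3, lm s4, lm s5,
        lm s6, lm s7, lm s8, lm u1, lm u2, h.tt, h.xx, h.yy, h.ff, h.zz, lm h.tt, lm h.xx, lm h.yy,
        lm h.ff, lm h.zz, one_mul, mul_one] at sq <;>
      exact fz1 sq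

/-- `y → y f` -/
def renY (h : EE G) (hy : h.y ≠ 1) (hf : cn h.f h.g = h.f * h.z) : EE G :=
  have c1 : ∀ v ∈ E.T1 h.toEE0, v ∈ closure {h.t, h.f, h.a, h.b, h.x, h.y * h.f} := fun v hv =>
    cl_same (by
      rintro v (rfl | rfl | rfl | rfl | rfl | rfl)
      iterate 5 exact subset_closure (by simp)
      exact (mul_mem_cancel_right (subset_closure (by simp) : h.f ∈ _)).1
        (subset_closure (by simp))) hv
  { h with
    y := h.y * h.f
    yy := by rw [mul_assoc, lm h.yf.symm.eq, mul_assoc, h.ff, mul_one, h.yy]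
    yf := h.yf.mul_left (Commute.refl _)
    ya := h.ya.mul_left h.fa
    yb := h.yb.mul_left h.fb
    alt := by
      rcases h.alt with e | e | e
      · exact absurd e.1 hy
      · exact absurd e.1 hy
      · exact Or.inr (Or.inr ⟨by rw [cn_mul, e.1, cn_comm (h.tf.mul_left (Commute.refl _))], e.2⟩)
    xg := c1 _ h.xg
    yg := c1 _ (by
      rw [cn_mul', hf]; exact mul_mem h.yg (mul_mem (E.f1 h.toEE0) (E.z1 h.toEE0)))
    gg := c1 _ h.gg
    xy := h.xy.mul_right h.xf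
    my := h.my.mul_right h.mf
    yr := h.yr.mul_right h.rf
    ny := h.ny.mul_right h.nf
    ys := by
      have fs : cn h.f h.s = h.f * h.z * h.b := by
        nth_rw 1 [← fzz h.toHyp]
        rw [cn_mul', cn_comm h.sf.symm, h.zs]
      have cf : Commute (h.y⁻¹ * cn h.y h.s) h.f := mem_centralizer_singleton_iff.1
        ((closure_le (centralizer {h.f})).2 (by
          rintro v (rfl | rfl | rfl | rfl) <;> refine mem_centralizer_singleton_iff.2 ?_
          exacts [(fz h.toHyp).symm, h.fb.symm,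
            (comm_w h.toEE0 h.xf.symm (fz h.toHyp) (Commute.refl _)).symm, h.nf]) h.ys)
      have := mul_mem h.ys (mul_mem (subset_closure (by simp)) (subset_closure (by simp)) :
        h.z * h.b ∈ closure {h.z, h.b, h.w, h.n})
      convert this using 1
      rw [cn_mul', fs, mul_inv_rev, mul_assoc, ← mul_assoc h.y⁻¹, mul_assoc h.f, lm cf.eq,
        mul_assoc, inv_mul_cancel_left]
    mn := cl_same (by
      rintro v (rfl | rfl | rfl | rfl)
      iterate 3 exact subset_closure (by simp)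
      exact (mul_mem_cancel_right (subset_closure (by simp) : h.f ∈ _)).1
        (subset_closure (by simp))) h.mn }

/-- **EE2** -/
theorem ee2 (hk : KitStmt.{u}) (eu : EUStmt.{u}) : EE2Stmt.{u} := by
  intro G _ _ h hg
  obtain ⟨k, hk1⟩ := step2 hk eu h hg
  have hz := zeta k hk1
  obtain ⟨g1, wx, ⟨ge, ee⟩ | gg⟩ := id hk1
  · by_cases hy : k.y = 1
    · exact ⟨⟨k, g1, wx, hz, Or.inl ⟨ge, ee, fun c => absurd hy c⟩⟩⟩
    rcases y_e hk k hk1 hy with e | e
    · exact ⟨⟨k, g1, wx, hz, Or.inl ⟨ge, ee, fun _ => e⟩⟩⟩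
    · have gf := (zg k g1).2.2.1
      refine ⟨⟨renY k hy gf, g1, wx, hz, Or.inl ⟨ge, ee, fun _ => ?_⟩⟩⟩
      show cn (k.y * k.f) k.e = k.x * (k.y * k.f)
      rw [cn_mul', e, ← ge, gf]
      simp only [mul_assoc, lm (fz k.toHyp).symm.eq, k.zz, mul_one]
  · exact ⟨⟨k, g1, wx, hz, Or.inr gg⟩⟩

theorem eqns_LTE2 : True := by
  have := @N1.eq_1.{0}
  have := @renG.eq_1.{0}
  have := @renY.eq_1.{0}
  trivial

end Cfsg.Agent.H19.LT
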