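import Cfsg.Agent.H19.MWKit

/-! # MW project: facts on `A₇ ≤ GL₄(2)` and the model inside `2⁴:A₇` -/

set_option autoImplicit false
set_option maxRecDepth 100000
set_option synthInstance.maxSize 2048
open scoped Pointwise commutatorElement
open Subgroup

namespace Cfsg.Agent.H19.MW
open Cfsg.Agent.H24.MH Cfsg.Agent.H23.D2 Cfsg.Agent.H8
open Cfsg.Agent.H42 (tb cnt cnt_eq_card allB of_allB)

local notation "C[" A "]" => Subgroup.centralizer (SetLike.coe A)
local notation "N[" A "]" => Subgroup.normalizer (SetLike.coe A)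

theorem blt_t {n m : ℕ} (h : n < m) : Nat.blt n m = true := by rwa [Nat.blt_eq]
theorem blt_f {n m : ℕ} (h : ¬ n < m) : Nat.blt n m = false := by
  rw [← Bool.not_eq_true, Nat.blt_eq]; exact h

theorem m7_I4 : tb m7 I4 = true := by decide +kernel
theorem m7_b1 : tb m7 b1M = true := by decide +kernel
theorem m7_b2 : tb m7 b2M = true := by decide +kernel
theorem m7_h : tb m7 hM = true := by decide +kernel
theorem m7_H : tb m7 HM = true := by decide +kernel
theorem m7_f : tb m7 fM = true := by decide +kernel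
theorem m7_l : tb m7 lM = true := by decide +kernel
theorem m7_L : tb m7 LM = true := by decide +kernel
theorem m7_k : tb m7 kM = true := by decide +kernel

theorem m7_lt {A : ℕ} (h : tb m7 A = true) : A < 65536 := by
  by_contra c
  have h1 : m7 < 2 ^ A := lt_of_lt_of_le (by decide +kernel : m7 < 2 ^ 65536)
    (Nat.pow_le_pow_right (by norm_num) (by omega))
  have h2 : m7 >>> A = 0 := Nat.shiftRight_eq_zero _ _ h1
  have : tb m7 A = false := by
    show Nat.beq ((m7 >>> A) &&& 1) 1 = false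
    rw [h2]; rfl
  rw [h] at this
  exact absurd this (by decide)

theorem m7_all {p : ℕ → Prop} [DecidablePred p]
    (h : allB (fun M => Bool.rec true (decide (p M)) (tb m7 M)) 65536 = true) {M : ℕ}
    (hm : tb m7 M = true) : p M := all_mask h (m7_lt hm) hm

/-- induction along the two generators `17144` (order 5) and `63011` (order 2) -/
theorem m7_ind {P : ℕ → Prop} (h1 : P I4) (hX : ∀ M, P M → P (mm M 17144))
    (hY : ∀ M, P M → P (mm M 63011)) {A : ℕ} (h : tb m7 A = true) : P A := by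
  have e1 : mw μ1 wx7 = 17144 := by decide +kernel
  have e2 : mw μ1 wy7 = 63011 := by decide +kernel
  refine walk_spec hX hY t7 I4 0 h1 (by simp) A ?_
  rw [← e1, ← e2, walk7]
  rw [H42.tb] at h
  simpa [Nat.testBit, Nat.land_comm] using h

theorem m7_XY {A : ℕ} (h : tb m7 A = true) :
    tb m7 (mm A 17144) = true ∧ tb m7 (mm A 63011) = true :=
  m7_all (p := fun A => tb m7 (mm A 17144) = true ∧ tb m7 (mm A 63011) = true) (by decide +kernel) h

theorem m7_mul {A B : ℕ} (hA : tb m7 A = true) (hB : tb m7 B = true) : tb m7 (mm A B) = true := by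
  refine m7_ind (P := fun B => tb m7 (mm A B) = true) ?_ (fun M h => ?_) (fun M h => ?_) hB
  · rwa [mm_I4' (m7_lt hA)]
  · rw [← mm_assoc]; exact (m7_XY h).1
  · rw [← mm_assoc]; exact (m7_XY h).2

theorem m7_inv {A : ℕ} (hA : tb m7 A = true) :
    ∃ B, tb m7 B = true ∧ mm A B = I4 ∧ mm B A = I4 := by
  have key : ∀ X X', tb m7 X' = true → mm X X' = I4 → mm X' X = I4 → X < 65536 → ∀ M,
      (M < 65536 ∧ ∃ B, tb m7 B = true ∧ mm M B = I4 ∧ mm B M = I4) →
      mm M X < 65536 ∧ ∃ B, tb m7 B = true ∧ mm (mm M X) B = I4 ∧ mm B (mm M X) = I4 := by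
    rintro X X' h1 h2 h3 h4 M ⟨h5, B, h6, h7, h8⟩
    refine ⟨mm_lt _ _, mm X' B, m7_mul h1 h6, ?_, ?_⟩
    · rw [mm_assoc, ← mm_assoc X, h2, I4_mm (m7_lt h6), h7]
    · rw [mm_assoc, ← mm_assoc B, h8, I4_mm h4, h3]
  exact (m7_ind (P := fun M => M < 65536 ∧ ∃ B, tb m7 B = true ∧ mm M B = I4 ∧ mm B M = I4)
    ⟨by decide, I4, m7_I4, by decide +kernel, by decide +kernel⟩
    (key 17144 6223 (by decide +kernel) (by decide +kernel) (by decide +kernel) (by decide))
    (key 63011 63011 (by decide +kernel) (by decide +kernel) (by decide +kernel) (by decide)) hA).2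

/-- a multiplicative set of matrices containing the two generators -/
theorem gen7' {P : ℕ → Prop} (hm : ∀ A B, P A → P B → P (mm A B)) (hX : P 17144) (hY : P 63011)
    {A : ℕ} (h : tb m7 A = true) : P A :=
  m7_ind (by simpa [show mm 63011 63011 = I4 by decide +kernel] using hm _ _ hY hY)
    (fun M a => hm _ _ a hX) (fun M a => hm _ _ a hY) h

/-- the normal closure of `b1M` is everything -/
theorem gen7 {P : ℕ → Prop} (hm : ∀ A B, P A → P B → P (mm A B))
    (hc : ∀ A B B', tb m7 B = true → tb m7 B' = true → mm B B' = I4 → P A → P (mm B (mm A B')))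
    (hb : P b1M) {A : ℕ} (h : tb m7 A = true) : P A := by
  refine gen7' hm ?_ ?_ h
  · have := hm _ _ (hc _ 7346 48920 (by decide +kernel) (by decide +kernel) (by decide +kernel) hb)
      (hc _ 11377 64385 (by decide +kernel) (by decide +kernel) (by decide +kernel) hb)
    rwa [show mm (mm 7346 (mm b1M 48920)) (mm 11377 (mm b1M 64385)) = 17144 by decide +kernel]
      at this
  · have := hm _ _ (hc _ 7877 47464 (by decide +kernel) (by decide +kernel) (by decide +kernel) hb)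
      (hc _ 4789 59720 (by decide +kernel) (by decide +kernel) (by decide +kernel) hb)
    rwa [show mm (mm 7877 (mm b1M 47464)) (mm 4789 (mm b1M 59720)) = 63011 by decide +kernel]
      at this

/-- one class of involutions -/
theorem inv7 {A : ℕ} (h : tb m7 A = true) (h2 : mm A A = I4) (h1 : A ≠ I4) :
    ∃ P P', tb m7 P = true ∧ tb m7 P' = true ∧ mm P P' = I4 ∧ mm P' P = I4 ∧
      mm P (mm b1M P') = A ∧ mm P' (mm A P) = b1M := by
  obtain ⟨LB, LP, -, hLP, hp⟩ := xok7.px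
  obtain ⟨P, hP, e⟩ := ((hp A (m7_lt h) h).1 h2).1.resolve_left h1
  obtain ⟨P', a, b, c⟩ := m7_inv (hLP P hP)
  refine ⟨P, P', hLP P hP, a, b, c, ?_, ?_⟩
  · rw [← mm_assoc, e, mm_assoc, b, mm_I4' (m7_lt h)]
  · rw [← e, ← mm_assoc, c, I4_mm (by decide)]

/-- a normal set of matrices containing an involution is everything -/
theorem gen7_inv {P : ℕ → Prop} (hm : ∀ A B, P A → P B → P (mm A B))
    (hc : ∀ A B B', tb m7 B = true → tb m7 B' = true → mm B B' = I4 → P A → P (mm B (mm A B')))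
    {D : ℕ} (hD : tb m7 D = true) (h2 : mm D D = I4) (h1 : D ≠ I4) (hP : P D) {A : ℕ}
    (h : tb m7 A = true) : P A := by
  obtain ⟨Q, Q', a, b, c, d, -, e⟩ := inv7 hD h2 h1
  exact gen7 hm hc (e ▸ hc _ _ _ b a d hP) h

/-- at most four fixed vectors, in particular no transvections -/
theorem fix7 {A : ℕ} (h : tb m7 A = true) (h1 : A ≠ I4) :
    cnt (fun v => Nat.beq (mm A v) v) 16 ≤ 4 :=
  m7_all (p := fun A => A ≠ I4 → cnt (fun v => Nat.beq (mm A v) v) 16 ≤ 4) (by decide +kernel) h h1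

theorem sq7 {A : ℕ} (h : tb m7 A = true) (h2 : mm A A = I4) :
    ∃ B, tb m7 B = true ∧ mm B B = A := by
  by_cases h1 : A = I4
  · exact ⟨I4, m7_I4, by rw [h1]; decide +kernel⟩
  obtain ⟨P, P', a, b, c, d, e, -⟩ := inv7 h h2 h1
  refine ⟨mm P (mm 26915 P'), m7_mul a (m7_mul (by decide +kernel) b), ?_⟩
  rw [mm_assoc, mm_assoc, ← mm_assoc P', d, I4_mm (mm_lt _ _), ← mm_assoc 26915,
    show mm 26915 26915 = b1M by decide +kernel, e]

theorem four7_aux {D : ℕ} (h : tb m7 D = true) : mm D D = I4 → D ≠ I4 → D ≠ b1M →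
    mm b1M D = mm D b1M → ∃ L ∈ [19246, 17709, 38283, 19475, 19489, 5274, 34385, 33649],
      tb m7 L = true ∧ mm L b1M = mm D L ∧ mm L D = mm (mm b1M D) L :=
  m7_all (p := fun D : ℕ => mm D D = I4 → D ≠ I4 → D ≠ b1M → mm b1M D = mm D b1M →
    ∃ L ∈ ([19246, 17709, 38283, 19475, 19489, 5274, 34385, 33649] : List ℕ),
      tb m7 L = true ∧ mm L b1M = mm D L ∧ mm L D = mm (mm b1M D) L) (by decide +kernel) h

/-- every four-group is normalised by an element permuting its involutions cyclically -/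
theorem four7 {A B : ℕ} (hA : tb m7 A = true) (hB : tb m7 B = true) (a2 : mm A A = I4)
    (b2 : mm B B = I4) (a1 : A ≠ I4) (b1 : B ≠ I4) (ab : A ≠ B) (c : mm A B = mm B A) :
    ∃ L, tb m7 L = true ∧ mm L A = mm B L ∧ mm L B = mm (mm A B) L := by
  obtain ⟨P, P', p, p', c1, c2, e, e'⟩ := inv7 hA a2 a1
  have can : ∀ X, X < 65536 → mm P (mm P' X) = X := fun X hX => by rw [← mm_assoc, c1, I4_mm hX]
  have can' : ∀ X, X < 65536 → mm P' (mm P X) = X := fun X hX => by rw [← mm_assoc, c2, I4_mm hX]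
  have lB := m7_lt hB
  have lP := m7_lt p
  obtain ⟨L, -, l1, l2, l3⟩ := four7_aux (D := mm P' (mm B P)) (m7_mul p' (m7_mul hB p))
    (by rw [mm_assoc, mm_assoc, can _ (mm_lt _ _), ← mm_assoc B, b2, I4_mm lP, c2])
    (fun h => b1 (by
      have := congrArg (fun X => mm P (mm X P')) h
      simp only [mm_assoc] at this
      rwa [c1, can _ (mm_lt _ _), mm_I4' lB, I4_mm (m7_lt p'), c1] at this))
    (fun h => ab (by
      rw [← e, ← h]
      simp only [mm_assoc]
      rw [c1, can _ (mm_lt _ _), mm_I4' lB]))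
    (by
      rw [← e']
      simp only [mm_assoc]
      rw [can _ (mm_lt _ _), can _ (mm_lt _ _), ← mm_assoc A, c, mm_assoc])
  refine ⟨mm P (mm L P'), m7_mul p (m7_mul l1 p'), ?_, ?_⟩
  · have := congrArg (fun X => mm P (mm X P')) l2
    simp only [mm_assoc] at this
    rw [can _ (mm_lt _ _)] at this
    rw [← this, ← e]
    simp only [mm_assoc]
    rw [can' _ (mm_lt _ _)]
  · have := congrArg (fun X => mm P (mm X P')) l3
    rw [← e'] at this
    simp only [mm_assoc] at this ⊢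
    rwa [c1, mm_I4' lB, can _ (mm_lt _ _), can _ (mm_lt _ _)] at this

theorem tr7 {v : ℕ} (hv : v < 16) (h0 : v ≠ 0) : ∃ A, tb m7 A = true ∧ mm A 1 = v := by
  obtain ⟨A, a, b⟩ := tr_spec v hv h0
  exact ⟨A, xok7.tr A a, b⟩

/-- the stabiliser of the vector `1` is transitive on the other nonzero vectors -/
theorem stab7 {v : ℕ} (hv : v < 16) (h2 : 2 ≤ v) :
    ∃ A, tb m7 A = true ∧ mm A 1 = 1 ∧ mm A 2 = v := by
  obtain ⟨A, -, h⟩ := (by decide +kernel : ∀ v < 16, 2 ≤ v → ∃ A ∈ [I4, 18481, 11585, 12113, 11873,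
    11377, 9601, 10129, 9889, 9393, 10689, 11217, 10977, 10481],
    tb m7 A = true ∧ mm A 1 = 1 ∧ mm A 2 = v) v hv h2
  exact ⟨A, h⟩

/-- the centre of the stabiliser of the vector `1` -/
theorem stab_cent {A : ℕ} (h : tb m7 A = true) (h1 : mm A 19489 = mm 19489 A)
    (h2 : mm A 11585 = mm 11585 A) : A = I4 :=
  m7_all (p := fun A => mm A 19489 = mm 19489 A → mm A 11585 = mm 11585 A → A = I4)
    (by decide +kernel) h h1 h2

theorem stab_mem : (tb m7 19489 = true ∧ mm 19489 1 = 1) ∧ tb m7 11585 = true ∧ mm 11585 1 = 1 := by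
  decide +kernel

/-- the centraliser of the four-group -/
theorem cenB7 {A : ℕ} (h : tb m7 A = true) (h1 : mm A b1M = mm b1M A) (h2 : mm A b2M = mm b2M A) :
    ∃ D ∈ LV, A = D ∨ A = mm D lM ∨ A = mm D LM :=
  m7_all (p := fun A => mm A b1M = mm b1M A → mm A b2M = mm b2M A →
    ∃ D ∈ LV, A = D ∨ A = mm D lM ∨ A = mm D LM) (by decide +kernel) h h1 h2

/-- the Sylow `2`-subgroup is self-normalising -/
theorem nd8 {R : ℕ} (h : tb m7 R = true) (h1 : ∀ n < 128, ∃ m < 128, mm R (am n) = mm (am m) R) :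
    ∃ n < 128, R = am n := by
  have key : ∀ n < 128, ∃ k < 8, am n = am (16 * k) := by decide +kernel
  have h2 : ∀ n < 128, ∃ k < 8, mm R (am n) = mm (am (16 * k)) R := fun n hn => by
    obtain ⟨m, a, b⟩ := h1 n hn
    obtain ⟨k, c, d⟩ := key m a
    exact ⟨k, c, d ▸ b⟩
  obtain ⟨k, a, b⟩ := m7_all (p := fun R : ℕ => (∃ k < (8 : ℕ), mm R (am 32) = mm (am (16 * k)) R) →
    (∃ k < (8 : ℕ), mm R (am 64) = mm (am (16 * k)) R) → ∃ k < (8 : ℕ), R = am (16 * k))
    (by decide +kernel) h (h2 32 (by norm_num)) (h2 64 (by norm_num))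
  exact ⟨16 * k, by omega, b⟩

/-- the torus element used for the outer involution -/
theorem invb7 {M : ℕ} (h : tb m7 M = true) (h3 : mm M (mm M M) = I4)
    (hf : ∀ v < 16, mm M v = v → v = 0) (hn : ∀ D ∈ LV, ∃ D' ∈ LV, mm M D = mm D' M)
    (hc : ∀ D ∈ LV, mm M D = mm D M → D = I4) : ∃ k < 8, mm (am (16 * k)) M = mm hM (am (16 * k)) :=
  m7_all (p := fun M => mm M (mm M M) = I4 → (∀ v < 16, mm M v = v → v = 0) →
    (∀ D ∈ LV, ∃ D' ∈ LV, mm M D = mm D' M) → (∀ D ∈ LV, mm M D = mm D M → D = I4) →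
    ∃ k < 8, mm (am (16 * k)) M = mm hM (am (16 * k))) (by decide +kernel) h h3 hf hn hc

theorem norm7 : Norm7Stmt := by
  have step : ∀ R A A', tb m7 A' = true → mm A' A = I4 → mm A A' = I4 → tb m7 A = true →
      R < 65536 → (∀ v < 16, mm R v = 0 → v = 0) →
      (∀ A, tb m7 A = true → ∃ A', tb m7 A' = true ∧ mm R A = mm A' R) →
      (∀ v < 16, mm (mm A' R) v = 0 → v = 0) ∧
      (∀ B, tb m7 B = true → ∃ B', tb m7 B' = true ∧ mm (mm A' R) B = mm B' (mm A' R)) ∧
      (tb m7 (mm A' R) = true → tb m7 R = true) := by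
    intro R A A' a1 a2 a3 a4 hR hi hn
    refine ⟨fun v hv e => hi v hv ?_, fun B hB => ?_, fun e => ?_⟩
    · have := congrArg (mm A) e
      rwa [← mm_assoc, ← mm_assoc, a3, I4_mm hR, mm_zero] at this
    · obtain ⟨B', b1, b2⟩ := hn B hB
      refine ⟨mm A' (mm B' A), m7_mul a1 (m7_mul b1 a4), ?_⟩
      simp only [mm_assoc]
      rw [← mm_assoc A, a3, I4_mm hR, b2]
    · have := m7_mul a4 e
      rwa [← mm_assoc, a3, I4_mm hR] at this
  intro R hR hi hn
  obtain ⟨A, a1, a2⟩ := tr7 (mm_vec_lt R (v := 1) (by norm_num))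
    fun e => absurd (hi 1 (by norm_num) e) one_ne_zero
  obtain ⟨A', b1, b2, b3⟩ := m7_inv a1
  obtain ⟨i1, n1, r1⟩ := step R A A' b1 b3 b2 a1 hR hi hn
  have e1 : mm (mm A' R) 1 = 1 := by rw [mm_assoc, ← a2, ← mm_assoc, b3]; decide +kernel
  refine r1 ?_
  generalize hR1 : mm A' R = R1 at i1 n1 e1
  have lR1 : R1 < 65536 := hR1 ▸ mm_lt _ _
  obtain ⟨D, d1, d2, d3⟩ := stab7 (mm_vec_lt R1 (v := 2) (by norm_num)) (by
    by_contra c
    have : mm R1 2 = 0 ∨ mm R1 2 = 1 := by omega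
    rcases this with e | e
    · exact absurd (i1 2 (by norm_num) e) (by norm_num)
    · refine absurd (i1 3 (by norm_num) ?_) (by norm_num)
      rw [show 3 = 1 ^^^ 2 by decide, mm_xor _ (by norm_num) (by norm_num), e1, e]; rfl)
  obtain ⟨D', c1, c2, c3⟩ := m7_inv d1
  obtain ⟨i2, n2, r2⟩ := step R1 D D' c1 c3 c2 d1 lR1 i1 n1
  have e2 : mm (mm D' R1) 1 = 1 := by rw [mm_assoc, e1, ← d2, ← mm_assoc, c3, d2]; decide +kernel
  have e3 : mm (mm D' R1) 2 = 2 := by rw [mm_assoc, ← d3, ← mm_assoc, c3]; decide +kernel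
  refine r2 ?_
  generalize hR2 : mm D' R1 = R2 at i2 n2 e2 e3
  have lR2 : R2 < 65536 := hR2 ▸ mm_lt _ _
  rw [mm_e0, col_eq] at e2
  rw [mm_e1, col_eq] at e3
  obtain ⟨j, hj, rfl⟩ : ∃ j < 256, R2 = 33 + 256 * j := ⟨R2 / 256, by omega, by omega⟩
  rcases (by decide +kernel : ∀ j < 256, (∀ v < 16, mm (33 + 256 * j) v = 0 → v = 0) →
    tb m7 (33 + 256 * j) = true ∨ ∃ k < 256, mm (33 + 256 * j) (33 + 256 * k) = I4 ∧
      (tb m7 (mm (mm (33 + 256 * j) 17144) (33 + 256 * k)) = false ∨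
       tb m7 (mm (mm (33 + 256 * j) 63011) (33 + 256 * k)) = false)) j hj i2 with h | ⟨k, -, a, b⟩
  · exact h
  obtain ⟨X, x1, x2⟩ := n2 17144 (by decide +kernel)
  obtain ⟨Y, y1, y2⟩ := n2 63011 (by decide +kernel)
  rw [x2, y2, mm_assoc, mm_assoc, a, mm_I4' (m7_lt x1), mm_I4' (m7_lt y1), x1, y1] at b
  simp at b

variable {G : Type*} [Group G]

theorem act_congr {σ τ : ℕ → G} (e : ∀ v < 16, τ v = σ v) {g : G} {M : ℕ} :
    Act τ g M ↔ Act σ g M :=
  and_congr_right fun _ => forall₂_congr fun v hv => by rw [e v hv, e _ (mm_vec_lt _ hv)]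

theorem act_inv {σ : ℕ → G} {g : G} {M : ℕ} (a : Act σ g M) (h : tb m7 M = true) :
    ∃ M', tb m7 M' = true ∧ mm M M' = I4 ∧ mm M' M = I4 ∧ Act σ g⁻¹ M' := by
  obtain ⟨M', a1, a2, a3⟩ := m7_inv h
  exact ⟨M', a1, a2, a3, a.inv a2 (m7_lt a1)⟩

/-- the model built from the basic configuration -/
def thD (σ : ℕ → G) (h f b : G) (n : ℕ) : G :=
  σ (n % 16) * tau σ h b (n / 16 % 4 * 4) * f ^ (n / 64)

section D1
variable {A : Subgroup G} {σ : ℕ → G} {h f k b : G} (D : D1 A σ h f k b)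
include D

theorem thD_low {v : ℕ} (hv : v < 16) : thD σ h f b v = σ v := by
  rw [thD, Nat.mod_eq_of_lt hv, show v / 16 % 4 * 4 = 0 by omega, show v / 64 = 0 by omega,
    D.pre2.zero]; simp

theorem thD_up {u : ℕ} (hu : u < 16) : thD σ h f b (up u) = tau σ h b u := by
  have e : u = (u % 4) ^^^ (u / 4 * 4) := by interval_cases u <;> rfl
  rw [thD, show up u % 16 = u % 4 by unfold up; omega, show up u / 16 % 4 * 4 = u / 4 * 4 by
    unfold up; omega, show up u / 64 = 0 by unfold up; omega, pow_zero, mul_one,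
    ← D.tau_low (u := u % 4) (by omega), ← D.pre2 _ (by omega) _ (by omega), ← e]

theorem thD_act {n : ℕ} (hn : n < 128) : Act σ (thD σ h f b n) (am n) := by
  have a := (D.pre.act_self (u := n % 16) (by omega)).mul
    (D.act_tau (u := n / 16 % 4 * 4) (by omega))
  rw [I4_mm (D.act_tau (u := n / 16 % 4 * 4) (by omega)).1] at a
  unfold thD am
  by_cases c : n < 64
  · rw [show n / 64 = 0 by omega, pow_zero, blt_t c]
    exact a.mul Act.one
  · rw [show n / 64 = 1 by omega, pow_one, blt_f c]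
    exact a.mul D.af

theorem thD_tm : TM (thD σ h f b) := by
  have B := b0_of_bas D.bas
  constructor
  · intro n hn m hm
    have l1 : mm (am n) (m % 16) < 16 := mm_vec_lt _ (by omega)
    have l2 := xor_lt16 (u := n % 16) (by omega) l1
    have key : ∀ X, (X = I4 ∨ X = fM) → ∀ j < 4, ∀ i < 4, j ^^^ mm X (i * 4) / 4 < 4 ∧
        (j ^^^ mm X (i * 4) / 4) * 4 = j * 4 ^^^ mm X (i * 4) := by
      rintro X (rfl | rfl) <;> decide +kernel
    have hX : (bif Nat.blt n 64 then I4 else fM) = I4 ∨ (bif Nat.blt n 64 then I4 else fM) = fM := by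
      cases Nat.blt n 64 <;> simp
    obtain ⟨k1, k2⟩ := key _ hX (n / 16 % 4) (by omega) (m / 16 % 4) (by omega)
    have a2 : Act (tau σ h b) (f ^ (n / 64)) (bif Nat.blt n 64 then I4 else fM) := by
      by_cases c : n < 64
      · rw [show n / 64 = 0 by omega, pow_zero, blt_t c]; exact Act.one
      · rw [show n / 64 = 1 by omega, pow_one, blt_f c]
        exact D.af2
    have a3 : f ^ ((n / 64 + m / 64) % 2) = f ^ (n / 64) * f ^ (m / 64) := by
      rw [← pow_add]
      exact (pow_eq_pow_mod _ (by rw [pow_two, D.ff])).symm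
    have e1 : tm n m % 16 = n % 16 ^^^ mm (am n) (m % 16) := by unfold tm; omega
    have e2 : tm n m / 16 % 4 * 4 =
        n / 16 % 4 * 4 ^^^ mm (bif Nat.blt n 64 then I4 else fM) (m / 16 % 4 * 4) := by
      rw [← k2]; unfold tm; omega
    have e3 : tm n m / 64 = (n / 64 + m / 64) % 2 := by unfold tm; omega
    have a1 := (thD_act D hn).mul_eq (v := m % 16) (by omega)
    conv_rhs => rw [thD, e1, e2, e3, a3, D.pre _ (by omega) _ l1,
      D.pre2 _ (by omega) _ (mm_vec_lt _ (by omega)), D.pre.comm (by omega) l1]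
    conv_lhs => rw [thD.eq_1 σ h f b m, ← mul_assoc, ← mul_assoc, a1, thD]
    have a4 := a2.mul_eq (v := m / 16 % 4 * 4) (by omega)
    simp only [mul_assoc]
    rw [← mul_assoc (f ^ (n / 64)), a4, mul_assoc]
  · intro n hn m hm e
    have e1 := B.unique (thD_act D hn) (e ▸ thD_act D hm)
    have e2 := (by decide +kernel : ∀ j < 8, ∀ i < 8, am (16 * j) = am (16 * i) → j = i)
      (n / 16) (by omega) (m / 16) (by omega) (by
        have : ∀ n < 128, am (16 * (n / 16)) = am n := by decide +kernel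
        rw [this n hn, this m hm, e1])
    unfold thD at e
    rw [e2, show n / 64 = m / 64 by omega, mul_left_inj, mul_left_inj] at e
    have := B.inj2 (by omega) (by omega) e
    omega

theorem thD_VV : VV (thD σ h f b) = A := by
  ext x
  rw [(thD_tm D).mem_VV]
  constructor
  · rintro ⟨n, hn, rfl⟩
    rw [thD_low D hn]; exact D.bas.mem n hn
  · intro hx
    obtain ⟨n, hn, rfl⟩ := D.bas.surj x hx
    exact ⟨n, hn, thD_low D hn⟩

theorem thD_UU : UU (thD σ h f b) = D.A2 := by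
  ext x
  rw [(thD_tm D).mem_UU]
  exact exists_congr fun u => and_congr_right fun hu => by rw [thD_up D hu]

end D1

/-- the model exists in `2⁴:A₇` -/
theorem exists_theta {V : Subgroup G} {σ : ℕ → G} (X : Aut V σ m7) :
    ∃ θ : ℕ → G, TM θ ∧ VV θ = V ∧ (∀ v < 16, θ v = σ v) ∧ Aut (VV θ) θ m7 ∧
      ∃ h, Act θ h hM ∧ Act (fun u => θ (up u)) h hM := by
  obtain ⟨h, f, k, b, D⟩ := exists_D1 X xok7
  have e := fun v hv => thD_low D (v := v) hv
  refine ⟨_, thD_tm D, thD_VV D, e, ⟨(thD_tm D).bV.bas (by rw [thD_VV D]; exact D.bas.cen),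
    fun g hg => ?_, fun M hM => ?_⟩, h, (act_congr e).2 D.ah,
    (act_congr fun u hu => thD_up D hu).2 D.ah2⟩
  · rw [thD_VV D] at hg
    obtain ⟨M, a, c⟩ := X.act g hg
    exact ⟨M, a, (act_congr e).2 c⟩
  · obtain ⟨g, c⟩ := X.real M hM
    exact ⟨g, (act_congr e).2 c⟩

theorem card_N {V : Subgroup G} {σ : ℕ → G} (X : Aut V σ m7) : Nat.card N[V] = 40320 := by
  classical
  choose! r hr using X.real
  have B := b0_of_bas X.bas
  let F : Fin 16 × ((Finset.range 65536).filter fun i => tb m7 i = true) → N[V] := fun p =>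
    ⟨σ p.1 * r p.2, B.mem_norm (X.bas.act_mul_left (B.mem _ p.1.2)
      (hr _ (Finset.mem_filter.1 p.2.2).2))⟩
  have hF : Function.Bijective F := by
    constructor
    · rintro ⟨u, A⟩ ⟨v, A'⟩ e
      have e1 : σ u * r A = σ v * r A' := congrArg Subtype.val e
      have e2 : (A : ℕ) = A' := B.unique
        (X.bas.act_mul_left (B.mem _ u.2) (hr _ (Finset.mem_filter.1 A.2).2))
        (e1 ▸ X.bas.act_mul_left (B.mem _ v.2) (hr _ (Finset.mem_filter.1 A'.2).2))
      rw [e2, mul_left_inj] at e1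
      exact Prod.ext (Fin.ext (B.inj2 u.2 v.2 e1)) (Subtype.ext e2)
    · rintro ⟨g, hg⟩
      obtain ⟨A, a, c⟩ := X.act g hg
      obtain ⟨v, hv, e⟩ := X.bas.same (hr A a) c
      exact ⟨(⟨v, hv⟩, ⟨A, Finset.mem_filter.2 ⟨Finset.mem_range.2 (m7_lt a), a⟩⟩),
        Subtype.ext e.symm⟩
  rw [← Nat.card_eq_of_bijective F hF, Nat.card_prod, Nat.card_eq_finsetCard, ← cnt_eq_card, cnt7]
  simp

theorem sylow_N {θ : ℕ → G} (h : TM θ) (X : Aut (VV θ) θ m7) : IsSylowIn 2 (T0 θ) N[VV θ] := by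
  refine ⟨h.T0_le_NV, h.isPGroup, fun c => ?_⟩
  have := card_eq_card_mul_relIndex h.T0_le_NV
  rw [card_N X, h.card_T0] at this
  omega

theorem sylow_T0 {θ : ℕ → G} (h : TM θ) (X : Aut (VV θ) θ m7) (ho : Odd (N[VV θ]).index) :
    IsSylowIn 2 (T0 θ) ⊤ :=
  haveI : Fact (Nat.Prime 2) := ⟨Nat.prime_two⟩
  (sylow_N h X).trans_of_not_dvd le_top (by
    rw [relIndex_top_right]; exact fun c => (Nat.not_even_iff_odd.2 ho) (even_iff_two_dvd.2 c))

theorem eqns_MWA7 : True := by
  have := @thD.eq_1.{0}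
  trivial

end Cfsg.Agent.H19.MW
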