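import Cfsg.Agent.H19.MWKit3

/-! # MW project: the double of `V` -/

set_option autoImplicit false
set_option maxRecDepth 100000
set_option synthInstance.maxSize 2048
open scoped Pointwise commutatorElement
open Subgroup

namespace Cfsg.Agent.H19.MW
open Cfsg.Agent.H24.MH Cfsg.Agent.H23.D2 Cfsg.Agent.H8
open Cfsg.Agent.H42 (tb cnt cnt_eq_card)

local notation "C[" A "]" => Subgroup.centralizer (SetLike.coe A)
local notation "N[" A "]" => Subgroup.normalizer (SetLike.coe A)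

universe u v
variable {G : Type*} [Group G]

theorem fix7v : ∀ v < 16, v ≠ 0 → ∃ A ∈ [10689, 5423, 6637, 5262, 4775, 4955, 4843, 33086, 8539,
    4789, 4733, 7478, 4702, 4826, 4986], tb m7 A = true ∧ mm A v = v ∧
      ∀ s < 16, mm A s = s ∨ mm A s = s ^^^ v → s = 0 ∨ s = v := by decide +kernel

/-- distinct nonzero columns -/
def dcol (M : ℕ) : Bool :=
  !Nat.beq (mm M 1) 0 && !Nat.beq (mm M 2) 0 && !Nat.beq (mm M 4) 0 && !Nat.beq (mm M 8) 0 &&
  !Nat.beq (mm M 3) 0 && !Nat.beq (mm M 5) 0 && !Nat.beq (mm M 9) 0 && !Nat.beq (mm M 6) 0 &&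
  !Nat.beq (mm M 10) 0 && !Nat.beq (mm M 12) 0

theorem cnt_dcol : cnt dcol 65536 = 32760 := by decide +kernel

theorem dcol_of {M : ℕ} (h : ∀ v < 16, mm M v = 0 → v = 0) : dcol M = true := by
  have k : ∀ v < 16, v ≠ 0 → (!Nat.beq (mm M v) 0) = true := fun v hv h0 => by
    rw [Bool.not_eq_true', ← Bool.not_eq_true, Nat.beq_eq]; exact fun e => h0 (h v hv e)
  simp only [dcol, Bool.and_eq_true]
  refine ⟨⟨⟨⟨⟨⟨⟨⟨⟨?_, ?_⟩, ?_⟩, ?_⟩, ?_⟩, ?_⟩, ?_⟩, ?_⟩, ?_⟩, ?_⟩ <;> exact k _ (by norm_num) (by norm_num)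

theorem JD.trans {J O : Subgroup G} {θ : ℕ → G} (h : JD J O θ) {v w : G} (hv : v ∈ VV θ)
    (hw : w ∈ VV θ) (v1 : v ≠ 1) (w1 : w ≠ 1) : ∃ c ∈ J, c ∈ N[VV θ] ∧ c * v * c⁻¹ = w := by
  have key : ∀ v ∈ VV θ, v ≠ 1 → ∃ c ∈ J, c ∈ N[VV θ] ∧ c * θ 1 * c⁻¹ = v := fun v hv v1 => by
    obtain ⟨a, ha, rfl⟩ := h.tm.mem_VV.1 hv
    obtain ⟨A, a1, a2⟩ := tr7 ha fun e => v1 (by rw [e, h.tm.zero])
    obtain ⟨c, c1, c2⟩ := h.real A a1
    exact ⟨c, c1, h.tm.bV.mem_norm c2, by rw [c2.2 1 (by norm_num), a2]⟩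
  obtain ⟨c, c1, c2, rfl⟩ := key v hv v1
  obtain ⟨d, d1, d2, rfl⟩ := key w hw w1
  exact ⟨d * c⁻¹, mul_mem d1 (inv_mem c1), mul_mem d2 (inv_mem c2), by group⟩

namespace Ctx
variable {t : G} {J O : Subgroup G} {θ : ℕ → G} (h : Ctx t J O θ)
include h

theorem cj_tv {c n v : G} (hc : c ∈ J) (e : n * t * n⁻¹ = t * v) :
    c * n * c⁻¹ * t * (c * n * c⁻¹)⁻¹ = t * (c * v * c⁻¹) := by
  have h1 : c⁻¹ * t * c = t := by rw [mul_assoc, ← h.JC c hc]; group
  calc _ = c * (n * (c⁻¹ * t * c) * n⁻¹) * c⁻¹ := by group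
    _ = c * t * c⁻¹ * (c * v * c⁻¹) := by rw [h1, e]; group
    _ = _ := by rw [h.JC c hc, mul_inv_cancel_right]

variable [Finite G]

theorem tr_all {n v : G} (hn : n ∈ N[VV θ]) (hv : v ∈ VV θ) (h1 : v ≠ 1)
    (e : n * t * n⁻¹ = t * v) : ∀ w ∈ VV θ, ∃ g ∈ C[VV θ], g * t * g⁻¹ = t * w := by
  classical
  have B := h.tm.bV
  by_cases c : ∃ v ∈ VV θ, v ≠ 1 ∧ ∃ g ∈ C[VV θ], g * t * g⁻¹ = t * v
  · obtain ⟨v, hv, v1, g, hg, e⟩ := c
    intro w hw
    by_cases w1 : w = 1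
    · exact ⟨1, one_mem _, by simp [w1]⟩
    obtain ⟨c, c1, c2, rfl⟩ := h.trans hv hw v1 w1
    exact ⟨_, C_conj c2 hg, h.cj_tv c1 e⟩
  exfalso
  push Not at c
  have key : ∀ u < 16, ∃ m ∈ N[VV θ], m * t * m⁻¹ = t * θ u := fun u hu => by
    by_cases w1 : θ u = 1
    · exact ⟨1, one_mem _, by simp [w1]⟩
    obtain ⟨c, c1, c2, e1⟩ := h.trans hv (B.mem u hu) h1 w1
    exact ⟨_, mul_mem (mul_mem c2 hn) (inv_mem c2), e1 ▸ h.cj_tv c1 e⟩
  choose! m m1 m2 using key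
  choose! r r1 r2 using h.real
  have ex : ∀ p : Fin 16 × ((Finset.range 65536).filter fun i => tb m7 i = true),
      ∃ M, Act θ (m p.1 * r p.2) M := fun p =>
    B.exists_act (mul_mem (m1 _ p.1.2) (B.mem_norm (r2 _ (Finset.mem_filter.1 p.2.2).2)))
  choose f hf using ex
  have := Nat.card_le_card_of_injective (fun p => (⟨f p, Finset.mem_filter.2
    ⟨Finset.mem_range.2 (hf p).1, dcol_of (B.mat_inj (hf p))⟩⟩ :
      (Finset.range 65536).filter fun i => dcol i = true)) (by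
    rintro ⟨u, A, hA⟩ ⟨u', A', hA'⟩ e
    have e1 : f (u, ⟨A, hA⟩) = f (u', ⟨A', hA'⟩) := congrArg Subtype.val e
    have a1 := hf (u, ⟨A, hA⟩)
    have a2 := hf (u', ⟨A', hA'⟩)
    rw [e1] at a1
    have hA1 := (Finset.mem_filter.1 hA).2
    have hA2 := (Finset.mem_filter.1 hA').2
    have k : ∀ (u : Fin 16) A, tb m7 A = true → m u * r A * t * (m u * r A)⁻¹ = t * θ u :=
      fun u A hA => by rw [← m2 u u.2, mul_assoc (m u), h.JC _ (r1 A hA)]; group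
    have s := B.same' a1 a2
    simp only at s a1 a2
    have e2 : u = u' := by
      by_contra ne
      refine c (θ u' * (θ u)⁻¹) (mul_mem (B.mem _ u'.2) (inv_mem (B.mem _ u.2)))
        (fun e => ne (Fin.ext (B.inj2 u.2 u'.2 (mul_inv_eq_one.1 e).symm))) _ s ?_
      have e3 := cj_of_C s (inv_mem (B.mem _ u.2))
      calc _ = m u' * r A' * (m u * r A)⁻¹ * (t * θ u) * (m u' * r A' * (m u * r A)⁻¹)⁻¹ *
            (m u' * r A' * (m u * r A)⁻¹ * (θ u)⁻¹ * (m u' * r A' * (m u * r A)⁻¹)⁻¹) := by group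
        _ = _ := by rw [e3, ← k u A hA1, ← mul_assoc t, ← k u' A' hA2]; group
    subst e2
    have s2 := B.same a1 a2
    rw [show (m u * r A)⁻¹ * (m u * r A') = (r A)⁻¹ * r A' by group] at s2
    have e4 : A = A' := B.unique (by simpa using B.act_mul_right s2 (r2 A hA1)) (r2 A' hA2)
    subst e4; rfl)
  rw [Nat.card_prod, Nat.card_eq_finsetCard, Nat.card_eq_finsetCard, ← cnt_eq_card, ← cnt_eq_card,
    cnt7, cnt_dcol] at this
  simp at this

/-- the elements of `A ⟨t⟩` outside `A` are conjugate to `t` -/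
theorem conj_out (hc : IsConj t (t * θ 1)) {A : Subgroup G} (hA : A ≤ J) (hs : ∀ a ∈ A, a * a = 1)
    {x : G} (hx : x ∈ A ⊔ zpowers t) (n : x ∉ A) : IsConj t x := by
  have a := ((mem_sup_t h.tt (C_le_N (mem_C.2 fun y hy => h.JC y (hA hy)))).1 hx).resolve_left n
  have e : x = t * (x * t) := by rw [← h.JC _ (hA a), mul_assoc, h.tt, mul_one]
  by_cases c : x * t = 1
  · rw [e, c, mul_one]
  · rw [e]; exact hc.trans (h.conj_ta (hA a) (hs _ a) c)

theorem sq_Vt {A : Subgroup G} (hA : A ≤ J) (hs : ∀ a ∈ A, a * a = 1) :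
    ∀ x ∈ A ⊔ zpowers t, x * x = 1 := fun x hx => by
  rcases (mem_sup_t h.tt (C_le_N (mem_C.2 fun y hy => h.JC y (hA hy)))).1 hx with a | a
  · exact hs x a
  · have e : x = x * t * t := by rw [mul_assoc, h.tt, mul_one]
    generalize x * t = y at a e
    rw [e, mul_assoc, ← mul_assoc t, ← h.JC y (hA a), mul_assoc, h.tt, mul_one, hs y a]

theorem card_Vt {A : Subgroup G} (hA : A ≤ J) :
    2 * Nat.card A ≤ Nat.card (A ⊔ zpowers t : Subgroup G) := by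
  obtain ⟨k, hk⟩ := card_dvd_of_le (le_sup_left : A ≤ A ⊔ zpowers t)
  have h0 : k ≠ 0 := fun e => by rw [e] at hk; exact Nat.card_pos.ne' hk
  have h1 : k ≠ 1 := fun e => h.tJ (hA (by
    rw [eq_of_le_of_card_ge (le_sup_left : A ≤ A ⊔ zpowers t) (by rw [hk, e, mul_one])]
    exact mem_sup_right (mem_zpowers t)))
  rw [hk, mul_comm]
  exact Nat.mul_le_mul_left _ (by omega)

/-- an element mapping `E ⟨t⟩` to `A ⟨t⟩` maps `E` into `A` -/
theorem map_in (hc : IsConj t (t * θ 1)) {A : Subgroup G} (hA : A ≤ J) (hs : ∀ a ∈ A, a * a = 1)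
    {k x : G} (hx : ¬ IsConj t x) (hk : k * x * k⁻¹ ∈ A ⊔ zpowers t) : k * x * k⁻¹ ∈ A := by
  by_contra n
  exact hx ((h.conj_out hc hA hs hk n).trans (isConj_iff.2 ⟨k, rfl⟩).symm)

theorem exists_move (hc : IsConj t (t * θ 1)) :
    ∃ n ∈ N[VV θ], ∃ v ∈ VV θ, v ≠ 1 ∧ n * t * n⁻¹ = t * v := by
  obtain ⟨g, hg⟩ := isConj_iff.1 hc
  have B := h.tm.bV
  have h1 : θ 1 ∈ VV θ := B.mem 1 (by norm_num)
  have h0 : θ 1 ≠ 1 := fun e => one_ne_zero (B.inj 1 (by norm_num) e)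
  obtain ⟨c, cJ, e⟩ := h.e32 (X := MulAut.conj g⁻¹ • (VV θ ⊔ zpowers t))
    (mem_conj.2 (by
      rw [inv_inv, hg]; exact mul_mem (mem_sup_right (mem_zpowers t)) (mem_sup_left h1)))
    (sq_conj (h.sq_Vt h.V_le fun _ => B.sq) _)
    (by have := h.card_Vt h.V_le; rw [h.tm.card_VV] at this; rwa [card_conj])
  rw [conj_smul_conj_smul] at e
  have e1 : c * g⁻¹ * (t * θ 1) * (c * g⁻¹)⁻¹ = t := by
    rw [← hg, show c * g⁻¹ * (g * t * g⁻¹) * (c * g⁻¹)⁻¹ = c * t * c⁻¹ by group, h.JC c cJ,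
      mul_inv_cancel_right]
  generalize c * g⁻¹ = k at e e1
  have key : ∀ A ≤ J, (∀ a ∈ A, a * a = 1) → MulAut.conj k • (VV θ ⊔ zpowers t) = A ⊔ zpowers t →
      ∀ x ∈ VV θ, k * x * k⁻¹ ∈ A := fun A a1 a2 a3 x hx =>
    h.map_in hc a1 a2 (h.ntJ (h.V_le hx)) (a3 ▸ conj_mem_conj.2 (mem_sup_left hx))
  rcases e with e | e
  · exact ⟨k⁻¹, inv_mem (mem_N_of (key _ h.V_le (fun _ => B.sq) e)), _, h1, h0, by
      conv_lhs => rw [← e1]
      group⟩
  have k1 := key _ h.U_le (fun _ => h.tm.bU.sq) e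
  have k2 : MulAut.conj k • VV θ = UU θ := eq_of_le_of_card_ge
    (fun x hx => by simpa [mul_assoc] using k1 _ (mem_conj.1 hx))
    (by rw [card_conj, h.tm.card_VV, h.tm.card_UU])
  obtain ⟨l, lJ, -, l2⟩ := h.lam
  have lU := h.tm.bU.mem_norm l2
  obtain ⟨a, ha, ea⟩ := h.tm.mem_UU.1 (k1 _ h1)
  refine ⟨k⁻¹ * l * k, ?_, k⁻¹ * (θ (up a) * (l * (θ (up a))⁻¹ * l⁻¹)) * k, ?_, fun e => ?_, ?_⟩
  · rwa [← N_conj_iff, k2]
  · rw [← mem_conj, k2]
    exact mul_mem (h.tm.bU.mem a ha) (norm_conj lU (inv_mem (h.tm.bU.mem a ha)))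
  · have e2 : l * θ (up a) = θ (up a) * l := by
      calc l * θ (up a) = k * (k⁻¹ * (θ (up a) * (l * (θ (up a))⁻¹ * l⁻¹)) * k) * k⁻¹ *
            (l * θ (up a)) := by rw [e]; group
        _ = _ := by group
    have := hM_fpf a ha (h.tm.bU.fix_of_comm l2 ha e2)
    subst this
    apply h0
    have e3 : θ (up 0) = 1 := h.tm.zero
    rw [e3] at ea
    simpa using ea.symm
  · have e2 : k * t * k⁻¹ = t * (θ (up a))⁻¹ := by rw [ea]; nth_rw 2 [← e1]; group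
    calc _ = k⁻¹ * (l * (k * t * k⁻¹) * l⁻¹) * k := by group
      _ = k⁻¹ * (l * t * l⁻¹ * (θ (up a))⁻¹ * (θ (up a) * (l * (θ (up a))⁻¹ * l⁻¹))) * k := by
        rw [e2]; group
      _ = _ := by rw [h.JC l lJ, mul_inv_cancel_right, ← e2]; group

/-- a `2`-element centralising `t` and `V` lies in `V ⟨t⟩` -/
theorem ker2 {x : G} (hx : x ∈ C[VV θ]) (ht : x * t = t * x) (h2 : ∃ n, x ^ 2 ^ n = 1) :
    x ∈ VV θ ∨ x * t ∈ VV θ := by
  have key : ∀ y ∈ J, y ∈ C[VV θ] → (∃ n, y ^ 2 ^ n = 1) → y ∈ VV θ := fun y a b ⟨n, c⟩ => by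
    obtain ⟨v, hv, e⟩ := h.cen y a b
    have m := h.tm.bV.mem v hv
    have := eq_one_of_odd_two (odd_of_mem h.odd e) (n := n + 1) (by
      rw [(show Commute (θ v) y from mem_C.1 b _ m).mul_pow, pow_succ, pow_mul y, c, one_pow,
        mul_one, mul_comm, pow_mul, pow_two, h.tm.bV.sq m, one_pow])
    rw [eq_inv_of_mul_eq_one_right this]; exact inv_mem m
  refine (h.inn' ht (C_le_N hx)).imp (fun a => key _ a hx h2) fun a =>
    key _ a (mul_mem hx h.t_CV) ?_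
  obtain ⟨n, e⟩ := h2
  exact ⟨n + 1, by rw [(show Commute x t from ht).mul_pow, pow_succ, pow_mul, e, one_pow, one_mul,
    mul_comm, pow_mul, pow_two, h.tt, one_pow]⟩

omit [Finite G] in
theorem t_NN : t ∈ NN t (VV θ) := mem_NN.2 ⟨h.t_CV, by rw [Core.sg_t]; exact one_mem _⟩

theorem N_NN {c : G} (hc : c * t = t * c) (hn : c ∈ N[VV θ]) : c ∈ N[NN t (VV θ)] :=
  mem_N_of fun _ hx => NN_conj hc hn hx

section R
variable {R : Subgroup G} (s : IsSylowIn 2 R (NN t (VV θ))) (tR : t ∈ R)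
  (tr : ∀ w ∈ VV θ, ∃ g ∈ C[VV θ], g * t * g⁻¹ = t * w)
include s

include tr in
theorem onto_R {v : G} (hv : v ∈ VV θ) : ∃ w ∈ R, sg t w = v := by
  haveI : Fact (Nat.Prime 2) := ⟨Nat.prime_two⟩
  obtain ⟨x, hx, e⟩ := tr v hv
  have hxN : x ∈ NN t (VV θ) := mem_NN.2 ⟨hx, by rwa [sg_of_eq e]⟩
  obtain ⟨a, -, -, -, -, ⟨n, h2⟩, -, m, ⟨k, hk⟩, rfl⟩ := exists_parts x
  have e1 : sg t (x ^ m) = v := by
    rw [NN_sg_pow hxN, sg_of_eq e, hk, pow_succ, pow_mul, pow_two, h.tm.bV.sq hv]; simp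
  obtain ⟨c, hc, e2⟩ := s.exists_conj_le (pgroup_zp h2) (zpowers_le.2 (pow_mem hxN m))
  refine ⟨_, e2 (conj_mem_conj.2 (mem_zpowers _)), ?_⟩
  rw [NN_sg_mul (mul_mem hc (pow_mem hxN m)) (inv_mem hc), NN_sg_mul hc (pow_mem hxN m),
    NN_sg_inv hc, e1, h.tm.bV.comm (mem_NN.1 hc).2 hv, mul_inv_cancel_right]

include tr tR in
theorem real_R {M : ℕ} (hM : tb m7 M = true) : ∃ g ∈ J, g ∈ N[R] ∧ Act θ g M := by
  haveI : Fact (Nat.Prime 2) := ⟨Nat.prime_two⟩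
  have B := h.tm.bV
  obtain ⟨g, gJ, a⟩ := h.real M hM
  obtain ⟨n, hn, m, hm, e⟩ := s.frattini (h.N_NN (h.JC g gJ) (B.mem_norm a))
  have e1 : m = n⁻¹ * g := by rw [e]; group
  obtain ⟨w, hw, e2⟩ := h.onto_R s tr (mem_NN.1 (inv_mem hn)).2
  have a1 : Act θ (w⁻¹ * m) M := by
    rw [e1]; exact B.act_mul_left (inv_mem (s.le hw).1) (B.act_mul_left (inv_mem hn.1) a)
  have a2 : w⁻¹ * m * t = t * (w⁻¹ * m) := by
    rw [← sg_eq_one, e1, ← mul_assoc, sg_mul', sg_eq_one.2 (h.JC g gJ),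
      NN_sg_mul (inv_mem (s.le hw)) (inv_mem hn), NN_sg_inv (s.le hw), e2]
    group
  have a3 : w⁻¹ * m ∈ N[R] := mul_mem (le_normalizer (inv_mem hw)) hm
  rcases h.inn' a2 (B.mem_norm a1) with c | c
  · exact ⟨_, c, a3, a1⟩
  · exact ⟨_, c, mul_mem a3 (le_normalizer tR), B.act_mul_right h.t_CV a1⟩

theorem ker_R {x : G} (hx : x ∈ R) (e : sg t x = 1) : x ∈ VV θ ∨ x * t ∈ VV θ :=
  h.ker2 (s.le hx).1 (sg_eq_one.1 e) (two_of_mem s.isPGroup hx)

theorem E_sq {x : G} (hx : x ∈ R) (e : sg t x = 1) : x * x = 1 :=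
  h.sq_Vt h.V_le (fun _ => h.tm.bV.sq) x ((mem_sup_t h.tt (C_le_N h.t_CV)).2 (h.ker_R s hx e))

theorem sq_R {x : G} (hx : x ∈ R) : x * x ∈ VV θ := by
  have hN := s.le hx
  refine (h.ker_R s (mul_mem hx hx) (by
    rw [NN_sg_mul hN hN, h.tm.bV.sq (mem_NN.1 hN).2])).elim id fun c => ?_
  have e : x * t = t * x := by
    have h1 := mem_C.1 hN.1 _ c
    have h2 : x * x * (t * x) = x * x * (x * t) := by rw [← mul_assoc, h1]; group
    exact (mul_left_cancel h2).symm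
  rw [h.E_sq s hx (sg_eq_one.2 e)]; exact one_mem _

include tr tR in
theorem core (hV : VV θ ≤ R) : Core t (VV θ) R where
  tsq := h.tt
  tR := tR
  tV := fun c => h.tJ (h.V_le c)
  le := hV
  vsq := fun _ => h.tm.bV.sq
  cen := fun v hv _ hx => mem_C.1 (s.le hx).1 v hv
  mem := fun _ hx => (mem_NN.1 (s.le hx)).2
  ker := fun _ hx e => h.ker_R s hx (sg_eq_one.2 e)
  sq := fun x hx => by
    have B := h.tm.bV
    have hN := s.le hx
    by_cases h1 : sg t x = 1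
    · exact Or.inl (h.E_sq s hx h1)
    obtain ⟨v, hv, ev⟩ := h.tm.mem_VV.1 (mem_NN.1 hN).2
    obtain ⟨q, hq, eq⟩ := h.tm.mem_VV.1 (h.sq_R s hx)
    obtain ⟨A, -, a1, a2, a3⟩ := fix7v v hv fun e => h1 (by rw [← ev, e, h.tm.zero])
    obtain ⟨c, cJ, cR, ac⟩ := h.real_R s tR tr a1
    have hct := h.JC c cJ
    have hy := norm_conj cR hx
    have hz := mul_mem (inv_mem hx) hy
    have h2 : sg t (x⁻¹ * (c * x * c⁻¹)) = 1 := by
      rw [NN_sg_mul (inv_mem hN) (s.le hy), NN_sg_inv hN, sg_conj hct, ← ev, ac.2 v hv, a2]; group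
    have e1 : c * (x * x) * c⁻¹ = x * (x⁻¹ * (c * x * c⁻¹)) * (x * (x⁻¹ * (c * x * c⁻¹))) := by
      group
    have h3 := h.ker_R s hz h2
    have h4 := h.E_sq s hz h2
    generalize x⁻¹ * (c * x * c⁻¹) = e at h3 h4 e1
    rw [show x * e * (x * e) = x * x * (x⁻¹ * e * x * e) by group, ← eq, ac.2 q hq] at e1
    have : mm A q = q ∨ mm A q = q ^^^ v := by
      rcases h3 with h3 | h3
      · left
        have := cj_of_C (inv_mem hN.1) h3
        rw [inv_inv] at this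
        rw [this, h4, mul_one] at e1
        exact B.inj2 (mm_vec_lt _ hq) hq e1
      · right
        refine B.inj2 (mm_vec_lt _ hq) (xor_lt16 hq hv) ?_
        rw [e1, B.mul q hq v hv]
        have e3 : e = e * t * t := by rw [mul_assoc, h.tt, mul_one]
        generalize e * t = u at h3 e3
        subst e3
        have h5 := cj_of_C (inv_mem hN.1) h3
        have h6 := sg_eq t x⁻¹
        rw [NN_sg_inv hN, ← ev, B.mul.inv hv] at h6
        congr 1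
        calc x⁻¹ * (u * t) * x * (u * t) = x⁻¹ * u * x⁻¹⁻¹ * (x⁻¹ * t * x⁻¹⁻¹) * (u * t) := by group
          _ = u * (t * θ v) * (u * t) := by rw [h5, h6]
          _ = θ v * (u * t * (u * t)) := by
            rw [← h.th_t (by omega), ← mul_assoc u, B.comm h3 (B.mem v hv)]; group
          _ = _ := by rw [h4, mul_one]
    rw [← eq, ← ev]
    exact (a3 q hq this).imp (fun e => by rw [e, h.tm.zero]) fun e => by rw [e]

end R

end Ctx

theorem dbl : DblStmt.{u} := by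
  intro G _ _ t J O θ h hc
  haveI : Fact (Nat.Prime 2) := ⟨Nat.prime_two⟩
  have B := h.tm.bV
  obtain ⟨n, hn, v, hv, h1, e⟩ := h.exists_move hc
  have tr := h.tr_all hn hv h1 e
  have tT : t ∈ N[T0 θ] := C_le_N (mem_C.2 fun x hx => h.JC x (h.T0_le hx))
  have hT : T0 θ ≤ N[NN t (VV θ)] := fun x hx =>
    h.N_NN (h.JC x (h.T0_le hx)) (h.tm.T0_le_NV hx)
  obtain ⟨S, hS, hle⟩ := exists_isSylowIn_ge (H := N[NN t (VV θ)])
    ((pgroup_zp (x := t) (n := 1) (by simpa [pow_two] using h.tt)).to_sup_of_normal_right'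
      h.tm.isPGroup (zpowers_le.2 tT))
    (sup_le (zpowers_le.2 (le_normalizer h.t_NN)) hT)
  have s := hS.inf_of_le_normalizer (N := NN t (VV θ)) le_rfl
  rw [inf_of_le_right (le_normalizer (H := NN t (VV θ)))] at s
  have tR : t ∈ S ⊓ NN t (VV θ) := ⟨hle (mem_sup_left (mem_zpowers t)), h.t_NN⟩
  have hTR : T0 θ ≤ N[(S ⊓ NN t (VV θ) : Subgroup G)] := fun x hx => mem_N_of fun y hy =>
    ⟨norm_conj (le_normalizer (hle (mem_sup_right hx))) hy.1, norm_conj (hT hx) hy.2⟩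
  have hV : VV θ ≤ S ⊓ NN t (VV θ) := fun x hx => ⟨hle (mem_sup_right (VV_le_T0 θ hx)),
    mem_NN.2 ⟨mem_C.2 fun y hy => B.comm hy hx, by
      rw [sg_eq_one.2 (h.JC x (h.V_le hx))]; exact one_mem _⟩⟩
  generalize S ⊓ NN t (VV θ) = R at s tR hTR hV
  have c := h.core s tR tr hV
  obtain ⟨W, hVW, hWR, htW, hWt, hcov, hcomm, hty⟩ := c.exists_W
  have hfix : ∀ w ∈ W, w * t = t * w → w ∈ VV θ := fun w hw e =>
    (c.ker w (hWR hw) e).resolve_right (hWt w hw)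
  have honto : ∀ v ∈ VV θ, ∃ w ∈ W, sg t w = v := fun v hv => by
    obtain ⟨x, hx, e⟩ := h.onto_R s tr hv
    rcases hcov _ hx with h1 | h1
    · exact ⟨_, h1, e⟩
    · exact ⟨_, h1, by rw [c.sg_mul_t hx, e]⟩
  have hcard : Nat.card W = 256 := by
    let f : W →* G := MonoidHom.mk' (fun w => sg t w) fun a b => c.sg_mul (hWR a.2) (hWR b.2)
    have hk : f.ker = (VV θ).subgroupOf W := by
      ext w
      exact ⟨fun e => hfix w w.2 (sg_eq_one.1 e), fun e => c.sg_V e⟩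
    have hr : f.range = VV θ := by
      ext v
      refine ⟨?_, fun hv => ?_⟩
      · rintro ⟨w, rfl⟩; exact c.mem w (hWR w.2)
      · obtain ⟨w, hw, e⟩ := honto v hv; exact ⟨⟨w, hw⟩, e⟩
    rw [← f.ker.card_mul_index, index_ker, hr, hk,
      Nat.card_congr (subgroupOfEquivOfLe hVW).toEquiv, h.tm.card_VV]
  have hnorm : N[R] ≤ N[W] := fun g hg => by
    by_contra ng
    obtain ⟨x0, a0, n0⟩ : ∃ x ∈ MulAut.conj g • W, x ∉ W := by
      by_contra k
      push Not at k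
      exact ng (mem_N_of fun x hx => k _ (conj_mem_conj.2 hx))
    have hR : ∀ x ∈ MulAut.conj g • W, x ∈ R := fun x hx => by
      simpa [mul_assoc] using norm_conj hg (hWR (mem_conj.1 hx))
    have cm : ∀ x ∈ MulAut.conj g • W, ∀ y ∈ MulAut.conj g • W, x * y = y * x := fun x a y b => by
      have := comm_conj_iff (g := g).2 (hcomm _ (mem_conj.1 a) _ (mem_conj.1 b))
      simpa [mul_assoc] using this
    have k : ∀ x ∈ MulAut.conj g • W, x ∈ W → x ∈ VV θ := fun x a b => hfix x b (by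
      have h1 := hcomm _ b _ ((hcov _ (hR _ a0)).resolve_left n0)
      rw [← mul_assoc, cm x a x0 a0, mul_assoc, mul_assoc] at h1
      exact mul_left_cancel h1)
    have := card_le_two (X := MulAut.conj g • W) (K := VV θ) fun x a y b nx ny => by
      refine k _ (mul_mem a b) ?_
      have h1 := (hcov _ (hR _ a)).resolve_left fun c => nx (k _ a c)
      have h2 := (hcov _ (inv_mem (hR _ b))).resolve_left fun c => ny (k _ b (by simpa using c))
      simpa [mul_assoc] using mul_mem h1 (inv_mem h2)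
    have h3 := card_le_of_le (inf_le_right : MulAut.conj g • W ⊓ VV θ ≤ VV θ)
    rw [card_conj, hcard] at this
    rw [h.tm.card_VV] at h3
    omega
  refine ⟨W, hVW, hcomm, hcard, htW, fun w hw => c.sq_mem (hWR hw), hfix,
    fun w hw => ⟨_, c.mem w (hWR hw), sg_eq t w⟩, fun v hv => ?_, hty, hTR.trans hnorm,
    fun M hM => ?_, ?_⟩
  · obtain ⟨w, hw, e⟩ := honto v hv
    exact ⟨w, hw, by rw [sg_eq, e]⟩
  · obtain ⟨g, a, b, d⟩ := h.real_R s tR tr hM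
    exact ⟨g, a, hnorm b, d⟩
  · have : W ⊔ zpowers t = R := le_antisymm (sup_le hWR (zpowers_le.2 tR)) fun x hx =>
      (mem_sup_t h.tt (hnorm (le_normalizer tR))).2 (hcov x hx)
    rwa [this]

theorem eqns_MWDbl : True := by
  have := @dcol.eq_1
  trivial

end Cfsg.Agent.H19.MW
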