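import Cfsg.Agent.H19.MWDefs

/-! # MW project: the model of the Sylow `2`-subgroup -/

set_option autoImplicit false
set_option maxRecDepth 100000
open scoped Pointwise commutatorElement
open Subgroup

namespace Cfsg.Agent.H19.MW
open Cfsg.Agent.H24.MH Cfsg.Agent.H23.D2 Cfsg.Agent.H8
open Cfsg.Agent.H42 (tb cnt cnt_eq_card allB of_allB)

local notation "C[" A "]" => Subgroup.centralizer (SetLike.coe A)
local notation "N[" A "]" => Subgroup.normalizer (SetLike.coe A)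

/-! ### numbers -/

/-- the inverse -/
def iv (n : ℕ) : ℕ := tm n (tm (tm n n) (tm (tm n n) (tm n n)))

theorem tm_lt : ∀ n < 128, ∀ m < 128, tm n m < 128 := by decide +kernel
theorem iv_lt : ∀ n < 128, iv n < 128 := by decide +kernel
theorem tm_iv : ∀ n < 128, tm n (iv n) = 0 := by decide +kernel
theorem tm_low : ∀ u < 16, ∀ v < 16, tm u v = u ^^^ v := by decide +kernel
theorem up_lt : ∀ u < 16, up u < 64 := by decide +kernel
theorem up_lt' {u : ℕ} (hu : u < 16) : up u < 128 := (up_lt u hu).trans (by norm_num)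
theorem up_inj : ∀ u < 16, ∀ v < 16, up u = up v → u = v := by decide +kernel
theorem tm_up : ∀ u < 16, ∀ v < 16, tm (up u) (up v) = up (u ^^^ v) := by decide +kernel
theorem tm_act : ∀ n < 128, ∀ u < 16, tm n u = tm (mm (am n) u) n := by decide +kernel
theorem tm_actU : ∀ n < 128, ∀ u < 16, tm n (up u) = tm (up (mm (bm n) u)) n := by decide +kernel
theorem am_mem : ∀ n < 128, tb m7 (am n) = true := by decide +kernel
theorem bm_mem : ∀ n < 128, tb m7 (bm n) = true := by decide +kernel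
theorem am_lt (n : ℕ) : am n < 65536 := mm_lt _ _
theorem bm_lt (n : ℕ) : bm n < 65536 := mm_lt _ _
theorem am_I4 : ∀ n < 128, am n = I4 → n < 16 := by decide +kernel
theorem bm_I4 : ∀ n < 128, bm n = I4 → n < 64 ∧ n % 16 < 4 := by decide +kernel
theorem am_16 : am 16 = b1M := by decide +kernel
theorem am_32 : am 32 = b2M := by decide +kernel
theorem am_64 : am 64 = fM := by decide +kernel
theorem ex_up : ∀ n < 64, n % 16 < 4 → ∃ u < 16, up u = n := by decide +kernel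
/-- elements of `V \ Z` and `U \ Z` do not commute -/
theorem vu_comm : ∀ v < 16, ∀ u < 16, tm v (up u) = tm (up u) v → v < 4 ∨ u < 4 := by
  decide +kernel
/-- involutions of `Q` -/
theorem inv_Q : ∀ n < 64, tm n n = 0 → n < 16 ∨ n % 16 < 4 := by decide +kernel
theorem center_tm : ∀ n < 128, (∀ m < 128, tm n m = tm m n) → n < 2 := by decide +kernel
theorem comm_one : ∀ n < 128, tm n 1 = tm 1 n := by decide +kernel
theorem comm_two : ∀ n < 128, tm n 2 = tm 2 n → n < 64 := by decide +kernel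
theorem comm_three : ∀ n < 128, tm n 3 = tm 3 n → n < 64 := by decide +kernel
theorem comm_Z : ∀ n < 64, ∀ z < 4, tm n z = tm z n := by decide +kernel
theorem split_Q : ∀ n < 64, tm (n % 16) (up (n / 16 * 4)) = n := by decide +kernel

theorem mm_assoc (A B C : ℕ) : mm (mm A B) C = mm A (mm B C) := by
  apply eq_of_col (mm_lt _ _) (mm_lt _ _) <;>
    simp only [col_mm _ _ (by norm_num : (0 : ℕ) < 4), col_mm _ _ (by norm_num : (1 : ℕ) < 4),
      col_mm _ _ (by norm_num : (2 : ℕ) < 4), col_mm _ _ (by norm_num : (3 : ℕ) < 4),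
      mm_assoc_vec _ _ (col_lt _ _)]

theorem eq_of_mm {M N : ℕ} (hM : M < 65536) (hN : N < 65536)
    (h : ∀ v < 16, mm M v = mm N v) : M = N := by
  apply eq_of_col hM hN
  · rw [← mm_e0, ← mm_e0, h 1 (by norm_num)]
  · rw [← mm_e1, ← mm_e1, h 2 (by norm_num)]
  · rw [← mm_e2, ← mm_e2, h 4 (by norm_num)]
  · rw [← mm_e3, ← mm_e3, h 8 (by norm_num)]

variable {G : Type*} [Group G]

/-! ### coordinate systems without the centraliser condition -/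

/-- `σ` is a coordinate system of `A` -/
structure B0 (A : Subgroup G) (σ : ℕ → G) : Prop where
  mul : Pre σ
  inj : ∀ u < 16, σ u = 1 → u = 0
  mem : ∀ u < 16, σ u ∈ A
  surj : ∀ a ∈ A, ∃ u < 16, σ u = a

theorem b0_of_bas {A : Subgroup G} {σ : ℕ → G} (h : Bas A σ) : B0 A σ := ⟨h.mul, h.inj, h.mem, h.surj⟩

theorem b0_span {σ : ℕ → G} (h : Pre σ) (hi : ∀ u < 16, σ u = 1 → u = 0) : B0 h.span σ :=
  ⟨h, hi, fun u hu => ⟨u, hu, rfl⟩, fun _ ha => ha⟩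

namespace B0
variable {A : Subgroup G} {σ : ℕ → G} (h : B0 A σ)
include h

theorem bas (hc : C[A] ≤ A) : Bas A σ := ⟨h.mul, h.inj, h.mem, h.surj, hc⟩

theorem inj2 {u v : ℕ} (hu : u < 16) (hv : v < 16) (e : σ u = σ v) : u = v := by
  have := h.inj _ (xor_lt16 hu hv) (by rw [h.mul u hu v hv, e, h.mul.sq hv])
  exact Nat.xor_eq_zero_iff.1 this

theorem sq {a : G} (ha : a ∈ A) : a * a = 1 := by
  obtain ⟨u, hu, rfl⟩ := h.surj a ha
  exact h.mul.sq hu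

theorem comm {a b : G} (ha : a ∈ A) (hb : b ∈ A) : a * b = b * a := by
  obtain ⟨u, hu, rfl⟩ := h.surj a ha
  obtain ⟨v, hv, rfl⟩ := h.surj b hb
  exact h.mul.comm hu hv

theorem unique {g : G} {M M' : ℕ} (a : Act σ g M) (b : Act σ g M') : M = M' :=
  eq_of_mm a.1 b.1 fun v hv =>
    h.inj2 (mm_vec_lt _ hv) (mm_vec_lt _ hv) ((a.2 v hv).symm.trans (b.2 v hv))

/-- a map that is additive on `A` has a matrix -/
theorem exists_mat {B : Subgroup G} {τ : ℕ → G} (k : B0 B τ) {g : G}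
    (hg : ∀ a ∈ A, g * a * g⁻¹ ∈ B) :
    ∃ M < 65536, ∀ v < 16, g * σ v * g⁻¹ = τ (mm M v) := by
  have key : ∀ v < 16, ∃ u < 16, τ u = g * σ v * g⁻¹ := fun v hv => k.surj _ (hg _ (h.mem v hv))
  obtain ⟨a, ha, ea⟩ := key 1 (by norm_num)
  obtain ⟨b, hb, eb⟩ := key 2 (by norm_num)
  obtain ⟨c, hc, ec⟩ := key 4 (by norm_num)
  obtain ⟨d, hd, ed⟩ := key 8 (by norm_num)
  refine ⟨a + 16 * b + 256 * c + 4096 * d, by omega, fun v hv => ?_⟩
  refine vec_induction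
    (P := fun v => g * σ v * g⁻¹ = τ (mm (a + 16 * b + 256 * c + 4096 * d) v)) ?_ ?_ ?_ ?_ ?_ ?_ hv
  · simp [mm_zero, h.mul.zero, k.mul.zero]
  · rw [mm_e0, ← ea, col_eq]; congr 1; omega
  · rw [mm_e1, ← eb, col_eq]; congr 1; omega
  · rw [mm_e2, ← ec, col_eq]; congr 1; omega
  · rw [mm_e3, ← ed, col_eq]; congr 1; omega
  · intro u hu v hv x y
    rw [mm_xor _ hu hv, h.mul _ hu _ hv, k.mul _ (mm_vec_lt _ hu) _ (mm_vec_lt _ hv), ← x, ← y]
    group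

theorem exists_act {g : G} (hg : g ∈ N[A]) : ∃ M, Act σ g M := by
  obtain ⟨M, h1, h2⟩ := h.exists_mat h (g := g) fun a ha => norm_conj hg ha
  exact ⟨M, h1, h2⟩

theorem finite : Finite A := by
  refine Finite.of_surjective (fun u : Fin 16 => (⟨σ u, h.mem u u.2⟩ : A)) ?_
  rintro ⟨a, ha⟩
  obtain ⟨u, hu, rfl⟩ := h.surj a ha
  exact ⟨⟨u, hu⟩, rfl⟩

theorem card : Nat.card A = 16 := by
  have : Function.Bijective (fun u : Fin 16 => (⟨σ u, h.mem u u.2⟩ : A)) := by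
    refine ⟨fun u v e => Fin.ext (h.inj2 u.2 v.2 (congrArg Subtype.val e)), ?_⟩
    rintro ⟨a, ha⟩
    obtain ⟨u, hu, rfl⟩ := h.surj a ha
    exact ⟨⟨u, hu⟩, rfl⟩
  rw [← Nat.card_eq_of_bijective _ this]; simp

theorem mem_norm {g : G} {M : ℕ} (a : Act σ g M) : g ∈ N[A] := by
  have : Finite (A : Set G) := h.finite
  refine Subgroup.mem_normalizer_fintype fun n hn => ?_
  obtain ⟨u, hu, rfl⟩ := h.surj n hn
  rw [a.2 u hu]
  exact h.mem _ (mm_vec_lt _ hu)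

theorem act_I4 {g : G} : Act σ g I4 ↔ g ∈ C[A] := by
  refine ⟨fun a => mem_C.2 fun v hv => ?_, fun hg => ⟨by decide, fun v hv => ?_⟩⟩
  · obtain ⟨u, hu, rfl⟩ := h.surj v hv
    rw [a.mul_eq hu, mm_I4 u hu]
  · rw [mm_I4 v hv, cj_of_C hg (h.mem v hv)]

theorem same {g g' : G} {M : ℕ} (a : Act σ g M) (b : Act σ g' M) : g⁻¹ * g' ∈ C[A] := by
  refine mem_C.2 fun y hy => ?_
  obtain ⟨u, hu, rfl⟩ := h.surj y hy
  have e := (a.2 u hu).trans (b.2 u hu).symm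
  calc σ u * (g⁻¹ * g') = g⁻¹ * (g * σ u * g⁻¹) * g' := by group
    _ = g⁻¹ * (g' * σ u * g'⁻¹) * g' := by rw [e]
    _ = _ := by group

theorem same' {g g' : G} {M : ℕ} (a : Act σ g M) (b : Act σ g' M) : g' * g⁻¹ ∈ C[A] := by
  have := C_conj (h.mem_norm a) (h.same a b)
  simpa [mul_assoc] using this

theorem act_mul_left {c g : G} {M : ℕ} (hc : c ∈ C[A]) (b : Act σ g M) : Act σ (c * g) M :=
  ((h.act_I4.2 hc).mul b).of_eq (I4_mm b.1)

theorem act_mul_right {c g : G} {M : ℕ} (hc : c ∈ C[A]) (b : Act σ g M) : Act σ (g * c) M :=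
  (b.mul (h.act_I4.2 hc)).of_eq (mm_I4' b.1)

theorem fix_of_comm {g : G} {M v : ℕ} (a : Act σ g M) (hv : v < 16) (e : g * σ v = σ v * g) :
    mm M v = v := by
  refine h.inj2 (mm_vec_lt _ hv) hv ?_
  rw [← a.2 v hv, e, mul_inv_cancel_right]

theorem mat_inj {g : G} {M : ℕ} (a : Act σ g M) : ∀ v < 16, mm M v = 0 → v = 0 := fun v hv e => by
  refine h.inj v hv ?_
  have := a.2 v hv
  rw [e, h.mul.zero] at this
  simpa using this

theorem comm_of {s t : G} {M N : ℕ} (a : Act σ s M) (b : Act σ t N) (e : s * t = t * s) :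
    mm M N = mm N M := h.unique (a.mul b) (e ▸ b.mul a)

theorem cj (g : G) : B0 (MulAut.conj g • A) (cj g σ) where
  mul u hu v hv := by simp only [MW.cj]; rw [h.mul u hu v hv]; group
  inj u hu e := h.inj u hu (by simpa [MW.cj] using e)
  mem u hu := conj_mem_conj.2 (h.mem u hu)
  surj a ha := by
    obtain ⟨u, hu, e⟩ := h.surj _ (mem_conj.1 ha)
    exact ⟨u, hu, by simp [MW.cj, e, mul_assoc]⟩

end B0

theorem act_cj {σ : ℕ → G} {x : G} {M : ℕ} (g : G) :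
    Act (cj g σ) (g * x * g⁻¹) M ↔ Act σ x M := by
  refine and_congr_right fun _ => forall₂_congr fun v _ => ?_
  simp only [cj]
  constructor
  · intro e
    have : g * (x * σ v * x⁻¹) * g⁻¹ = g * σ (mm M v) * g⁻¹ := by rw [← e]; group
    simpa using this
  · intro e
    rw [← e]; group

theorem cj_cj {t : G} (tt : t * t = 1) (θ : ℕ → G) : cj t (cj t θ) = θ := by
  funext n
  simp only [cj]
  calc t * (t * θ n * t⁻¹) * t⁻¹ = t * t * θ n * (t * t)⁻¹ := by group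
    _ = _ := by rw [tt]; group

theorem sp_cj (g : G) (θ : ℕ → G) (p : ℕ → Bool) : sp (cj g θ) p = MulAut.conj g • sp θ p := by
  rw [sp, sp, smul_closure]
  congr 1
  ext x
  constructor
  · rintro ⟨n, hn, hp, rfl⟩
    exact ⟨θ n, ⟨n, hn, hp, rfl⟩, rfl⟩
  · rintro ⟨_, ⟨n, hn, hp, rfl⟩, rfl⟩
    exact ⟨n, hn, hp, rfl⟩

theorem T0_cj (g : G) (θ : ℕ → G) : T0 (cj g θ) = MulAut.conj g • T0 θ := sp_cj ..
theorem QQ_cj (g : G) (θ : ℕ → G) : QQ (cj g θ) = MulAut.conj g • QQ θ := sp_cj ..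
theorem VV_cj (g : G) (θ : ℕ → G) : VV (cj g θ) = MulAut.conj g • VV θ := sp_cj ..
theorem UU_cj (g : G) (θ : ℕ → G) : UU (cj g θ) = MulAut.conj g • UU θ := sp_cj ..
theorem ZZ_cj (g : G) (θ : ℕ → G) : ZZ (cj g θ) = MulAut.conj g • ZZ θ := sp_cj ..

theorem sp_map {H : Type*} [Group H] (f : G →* H) (θ : ℕ → G) (p : ℕ → Bool) :
    sp (fun n => f (θ n)) p = (sp θ p).map f := by
  rw [sp, sp, MonoidHom.map_closure]
  congr 1
  ext x
  constructor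
  · rintro ⟨n, hn, hp, rfl⟩
    exact ⟨θ n, ⟨n, hn, hp, rfl⟩, rfl⟩
  · rintro ⟨_, ⟨n, hn, hp, rfl⟩, rfl⟩
    exact ⟨n, hn, hp, rfl⟩

theorem th_mem_sp (θ : ℕ → G) {p : ℕ → Bool} {n : ℕ} (hn : n < 128) (hp : p n = true) :
    θ n ∈ sp θ p := subset_closure ⟨n, hn, hp, rfl⟩

theorem sp_le {θ : ℕ → G} {p : ℕ → Bool} {K : Subgroup G}
    (h : ∀ n < 128, p n = true → θ n ∈ K) : sp θ p ≤ K :=
  (closure_le _).2 fun _ ⟨n, hn, hp, e⟩ => e ▸ h n hn hp

theorem sp_mono (θ : ℕ → G) {p q : ℕ → Bool} (h : ∀ n < 128, p n = true → q n = true) :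
    sp θ p ≤ sp θ q := sp_le fun n hn hp => th_mem_sp θ hn (h n hn hp)

theorem th_T0 (θ : ℕ → G) {n : ℕ} (hn : n < 128) : θ n ∈ T0 θ := th_mem_sp θ hn rfl
theorem QQ_le_T0 (θ : ℕ → G) : QQ θ ≤ T0 θ := sp_mono θ fun _ _ _ => rfl
theorem VV_le_T0 (θ : ℕ → G) : VV θ ≤ T0 θ := sp_mono θ fun _ _ _ => rfl
theorem UU_le_T0 (θ : ℕ → G) : UU θ ≤ T0 θ := sp_mono θ fun _ _ _ => rfl
theorem ZZ_le_T0 (θ : ℕ → G) : ZZ θ ≤ T0 θ := sp_mono θ fun _ _ _ => rfl
theorem VV_le_QQ (θ : ℕ → G) : VV θ ≤ QQ θ := sp_mono θ (by decide +kernel)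
theorem UU_le_QQ (θ : ℕ → G) : UU θ ≤ QQ θ := sp_mono θ (by decide +kernel)
theorem ZZ_le_VV (θ : ℕ → G) : ZZ θ ≤ VV θ := sp_mono θ (by decide +kernel)
theorem ZZ_le_UU (θ : ℕ → G) : ZZ θ ≤ UU θ := sp_mono θ (by decide +kernel)
theorem ZZ_le_QQ (θ : ℕ → G) : ZZ θ ≤ QQ θ := sp_mono θ (by decide +kernel)

/-- `p` is closed under the multiplication -/
def Cl (p : ℕ → Bool) : Prop :=
  p 0 = true ∧ ∀ n < 128, ∀ m < 128, p n = true → p m = true → p (tm n m) = true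

instance (p : ℕ → Bool) : Decidable (Cl p) := by unfold Cl; infer_instance

namespace TM
variable {θ : ℕ → G} (h : TM θ)
include h

theorem zero : θ 0 = 1 := by
  have := h.mul 0 (by norm_num) 0 (by norm_num)
  rw [show tm 0 0 = 0 by decide +kernel] at this
  simpa using this

theorem eq_one {n : ℕ} (hn : n < 128) : θ n = 1 ↔ n = 0 :=
  ⟨fun e => h.inj n hn 0 (by norm_num) (e.trans h.zero.symm), fun e => e ▸ h.zero⟩

theorem inv {n : ℕ} (hn : n < 128) : (θ n)⁻¹ = θ (iv n) :=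
  inv_eq_of_mul_eq_one_right (by rw [h.mul n hn _ (iv_lt n hn), tm_iv n hn, h.zero])

theorem mul_eq {n m k l : ℕ} (hn : n < 128) (hm : m < 128) (hk : k < 128) (hl : l < 128) :
    θ n * θ m = θ k * θ l ↔ tm n m = tm k l := by
  rw [h.mul n hn m hm, h.mul k hk l hl]
  exact ⟨h.inj _ (tm_lt n hn m hm) _ (tm_lt k hk l hl), fun e => by rw [e]⟩

theorem comm_iff {n m : ℕ} (hn : n < 128) (hm : m < 128) :
    θ n * θ m = θ m * θ n ↔ tm n m = tm m n := h.mul_eq hn hm hm hn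

theorem sq_iff {n : ℕ} (hn : n < 128) : θ n * θ n = 1 ↔ tm n n = 0 := by
  rw [h.mul n hn n hn, h.eq_one (tm_lt n hn n hn)]

theorem cj (g : G) : TM (cj g θ) where
  mul n hn m hm := by simp only [MW.cj]; rw [← h.mul n hn m hm]; group
  inj n hn m hm e := h.inj n hn m hm (by simpa [MW.cj] using e)

theorem map {H : Type*} [Group H] (f : G →* H) (hf : ∀ n < 128, f (θ n) = 1 → n = 0) :
    TM fun n => f (θ n) where
  mul n hn m hm := by rw [← map_mul, h.mul n hn m hm]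
  inj n hn m hm e := by
    have h1 := hf _ (tm_lt n hn _ (iv_lt m hm))
      (by rw [← h.mul n hn _ (iv_lt m hm), ← h.inv hm, map_mul, map_inv, e, mul_inv_cancel])
    apply h.inj n hn m hm
    rw [← mul_inv_eq_one, h.inv hm, h.mul n hn _ (iv_lt m hm), h1, h.zero]

theorem mem_sp {p : ℕ → Bool} (hp : Cl p) {x : G} :
    x ∈ sp θ p ↔ ∃ n < 128, p n = true ∧ θ n = x := by
  refine ⟨fun hx => ?_, fun hx => subset_closure hx⟩
  induction hx using closure_induction with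
  | mem w hw => exact hw
  | one => exact ⟨0, by norm_num, hp.1, h.zero⟩
  | mul a b _ _ ha hb =>
    obtain ⟨n, hn, pn, rfl⟩ := ha
    obtain ⟨m, hm, pm, rfl⟩ := hb
    exact ⟨_, tm_lt n hn m hm, hp.2 n hn m hm pn pm, (h.mul n hn m hm).symm⟩
  | inv a _ ha =>
    obtain ⟨n, hn, pn, rfl⟩ := ha
    have a1 := tm_lt n hn n hn
    have p1 := hp.2 n hn n hn pn pn
    have a2 := tm_lt _ a1 _ a1
    exact ⟨_, iv_lt n hn, hp.2 n hn _ (tm_lt _ a1 _ a2) pn (hp.2 _ a1 _ a2 p1 (hp.2 _ a1 _ a1 p1 p1)),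
      (h.inv hn).symm⟩

theorem th_sp {p : ℕ → Bool} (hp : Cl p) {n : ℕ} (hn : n < 128) : θ n ∈ sp θ p ↔ p n = true := by
  refine ⟨fun hx => ?_, th_mem_sp θ hn⟩
  obtain ⟨m, hm, pm, e⟩ := (h.mem_sp hp).1 hx
  exact h.inj m hm n hn e ▸ pm

theorem mem_T0 {x : G} : x ∈ T0 θ ↔ ∃ n < 128, θ n = x := by
  rw [T0, h.mem_sp (by decide +kernel)]; simp

theorem mem_QQ {x : G} : x ∈ QQ θ ↔ ∃ n < 64, θ n = x := by
  rw [QQ, h.mem_sp (by decide +kernel)]
  simp only [Nat.blt_eq]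
  exact ⟨fun ⟨n, _, a, b⟩ => ⟨n, a, b⟩, fun ⟨n, a, b⟩ => ⟨n, by omega, a, b⟩⟩

theorem mem_VV {x : G} : x ∈ VV θ ↔ ∃ n < 16, θ n = x := by
  rw [VV, h.mem_sp (by decide +kernel)]
  simp only [Nat.blt_eq]
  exact ⟨fun ⟨n, _, a, b⟩ => ⟨n, a, b⟩, fun ⟨n, a, b⟩ => ⟨n, by omega, a, b⟩⟩

theorem mem_ZZ {x : G} : x ∈ ZZ θ ↔ ∃ n < 4, θ n = x := by
  rw [ZZ, h.mem_sp (by decide +kernel)]
  simp only [Nat.blt_eq]
  exact ⟨fun ⟨n, _, a, b⟩ => ⟨n, a, b⟩, fun ⟨n, a, b⟩ => ⟨n, by omega, a, b⟩⟩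

theorem mem_UU' {x : G} : x ∈ UU θ ↔ ∃ n < 64, n % 16 < 4 ∧ θ n = x := by
  rw [UU, h.mem_sp (by decide +kernel)]
  simp only [Bool.and_eq_true, Nat.blt_eq]
  exact ⟨fun ⟨n, _, a, b⟩ => ⟨n, a.1, a.2, b⟩, fun ⟨n, a, b, c⟩ => ⟨n, by omega, ⟨a, b⟩, c⟩⟩

theorem mem_UU {x : G} : x ∈ UU θ ↔ ∃ u < 16, θ (up u) = x := by
  rw [h.mem_UU']
  constructor
  · rintro ⟨n, a, b, rfl⟩
    obtain ⟨u, hu, rfl⟩ := ex_up n a b
    exact ⟨u, hu, rfl⟩
  · rintro ⟨u, hu, rfl⟩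
    exact ⟨_, up_lt u hu, by unfold up; omega, rfl⟩

theorem th_QQ {n : ℕ} (hn : n < 128) : θ n ∈ QQ θ ↔ n < 64 := by
  rw [QQ, h.th_sp (by decide +kernel) hn, Nat.blt_eq]

theorem th_VV {n : ℕ} (hn : n < 128) : θ n ∈ VV θ ↔ n < 16 := by
  rw [VV, h.th_sp (by decide +kernel) hn, Nat.blt_eq]

theorem th_ZZ {n : ℕ} (hn : n < 128) : θ n ∈ ZZ θ ↔ n < 4 := by
  rw [ZZ, h.th_sp (by decide +kernel) hn, Nat.blt_eq]

theorem th_UU {n : ℕ} (hn : n < 128) : θ n ∈ UU θ ↔ n < 64 ∧ n % 16 < 4 := by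
  rw [UU, h.th_sp (by decide +kernel) hn, Bool.and_eq_true, Nat.blt_eq, Nat.blt_eq]

theorem pre : Pre θ := fun u hu v hv => by
  rw [h.mul u (by omega) v (by omega), tm_low u hu v hv]

theorem preU : Pre fun u => θ (up u) := fun u hu v hv => by
  show θ (up (u ^^^ v)) = θ (up u) * θ (up v)
  rw [h.mul _ (up_lt' hu) _ (up_lt' hv), tm_up u hu v hv]

theorem bV : B0 (VV θ) θ :=
  ⟨h.pre, fun u hu e => (h.eq_one (by omega)).1 e, fun u hu => h.mem_VV.2 ⟨u, hu, rfl⟩,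
    fun _ ha => h.mem_VV.1 ha⟩

theorem bU : B0 (UU θ) fun u => θ (up u) :=
  ⟨h.preU, fun u hu e => up_inj u hu 0 (by norm_num) ((h.eq_one (up_lt' hu)).1 e),
    fun u hu => h.mem_UU.2 ⟨u, hu, rfl⟩, fun _ ha => h.mem_UU.1 ha⟩

theorem act {n : ℕ} (hn : n < 128) : Act θ (θ n) (am n) :=
  ⟨am_lt n, fun v hv => by
    have := mm_vec_lt (am n) hv
    rw [mul_inv_eq_iff_eq_mul, h.mul_eq hn (by omega) (by omega) hn, tm_act n hn v hv]⟩

theorem actU {n : ℕ} (hn : n < 128) : Act (fun u => θ (up u)) (θ n) (bm n) :=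
  ⟨bm_lt n, fun v hv => by
    show θ n * θ (up v) * (θ n)⁻¹ = θ (up (mm (bm n) v))
    rw [mul_inv_eq_iff_eq_mul, h.mul_eq hn (up_lt' hv) (up_lt' (mm_vec_lt _ hv)) hn,
      tm_actU n hn v hv]⟩

/-- counting inside `T0` -/
theorem card_le {E : Subgroup G} (hE : E ≤ T0 θ) {p : ℕ → Bool}
    (hp : ∀ n < 128, θ n ∈ E → p n = true) : Nat.card E ≤ cnt p 128 := by
  classical
  rw [cnt_eq_card, ← Nat.card_eq_finsetCard]
  choose f f1 f2 using fun x : E => h.mem_T0.1 (hE x.2)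
  refine Nat.card_le_card_of_injective (fun x : E => (⟨f x, Finset.mem_filter.2
    ⟨Finset.mem_range.2 (f1 x), hp _ (f1 x) (f2 x ▸ x.2)⟩⟩ :
      (Finset.range 128).filter fun i => p i = true)) fun a b e => Subtype.ext ?_
  rw [← f2 a, ← f2 b, show f a = f b from congrArg Subtype.val e]

theorem le_card {E : Subgroup G} [Finite E] {p : ℕ → Bool}
    (hp : ∀ n < 128, p n = true → θ n ∈ E) : cnt p 128 ≤ Nat.card E := by
  classical
  rw [cnt_eq_card, ← Nat.card_eq_finsetCard]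
  refine Nat.card_le_card_of_injective (fun x : (Finset.range 128).filter fun i => p i = true =>
    (⟨θ x, hp _ (Finset.mem_range.1 (Finset.mem_filter.1 x.2).1) (Finset.mem_filter.1 x.2).2⟩ : E))
    fun a b e => Subtype.ext (h.inj _ (Finset.mem_range.1 (Finset.mem_filter.1 a.2).1) _
      (Finset.mem_range.1 (Finset.mem_filter.1 b.2).1) (congrArg Subtype.val e))

theorem finite : Finite (T0 θ) := by
  refine Finite.of_surjective (fun u : Fin 128 => (⟨θ u, th_T0 θ u.2⟩ : T0 θ)) ?_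
  rintro ⟨a, ha⟩
  obtain ⟨u, hu, rfl⟩ := h.mem_T0.1 ha
  exact ⟨⟨u, hu⟩, rfl⟩

theorem finite_of_le {E : Subgroup G} (hE : E ≤ T0 θ) : Finite E :=
  haveI := h.finite
  Finite.of_injective _ (inclusion_injective hE)

theorem card_sp {p : ℕ → Bool} (hp : Cl p) : Nat.card (sp θ p) = cnt p 128 :=
  haveI := h.finite_of_le (sp_mono θ (p := p) fun _ _ _ => rfl)
  le_antisymm (h.card_le (sp_mono θ fun _ _ _ => rfl) fun _ hn hx => (h.th_sp hp hn).1 hx)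
    (h.le_card fun _ hn hx => th_mem_sp θ hn hx)

theorem card_T0 : Nat.card (T0 θ) = 128 := (h.card_sp (by decide +kernel)).trans (by decide +kernel)
theorem card_QQ : Nat.card (QQ θ) = 64 := (h.card_sp (by decide +kernel)).trans (by decide +kernel)
theorem card_VV : Nat.card (VV θ) = 16 := h.bV.card
theorem card_UU : Nat.card (UU θ) = 16 := h.bU.card
theorem card_ZZ : Nat.card (ZZ θ) = 4 := (h.card_sp (by decide +kernel)).trans (by decide +kernel)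

theorem isPGroup : IsPGroup 2 (T0 θ) := IsPGroup.of_card (n := 7) h.card_T0

theorem pow_eight {n : ℕ} (hn : n < 128) : θ n ^ 2 ^ 3 = 1 := by
  have a1 := tm_lt n hn n hn
  have a2 := tm_lt _ a1 _ a1
  rw [show θ n ^ 2 ^ 3 = θ n * θ n * (θ n * θ n) * (θ n * θ n * (θ n * θ n)) by
    simp only [pow_succ, pow_zero, one_mul, mul_assoc]; norm_num [pow_succ, mul_assoc],
    h.mul n hn n hn, h.mul _ a1 _ a1, h.sq_iff a2]
  exact (by decide +kernel : ∀ n < 128, tm (tm (tm n n) (tm n n)) (tm (tm n n) (tm n n)) = 0) n hn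

theorem T0_le_N {p : ℕ → Bool} (hp : Cl p)
    (hn : ∀ n < 128, ∀ m < 128, p m = true → p (tm (tm n m) (iv n)) = true) :
    T0 θ ≤ N[sp θ p] := fun x hx => by
  haveI : Finite (sp θ p : Set G) := h.finite_of_le (sp_mono θ (p := p) fun _ _ _ => rfl)
  obtain ⟨n, a, rfl⟩ := h.mem_T0.1 hx
  refine mem_normalizer_fintype fun y hy => ?_
  obtain ⟨m, b, pm, rfl⟩ := (h.mem_sp hp).1 hy
  rw [h.inv a, h.mul n a m b, h.mul _ (tm_lt n a m b) _ (iv_lt n a)]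
  exact th_mem_sp θ (tm_lt _ (tm_lt n a m b) _ (iv_lt n a)) (hn n a m b pm)

theorem T0_le_NV : T0 θ ≤ N[VV θ] := sp_le fun _ hn _ => h.bV.mem_norm (h.act hn)
theorem T0_le_NU : T0 θ ≤ N[UU θ] := sp_le fun _ hn _ => h.bU.mem_norm (h.actU hn)
theorem T0_le_NQ : T0 θ ≤ N[QQ θ] := h.T0_le_N (by decide +kernel) (by decide +kernel)
theorem T0_le_NZ : T0 θ ≤ N[ZZ θ] := h.T0_le_N (by decide +kernel) (by decide +kernel)

theorem V_inf_U : VV θ ⊓ UU θ = ZZ θ := by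
  refine le_antisymm (fun x hx => ?_) (le_inf (ZZ_le_VV θ) (ZZ_le_UU θ))
  obtain ⟨n, a, rfl⟩ := h.mem_VV.1 hx.1
  have := ((h.th_UU (by omega)).1 hx.2).2
  exact (h.th_ZZ (by omega)).2 (by omega)

theorem V_sup_U : VV θ ⊔ UU θ = QQ θ := by
  refine le_antisymm (sup_le (VV_le_QQ θ) (UU_le_QQ θ)) fun x hx => ?_
  obtain ⟨n, a, rfl⟩ := h.mem_QQ.1 hx
  have b : n / 16 * 4 < 16 := by omega
  rw [← split_Q n a, ← h.mul _ (by omega) _ (up_lt' b)]
  exact mul_mem (mem_sup_left (h.bV.mem _ (by omega))) (mem_sup_right (h.bU.mem _ b))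

theorem V_ne_U : VV θ ≠ UU θ := fun e => by
  have := (h.th_UU (n := 4) (by norm_num)).1 (e ▸ (h.th_VV (by norm_num)).2 (by norm_num))
  omega

theorem cent_V {n : ℕ} (hn : n < 128) (hc : θ n ∈ C[VV θ]) : n < 16 :=
  am_I4 n hn (h.bV.unique (h.act hn) (h.bV.act_I4.2 hc))

theorem cent_U {n : ℕ} (hn : n < 128) (hc : θ n ∈ C[UU θ]) : n < 64 ∧ n % 16 < 4 :=
  bm_I4 n hn (h.bU.unique (h.actU hn) (h.bU.act_I4.2 hc))

theorem QQ_le_CZ : QQ θ ≤ C[ZZ θ] := fun x hx => mem_C.2 fun z hz => by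
  obtain ⟨n, a, rfl⟩ := h.mem_QQ.1 hx
  obtain ⟨m, b, rfl⟩ := h.mem_ZZ.1 hz
  exact ((h.comm_iff (by omega) (by omega)).2 (comm_Z n a m b)).symm

theorem cent_Z {x : G} (hx : x ∈ T0 θ) (hc : x * θ 2 = θ 2 * x) : x ∈ QQ θ := by
  obtain ⟨n, a, rfl⟩ := h.mem_T0.1 hx
  exact (h.th_QQ a).2 (comm_two n a ((h.comm_iff a (by norm_num)).1 hc))

theorem one_comm {x : G} (hx : x ∈ T0 θ) : x * θ 1 = θ 1 * x := by
  obtain ⟨n, a, rfl⟩ := h.mem_T0.1 hx
  exact (h.comm_iff a (by norm_num)).2 (comm_one n a)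

theorem center {x : G} (hx : x ∈ T0 θ) (hc : x ∈ C[T0 θ]) : x = 1 ∨ x = θ 1 := by
  obtain ⟨n, a, rfl⟩ := h.mem_T0.1 hx
  have := center_tm n a fun m b => (h.comm_iff a b).1 (mem_C.1 hc _ (th_T0 θ b)).symm
  interval_cases n
  · exact Or.inl h.zero
  · exact Or.inr rfl

theorem vu {v u : G} (hv : v ∈ VV θ) (hu : u ∈ UU θ) (e : v * u = u * v) : v ∈ ZZ θ ∨ u ∈ ZZ θ := by
  obtain ⟨a, ha, rfl⟩ := h.mem_VV.1 hv
  obtain ⟨b, hb, rfl⟩ := h.mem_UU.1 hu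
  refine (vu_comm a ha b hb ((h.comm_iff (by omega) (up_lt' hb)).1 e)).imp
    (h.th_ZZ (by omega)).2 fun c => (h.th_ZZ (up_lt' hb)).2 (by unfold up; omega)

theorem invol_Q {x : G} (hx : x ∈ QQ θ) (e : x * x = 1) : x ∈ VV θ ∨ x ∈ UU θ := by
  obtain ⟨n, a, rfl⟩ := h.mem_QQ.1 hx
  exact (inv_Q n a ((h.sq_iff (by omega)).1 e)).imp (h.th_VV (by omega)).2
    fun c => (h.th_UU (by omega)).2 ⟨a, c⟩

/-- an elementary abelian subgroup of `Q` lies in `V` or `U` -/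
theorem elemQ {E : Subgroup G} (hE : E ≤ QQ θ) (hs : ∀ x ∈ E, x * x = 1) : E ≤ VV θ ∨ E ≤ UU θ := by
  by_cases h1 : E ≤ VV θ
  · exact Or.inl h1
  obtain ⟨u, hu, nu⟩ := SetLike.not_le_iff_exists.1 h1
  have uU := (h.invol_Q (hE hu) (hs u hu)).resolve_left nu
  refine Or.inr fun x hx => (h.invol_Q (hE hx) (hs x hx)).elim (fun xV => ?_) id
  exact (h.vu xV uU (comm_of_sq hs hx hu)).elim (fun c => ZZ_le_UU θ c)
    fun c => (nu (ZZ_le_VV θ c)).elim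

theorem elem_out {E : Subgroup G} (hE : E ≤ T0 θ) (hs : ∀ x ∈ E, x * x = 1) (hQ : ¬ E ≤ QQ θ) :
    Nat.card E ≤ 12 := by
  obtain ⟨x, hx, nx⟩ := SetLike.not_le_iff_exists.1 hQ
  obtain ⟨a, ha, rfl⟩ := h.mem_T0.1 (hE hx)
  refine (h.card_le hE (p := fun n => Nat.beq (tm n n) 0 && Nat.beq (tm n a) (tm a n))
    fun n hn hm => ?_).trans ?_
  · rw [Bool.and_eq_true, Nat.beq_eq, Nat.beq_eq]
    exact ⟨(h.sq_iff hn).1 (hs _ hm), (h.comm_iff hn ha).1 (comm_of_sq hs hm hx)⟩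
  · exact (by decide +kernel : ∀ a < 128, ¬ a < 64 → tm a a = 0 →
      cnt (fun n => Nat.beq (tm n n) 0 && Nat.beq (tm n a) (tm a n)) 128 ≤ 12) a ha
      (fun c => nx ((h.th_QQ ha).2 c)) ((h.sq_iff ha).1 (hs _ hx))

/-- the elementary abelian subgroups of order 16 -/
theorem e16 {E : Subgroup G} (hE : E ≤ T0 θ) (hs : ∀ x ∈ E, x * x = 1) (hc : 16 ≤ Nat.card E) :
    E = VV θ ∨ E = UU θ := by
  by_cases hQ : E ≤ QQ θ
  · haveI := h.bV.finite
    haveI := h.bU.finite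
    exact (h.elemQ hQ hs).imp (fun c => eq_of_le_of_card_ge c (h.card_VV ▸ hc))
      fun c => eq_of_le_of_card_ge c (h.card_UU ▸ hc)
  · have := h.elem_out hE hs hQ
    omega

theorem elem_le {E : Subgroup G} (hE : E ≤ T0 θ) (hs : ∀ x ∈ E, x * x = 1) : Nat.card E ≤ 16 := by
  by_contra c
  rcases h.e16 hE hs (by omega) with e | e <;> rw [e] at c
  · exact c h.card_VV.le
  · exact c h.card_UU.le

/-- every involution lies in an elementary abelian subgroup of order at least 8 -/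
theorem e8 {x : G} (hx : x ∈ T0 θ) (e : x * x = 1) :
    ∃ E ≤ T0 θ, (∀ y ∈ E, y * y = 1) ∧ 8 ≤ Nat.card E ∧ x ∈ E := by
  by_cases hQ : x ∈ QQ θ
  · rcases h.invol_Q hQ e with c | c
    · exact ⟨_, VV_le_T0 θ, fun _ => h.bV.sq, by rw [h.card_VV]; norm_num, c⟩
    · exact ⟨_, UU_le_T0 θ, fun _ => h.bU.sq, by rw [h.card_UU]; norm_num, c⟩
  obtain ⟨a, ha, rfl⟩ := h.mem_T0.1 hx
  have key := (by decide +kernel : ∀ a < 128, ¬ a < 64 → tm a a = 0 →
    Cl (fun n => Nat.beq (tm n a) (tm a n) && Nat.blt n 16 ||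
        Nat.beq (tm n a) (tm a n) && Nat.ble 64 n && Nat.blt (tm n a) 16) ∧
      (∀ n < 128, (Nat.beq (tm n a) (tm a n) && Nat.blt n 16 ||
        Nat.beq (tm n a) (tm a n) && Nat.ble 64 n && Nat.blt (tm n a) 16) = true → tm n n = 0) ∧
      8 ≤ cnt (fun n => Nat.beq (tm n a) (tm a n) && Nat.blt n 16 ||
        Nat.beq (tm n a) (tm a n) && Nat.ble 64 n && Nat.blt (tm n a) 16) 128 ∧
      (Nat.beq (tm a a) (tm a a) && Nat.blt a 16 ||
        Nat.beq (tm a a) (tm a a) && Nat.ble 64 a && Nat.blt (tm a a) 16) = true) a ha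
    (fun c => hQ ((h.th_QQ ha).2 c)) ((h.sq_iff ha).1 e)
  refine ⟨sp θ _, sp_mono θ fun _ _ _ => rfl, fun y hy => ?_, h.card_sp key.1 ▸ key.2.2.1,
    th_mem_sp θ ha key.2.2.2⟩
  obtain ⟨n, hn, pn, rfl⟩ := (h.mem_sp key.1).1 hy
  exact (h.sq_iff hn).2 (key.2.1 n hn pn)

theorem conj_VU {y : G} (hy : y ∈ N[T0 θ]) {E : Subgroup G} (hE : E = VV θ ∨ E = UU θ) :
    MulAut.conj y • E = VV θ ∨ MulAut.conj y • E = UU θ := by
  have h1 : E ≤ T0 θ := by rcases hE with rfl | rfl; exacts [VV_le_T0 θ, UU_le_T0 θ]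
  have h2 : ∀ x ∈ E, x * x = 1 := by
    rcases hE with rfl | rfl; exacts [fun _ => h.bV.sq, fun _ => h.bU.sq]
  have h3 : Nat.card E = 16 := by rcases hE with rfl | rfl; exacts [h.card_VV, h.card_UU]
  refine h.e16 (fun x hx => ?_) (fun x hx => ?_) (by rw [card_conj, h3])
  · simpa [mul_assoc] using norm_conj hy (h1 (mem_conj.1 hx))
  · have := h2 _ (mem_conj.1 hx)
    calc x * x = y * (y⁻¹ * x * y * (y⁻¹ * x * y)) * y⁻¹ := by group
      _ = 1 := by rw [this]; group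

/-- an element normalising `T0` but not `V` interchanges `V` and `U` -/
theorem swap {y : G} (hy : y ∈ N[T0 θ]) (hn : y ∉ N[VV θ]) :
    MulAut.conj y • VV θ = UU θ ∧ MulAut.conj y • UU θ = VV θ := by
  have h1 := (h.conj_VU hy (Or.inl rfl)).resolve_left fun e => hn (mem_N_iff.2 e)
  exact ⟨h1, (h.conj_VU hy (Or.inr rfl)).resolve_right fun e =>
    h.V_ne_U (MulAction.injective _ (h1.trans e.symm))⟩

theorem NU_of_NV {y : G} (hy : y ∈ N[T0 θ]) (hn : y ∈ N[VV θ]) : y ∈ N[UU θ] :=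
  mem_N_iff.2 ((h.conj_VU hy (Or.inr rfl)).resolve_left fun e =>
    h.V_ne_U (MulAction.injective _ ((mem_N_iff.1 hn).trans e.symm)))

theorem NQ_of {y : G} (hy : y ∈ N[T0 θ]) : y ∈ N[QQ θ] := by
  rw [mem_N_iff, ← h.V_sup_U, smul_sup]
  by_cases hn : y ∈ N[VV θ]
  · rw [mem_N_iff.1 hn, mem_N_iff.1 (h.NU_of_NV hy hn)]
  · rw [(h.swap hy hn).1, (h.swap hy hn).2, sup_comm]

theorem NZ_of {y : G} (hy : y ∈ N[T0 θ]) : y ∈ N[ZZ θ] := by
  rw [mem_N_iff, ← h.V_inf_U, smul_inf]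
  by_cases hn : y ∈ N[VV θ]
  · rw [mem_N_iff.1 hn, mem_N_iff.1 (h.NU_of_NV hy hn)]
  · rw [(h.swap hy hn).1, (h.swap hy hn).2, inf_comm]

theorem one_fix {y : G} (hy : y ∈ N[T0 θ]) : y * θ 1 = θ 1 * y := by
  have h1 : y * θ 1 * y⁻¹ ∈ C[T0 θ] := C_conj hy (mem_C.2 fun x hx => h.one_comm hx)
  rcases h.center (norm_conj hy (th_T0 θ (by norm_num))) h1 with e | e
  · have : θ 1 = 1 := by simpa using e
    exact absurd ((h.eq_one (by norm_num)).1 this) one_ne_zero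
  · exact mul_inv_eq_iff_eq_mul.1 e

end TM

theorem eqns_MWKit : True := by
  have := @iv.eq_1
  have := @Cl.eq_1
  trivial

end Cfsg.Agent.H19.MW
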