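import Cfsg.Agent.H19.MWA7

/-! # MW project: consequences of `JD`, `Ctx` and `DW` -/

set_option autoImplicit false
set_option maxRecDepth 100000
open scoped Pointwise commutatorElement
open Subgroup

namespace Cfsg.Agent.H19.MW
open Cfsg.Agent.H24.MH Cfsg.Agent.H23.D2 Cfsg.Agent.H8
open Cfsg.Agent.H42 (tb cnt)

local notation "C[" A "]" => Subgroup.centralizer (SetLike.coe A)
local notation "N[" A "]" => Subgroup.normalizer (SetLike.coe A)

variable {G : Type*} [Group G]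

theorem card_le_two [Finite G] {X K : Subgroup G}
    (h : ∀ x ∈ X, ∀ y ∈ X, x ∉ K → y ∉ K → x * y ∈ K) :
    Nat.card X ≤ 2 * Nat.card (X ⊓ K : Subgroup G) := by
  classical
  by_cases c : X ≤ K
  · rw [inf_of_le_left c]; omega
  obtain ⟨a, ha, na⟩ := SetLike.not_le_iff_exists.1 c
  have := Nat.card_le_card_of_injective (fun x : X => if hx : (x : G) ∈ K then
    ((true, ⟨x, x.2, hx⟩) : Bool × (X ⊓ K : Subgroup G))
    else (false, ⟨a * x, mul_mem ha x.2, h a ha x x.2 na hx⟩)) fun x y e => by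
      by_cases hx : (x : G) ∈ K <;> by_cases hy : (y : G) ∈ K <;>
        simp only [hx, hy, dif_pos, dif_neg, not_false_iff, Prod.mk.injEq, Subtype.mk.injEq] at e
      · exact Subtype.ext (congrArg (fun z : (X ⊓ K : Subgroup G) => (z : G)) e.2)
      · simp at e
      · simp at e
      · exact Subtype.ext (mul_left_cancel (congrArg (fun z : (X ⊓ K : Subgroup G) => (z : G)) e.2))
  simpa [Nat.card_prod] using this

/-- two involutions with a product of odd order are conjugate -/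
theorem odd_dih {a b : G} (ha : a * a = 1) (hb : b * b = 1) (ho : Odd (orderOf (b * a))) :
    ∃ c ∈ zpowers (b * a), c * a * c⁻¹ = b := by
  obtain ⟨m, hm⟩ := ho
  have ia : a⁻¹ = a := inv_eq_of_mul_eq_one_right ha
  have ib : b⁻¹ = b := inv_eq_of_mul_eq_one_right hb
  have h1 : a * (b * a) * a⁻¹ = (b * a)⁻¹ := by rw [mul_inv_rev, ia, ib, mul_assoc, mul_assoc, ha, mul_one]
  have h2 : a * (b * a) ^ (m + 1) * a⁻¹ = ((b * a) ^ (m + 1))⁻¹ := by
    rw [← conj_pow, h1, inv_pow]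
  refine ⟨(b * a) ^ (m + 1), pow_mem (mem_zpowers _) _, ?_⟩
  have h3 : (b * a) ^ (m + 1) * (b * a) ^ (m + 1) = b * a := by
    rw [← pow_add, show m + 1 + (m + 1) = orderOf (b * a) + 1 by omega, pow_succ,
      pow_orderOf_eq_one, one_mul]
  rw [← h2, ia, mul_assoc, ← mul_assoc a, ← mul_assoc a, ha, one_mul, ← mul_assoc, h3, mul_assoc,
    ha, mul_one]

theorem odd_of_mem [Finite G] {O : Subgroup G} (h : Odd (Nat.card O)) {x : G} (hx : x ∈ O) :
    Odd (orderOf x) := by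
  refine h.of_dvd_nat ?_
  have := orderOf_dvd_natCard (⟨x, hx⟩ : O)
  rwa [← Subgroup.orderOf_coe] at this

theorem two_of_mem {P : Subgroup G} (h : IsPGroup 2 P) {x : G} (hx : x ∈ P) : ∃ n, x ^ 2 ^ n = 1 := by
  obtain ⟨n, hn⟩ := h ⟨x, hx⟩
  exact ⟨n, congrArg Subtype.val hn⟩

theorem pgroup_zp {x : G} {n : ℕ} (hn : x ^ 2 ^ n = 1) : IsPGroup 2 (zpowers x) := by
  rintro ⟨_, k, rfl⟩
  exact ⟨n, Subtype.ext (by
    change (x ^ k) ^ 2 ^ n = 1
    rw [← zpow_natCast, ← zpow_mul, mul_comm, zpow_mul, zpow_natCast, hn, one_zpow])⟩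

theorem pgroup_of_sq {X : Subgroup G} (h : ∀ x ∈ X, x * x = 1) : IsPGroup 2 X := fun x =>
  ⟨1, Subtype.ext (by simpa [pow_two] using h x x.2)⟩

theorem ord_two {a : G} (h : a * a = 1) (h1 : a ≠ 1) : orderOf a = 2 :=
  haveI : Fact (Nat.Prime 2) := ⟨Nat.prime_two⟩
  orderOf_eq_prime (by rw [pow_two, h]) h1

theorem sq_conj {X : Subgroup G} (h : ∀ x ∈ X, x * x = 1) (g : G) :
    ∀ x ∈ MulAut.conj g • X, x * x = 1 := fun x hx => by
  have := h _ (mem_conj.1 hx)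
  calc x * x = g * (g⁻¹ * x * g * (g⁻¹ * x * g)) * g⁻¹ := by group
    _ = 1 := by rw [this]; group

theorem mem_sup_t {V : Subgroup G} {t x : G} (tt : t * t = 1) (hn : t ∈ N[V]) :
    x ∈ V ⊔ zpowers t ↔ x ∈ V ∨ x * t ∈ V := by
  rw [sup_comm]; exact mem_sup_zp tt hn

theorem mem_sup_N {H K : Subgroup G} (h : H ≤ N[K]) {x : G} :
    x ∈ H ⊔ K ↔ ∃ a ∈ H, ∃ b ∈ K, a * b = x := by
  rw [← SetLike.mem_coe, coe_mul_of_left_le_normalizer_right H K h]; rfl

/-- a `2`-subgroup `V` normalising the odd group `O` is Sylow in `V O` -/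
theorem sylow_sup_odd [Finite G] {V O : Subgroup G} (hV : IsPGroup 2 V) (hO : Odd (Nat.card O))
    (hn : V ≤ N[O]) : IsSylowIn 2 V (V ⊔ O) :=
  haveI : Fact (Nat.Prime 2) := ⟨Nat.prime_two⟩
  isSylowIn_of_maximal le_sup_left hV fun Q hQ h1 h2 q hq => by
    obtain ⟨p, hp, o, ho, rfl⟩ := (mem_sup_N hn).1 (h1 hq)
    obtain ⟨m, hm⟩ := two_of_mem hQ ((mul_mem_cancel_left (h2 hp)).1 hq)
    rwa [eq_one_of_odd_two (odd_of_mem hO ho) hm, mul_one]

/-- an element normalising `V` modulo `O` can be adjusted -/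
theorem adjust_odd [Finite G] {V O : Subgroup G} (hV : IsPGroup 2 V) (hO : Odd (Nat.card O))
    (hn : V ≤ N[O]) {g : G} (hg : ∀ v ∈ V, g * v * g⁻¹ ∈ V ⊔ O) : ∃ o ∈ O, o * g ∈ N[V] := by
  haveI : Fact (Nat.Prime 2) := ⟨Nat.prime_two⟩
  obtain ⟨c, hc, e⟩ := (sylow_sup_odd hV hO hn).exists_conj_le (isPGroup_conj_smul hV g)
    fun x hx => by simpa [mul_assoc] using hg _ (mem_conj.1 hx)
  obtain ⟨v, hv, o, ho, rfl⟩ := (mem_sup_N hn).1 hc
  refine ⟨o, ho, mem_N_of fun x hx => ?_⟩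
  have := norm_conj' (le_normalizer hv) (e (conj_mem_conj.2 (conj_mem_conj.2 hx)))
  simpa [mul_assoc] using this

theorem Triv.conj {J O : Subgroup G} {c g : G} (h : Triv J O c) (hJ : g ∈ N[J]) (hO : g ∈ N[O]) :
    Triv J O (g * c * g⁻¹) := fun x hx => by
  have := norm_conj hO (h _ (norm_conj' hJ hx))
  simpa [mul_assoc] using this

theorem Triv.mul {J O : Subgroup G} {c d : G} (h : Triv J O c) (k : Triv J O d) (hO : c ∈ N[O]) :
    Triv J O (c * d) := fun x hx => by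
  have := mul_mem (norm_conj hO (k x hx)) (h x hx)
  simpa [mul_assoc] using this

theorem Triv.inv {J O : Subgroup G} {c : G} (h : Triv J O c) (hO : c ∈ N[O]) :
    Triv J O c⁻¹ := fun x hx => by
  have := inv_mem (norm_conj' hO (h x hx))
  simpa [mul_assoc] using this

theorem triv_one (J O : Subgroup G) : Triv J O 1 := fun x _ => by simp

/-- `c` induces an inner automorphism on `J / O` -/
def In (J O : Subgroup G) (c : G) : Prop := ∃ j ∈ J, Triv J O (j * c)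

namespace JD
variable {J O : Subgroup G} {θ : ℕ → G} (h : JD J O θ)
include h

theorem T0_le : T0 θ ≤ J := h.syl.le
theorem V_le : VV θ ≤ J := (VV_le_T0 θ).trans h.T0_le
theorem U_le : UU θ ≤ J := (UU_le_T0 θ).trans h.T0_le

theorem triv_of_mem {o : G} (ho : o ∈ O) : Triv J O o := fun x hx => by
  have := mul_mem ho (norm_conj (h.nO hx) (inv_mem ho))
  simpa [mul_assoc] using this

theorem in_of_mem {j : G} (hj : j ∈ J) : In J O j :=
  ⟨j⁻¹, inv_mem hj, by simpa using triv_one J O⟩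

theorem in_mul {c d : G} (hJ : c ∈ N[J]) (hO : c ∈ N[O]) (hc : In J O c) (hd : In J O d) :
    In J O (c * d) := by
  obtain ⟨j, hj, a⟩ := hc
  obtain ⟨k, hk, b⟩ := hd
  refine ⟨k * j, mul_mem hk hj, ?_⟩
  have h1 := (a.conj (le_normalizer hk) (h.nO hk)).mul b
    (mul_mem (mul_mem (h.nO hk) (mul_mem (h.nO hj) hO)) (inv_mem (h.nO hk)))
  simpa [mul_assoc] using h1

theorem in_inv {c : G} (hJ : c ∈ N[J]) (hO : c ∈ N[O]) (hc : In J O c) : In J O c⁻¹ := by
  obtain ⟨j, hj, a⟩ := hc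
  refine ⟨j⁻¹, inv_mem hj, ?_⟩
  have h3 := (a.inv (mul_mem (h.nO hj) hO)).conj (inv_mem (le_normalizer hj)) (inv_mem (h.nO hj))
  simpa [mul_assoc] using h3

omit h in
theorem in_conj {c g : G} (hJ : g ∈ N[J]) (hO : g ∈ N[O]) (hc : In J O c) :
    In J O (g * c * g⁻¹) := by
  obtain ⟨j, hj, a⟩ := hc
  exact ⟨g * j * g⁻¹, norm_conj hJ hj, by simpa [mul_assoc] using a.conj hJ hO⟩

theorem cj (g : G) : JD (MulAut.conj g • J) (MulAut.conj g • O) (cj g θ) := by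
  have hx : ∀ x : G, ∃ y, x = g * y * g⁻¹ := fun x => ⟨g⁻¹ * x * g, by group⟩
  have hN : ∀ (K : Subgroup G) (x : G),
      g * x * g⁻¹ ∈ N[(MulAut.conj g • K : Subgroup G)] ↔ x ∈ N[K] := fun K x => by
    rw [normalizer_conj_smul, conj_mem_conj]
  have hT : ∀ x, Triv (MulAut.conj g • J) (MulAut.conj g • O) (g * x * g⁻¹) ↔ Triv J O x := by
    intro x
    constructor
    · intro a y hy
      have := mem_conj.1 (a _ (conj_mem_conj.2 hy))
      simpa [mul_assoc] using this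
    · intro a y hy
      have := a _ (mem_conj.1 hy)
      rw [mem_conj]
      simpa [mul_assoc] using this
  refine ⟨h.tm.cj g, pointwise_smul_le_pointwise_smul_iff.2 h.le, by rw [card_conj]; exact h.odd,
    fun x a => ?_, fun n hn => conj_mem_conj.2 (h.mem n hn), T0_cj g θ ▸ h.syl.conj_smul g,
    fun x a b => ?_, fun M hM => ?_, fun x a b => ?_, fun x a b => ?_, ?_, fun x a b c => ?_,
    fun x a b c d m hm e => ?_, fun K a b => ?_, fun x a b => ?_⟩
  · obtain ⟨x, rfl⟩ := hx x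
    exact (hN _ _).2 (h.nO (conj_mem_conj.1 a))
  · obtain ⟨x, rfl⟩ := hx x
    rw [VV_cj, hN] at b
    simpa only [act_cj] using h.act x (conj_mem_conj.1 a) b
  · obtain ⟨x, a, b⟩ := h.real M hM
    exact ⟨_, conj_mem_conj.2 a, (act_cj g).2 b⟩
  · obtain ⟨x, rfl⟩ := hx x
    rw [VV_cj, centralizer_conj_smul, conj_mem_conj] at b
    obtain ⟨v, c, d⟩ := h.cen x (conj_mem_conj.1 a) b
    exact ⟨v, c, by rw [mem_conj]; simpa [MW.cj, mul_assoc] using d⟩
  · obtain ⟨x, rfl⟩ := hx x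
    obtain ⟨k, c, d⟩ := h.one x (conj_mem_conj.1 a)
      (by rw [← b]; exact ((MulAut.conj g).orderOf_eq x).symm)
    exact ⟨_, conj_mem_conj.2 c, by rw [MW.cj, ← d]; group⟩
  · obtain ⟨x, a, b, c⟩ := h.lam
    exact ⟨_, conj_mem_conj.2 a, (act_cj g).2 b, (act_cj (σ := fun u => θ (up u)) g).2 c⟩
  · obtain ⟨x, rfl⟩ := hx x
    rw [VV_cj] at c
    obtain ⟨j, d, e⟩ := h.inn x ((hN _ _).1 a) ((hN _ _).1 b) ((hN _ _).1 c)
    exact ⟨_, conj_mem_conj.2 d, by simpa [mul_assoc] using (hT _).2 e⟩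
  · obtain ⟨x, rfl⟩ := hx x
    rw [T0_cj] at c
    rw [VV_cj] at d
    obtain ⟨n, f, k⟩ := h.inv x ((hN _ _).1 a) ((hN _ _).1 b) ((hN _ _).1 c)
      (fun y => d ((hN _ _).2 y)) m hm ((hT _).1 (by simpa [MW.cj, mul_assoc] using e))
    exact ⟨n, f, by simpa [MW.cj, mul_assoc] using (hT _).2 k⟩
  · have := h.simp (MulAut.conj g⁻¹ • K) (fun x c => by
      have := mem_conj.1 (a (mem_conj.1 c)); simpa [mul_assoc] using this) (fun x c => by
      rw [normalizer_conj_smul, mem_conj]; simpa using b (conj_mem_conj.2 c))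
    refine this.imp (fun c => ?_) fun c => ?_
    · rw [← conj_smul_conj_inv_smul K g]; exact pointwise_smul_le_pointwise_smul_iff.2 c
    · rw [← conj_smul_conj_inv_smul K g, ← smul_sup]; exact pointwise_smul_le_pointwise_smul_iff.2 c
  · obtain ⟨x, rfl⟩ := hx x
    exact conj_mem_conj.2 (h.zt x (conj_mem_conj.1 a) ((hT _).1 b))

variable [Finite G]

theorem conj_le {X : Subgroup G} (hX : IsPGroup 2 X) (hJ : X ≤ J) :
    ∃ c ∈ J, MulAut.conj c • X ≤ T0 θ :=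
  haveI : Fact (Nat.Prime 2) := ⟨Nat.prime_two⟩
  h.syl.exists_conj_le hX hJ

theorem e16 {E : Subgroup G} (hE : E ≤ J) (hs : ∀ x ∈ E, x * x = 1) (hc : 16 ≤ Nat.card E) :
    ∃ c ∈ J, MulAut.conj c • E = VV θ ∨ MulAut.conj c • E = UU θ := by
  obtain ⟨c, a, b⟩ := h.conj_le (pgroup_of_sq hs) hE
  exact ⟨c, a, h.tm.e16 b (sq_conj hs c) (by rwa [card_conj])⟩

theorem elem_le {E : Subgroup G} (hE : E ≤ J) (hs : ∀ x ∈ E, x * x = 1) : Nat.card E ≤ 16 := by
  obtain ⟨c, a, b⟩ := h.conj_le (pgroup_of_sq hs) hE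
  rw [← card_conj E c]
  exact h.tm.elem_le b (sq_conj hs c)

/-- a `2`-element of `J` normalising `T0` lies in `T0` -/
theorem two_mem {x : G} (hx : x ∈ J) (hn : x ∈ N[T0 θ]) (h2 : ∃ n, x ^ 2 ^ n = 1) : x ∈ T0 θ := by
  haveI : Fact (Nat.Prime 2) := ⟨Nat.prime_two⟩
  obtain ⟨n, e⟩ := h2
  exact h.syl.le_of_le_normalizer' (pgroup_zp e) (zpowers_le.2 hx) (zpowers_le.2 hn) (mem_zpowers x)

/-- a `2`-group acting on `J` normalises a conjugate of `T0` -/
theorem normT {R : Subgroup G} (hR : IsPGroup 2 R) (hn : R ≤ N[J]) :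
    ∃ c ∈ J, MulAut.conj c • R ≤ N[T0 θ] := by
  haveI : Fact (Nat.Prime 2) := ⟨Nat.prime_two⟩
  obtain ⟨S, hS, hRS⟩ := exists_isSylowIn_ge hR hn
  have h1 := hS.inf_of_le_normalizer (N := J) le_rfl
  rw [inf_of_le_right (le_normalizer (H := J))] at h1
  obtain ⟨c, hc, e⟩ := h1.exists_conj_eq h.syl
  refine ⟨c, hc, fun x hx => ?_⟩
  rw [← e, normalizer_conj_smul, mem_conj]
  exact mem_N_of fun y hy => ⟨norm_conj (le_normalizer (hRS (mem_conj.1 hx))) hy.1,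
    norm_conj (hn (mem_conj.1 hx)) hy.2⟩

theorem NV_of_mem {x : G} (hx : x ∈ J) (hn : x ∈ N[T0 θ]) : x ∈ N[VV θ] := by
  obtain ⟨a, ha, b, hb, e, h2, ⟨m, hm⟩, -⟩ := exists_parts x
  have a1 := h.tm.T0_le_NV (h.two_mem (zpowers_le.2 hx ha) (zpowers_le.2 hn ha) h2)
  have b1 : b ∈ N[T0 θ] := zpowers_le.2 hn hb
  have b2 : b * b ∈ N[VV θ] := by
    by_cases c : b ∈ N[VV θ]
    · exact mul_mem c c
    · rw [mem_N_iff, ← conj_smul_conj_smul, (h.tm.swap b1 c).1, (h.tm.swap b1 c).2]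
  have : b = (b * b) ^ (m + 1) := by
    rw [← pow_two, ← pow_mul, show 2 * (m + 1) = orderOf b + 1 by omega, pow_succ,
      pow_orderOf_eq_one, one_mul]
  rw [e, this]
  exact mul_mem a1 (pow_mem b2 _)

/-- `V` and `U` are not conjugate in `J` -/
theorem not_conj {g : G} (hg : g ∈ J) : MulAut.conj g • VV θ ≠ UU θ := fun e => by
  haveI : Fact (Nat.Prime 2) := ⟨Nat.prime_two⟩
  have s1 : IsSylowIn 2 (T0 θ) (J ⊓ N[UU θ]) := h.syl.mono (le_inf h.T0_le h.tm.T0_le_NU) inf_le_left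
  have s2 : IsSylowIn 2 (MulAut.conj g • T0 θ) (J ⊓ N[UU θ]) := by
    have h0 := h.syl.conj_smul_of_mem_normalizer (le_normalizer hg)
    refine h0.mono (le_inf h0.le ?_) inf_le_left
    rw [← e, normalizer_conj_smul]
    exact pointwise_smul_le_pointwise_smul_iff.2 h.tm.T0_le_NV
  obtain ⟨c, hc, e2⟩ := s2.exists_conj_eq s1
  rw [conj_smul_conj_smul, ← mem_N_iff] at e2
  have := mem_N_iff.1 (h.NV_of_mem (mul_mem hc.1 hg) e2)
  rw [← conj_smul_conj_smul, e, mem_N_iff.1 hc.2] at this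
  exact h.tm.V_ne_U this.symm

theorem triv_NV {e : G} (he : Triv J O e) : ∃ o ∈ O, o * e ∈ N[VV θ] :=
  adjust_odd (h.tm.isPGroup.to_le (VV_le_T0 θ)) h.odd (h.V_le.trans h.nO) fun v hv => by
    have := mul_mem (mem_sup_right (he v (h.V_le hv))) (mem_sup_left hv : v ∈ VV θ ⊔ O)
    simpa using this

theorem in_iff {c : G} (hJ : c ∈ N[J]) (hO : c ∈ N[O]) : In J O c ↔ ∃ j ∈ J, j * c ∈ N[VV θ] := by
  constructor
  · rintro ⟨j, hj, a⟩
    obtain ⟨o, ho, b⟩ := h.triv_NV a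
    exact ⟨o * j, mul_mem (h.le ho) hj, by rwa [mul_assoc]⟩
  · rintro ⟨j, hj, a⟩
    obtain ⟨k, hk, b⟩ := h.inn _ (mul_mem (le_normalizer hj) hJ) (mul_mem (h.nO hj) hO) a
    exact ⟨k * j, mul_mem hk hj, by rwa [mul_assoc]⟩

/-- an outer element maps `V` to a conjugate of `U` -/
theorem out_swap {c : G} (hJ : c ∈ N[J]) (hO : c ∈ N[O]) (hc : ¬ In J O c) :
    ∃ j ∈ J, MulAut.conj (j * c) • VV θ = UU θ := by
  obtain ⟨j, hj, e⟩ := h.e16 (E := MulAut.conj c • VV θ)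
    (fun x hx => by simpa [mul_assoc] using norm_conj hJ (h.V_le (mem_conj.1 hx)))
    (sq_conj (fun _ => h.tm.bV.sq) c) (by rw [card_conj, h.tm.card_VV])
  rw [conj_smul_conj_smul, ← mem_N_iff] at e
  exact ⟨j, hj, e.resolve_left fun a => hc ((h.in_iff hJ hO).2 ⟨j, hj, a⟩)⟩

theorem in_NV {c : G} (hJ : c ∈ N[J]) (hO : c ∈ N[O]) (hc : In J O c) (hT : c ∈ N[T0 θ]) :
    c ∈ N[VV θ] := by
  by_contra a
  obtain ⟨j, hj, b⟩ := (h.in_iff hJ hO).1 hc
  refine h.not_conj (inv_mem hj) ?_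
  rw [← (h.tm.swap hT a).1]
  conv_lhs => rw [← mem_N_iff.1 b, conj_smul_conj_smul, inv_mul_cancel_left]

/-- the inner elements have index at most two -/
theorem two {c d : G} (hJ : c ∈ N[J]) (hO : c ∈ N[O]) (kJ : d ∈ N[J]) (kO : d ∈ N[O])
    (hc : ¬ In J O c) (hd : ¬ In J O d) : In J O (c * d) := by
  obtain ⟨j, hj, a⟩ := h.out_swap (inv_mem hJ) (inv_mem hO)
    fun e => hc (by simpa using h.in_inv (inv_mem hJ) (inv_mem hO) e)
  obtain ⟨k, hk, b⟩ := h.out_swap kJ kO hd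
  refine (h.in_iff (mul_mem hJ kJ) (mul_mem hO kO)).2
    ⟨c * (j⁻¹ * k) * c⁻¹, norm_conj hJ (mul_mem (inv_mem hj) hk), ?_⟩
  rw [mem_N_iff, show c * (j⁻¹ * k) * c⁻¹ * (c * d) = (j * c⁻¹)⁻¹ * (k * d) by group,
    ← conj_smul_conj_smul, b, ← a, conj_inv_smul_conj_smul]

end JD

namespace Ctx
variable {t : G} {J O : Subgroup G} {θ : ℕ → G} (h : Ctx t J O θ)
include h

theorem ne_one : t ≠ 1 := fun e => h.tJ (e ▸ one_mem J)
theorem ord : orderOf t = 2 := ord_two h.tt h.ne_one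
theorem tinv : t⁻¹ = t := inv_eq_of_mul_eq_one_right h.tt
theorem th_t {n : ℕ} (hn : n < 128) : θ n * t = t * θ n := h.JC _ (h.mem n hn)
theorem triv_t : Triv J O t := fun x hx => by rw [← h.JC x hx]; simp
theorem mul_nm {j : G} (hj : j ∈ J) : j * t ∉ J := fun c => h.tJ ((mul_mem_cancel_left hj).1 c)
theorem t_CV : t ∈ C[VV θ] := mem_C.2 fun v hv => h.JC v (h.V_le hv)

theorem cj (g : G) : Ctx (g * t * g⁻¹) (MulAut.conj g • J) (MulAut.conj g • O) (cj g θ) := by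
  have hc : ∀ c : G, c * (g * t * g⁻¹) = g * t * g⁻¹ * c → g⁻¹ * c * g * t = t * (g⁻¹ * c * g) :=
    fun c e => by
      calc g⁻¹ * c * g * t = g⁻¹ * (c * (g * t * g⁻¹)) * g := by group
        _ = _ := by rw [e]; group
  refine ⟨h.toJD.cj g, ?_, fun a => h.tJ (conj_mem_conj.1 a), fun x a => ?_, fun c e => ?_,
    fun c e => ?_, fun c e a => ?_⟩
  · calc _ = g * (t * t) * g⁻¹ := by group
      _ = 1 := by rw [h.tt]; group
  · have := h.JC _ (mem_conj.1 a)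
    calc x * (g * t * g⁻¹) = g * (g⁻¹ * x * g * t) * g⁻¹ := by group
      _ = _ := by rw [this]; group
  · rw [normalizer_conj_smul, mem_conj]; exact h.NJ _ (hc c e)
  · rw [normalizer_conj_smul, mem_conj]; exact h.NO _ (hc c e)
  · refine (h.tr _ (hc c e) fun y hy => ?_).imp mem_conj.2 fun b => mem_conj.2 ?_
    · have := mem_conj.1 (a _ (conj_mem_conj.2 hy))
      simpa [mul_assoc] using this
    · simpa [mul_assoc] using b

theorem in_iff {c : G} (hc : c * t = t * c) : In J O c ↔ c ∈ J ∨ c * t ∈ J := by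
  constructor
  · rintro ⟨j, hj, a⟩
    refine (h.tr _ (by rw [mul_assoc, hc, ← mul_assoc, h.JC j hj, mul_assoc]) a).imp
      (fun b => (mul_mem_cancel_left hj).1 (h.le b)) fun b => (mul_mem_cancel_left hj).1 ?_
    rw [← mul_assoc]; exact h.le b
  · rintro (a | a)
    · exact h.in_of_mem a
    · refine ⟨(c * t)⁻¹, inv_mem a, ?_⟩
      rw [mul_inv_rev, inv_mul_cancel_right, h.tinv]
      exact h.triv_t

theorem inn' {c : G} (hc : c * t = t * c) (hn : c ∈ N[VV θ]) : c ∈ J ∨ c * t ∈ J :=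
  (h.in_iff hc).1 (h.inn c (h.NJ c hc) (h.NO c hc) hn)

theorem act' {c : G} (hc : c * t = t * c) (hn : c ∈ N[VV θ]) :
    ∃ M, tb m7 M = true ∧ Act θ c M := by
  rcases h.inn' hc hn with a | a
  · exact h.act c a hn
  · obtain ⟨M, b, d⟩ := h.act _ a (mul_mem hn (C_le_N h.t_CV))
    exact ⟨M, b, by simpa [mul_assoc, h.tt] using h.tm.bV.act_mul_right h.t_CV d⟩

theorem comm_mem' {c d : G} (hc : c ∈ J ∨ c * t ∈ J) (hd : d * t = t * d) :
    c * d * c⁻¹ * d⁻¹ ∈ J := by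
  rcases hc with a | a
  · simpa [mul_assoc] using mul_mem a (norm_conj (h.NJ d hd) (inv_mem a))
  · have := mul_mem a (norm_conj (h.NJ d hd) (inv_mem a))
    rwa [show c * t * (d * (c * t)⁻¹ * d⁻¹) = c * (t * d) * t⁻¹ * c⁻¹ * d⁻¹ by group, ← hd,
      show c * (d * t) * t⁻¹ * c⁻¹ * d⁻¹ = c * d * c⁻¹ * d⁻¹ by group] at this

variable [Finite G]

theorem two' {c d : G} (hc : c * t = t * c) (hd : d * t = t * d) (nc : ¬ (c ∈ J ∨ c * t ∈ J))
    (nd : ¬ (d ∈ J ∨ d * t ∈ J)) : c * d ∈ J ∨ c * d * t ∈ J :=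
  (h.in_iff (by rw [mul_assoc, hd, ← mul_assoc, hc, mul_assoc])).1
    (h.two (h.NJ c hc) (h.NO c hc) (h.NJ d hd) (h.NO d hd) (fun a => nc ((h.in_iff hc).1 a))
      fun a => nd ((h.in_iff hd).1 a))

theorem sq_in {c : G} (hc : c * t = t * c) : c * c ∈ J ∨ c * c * t ∈ J := by
  by_cases a : c ∈ J ∨ c * t ∈ J
  · rcases a with a | a
    · exact Or.inl (mul_mem a a)
    · have := mul_mem a a
      rw [show c * t * (c * t) = c * (t * c) * t by group, ← hc, mul_assoc, mul_assoc, h.tt,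
        mul_one] at this
      exact Or.inl this
  · exact h.two' hc hc a a

/-- commutators of elements of `C(t)` lie in `J` -/
theorem comm_mem {c d : G} (hc : c * t = t * c) (hd : d * t = t * d) : c * d * c⁻¹ * d⁻¹ ∈ J := by
  by_cases a : c ∈ J ∨ c * t ∈ J
  · exact h.comm_mem' a hd
  by_cases b : d ∈ J ∨ d * t ∈ J
  · simpa [mul_assoc] using inv_mem (h.comm_mem' b hc)
  · simpa [mul_assoc] using h.comm_mem' (h.two' hc hd a b) hd

/-- an outer element gives an element of `C(t)` mapping `V` to `U` -/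
theorem outer_swap {c : G} (hc : c * t = t * c) (n1 : c ∉ J) (n2 : c * t ∉ J) :
    ∃ y, y * t = t * y ∧ MulAut.conj y • VV θ = UU θ := by
  obtain ⟨j, hj, e⟩ := h.out_swap (h.NJ c hc) (h.NO c hc) fun a => ((h.in_iff hc).1 a).elim n1 n2
  exact ⟨j * c, by rw [mul_assoc, hc, ← mul_assoc, h.JC j hj, mul_assoc], e⟩

/-- no conjugate of `t` lies in `J` -/
theorem ntJ {a : G} (ha : a ∈ J) : ¬ IsConj t a := fun c => by
  obtain ⟨g, hg⟩ := isConj_iff.1 c.symm
  obtain ⟨k, -, e⟩ := h.one a ha (by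
    rw [← h.ord, ← hg]; exact ((MulAut.conj g).orderOf_eq a).symm)
  have e1 : t = g * k⁻¹ * θ 1 * (g * k⁻¹)⁻¹ := by rw [← e, ← hg]; group
  generalize g * k⁻¹ = x at e1
  have cm : ∀ n < 128, x * θ n * x⁻¹ * t = t * (x * θ n * x⁻¹) := fun n hn => by
    have := h.tm.one_comm (th_T0 θ hn)
    rw [e1]
    calc _ = x * (θ n * θ 1) * x⁻¹ := by group
      _ = _ := by rw [this]; group
  have e2 : θ 64 * θ 2 = θ 1 * (θ 2 * θ 64) := by
    rw [h.tm.mul 2 (by norm_num) 64 (by norm_num), h.tm.mul_eq (by norm_num) (by norm_num)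
      (by norm_num) (by decide +kernel)]
    decide +kernel
  have := h.comm_mem (cm 64 (by norm_num)) (cm 2 (by norm_num))
  rw [show x * θ 64 * x⁻¹ * (x * θ 2 * x⁻¹) * (x * θ 64 * x⁻¹)⁻¹ * (x * θ 2 * x⁻¹)⁻¹ =
    x * (θ 64 * θ 2 * (θ 2 * θ 64)⁻¹) * x⁻¹ by group, e2, mul_inv_cancel_right, ← e1] at this
  exact h.tJ this

/-- the position of a `2`-element of `C(t)` normalising `T0` -/
theorem pos {x : G} (hx : x * t = t * x) (hn : x ∈ N[T0 θ]) (h2 : ∃ n, x ^ 2 ^ n = 1) :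
    x ∈ T0 θ ∨ x * t ∈ T0 θ ∨ x ∉ N[VV θ] := by
  by_cases c : x ∈ N[VV θ]
  · rcases h.inn' hx c with a | a
    · exact Or.inl (h.two_mem a hn h2)
    · obtain ⟨n, e⟩ := h2
      refine Or.inr (Or.inl (h.two_mem a (mul_mem hn (C_le_N (mem_C.2 fun y hy =>
        h.JC y (h.T0_le hy)))) ⟨n + 1, ?_⟩))
      rw [(show Commute x t from hx).mul_pow, pow_succ, pow_mul, e, one_pow, one_mul, mul_comm,
        pow_mul, pow_two, h.tt, one_pow]
  · exact Or.inr (Or.inr c)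

/-- every `2`-subgroup of `C(t)` can be moved into the standard position -/
theorem sylT {R : Subgroup G} (hR : IsPGroup 2 R) (ht : ∀ x ∈ R, x * t = t * x) :
    ∃ c ∈ J, ∀ x ∈ MulAut.conj c • R, x * t = t * x ∧ x ∈ N[T0 θ] ∧
      (x ∈ T0 θ ∨ x * t ∈ T0 θ ∨ x ∉ N[VV θ]) := by
  obtain ⟨c, hc, e⟩ := h.normT hR fun x hx => h.NJ x (ht x hx)
  refine ⟨c, hc, fun x hx => ?_⟩
  have a : x * t = t * x := by
    have h1 := ht _ (mem_conj.1 hx)
    have h2 := h.JC c hc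
    calc x * t = c * (c⁻¹ * x * (t * c) * c⁻¹) := by group
      _ = c * (c⁻¹ * x * c * t) * c⁻¹ := by rw [← h2]; group
      _ = (c * t) * c⁻¹ * x := by rw [h1]; group
      _ = _ := by rw [h2]; group
  exact ⟨a, e hx, h.pos a (e hx) (two_of_mem (isPGroup_conj_smul hR c) hx)⟩

/-- elementary abelian subgroups of order 32 in standard position -/
theorem e32T {X : Subgroup G} (ht : t ∈ X) (hs : ∀ x ∈ X, x * x = 1) (hc : 32 ≤ Nat.card X)
    (hn : X ≤ N[T0 θ]) : X = VV θ ⊔ zpowers t ∨ X = UU θ ⊔ zpowers t := by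
  have hp : ∀ x ∈ X, x ∈ T0 θ ∨ x * t ∈ T0 θ ∨ x ∉ N[VV θ] := fun x hx =>
    h.pos (comm_of_sq hs hx ht) (hn hx) ⟨1, by simpa [pow_two] using hs x hx⟩
  have c1 : Nat.card (X ⊓ N[VV θ] : Subgroup G) ≤ 2 * Nat.card (X ⊓ N[VV θ] ⊓ T0 θ : Subgroup G) :=
    card_le_two fun x hx y hy nx ny => by
      have := mul_mem (((hp x hx.1).resolve_left nx).resolve_right fun a => a hx.2)
        (((hp y hy.1).resolve_left ny).resolve_right fun a => a hy.2)
      rwa [show x * t * (y * t) = x * (t * y) * t by group, comm_of_sq hs ht hy.1, mul_assoc,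
        mul_assoc, h.tt, mul_one] at this
  by_cases c : X ≤ N[VV θ]
  · rw [inf_of_le_left c] at c1
    have key : ∀ E : Subgroup G, X ⊓ T0 θ = E → X = E ⊔ zpowers t := by
      rintro _ rfl
      refine le_antisymm (fun x hx => ?_) (sup_le inf_le_left (zpowers_le.2 ht))
      rcases hp x hx with a | a | a
      · exact mem_sup_left ⟨hx, a⟩
      · have := mul_mem (mem_sup_left ⟨mul_mem hx ht, a⟩ : x * t ∈ X ⊓ T0 θ ⊔ zpowers t)
          (mem_sup_right (mem_zpowers t))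
        rwa [mul_assoc, h.tt, mul_one] at this
      · exact (a (c hx)).elim
    exact (h.tm.e16 inf_le_right (fun x hx => hs x hx.1) (by omega)).imp (key _) (key _)
  exfalso
  obtain ⟨y, hy, ny⟩ := SetLike.not_le_iff_exists.1 c
  have c2 : Nat.card X ≤ 2 * Nat.card (X ⊓ N[VV θ] : Subgroup G) :=
    card_le_two fun x hx z hz nx nz => by
      rw [mem_N_iff, ← conj_smul_conj_smul, (h.tm.swap (hn hz) nz).1, (h.tm.swap (hn hx) nx).2]
  set E := X ⊓ N[VV θ] ⊓ T0 θ with hE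
  have hZ : ∀ x ∈ E, x ∈ QQ θ → x ∈ ZZ θ := fun x hx hq => by
    have e : y * x * y⁻¹ = x := by rw [comm_of_sq hs hy hx.1.1, mul_inv_cancel_right]
    rw [← h.tm.V_inf_U]
    rcases h.tm.invol_Q hq (hs x hx.1.1) with a | a
    · exact ⟨a, by rw [← (h.tm.swap (hn hy) ny).1, ← e]; exact conj_mem_conj.2 a⟩
    · exact ⟨by rw [← (h.tm.swap (hn hy) ny).2, ← e]; exact conj_mem_conj.2 a, a⟩
  have c3 : Nat.card E ≤ 2 * Nat.card (E ⊓ QQ θ : Subgroup G) :=
    card_le_two fun x hx z hz nx nz => by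
      obtain ⟨a, ha, rfl⟩ := h.tm.mem_T0.1 hx.2
      obtain ⟨b, hb, rfl⟩ := h.tm.mem_T0.1 hz.2
      rw [h.tm.th_QQ ha] at nx
      rw [h.tm.th_QQ hb] at nz
      rw [h.tm.mul a ha b hb, h.tm.th_QQ (tm_lt a ha b hb)]
      exact (by decide +kernel : ∀ a < 128, ∀ b < 128, ¬ a < 64 → ¬ b < 64 → tm a b < 64)
        a ha b hb nx nz
  have c4 : E ⊓ QQ θ = ZZ θ := eq_of_le_of_card_ge (fun x hx => hZ x hx.1 hx.2)
    (by rw [h.tm.card_ZZ]; omega)
  have c5 : E ≤ ZZ θ := fun x hx => hZ x hx (h.tm.cent_Z hx.2 (comm_of_sq hs hx.1.1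
    (c4.ge ((h.tm.th_ZZ (n := 2) (by norm_num)).2 (by norm_num))).1.1.1))
  have := card_le_of_le c5
  rw [h.tm.card_ZZ] at this
  omega

theorem e32 {X : Subgroup G} (ht : t ∈ X) (hs : ∀ x ∈ X, x * x = 1) (hc : 32 ≤ Nat.card X) :
    ∃ c ∈ J, MulAut.conj c • X = VV θ ⊔ zpowers t ∨ MulAut.conj c • X = UU θ ⊔ zpowers t := by
  obtain ⟨c, hJ, e⟩ := h.sylT (pgroup_of_sq hs) fun x hx => comm_of_sq hs hx ht
  refine ⟨c, hJ, h.e32T ?_ (sq_conj hs c) (by rwa [card_conj]) fun x hx => (e x hx).2.1⟩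
  have := conj_mem_conj (g := c).2 ht
  rwa [h.JC c hJ, mul_inv_cancel_right] at this

theorem card_sup_t {E : Subgroup G} (hE : E ≤ J) :
    Nat.card (E ⊔ zpowers t : Subgroup G) ≤ 2 * Nat.card E := by
  have hn : t ∈ N[E] := C_le_N (mem_C.2 fun x hx => h.JC x (hE hx))
  have := card_le_two (X := E ⊔ zpowers t) (K := E) fun x hx y hy nx ny => by
    have h1 := ((mem_sup_t h.tt hn).1 hy).resolve_left ny
    have := mul_mem (((mem_sup_t h.tt hn).1 hx).resolve_left nx) h1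
    have h2 : t * (y * t) = y := by rw [← h.JC _ (hE h1), mul_assoc, h.tt, mul_one]
    rwa [mul_assoc, h2] at this
  rwa [inf_of_le_right le_sup_left] at this

/-- the `2`-rank of the centraliser of a conjugate of `t` is at most five -/
theorem rank {x : G} (hx : IsConj t x) {X : Subgroup G} (ht : x ∈ X) (hs : ∀ y ∈ X, y * y = 1) :
    Nat.card X ≤ 32 := by
  obtain ⟨g, rfl⟩ := isConj_iff.1 hx
  by_contra c
  obtain ⟨d, -, e⟩ := h.e32 (X := MulAut.conj g⁻¹ • X) (mem_conj.2 (by simpa using ht))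
    (sq_conj hs _) (by rw [card_conj]; omega)
  have h1 := h.card_sup_t h.V_le
  have h2 := h.card_sup_t h.U_le
  rw [h.tm.card_VV] at h1
  rw [h.tm.card_UU] at h2
  rcases e with e | e
  · rw [← e, card_conj, card_conj] at h1; omega
  · rw [← e, card_conj, card_conj] at h2; omega

/-- `(V ⊔ ⟨t⟩) ⊓ J = V` -/
theorem mem_of_sup {E : Subgroup G} (hE : E ≤ J) {x : G} (hx : x ∈ E ⊔ zpowers t) (hJ : x ∈ J) :
    x ∈ E :=
  ((mem_sup_t h.tt (C_le_N (mem_C.2 fun x hx => h.JC x (hE hx)))).1 hx).resolve_right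
    fun a => h.mul_nm hJ (hE a)

/-- `t a` is conjugate to `t θ 1` for every involution `a` of `J` -/
theorem conj_ta {a : G} (ha : a ∈ J) (h2 : a * a = 1) (h1 : a ≠ 1) : IsConj (t * θ 1) (t * a) := by
  obtain ⟨g, hg, e⟩ := h.one a ha (ord_two h2 h1)
  refine (isConj_iff.2 ⟨g, ?_⟩).symm
  rw [← e, ← mul_assoc, h.JC g hg]; group

end Ctx

namespace DW
variable {t : G} {J O W : Subgroup G} {θ : ℕ → G} (d : DW t J W θ)
include d

theorem WC : W ≤ C[W] := fun x hx => mem_C.2 fun y hy => d.comm y hy x hx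

theorem W_CV : W ≤ C[VV θ] := fun x hx => mem_C.2 fun y hy => d.comm y (d.le hy) x hx

theorem tn [Finite G] (h : Ctx t J O θ) : t ∈ N[W] := mem_N_of fun w hw => by
  obtain ⟨v, hv, e⟩ := d.br w⁻¹ (inv_mem hw)
  have : t * w * t⁻¹ = w * (t * v * t⁻¹)⁻¹ := by
    have e2 : t = w * (t * v) * w⁻¹ := by rw [← e]; group
    calc t * w * t⁻¹ = w * (t * v) * w⁻¹ * w * t⁻¹ := by rw [← e2]
      _ = w * (t * v * t⁻¹) := by group
      _ = _ := by rw [← h.JC v (h.V_le hv), mul_inv_cancel_right,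
        inv_eq_of_mul_eq_one_right (h.tm.bV.sq hv)]
  rw [this, ← h.JC v (h.V_le hv), mul_inv_cancel_right]
  exact mul_mem hw (inv_mem (d.le hv))

/-- an element of `C(t)` of odd order normalising `W` and centralising `V` centralises `W` -/
theorem odd_cw [Finite G] (h : Ctx t J O θ) {c : G} (hc : c * t = t * c) (hn : c ∈ N[W])
    (hV : c ∈ C[VV θ]) (ho : Odd (orderOf c)) : c ∈ C[W] := mem_C.2 fun w hw => by
  obtain ⟨v, hv, e⟩ := d.br w hw
  have h1 : c * w * c⁻¹ * t * (c * w * c⁻¹)⁻¹ = t * v := by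
    have h2 : c⁻¹ * t * c = t := by rw [mul_assoc, ← hc]; group
    calc _ = c * (w * (c⁻¹ * t * c) * w⁻¹) * c⁻¹ := by group
      _ = c * t * c⁻¹ * (c * v * c⁻¹) := by rw [h2, e]; group
      _ = _ := by rw [cj_of_C hV hv, hc, mul_inv_cancel_right]
  have h3 : w⁻¹ * (c * w * c⁻¹) ∈ VV θ := d.fix _ (mul_mem (inv_mem hw) (norm_conj hn hw)) (by
    rw [← e] at h1
    calc _ = w⁻¹ * (c * w * c⁻¹ * t * (c * w * c⁻¹)⁻¹) * (c * w * c⁻¹) := by group
      _ = _ := by rw [h1]; group)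
  generalize hu : w⁻¹ * (c * w * c⁻¹) = u at h3
  have h4 : c * w * c⁻¹ = w * u := by rw [← hu]; group
  have h5 : c * c * w = w * (c * c) := by
    calc c * c * w = c * (c * w * c⁻¹) * c⁻¹ * (c * c) := by group
      _ = c * (w * u) * c⁻¹ * (c * c) := by rw [h4]
      _ = (c * w * c⁻¹) * (c * u * c⁻¹) * (c * c) := by group
      _ = _ := by rw [h4, cj_of_C hV h3, mul_assoc w, h.tm.bV.sq h3, mul_one]
  obtain ⟨m, hm⟩ := ho
  have : c = (c * c) ^ (m + 1) := by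
    rw [← pow_two, ← pow_mul, show 2 * (m + 1) = orderOf c + 1 by omega, pow_succ,
      pow_orderOf_eq_one, one_mul]
  rw [this]
  exact ((show Commute (c * c) w from h5).pow_left _).eq.symm

theorem cw [Finite G] (h : Ctx t J O θ) {c : G} (hc : c ∈ J) (hn : c ∈ N[W]) (hV : c ∈ C[VV θ]) :
    c ∈ C[W] := by
  obtain ⟨v, hv, e⟩ := h.cen c hc hV
  have a := h.tm.bV.mem v hv
  have := d.odd_cw h (h.JC _ (h.le e)) (mul_mem (le_normalizer (d.le a)) hn)
    (mul_mem (d.W_CV (d.le a)) hV) (odd_of_mem h.odd e)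
  exact (mul_mem_cancel_left (d.WC (d.le a))).1 this

theorem ntW [Finite G] (h : Ctx t J O θ) (hs : ∀ w ∈ W, w * w = 1) {w : G} (hw : w ∈ W) :
    ¬ IsConj t w := fun c => by
  have := h.rank c hw hs
  rw [d.card] at this
  omega

end DW

theorem eqns_MWKit2 : True := by
  have := @In.eq_1.{0}
  trivial

end Cfsg.Agent.H19.MW
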