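import Cfsg.Agent.H19.MWKit2

/-! # MW project: the group `S = S₁ × S₂` and the types of elements normalising it -/

set_option autoImplicit false
set_option maxRecDepth 100000
set_option synthInstance.maxSize 2048
open scoped Pointwise commutatorElement
open Subgroup

namespace Cfsg.Agent.H19.MW
open Cfsg.Agent.H24.MH Cfsg.Agent.H23.D2 Cfsg.Agent.H8
open Cfsg.Agent.H42 (tb cnt)

local notation "C[" A "]" => Subgroup.centralizer (SetLike.coe A)
local notation "N[" A "]" => Subgroup.normalizer (SetLike.coe A)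

variable {G : Type*} [Group G]

def pV (n : ℕ) : Bool := Nat.blt n 16
def pU (n : ℕ) : Bool := Nat.blt n 64 && Nat.blt (n % 16) 4
def pZ (n : ℕ) : Bool := Nat.blt n 4
def pQ (n : ℕ) : Bool := Nat.blt n 64
/-- `V` for `false`, `U` for `true` -/
def pE (j : Bool) (n : ℕ) : Bool := bif j then pU n else pV n

theorem cl_T : Cl fun _ => true := by decide +kernel
theorem cl_Q : Cl pQ := by decide +kernel
theorem cl_Z : Cl pZ := by decide +kernel
theorem cl_E (j : Bool) : Cl (pE j) := by cases j <;> decide +kernel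
theorem cnt_E (j : Bool) : cnt (pE j) 128 = 16 := by cases j <;> decide +kernel
theorem pZ_iff {n : ℕ} : pZ n = true ↔ n < 4 := by rw [pZ, Nat.blt_eq]
theorem pQ_iff {n : ℕ} : pQ n = true ↔ n < 64 := by rw [pQ, Nat.blt_eq]
theorem pE_false {n : ℕ} : pE false n = true ↔ n < 16 := by
  show Nat.blt n 16 = true ↔ _; rw [Nat.blt_eq]
theorem pE_true {n : ℕ} : pE true n = true ↔ n < 64 ∧ n % 16 < 4 := by
  show (Nat.blt n 64 && Nat.blt (n % 16) 4) = true ↔ _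
  rw [Bool.and_eq_true, Nat.blt_eq, Nat.blt_eq]
theorem pE_both {j : Bool} {n : ℕ} (h1 : pE j n = true) (h2 : pE (!j) n = true) : n < 4 := by
  cases j
  · rw [pE_false] at h1; rw [Bool.not_false, pE_true] at h2; omega
  · rw [pE_true] at h1; rw [Bool.not_true, pE_false] at h2; omega
theorem pE_sq : ∀ j, ∀ n < 128, pE j n = true → tm n n = 0 := by decide +kernel
theorem pE_of_sq : ∀ n < 64, tm n n = 0 → ∃ j, pE j n = true := by decide +kernel
theorem pE_comm : ∀ j, ∀ n < 128, ∀ m < 128, pE j n = true → pE (!j) m = true →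
    tm n m = tm m n → n < 4 ∨ m < 4 := by decide +kernel

theorem sp_E (θ : ℕ → G) (j : Bool) : sp θ (pE j) = bif j then UU θ else VV θ := by
  cases j <;> rfl

theorem XX_false (t : G) (η : ℕ → G) (j : Bool) :
    XX t η false j = sp η (pE j) ⊔ sp (cj t η) pZ := by
  have : ZZ η ≤ sp η (pE j) := by cases j; exacts [ZZ_le_VV η, ZZ_le_UU η]
  rw [XX, ZH, ← sup_assoc, ← sp_E]
  exact congrArg₂ _ (sup_of_le_left this) rfl

theorem XX_true (t : G) (η : ℕ → G) (j : Bool) :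
    XX t η true j = sp η pZ ⊔ sp (cj t η) (pE j) := by
  have : ZZ (cj t η) ≤ sp (cj t η) (pE j) := by cases j; exacts [ZZ_le_VV _, ZZ_le_UU _]
  rw [XX, ZH, ← sp_E, sup_comm, sup_assoc]
  exact congrArg₂ _ rfl (sup_of_le_right this)

/-- the four elementary abelian subgroups of order 256 -/
theorem XX_sup (t : G) (η : ℕ → G) (i j : Bool) :
    XX t η false i ⊔ XX t η true j = sp η (pE i) ⊔ sp (cj t η) (pE j) := by
  have h1 : sp η pZ ≤ sp η (pE i) := by cases i; exacts [ZZ_le_VV η, ZZ_le_UU η]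
  have h2 : sp (cj t η) pZ ≤ sp (cj t η) (pE j) := by cases j; exacts [ZZ_le_VV _, ZZ_le_UU _]
  rw [XX_false, XX_true]
  exact le_antisymm (sup_le (sup_le_sup_left h2 _) (sup_le_sup_right h1 _))
    (sup_le (le_sup_left.trans le_sup_left) (le_sup_right.trans le_sup_right))

theorem W00_eq (t : G) (η : ℕ → G) :
    XX t η false false ⊔ XX t η true false = VV η ⊔ VV (cj t η) := XX_sup ..

theorem ZH_eq (t : G) (η : ℕ → G) : ZH t η = sp η pZ ⊔ sp (cj t η) pZ := rfl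

namespace Ty
variable {t g g' : G} {η : ℕ → G} {e a b e' a' b' : Bool}

theorem app (h : Ty t η g e a b) (i j : Bool) :
    MulAut.conj g • XX t η i j = XX t η (xor e i) (xor j (bif i then b else a)) := by
  cases i
  · simpa using (h j).1
  · simpa using (h j).2

theorem mul (h : Ty t η g e a b) (k : Ty t η g' e' a' b') :
    Ty t η (g * g') (xor e e') (xor a' (bif e' then b else a)) (xor b' (bif e' then a else b)) := by
  intro j
  rw [← conj_smul_conj_smul, ← conj_smul_conj_smul, (k j).1, (k j).2, h.app, h.app]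
  cases e <;> cases e' <;> simp

theorem inv (h : Ty t η g e a b) : Ty t η g⁻¹ e (bif e then b else a) (bif e then a else b) := by
  intro j
  have key : ∀ i j i' j', MulAut.conj g • XX t η i j = XX t η i' j' →
      MulAut.conj g⁻¹ • XX t η i' j' = XX t η i j := fun i j i' j' c => by
    rw [← c, conj_inv_smul_conj_smul]
  constructor <;> apply key <;> rw [h.app] <;> cases e <;> simp

theorem sup (h : Ty t η g e a b) (i j : Bool) :
    MulAut.conj g • (XX t η false i ⊔ XX t η true j) =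
      XX t η false (bif e then xor j b else xor i a) ⊔ XX t η true (bif e then xor i a else xor j b) := by
  rw [smul_sup, (h i).1, (h j).2]
  cases e
  · rfl
  · exact sup_comm _ _

end Ty

theorem ty_one (t : G) (η : ℕ → G) : Ty t η 1 false false false := fun j => by simp

theorem ty_t {t : G} (tt : t * t = 1) (η : ℕ → G) : Ty t η t true false false := fun j => by
  simp only [Bool.xor_false, Bool.not_true, XX_false, XX_true, smul_sup, ← sp_cj, cj_cj tt]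
  exact ⟨sup_comm _ _, sup_comm _ _⟩

/-- two commuting models meeting trivially -/
structure TP (η ζ : ℕ → G) : Prop where
  l : TM η
  r : TM ζ
  comm : ∀ n < 128, ∀ m < 128, η n * ζ m = ζ m * η n
  disj : ∀ n < 128, ∀ m < 128, η n = ζ m → n = 0

namespace TP
variable {η ζ : ℕ → G} (h : TP η ζ)
include h

theorem symm : TP ζ η :=
  ⟨h.r, h.l, fun n a m b => (h.comm m b n a).symm, fun n a m b e => by
    have := h.disj m b n a e.symm
    rw [this, h.l.zero] at e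
    exact (h.r.eq_one a).1 e⟩

theorem comm' {x y : G} (hx : x ∈ T0 η) (hy : y ∈ T0 ζ) : x * y = y * x := by
  obtain ⟨a, ha, rfl⟩ := h.l.mem_T0.1 hx
  obtain ⟨b, hb, rfl⟩ := h.r.mem_T0.1 hy
  exact h.comm a ha b hb

theorem le_C : T0 η ≤ C[T0 ζ] := fun _ hx => mem_C.2 fun _ hy => (h.comm' hx hy).symm

theorem disj' {x : G} (hx : x ∈ T0 η) (hy : x ∈ T0 ζ) : x = 1 := by
  obtain ⟨a, ha, rfl⟩ := h.l.mem_T0.1 hx
  obtain ⟨b, hb, e⟩ := h.r.mem_T0.1 hy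
  rw [h.disj a ha b hb e.symm, h.l.zero]

theorem mul {a c a' c' : ℕ} (ha : a < 128) (hc : c < 128) (ha' : a' < 128) (hc' : c' < 128) :
    η a * ζ c * (η a' * ζ c') = η (tm a a') * ζ (tm c c') := by
  rw [← h.l.mul a ha a' ha', ← h.r.mul c hc c' hc', mul_assoc, ← mul_assoc (ζ c),
    ← h.comm a' ha' c hc]; group

theorem inv {a c : ℕ} (ha : a < 128) (hc : c < 128) : (η a * ζ c)⁻¹ = η (iv a) * ζ (iv c) := by
  rw [mul_inv_rev, h.l.inv ha, h.r.inv hc, h.comm _ (iv_lt a ha) _ (iv_lt c hc)]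

theorem uniq {a c a' c' : ℕ} (ha : a < 128) (hc : c < 128) (ha' : a' < 128) (hc' : c' < 128)
    (e : η a * ζ c = η a' * ζ c') : a = a' ∧ c = c' := by
  have h1 : (η a')⁻¹ * η a = ζ c' * (ζ c)⁻¹ := by
    rw [inv_mul_eq_iff_eq_mul, ← mul_assoc, ← e, mul_inv_cancel_right]
  have h2 := h.disj' (mul_mem (inv_mem (th_T0 η ha')) (th_T0 η ha))
    (h1 ▸ mul_mem (th_T0 ζ hc') (inv_mem (th_T0 ζ hc)))
  rw [h2, eq_comm, mul_inv_eq_one] at h1
  exact ⟨(h.l.inj _ ha' _ ha (inv_mul_eq_one.1 h2)).symm, (h.r.inj _ hc' _ hc h1).symm⟩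

theorem eq_one {a c : ℕ} (ha : a < 128) (hc : c < 128) : η a * ζ c = 1 ↔ a = 0 ∧ c = 0 :=
  ⟨fun e => h.uniq ha hc (by norm_num) (by norm_num) (by rw [e, h.l.zero, h.r.zero, mul_one]),
    fun e => by rw [e.1, e.2, h.l.zero, h.r.zero, mul_one]⟩

theorem sq_iff {a c : ℕ} (ha : a < 128) (hc : c < 128) :
    η a * ζ c * (η a * ζ c) = 1 ↔ tm a a = 0 ∧ tm c c = 0 := by
  rw [h.mul ha hc ha hc, h.eq_one (tm_lt a ha a ha) (tm_lt c hc c hc)]

theorem comm_iff {a c a' c' : ℕ} (ha : a < 128) (hc : c < 128) (ha' : a' < 128) (hc' : c' < 128) :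
    η a * ζ c * (η a' * ζ c') = η a' * ζ c' * (η a * ζ c) ↔
      tm a a' = tm a' a ∧ tm c c' = tm c' c := by
  rw [h.mul ha hc ha' hc', h.mul ha' hc' ha hc]
  exact ⟨h.uniq (tm_lt _ ha _ ha') (tm_lt _ hc _ hc') (tm_lt _ ha' _ ha) (tm_lt _ hc' _ hc),
    fun e => by rw [e.1, e.2]⟩

theorem mem_sup {A B : Subgroup G} (hA : A ≤ T0 η) (hB : B ≤ T0 ζ) {x : G} :
    x ∈ A ⊔ B ↔ ∃ a ∈ A, ∃ b ∈ B, a * b = x :=
  mem_sup_N fun _ ha => C_le_N (mem_C.2 fun _ hb => (h.comm' (hA ha) (hB hb)).symm)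

theorem mem_sp {p q : ℕ → Bool} (hp : Cl p) (hq : Cl q) {x : G} :
    x ∈ sp η p ⊔ sp ζ q ↔ ∃ a < 128, ∃ c < 128, p a = true ∧ q c = true ∧ η a * ζ c = x := by
  rw [h.mem_sup (sp_mono η fun _ _ _ => rfl) (sp_mono ζ fun _ _ _ => rfl)]
  constructor
  · rintro ⟨y, hy, z, hz, rfl⟩
    obtain ⟨a, a1, a2, rfl⟩ := (h.l.mem_sp hp).1 hy
    obtain ⟨c, c1, c2, rfl⟩ := (h.r.mem_sp hq).1 hz
    exact ⟨a, a1, c, c1, a2, c2, rfl⟩
  · rintro ⟨a, a1, c, c1, a2, c2, rfl⟩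
    exact ⟨_, th_mem_sp η a1 a2, _, th_mem_sp ζ c1 c2, rfl⟩

theorem th_sp {p q : ℕ → Bool} (hp : Cl p) (hq : Cl q) {a c : ℕ} (ha : a < 128) (hc : c < 128) :
    η a * ζ c ∈ sp η p ⊔ sp ζ q ↔ p a = true ∧ q c = true := by
  rw [h.mem_sp hp hq]
  constructor
  · rintro ⟨a', a1, c', c1, a2, c2, e⟩
    obtain ⟨rfl, rfl⟩ := h.uniq a1 c1 ha hc e
    exact ⟨a2, c2⟩
  · exact fun e => ⟨a, ha, c, hc, e.1, e.2, rfl⟩

theorem mem_T {x : G} : x ∈ T0 η ⊔ T0 ζ ↔ ∃ a < 128, ∃ c < 128, η a * ζ c = x := by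
  rw [T0, T0, h.mem_sp cl_T cl_T]; simp

theorem card_sup {A B : Subgroup G} (hA : A ≤ T0 η) (hB : B ≤ T0 ζ) :
    Nat.card (A ⊔ B : Subgroup G) = Nat.card A * Nat.card B := by
  rw [← Nat.card_prod]
  refine (Nat.card_eq_of_bijective (fun p : A × B => (⟨p.1 * p.2,
    mul_mem (mem_sup_left p.1.2) (mem_sup_right p.2.2)⟩ : (A ⊔ B : Subgroup G))) ⟨?_, ?_⟩).symm
  · rintro ⟨a, b⟩ ⟨a', b'⟩ e
    have e1 : (a : G) * b = a' * b' := congrArg Subtype.val e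
    have h1 : (a' : G)⁻¹ * a = b' * (b : G)⁻¹ := by
      rw [inv_mul_eq_iff_eq_mul, ← mul_assoc, ← e1, mul_inv_cancel_right]
    have h2 := h.disj' (hA (mul_mem (inv_mem a'.2) a.2)) (h1 ▸ hB (mul_mem b'.2 (inv_mem b.2)))
    rw [h2, eq_comm, mul_inv_eq_one] at h1
    exact Prod.ext (Subtype.ext (inv_mul_eq_one.1 h2).symm) (Subtype.ext h1.symm)
  · rintro ⟨x, hx⟩
    obtain ⟨a, ha, b, hb, rfl⟩ := (h.mem_sup hA hB).1 hx
    exact ⟨(⟨a, ha⟩, ⟨b, hb⟩), rfl⟩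

theorem card_sp {p q : ℕ → Bool} (hp : Cl p) (hq : Cl q) :
    Nat.card (sp η p ⊔ sp ζ q : Subgroup G) = cnt p 128 * cnt q 128 := by
  rw [h.card_sup (sp_mono η fun _ _ _ => rfl) (sp_mono ζ fun _ _ _ => rfl), h.l.card_sp hp,
    h.r.card_sp hq]

theorem card_T : Nat.card (T0 η ⊔ T0 ζ : Subgroup G) = 2 ^ 14 := by
  rw [h.card_sup le_rfl le_rfl, h.l.card_T0, h.r.card_T0]; norm_num

theorem isPGroup : IsPGroup 2 (T0 η ⊔ T0 ζ : Subgroup G) := IsPGroup.of_card h.card_T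

theorem card_W (i j : Bool) : Nat.card (sp η (pE i) ⊔ sp ζ (pE j) : Subgroup G) = 256 := by
  rw [h.card_sp (cl_E i) (cl_E j), cnt_E, cnt_E]

theorem sq_W {i j : Bool} {x : G} (hx : x ∈ sp η (pE i) ⊔ sp ζ (pE j)) : x * x = 1 := by
  obtain ⟨a, a1, c, c1, a2, c2, rfl⟩ := (h.mem_sp (cl_E i) (cl_E j)).1 hx
  exact (h.sq_iff a1 c1).2 ⟨pE_sq i a a1 a2, pE_sq j c c1 c2⟩

/-- opposite subgroups of order 256 meet in `Z₁ × Z₂` -/
theorem opp {i j : Bool} {x : G} (h1 : x ∈ sp η (pE i) ⊔ sp ζ (pE j))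
    (h2 : x ∈ sp η (pE !i) ⊔ sp ζ (pE !j)) : x ∈ sp η pZ ⊔ sp ζ pZ := by
  obtain ⟨a, a1, c, c1, a2, c2, rfl⟩ := (h.mem_sp (cl_E i) (cl_E j)).1 h1
  rw [h.th_sp (cl_E _) (cl_E _) a1 c1] at h2
  exact (h.th_sp cl_Z cl_Z a1 c1).2 ⟨pZ_iff.2 (pE_both a2 h2.1), pZ_iff.2 (pE_both c2 h2.2)⟩

/-- an involution of `Q₁ × Q₂` lies in one of the four subgroups -/
theorem invol_Q {x : G} (hx : x ∈ QQ η ⊔ QQ ζ) (e : x * x = 1) :
    ∃ i j, x ∈ sp η (pE i) ⊔ sp ζ (pE j) := by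
  obtain ⟨a, a1, c, c1, a2, c2, rfl⟩ := (h.mem_sp cl_Q cl_Q).1 hx
  rw [h.sq_iff a1 c1] at e
  obtain ⟨i, hi⟩ := pE_of_sq a (pQ_iff.1 a2) e.1
  obtain ⟨j, hj⟩ := pE_of_sq c (pQ_iff.1 c2) e.2
  exact ⟨i, j, (h.th_sp (cl_E i) (cl_E j) a1 c1).2 ⟨hi, hj⟩⟩

theorem elem_aux {E : Subgroup G} (hE : E ≤ QQ η ⊔ QQ ζ) (hs : ∀ x ∈ E, x * x = 1) :
    ∃ i, ∀ a < 128, ∀ c < 128, η a * ζ c ∈ E → pE i a = true := by
  by_cases c0 : ∀ a < 128, ∀ c < 128, η a * ζ c ∈ E → pE false a = true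
  · exact ⟨false, c0⟩
  push Not at c0
  obtain ⟨a0, a1, c0, c1, m0, n0⟩ := c0
  have key : ∀ a < 128, ∀ c < 128, η a * ζ c ∈ E → pE false a = true ∨ pE true a = true := by
    intro a ha c hc m
    obtain ⟨i, hi⟩ := pE_of_sq a (pQ_iff.1 ((h.th_sp cl_Q cl_Q ha hc).1 (hE m)).1)
      ((h.sq_iff ha hc).1 (hs _ m)).1
    cases i
    exacts [Or.inl hi, Or.inr hi]
  refine ⟨true, fun a ha c hc m => (key a ha c hc m).elim (fun p => ?_) id⟩
  rcases pE_comm false a ha a0 a1 p ((key a0 a1 c0 c1 m0).resolve_left n0)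
    ((h.comm_iff ha hc a1 c1).1 (comm_of_sq hs m m0)).1 with q | q
  · exact pE_true.2 (by omega)
  · exact (n0 (pE_false.2 (by omega))).elim

/-- an elementary abelian subgroup of `Q₁ × Q₂` lies in one of the four subgroups -/
theorem elem_Q {E : Subgroup G} (hE : E ≤ QQ η ⊔ QQ ζ) (hs : ∀ x ∈ E, x * x = 1) :
    ∃ i j, E ≤ sp η (pE i) ⊔ sp ζ (pE j) := by
  obtain ⟨i, hi⟩ := h.elem_aux hE hs
  obtain ⟨j, hj⟩ := h.symm.elem_aux (sup_comm (QQ η) _ ▸ hE) hs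
  refine ⟨i, j, fun x hx => ?_⟩
  obtain ⟨a, a1, c, c1, -, -, rfl⟩ := (h.mem_sp cl_Q cl_Q).1 (hE hx)
  exact (h.th_sp (cl_E i) (cl_E j) a1 c1).2 ⟨hi a a1 c c1 hx, hj c c1 a a1 (h.comm a a1 c c1 ▸ hx)⟩

theorem act_l {a c : ℕ} (ha : a < 128) (hc : c < 128) : Act η (η a * ζ c) (am a) :=
  h.l.bV.act_mul_right (mem_C.2 fun _ hv => h.comm' (VV_le_T0 η hv) (th_T0 ζ hc)) (h.l.act ha)

theorem act_r {a c : ℕ} (ha : a < 128) (hc : c < 128) : Act ζ (η a * ζ c) (am c) := by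
  rw [h.comm a ha c hc]; exact h.symm.act_l hc ha

theorem T_le_N {A B : Subgroup G} (hA : A ≤ T0 η) (hB : B ≤ T0 ζ) (nA : T0 η ≤ N[A])
    (nB : T0 ζ ≤ N[B]) : T0 η ⊔ T0 ζ ≤ N[(A ⊔ B : Subgroup G)] := by
  refine sup_le (fun x hx => mem_N_iff.2 ?_) fun x hx => mem_N_iff.2 ?_
  · rw [smul_sup, mem_N_iff.1 (nA hx),
      mem_N_iff.1 (C_le_N (mem_C.2 fun y hy => (h.comm' hx (hB hy)).symm))]
  · rw [smul_sup, mem_N_iff.1 (nB hx), mem_N_iff.1 (C_le_N (mem_C.2 fun y hy => h.comm' (hA hy) hx))]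

end TP

theorem TM.T0_le_NE {θ : ℕ → G} (h : TM θ) (j : Bool) : T0 θ ≤ N[sp θ (pE j)] := by
  cases j; exacts [h.T0_le_NV, h.T0_le_NU]

section tp
variable {t : G} {η : ℕ → G} (h : TP η (cj t η))
include h

theorem ty_S {s : G} (hs : s ∈ SS t η) : Ty t η s false false false := fun j => by
  simp only [Bool.xor_false, Bool.not_false, XX_false, XX_true]
  exact ⟨mem_N_iff.1 (h.T_le_N (sp_mono _ fun _ _ _ => rfl) (ZZ_le_T0 _) (h.l.T0_le_NE j)
      h.r.T0_le_NZ hs), mem_N_iff.1 (h.T_le_N (ZZ_le_T0 _) (sp_mono _ fun _ _ _ => rfl)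
      h.l.T0_le_NZ (h.r.T0_le_NE j) hs)⟩

theorem XX_inj {i j i' j' : Bool} (e : XX t η i j = XX t η i' j') : i = i' ∧ j = j' := by
  have k : ∀ a < 128, ∀ c < 128, ∀ i j, η a * cj t η c ∈ XX t η i j ↔
      (bif i then pZ a && pE j c else pE j a && pZ c) = true := fun a ha c hc i j => by
    cases i
    · rw [XX_false, h.th_sp (cl_E j) cl_Z ha hc]; simp
    · rw [XX_true, h.th_sp cl_Z (cl_E j) ha hc]; simp
  have k1 := k 4 (by norm_num) 0 (by norm_num)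
  have k2 := k 16 (by norm_num) 0 (by norm_num)
  have k3 := k 0 (by norm_num) 4 (by norm_num)
  have a1 := (k1 i j).symm.trans (e ▸ k1 i' j')
  have a2 := (k2 i j).symm.trans (e ▸ k2 i' j')
  have a3 := (k3 i j).symm.trans (e ▸ k3 i' j')
  revert a1 a2 a3
  cases i <;> cases j <;> cases i' <;> cases j' <;> decide

theorem ty_unique {g : G} {e a b e' a' b' : Bool} (k : Ty t η g e a b) (l : Ty t η g e' a' b') :
    e = e' ∧ a = a' ∧ b = b' := by
  have h1 := XX_inj h ((k false).1.symm.trans (l false).1)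
  have h2 := XX_inj h ((k false).2.symm.trans (l false).2)
  simp only [Bool.false_xor] at h1 h2
  exact ⟨h1.1, h1.2, h2.2⟩

theorem t_conj (tt : t * t = 1) {a c : ℕ} (ha : a < 128) (hc : c < 128) :
    t * (η a * cj t η c) * t⁻¹ = η c * cj t η a := by
  have := congrFun (cj_cj tt η) c
  rw [h.comm c hc a ha, ← this]
  simp only [cj]; group

theorem t_nm (tt : t * t = 1) : t ∉ SS t η := fun c => by
  simpa using (ty_unique h (ty_t tt η) (ty_S h c)).1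

omit h in
theorem t_NS (tt : t * t = 1) : t ∈ N[SS t η] := by
  rw [mem_N_iff, SS, smul_sup, ← T0_cj, ← T0_cj, cj_cj tt, sup_comm]

end tp

namespace Wr
variable {t : G} {F : Subgroup G} {θ η : ℕ → G} (w : Wr t F θ η)
include w

theorem tp : TP η (cj t η) := ⟨w.tm, w.tm.cj t, w.comm, w.disj⟩

theorem real2 (tt : t * t = 1) {A : ℕ} (hA : tb m7 A = true) :
    ∃ y ∈ C[T0 η], Act (cj t η) y A := by
  obtain ⟨y, a, b⟩ := w.real A hA
  refine ⟨t * y * t⁻¹, ?_, (act_cj t).2 b⟩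
  rw [← cj_cj tt η, T0_cj, centralizer_conj_smul]
  exact conj_mem_conj.2 a

theorem T0_le : T0 θ ≤ SS t η := sp_le fun n hn _ =>
  w.diag n hn ▸ mul_mem (mem_sup_left (th_T0 η hn)) (mem_sup_right (th_T0 _ hn))

theorem SS_le [F.Normal] : SS t η ≤ F :=
  sup_le (sp_le fun n hn _ => w.memF n hn)
    (sp_le fun n hn _ => Normal.conj_mem inferInstance _ (w.memF n hn) t)

/-- the centraliser of `W = V₁ × V₂` is `W` times its set of elements of odd order -/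
theorem exists_O [Finite G] : ∃ O1 : Subgroup G, Odd (Nat.card O1) ∧
    (∀ x, x ∈ O1 ↔ x ∈ C[(VV η ⊔ VV (cj t η) : Subgroup G)] ∧ Odd (orderOf x)) ∧
    ∀ c ∈ C[(VV η ⊔ VV (cj t η) : Subgroup G)], ∃ v ∈ VV η ⊔ VV (cj t η), ∃ o ∈ O1,
      c = v * o ∧ v ∈ zpowers c ∧ o ∈ zpowers c := by
  obtain ⟨O1, h1, h2, -, h4⟩ := w.cen
  have key : ∀ c ∈ C[(VV η ⊔ VV (cj t η) : Subgroup G)], ∃ v ∈ VV η ⊔ VV (cj t η), ∃ o ∈ O1,
      c = v * o ∧ v ∈ zpowers c ∧ o ∈ zpowers c := fun c hc => by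
    obtain ⟨v, hv, e⟩ := h4 c hc
    have vv : v * v = 1 := w.tp.sq_W (i := false) (j := false) hv
    have e1 : c = v * (v * c) := by rw [← mul_assoc, vv, one_mul]
    obtain ⟨m, hm⟩ := odd_of_mem h1 e
    have e2 : c ^ orderOf (v * c) = v := by
      have := (show Commute v (v * c) from mem_C.1 (h2 e) v hv).mul_pow (orderOf (v * c))
      rw [← e1, pow_orderOf_eq_one, mul_one] at this
      rw [this, hm, pow_succ, pow_mul, pow_two, vv, one_pow, one_mul]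
    have e3 : v ∈ zpowers c := e2 ▸ pow_mem (mem_zpowers c) _
    exact ⟨v, hv, v * c, e, e1, e3, mul_mem e3 (mem_zpowers c)⟩
  refine ⟨O1, h1, fun x => ⟨fun hx => ⟨h2 hx, odd_of_mem h1 hx⟩, fun hx => ?_⟩, key⟩
  obtain ⟨v, hv, o, ho, e, a, -⟩ := key x hx.1
  have : v = 1 := eq_one_of_odd_two (hx.2.of_dvd_nat (orderOf_dvd_of_mem_zpowers a)) (n := 1)
    (by rw [pow_one, pow_two]; exact w.tp.sq_W (i := false) (j := false) hv)
  rwa [e, this, one_mul]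

end Wr

theorem eqns_MWKit3 : True := by
  have := @pV.eq_1
  have := @pU.eq_1
  have := @pZ.eq_1
  have := @pQ.eq_1
  have := @pE.eq_1
  trivial

end Cfsg.Agent.H19.MW
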