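import Cfsg.Agent.H19.MWRc

/-! # MW project: NRS -/

set_option autoImplicit false
set_option maxRecDepth 100000
set_option synthInstance.maxSize 2048
open scoped Pointwise commutatorElement
open Subgroup

namespace Cfsg.Agent.H19.MW
open Cfsg.Agent.H24.MH Cfsg.Agent.H23.D2 Cfsg.Agent.H8
open Cfsg.Agent.H42 (tb cnt cnt_eq_card)

local notation "C[" A "]" => Subgroup.centralizer (SetLike.coe A)
local notation "N[" A "]" => Subgroup.normalizer (SetLike.coe A)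

universe u v
variable {G : Type*} [Group G]

theorem EC.conj_t [Finite G] {t : G} {J O F P : Subgroup G} {θ η : ℕ → G} (c : EC t J O F P θ η)
    (k : SK t P θ η) {a : G} (ha : a ∈ P) (aa : a * a = 1) (d : Ty t η a true false false) :
    IsConj t a := by
  have h := c.ctx
  have e : t * (t * a) = a := by rw [← mul_assoc, h.tt, one_mul]
  obtain ⟨s, -, e2⟩ := k.cls _ (k.ker _ (mul_mem c.tP ha) ((ty_t h.tt η).mul d).cast) (by rwa [e])
  exact isConj_iff.2 ⟨s, e2.trans e⟩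

namespace SK
variable [Finite G] {t : G} {P : Subgroup G} {θ η : ℕ → G} (k : SK t P θ η)
include k

theorem le_two {X : Subgroup G} (hX : X ≤ P) (h : ∀ x ∈ X, ∃ a, Ty t η x false a a) :
    Nat.card X ≤ 2 * Nat.card (X ⊓ SS t η : Subgroup G) := by
  have h1 := ty_two (t := t) (η := η) (p := fun e a b => !e && a == b)
    (q := fun e a b => !e && !a && !b) (by decide) (by decide) (X := X) fun x hx => by
      obtain ⟨a, d⟩ := h x hx
      exact ⟨_, _, _, by simp, d⟩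
  have h2 := card_le_of_le (k.inf_le hX (hq := by decide))
  omega

theorem le_four {X : Subgroup G} (hX : X ≤ P) (h : ∀ x ∈ X, ∃ a b, Ty t η x false a b) :
    Nat.card X ≤ 4 * Nat.card (X ⊓ SS t η : Subgroup G) := by
  have h1 := ty_two (t := t) (η := η) (p := fun e _ _ => !e) (q := fun e a b => !e && a == b)
    (by decide) (by decide) (X := X) fun x hx => by
      obtain ⟨a, b, d⟩ := h x hx
      exact ⟨_, _, _, by simp, d⟩
  have h2 := k.le_two (X := X ⊓ tyS t η (fun e a b => !e && a == b) (by decide))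
    (inf_le_left.trans hX) fun x hx => by
      obtain ⟨_, e, a, b, c, d⟩ := hx
      exact ⟨a, d.cast (by clear d; revert e a b; decide)⟩
  have h3 := card_le_of_le (inf_le_inf_right (SS t η)
    (inf_le_left : X ⊓ tyS t η (fun e a b => !e && a == b) (by decide) ≤ X))
  omega

end SK

section tp
variable {t : G} {η : ℕ → G} (h : TP η (cj t η))
include h

theorem S_le_NW (i j : Bool) : SS t η ≤ N[(sp η (pE i) ⊔ sp (cj t η) (pE j) : Subgroup G)] :=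
  h.T_le_N (sp_mono _ fun _ _ _ => rfl) (sp_mono _ fun _ _ _ => rfl) (h.l.T0_le_NE i) (h.r.T0_le_NE j)

omit h in
theorem W_le_Q (i j : Bool) : sp η (pE i) ⊔ sp (cj t η) (pE j) ≤ QQ η ⊔ QQ (cj t η) :=
  sup_le_sup (sp_mono _ (by cases i <;> decide +kernel)) (sp_mono _ (by cases j <;> decide +kernel))

theorem fixQh {x q : G} (k : Ty t η x false true true) (xx : x * x = 1)
    (xZ : ∀ z ∈ ZH t η, z * x = x * z) (hq : q ∈ QQ η ⊔ QQ (cj t η)) (e : q * x = x * q) :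
    q ∈ ZH t η := by
  rw [← h.l.V_sup_U, ← h.r.V_sup_U, sup_sup_sup_comm] at hq
  obtain ⟨v, hv, u, hu, rfl⟩ := (mem_sup_N ((h.W_le false false).trans (S_le_NW h true true))).1 hq
  have hu' : x * v * x⁻¹ ∈ sp η (pE true) ⊔ sp (cj t η) (pE true) :=
    (k.W h false false).le (conj_mem_conj.2 hv)
  have b := conj_back xx (rfl : x * v * x⁻¹ = _)
  have m := mul_mem (inv_mem hu') hu
  have e1 : x * ((x * v * x⁻¹)⁻¹ * u) * x⁻¹ * ((x * v * x⁻¹)⁻¹ * u)⁻¹ =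
      v⁻¹ * ((x * v * x⁻¹)⁻¹ * v * (x * v * x⁻¹)) := by
    have e2 : x * u * x⁻¹ = (x * v * x⁻¹)⁻¹ * (v * u) := by
      rw [eq_inv_mul_iff_mul_eq, ← mul_inv_eq_iff_eq_mul.2 e.symm]; group
    calc _ = (x * (x * v * x⁻¹) * x⁻¹)⁻¹ * (x * u * x⁻¹) * ((x * v * x⁻¹)⁻¹ * u)⁻¹ := by
          simp only [mul_assoc, mul_inv_rev, inv_inv, inv_mul_cancel_left]
      _ = _ := by rw [b, e2]; group
  generalize x * v * x⁻¹ = u' at hu' b m e1
  have z1 := opp_Z h k (W_le_Q _ _ m) (h.sq_W m) (by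
    rw [e1]
    refine h.opp (i := false) (j := false) (mul_mem (inv_mem hv)
      (norm_conj' (S_le_NW h _ _ (h.W_le _ _ hu')) hv)) ?_
    rw [← mul_assoc, ← mul_assoc]
    exact mul_mem (norm_conj' (S_le_NW h _ _ (h.W_le _ _ hv)) (inv_mem hu')) hu')
  rw [← xZ _ z1, mul_inv_cancel_right, mul_inv_cancel, eq_comm, inv_mul_eq_one, mul_assoc,
    eq_inv_mul_iff_mul_eq] at e1
  have z2 := opp_Z h k (mul_mem (W_le_Q _ _ hv) (W_le_Q _ _ hu')) (by
    rw [mul_assoc, ← mul_assoc u', e1, mul_assoc, h.sq_W hu', mul_one, h.sq_W hv]) (by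
    rw [show x * (v * u') * x⁻¹ = x * v * x⁻¹ * (x * u' * x⁻¹) by group, conj_back xx b, b, e1,
      mul_inv_cancel]
    exact one_mem _)
  simpa [mul_assoc] using mul_mem z2 z1

end tp

theorem TP.nrs_aux {η ζ : ℕ → G} (h : TP η ζ) {y d d' : G} (hy : y ∈ T0 η ⊔ T0 ζ)
    (ny : y ∉ QQ η ⊔ T0 ζ) (yy : y * y = 1) (hd : d ∈ QQ η ⊔ QQ ζ) (hd' : d' ∈ QQ η ⊔ QQ ζ)
    (c : y * d = d * y) (c' : y * d' = d' * y) (e : d' * d' = d * d)
    (e' : d * d' * (d * d') = d * d) : d * d ∈ T0 ζ := by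
  obtain ⟨a, a1, b, b1, rfl⟩ := h.mem_T.1 hy
  obtain ⟨n, n1, m, m1, n2, m2, rfl⟩ := (h.mem_sp cl_Q cl_Q).1 hd
  obtain ⟨n', n1', m', m1', n2', m2', rfl⟩ := (h.mem_sp cl_Q cl_Q).1 hd'
  have a2 : ¬ a < 64 := fun z => ny ((h.th_sp cl_Q cl_T a1 b1).2 ⟨pQ_iff.2 z, rfl⟩)
  have t1 := tm_lt n n1
  have t2 := tm_lt m m1
  rw [h.mul n1' m1' n1' m1', h.mul n1 m1 n1 m1] at e
  rw [h.mul n1 m1 n1' m1', h.mul n1 m1 n1 m1, h.mul (t1 _ n1') (t2 _ m1') (t1 _ n1') (t2 _ m1')] at e'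
  have e1 := (h.uniq (tm_lt _ n1' _ n1') (tm_lt _ m1' _ m1') (t1 _ n1) (t2 _ m1) e).1
  have e2 := (h.uniq (tm_lt _ (t1 _ n1') _ (t1 _ n1')) (tm_lt _ (t2 _ m1') _ (t2 _ m1'))
    (t1 _ n1) (t2 _ m1) e').1
  have := (by decide +kernel : ∀ a < 128, ¬ a < 64 → tm a a = 0 → ∀ n < 64, tm a n = tm n a →
    ∀ n' < 64, tm a n' = tm n' a → tm n' n' = tm n n → tm (tm n n') (tm n n') = tm n n →
    tm n n = 0) a a1 a2 ((h.sq_iff a1 b1).1 yy).1 n (pQ_iff.1 n2) ((h.comm_iff a1 b1 n1 m1).1 c).1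
    n' (pQ_iff.1 n2') ((h.comm_iff a1 b1 n1' m1').1 c').1 e1 e2
  rw [h.mul n1 m1 n1 m1, this, h.l.zero, one_mul]
  exact th_T0 ζ (t2 _ m1)

theorem TM.fix23 {θ : ℕ → G} (h : TM θ) {x : G} (xx : x * x = 1) (f : x * θ 1 * x⁻¹ = θ 1)
    (a : x * θ 2 * x⁻¹ = θ 3) {z : ℕ} (hz : z < 4) :
    ∃ z' < 4, x * θ z * x⁻¹ = θ z' ∧ (z' = z → z < 2) := by
  interval_cases z
  · exact ⟨0, by norm_num, by rw [h.zero]; group, fun _ => by norm_num⟩
  · exact ⟨1, by norm_num, f, fun _ => by norm_num⟩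
  · exact ⟨3, by norm_num, a, fun e => by norm_num at e⟩
  · exact ⟨2, by norm_num, conj_back xx a, fun e => by norm_num at e⟩

theorem nrs : NrsStmt.{u} := by
  intro G _ _ t J O F P θ η c k hN r hr dr x hx d s hs a b ds sx A D DP rd
  have h := c.ctx
  have tp := c.wr.tp
  have AP := rd.le.trans DP
  have xx := rd.sq x rd.mem
  have tA : ∀ y ∈ A, ∃ a b, Ty t η y false a b := fun y hy => by
    obtain ⟨e, a, b, dy⟩ := k.ty y (hN (AP hy))
    cases e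
    · exact ⟨a, b, dy⟩
    obtain rfl := ty_sq tp dy (rd.sq y hy) rfl
    refine absurd (h.rank (x := y) ?_ hy rd.sq) (by have := rd.card; omega)
    cases a
    · exact c.conj_t k (AP hy) (rd.sq y hy) dy
    · exact (c.conj_t k (mul_mem (mul_mem hr (AP hy)) (inv_mem hr))
        (by rw [show r * y * r⁻¹ * (r * y * r⁻¹) = r * (y * y) * r⁻¹ by group, rd.sq y hy]; group)
        ((dr.mul dy).mul dr.inv).cast).trans (isConj_iff.2 ⟨r⁻¹, by group⟩)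
  have c1 := k.le_four AP tA
  have c2 := k.rk4 x (hN hx) d (A ⊓ SS t η) inf_le_right (fun y hy => rd.sq y hy.1)
    fun y hy => rd.cen y hy.1 x (rd.le rd.mem)
  have c3 := rd.card
  obtain ⟨c4, iD, z, sD⟩ := rd.big.resolve_left (by omega)
  obtain ⟨y0, hy0, e0, d0⟩ : ∃ y ∈ A, ∃ e, Ty t η y false e (!e) := by
    by_contra n
    push Not at n
    have := k.le_two AP fun y hy => by
      obtain ⟨a, b, dy⟩ := tA y hy
      refine ⟨a, dy.cast ?_⟩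
      have := fun e => n y hy a (dy.cast e)
      revert this
      cases a <;> cases b <;> decide
    omega
  have c5 := k.le_four DP fun y hy => by
    obtain ⟨e, a, b, dy⟩ := k.ty y (hN (DP hy))
    cases e
    · exact ⟨a, b, dy⟩
    have := ty_unique tp (d0.mul dy) (rd.cen y0 hy0 y hy ▸ dy.mul d0)
    exfalso
    revert this
    cases e0 <;> cases a <;> cases b <;> decide
  have c6 := tp.le_four (inf_le_right : D ⊓ SS t η ≤ _)
  have cx : ∀ y ∈ D, y * x = x * y := fun y hy => (rd.cen x rd.mem y hy).symm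
  have m1 := d.mv_l tp
  have f1 := tp.one_fix (hN hx) m1.nl
  have f2 := tp.symm.one_fix (by rw [sup_comm]; exact hN hx) m1.nr
  have sZ : ∀ z ∈ ZH t η, z * z = 1 := fun z hz => tp.sq_W (i := false) (j := false)
    (sup_le_sup (ZZ_le_VV _) (ZZ_le_VV _) hz)
  have cZ : Nat.card (ZH t η) = 16 := (tp.card_sp cl_Z cl_Z).trans (by decide +kernel)
  have sx' : s * x * s⁻¹ = x := by rw [sx, mul_inv_cancel_right]
  have iff : x ∈ C[ZZ η] ↔ x ∈ C[ZZ (cj t η)] := by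
    have e1 : MulAut.conj s • ZZ η = ZZ (cj t η) := (ty_Z tp ds).1
    rw [← e1, centralizer_conj_smul]
    nth_rw 2 [← sx']
    exact conj_mem_conj.symm
  by_cases q : x ∈ C[ZZ η]
  · have xZ : ∀ z ∈ ZH t η, z * x = x * z := fun z hz => by
      obtain ⟨u, hu, v, hv, rfl⟩ := (tp.mem_sup (ZZ_le_T0 _) (ZZ_le_T0 _)).1 hz
      exact (show Commute u x from mem_C.1 q u hu).mul_left (mem_C.1 (iff.1 q) v hv)
    have l : D ⊓ SS t η ⊓ (QQ η ⊔ QQ (cj t η)) ≤ ZH t η := fun y hy =>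
      fixQh tp d xx xZ hy.2 (cx y hy.1.1)
    have e := eq_of_le_of_card_ge l (by omega)
    have ZA : ZH t η ≤ A := fun y hy => iD y (e.ge hy).1.1 (sZ y hy)
    have l2 : D ⊓ SS t η ≤ ZH t η := fun y hy => l ⟨hy, by
      obtain ⟨u, u1, v, v1, rfl⟩ := tp.mem_T.1 hy.2
      have := (tp.comm_iff (a := 2) (c := 2) (by norm_num) (by norm_num) u1 v1).1 (rd.cen _ (ZA
        ((tp.th_sp cl_Z cl_Z (by norm_num) (by norm_num)).2 ⟨rfl, rfl⟩)) _ hy.1)
      exact (tp.th_sp cl_Q cl_Q u1 v1).2 ⟨pQ_iff.2 (comm_two u u1 this.1.symm),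
        pQ_iff.2 (comm_two v v1 this.2.symm)⟩⟩
    have := card_le_of_le l2
    omega
  have a1 := (tp.two_or m1.nl f1).resolve_left q
  have a2 := (tp.symm.two_or m1.nr f2).resolve_left fun z => q (iff.2 z)
  have i2 : ∀ y ∈ D, y ∈ QQ η ⊔ QQ (cj t η) → y * y = 1 → y ∈ sp η p2 ⊔ sp (cj t η) p2 :=
    fun y hy yQ yy => by
      have e : x * y * x⁻¹ = y := by rw [← cx y hy, mul_inv_cancel_right]
      obtain ⟨u, u1, v, v1, u2, v2, rfl⟩ := (tp.mem_sp cl_Z cl_Z).1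
        (opp_Z tp d yQ yy (by rw [e, mul_inv_cancel]; exact one_mem _))
      obtain ⟨u', u3, u4, u5⟩ := tp.l.fix23 xx f1 a1 (pZ_iff.1 u2)
      obtain ⟨v', v3, v4, v5⟩ := tp.r.fix23 xx f2 a2 (pZ_iff.1 v2)
      rw [show x * (η u * cj t η v) * x⁻¹ = x * η u * x⁻¹ * (x * cj t η v * x⁻¹) by group, u4,
        v4] at e
      have := tp.uniq (by omega) (by omega) u1 v1 e
      exact (tp.th_sp cl_2 cl_2 u1 v1).2 ⟨p2_iff.2 (u5 this.1), p2_iff.2 (v5 this.2)⟩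
  have c7 : Nat.card (sp η p2 ⊔ sp (cj t η) p2 : Subgroup G) = 4 :=
    (tp.card_sp cl_2 cl_2).trans (by decide +kernel)
  have c8 := card_le_of_le (show A ⊓ SS t η ⊓ (QQ η ⊔ QQ (cj t η)) ≤ _ from
    fun y hy => i2 y (rd.le hy.1.1) hy.2 (rd.sq y hy.1.1))
  obtain ⟨y1, m2, n1⟩ : ∃ y ∈ A ⊓ SS t η, y ∉ QQ η ⊔ T0 (cj t η) := by
    by_contra n
    push Not at n
    have : Nat.card (A ⊓ SS t η : Subgroup G) ≤
      2 * Nat.card (A ⊓ SS t η ⊓ (QQ η ⊔ QQ (cj t η)) : Subgroup G) := tp.le_two' cl_Q n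
    omega
  obtain ⟨y2, m3, n2⟩ : ∃ y ∈ A ⊓ SS t η, y ∉ T0 η ⊔ QQ (cj t η) := by
    by_contra n
    push Not at n
    have : Nat.card (A ⊓ SS t η : Subgroup G) ≤
      2 * Nat.card (A ⊓ SS t η ⊓ (QQ η ⊔ QQ (cj t η)) : Subgroup G) := tp.le_two cl_Q n
    omega
  obtain ⟨u, hu, v, hv, nu, nv, nuv⟩ : ∃ u ∈ D ⊓ SS t η ⊓ (QQ η ⊔ QQ (cj t η)),
      ∃ v ∈ D ⊓ SS t η ⊓ (QQ η ⊔ QQ (cj t η)), u ∉ sp η p2 ⊔ sp (cj t η) p2 ∧
        v ∉ sp η p2 ⊔ sp (cj t η) p2 ∧ u * v ∉ sp η p2 ⊔ sp (cj t η) p2 := by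
    by_contra n
    push Not at n
    have := card_le_two n
    have := card_le_of_le (inf_le_right : D ⊓ SS t η ⊓ (QQ η ⊔ QQ (cj t η)) ⊓
      (sp η p2 ⊔ sp (cj t η) p2) ≤ _)
    omega
  have sq : ∀ y ∈ D ⊓ SS t η ⊓ (QQ η ⊔ QQ (cj t η)), y ∉ sp η p2 ⊔ sp (cj t η) p2 → y * y = z :=
    fun y hy ny => (sD y hy.1.1).resolve_left fun e => ny (i2 y hy.1.1 hy.2 e)
  have e1 := (sq v hv nv).trans (sq u hu nu).symm
  have e2 := (sq _ (mul_mem hu hv) nuv).trans (sq u hu nu).symm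
  refine nu (i2 u hu.1.1 hu.2 (tp.disj' ?_ (tp.nrs_aux m2.2 n1 (rd.sq _ m2.1) hu.2 hv.2
    (rd.cen _ m2.1 _ hu.1.1) (rd.cen _ m2.1 _ hv.1.1) e1 e2)))
  exact tp.symm.nrs_aux (by rw [sup_comm]; exact m3.2) (by rwa [sup_comm]) (rd.sq _ m3.1)
    (by rw [sup_comm]; exact hu.2) (by rw [sup_comm]; exact hv.2)
    (rd.cen _ m3.1 _ hu.1.1) (rd.cen _ m3.1 _ hv.1.1) e1 e2

end Cfsg.Agent.H19.MW
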