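import Cfsg.Agent.H19.MWType

/-! # MW project: NT2 -/

set_option autoImplicit false
set_option maxRecDepth 100000
set_option synthInstance.maxSize 2048
open scoped Pointwise commutatorElement
open Subgroup

namespace Cfsg.Agent.H19.MW
open Cfsg.Agent.H24.MH Cfsg.Agent.H23.D2 Cfsg.Agent.H8
open Cfsg.Agent.H42 (tb cnt cnt_eq_card)

local notation "C[" A "]" => Subgroup.centralizer (SetLike.coe A)
local notation "N[" A "]" => Subgroup.normalizer (SetLike.coe A)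

universe u v
variable {G : Type*} [Group G]

theorem card_le_mul [Finite G] {E V Q : Subgroup G} (hE : E ≤ Q) (hV : V ≤ Q) {k : ℕ}
    (hk : Nat.card Q = Nat.card V * k) : Nat.card E ≤ k * Nat.card (E ⊓ V : Subgroup G) := by
  have h1 := card_eq_card_mul_relIndex hV
  have h2 : V.relIndex Q = k := Nat.eq_of_mul_eq_mul_left Nat.card_pos (h1.symm.trans hk)
  rw [card_eq_card_mul_relIndex (inf_le_left : E ⊓ V ≤ E), inf_relIndex_left, mul_comm, ← h2]
  exact Nat.mul_le_mul_right _ (relIndex_le_of_le_right hE FiniteIndex.index_ne_zero)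

namespace TM
variable {θ : ℕ → G} (h : TM θ)
include h

theorem le_Q [Finite G] {E : Subgroup G} (hE : E ≤ T0 θ) :
    Nat.card E ≤ 2 * Nat.card (E ⊓ QQ θ : Subgroup G) :=
  card_le_mul hE (QQ_le_T0 θ) (by rw [h.card_T0, h.card_QQ])

theorem fix_swap {y x : G} (hy : y ∈ N[T0 θ]) (hn : y ∉ N[VV θ]) (hx : x ∈ QQ θ) (e : x * x = 1)
    (c : y * x = x * y) : x ∈ ZZ θ := by
  have e1 : y * x * y⁻¹ = x := by rw [c, mul_inv_cancel_right]
  rw [← h.V_inf_U]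
  rcases h.invol_Q hx e with a | a
  · exact ⟨a, by rw [← (h.swap hy hn).1, ← e1]; exact conj_mem_conj.2 a⟩
  · exact ⟨by rw [← (h.swap hy hn).2, ← e1]; exact conj_mem_conj.2 a, a⟩

theorem fixQ {y x : G} (hy : y ∈ N[T0 θ]) (hn : y ∉ N[VV θ]) (yy : y * y = 1)
    (hZ : y ∈ C[ZZ θ]) (hx : x ∈ QQ θ) (c : y * x = x * y) : x ∈ ZZ θ := by
  obtain ⟨n, a, rfl⟩ := h.mem_QQ.1 hx
  have b : n / 16 * 4 < 16 := by omega
  have a' : n % 16 < 16 := by omega
  have e : θ n = θ (n % 16) * θ (up (n / 16 * 4)) := by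
    rw [h.mul _ (by omega) _ (up_lt' b), split_Q n a]
  rw [e] at c ⊢
  generalize n % 16 = v at a' c
  generalize n / 16 * 4 = u at b c
  obtain ⟨p, hp, ep⟩ := h.mem_UU.1 ((h.swap hy hn).1 ▸ conj_mem_conj.2 (h.bV.mem v a'))
  obtain ⟨d, hd, ed⟩ := h.mem_VV.1 ((h.swap hy hn).2 ▸ conj_mem_conj.2 (h.bU.mem u b))
  have e1 : θ (up p) * θ d = θ v * θ (up u) := by
    rw [ep, ed, ← mul_inv_eq_iff_eq_mul.2 c]; group
  have z := (by decide +kernel : ∀ p < 16, ∀ d < 16, ∀ v < 16, ∀ u < 16,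
    tm (up p) d = tm v (up u) → v ^^^ d < 4) p hp d hd v a' u b
    ((h.mul_eq (up_lt' hp) (by omega) (by omega) (up_lt' b)).1 e1)
  have e2 : θ d = θ v * θ (v ^^^ d) := by
    rw [h.pre v a' d hd, ← mul_assoc, h.pre.sq a', one_mul]
  have mz := (h.th_ZZ (by omega)).2 z
  have e3 : θ (up u) = θ (up p) * θ (v ^^^ d) := by
    rw [ep, ← cj_of_C hZ mz]
    calc θ (up u) = (y * y) * θ (up u) * (y * y)⁻¹ := by rw [yy]; group
      _ = y * θ d * y⁻¹ := by rw [ed]; group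
      _ = _ := by rw [e2]; group
  rw [e2, e3, ← mul_assoc, ← mul_assoc, mul_left_inj] at e1
  have k : θ v ∈ ZZ θ ↔ θ (up p) ∈ ZZ θ := by
    rw [ep]; exact mem_normalizer_iff.1 (h.NZ_of hy) _
  have m : θ v ∈ ZZ θ := (h.vu (h.bV.mem v a') (h.bU.mem p hp) e1.symm).elim id k.2
  rw [e3]
  exact mul_mem m (mul_mem (k.1 m) mz)

/-- a subgroup whose involutions are central has order at most 16 -/
theorem cent_inv [Finite G] {X : Subgroup G} (hX : X ≤ T0 θ)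
    (hc : ∀ a ∈ X, a * a = 1 → ∀ x ∈ X, a * x = x * a) : Nat.card X < 32 := by
  by_contra c
  have c1 := h.le_Q hX
  have key : ∀ A ≤ QQ θ, Nat.card A = 16 → ¬ X ⊓ A ≤ ZZ θ := fun A a1 a2 a3 => by
    have c2 := card_le_mul (inf_le_right : X ⊓ QQ θ ≤ _) a1 (k := 4) (by rw [h.card_QQ, a2])
    rw [inf_assoc, inf_of_le_right a1] at c2
    have e := eq_of_le_of_card_ge a3 (by rw [h.card_ZZ]; omega)
    have m := (e.ge ((h.th_ZZ (n := 2) (by norm_num)).2 (by norm_num))).1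
    have : X ≤ QQ θ := fun x hx => h.cent_Z (hX hx) (hc _ m (h.pre.sq (by norm_num)) x hx).symm
    rw [inf_of_le_left this, e, h.card_ZZ] at c2
    omega
  obtain ⟨v, v1, v2⟩ := SetLike.not_le_iff_exists.1 (key _ (VV_le_QQ θ) h.card_VV)
  obtain ⟨u, u1, u2⟩ := SetLike.not_le_iff_exists.1 (key _ (UU_le_QQ θ) h.card_UU)
  exact (h.vu v1.2 u1.2 (hc v v1.1 (h.bV.sq v1.2) u u1.1)).elim v2 u2

theorem two_NV [Finite G] {X : Subgroup G} (hn : X ≤ N[T0 θ]) :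
    Nat.card X ≤ 2 * Nat.card (X ⊓ N[VV θ] : Subgroup G) :=
  card_le_two fun x hx z hz nx nz => by
    rw [mem_N_iff, ← conj_smul_conj_smul, (h.swap (hn hz) nz).1, (h.swap (hn hx) nx).2]

end TM

theorem card_proj [Finite G] {t : G} {X T : Subgroup G} (ht : t ∉ X)
    (h : ∀ x ∈ X, x ∈ T ∨ x * t ∈ T) : Nat.card X ≤ Nat.card (T ⊓ (X ⊔ zpowers t) : Subgroup G) := by
  classical
  refine Nat.card_le_card_of_injective (fun x : X => if hx : (x : G) ∈ T then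
    (⟨x, hx, mem_sup_left x.2⟩ : (T ⊓ (X ⊔ zpowers t) : Subgroup G)) else
    ⟨x * t, (h x x.2).resolve_left hx, mul_mem (mem_sup_left x.2) (mem_sup_right (mem_zpowers t))⟩)
    fun a b e => ?_
  by_cases ha : (a : G) ∈ T <;> by_cases hb : (b : G) ∈ T <;>
    simp only [ha, hb, dif_pos, dif_neg, not_false_iff] at e <;>
    replace e := congrArg Subtype.val e <;> dsimp only at e
  · exact Subtype.ext e
  · exact (ht ((mul_mem_cancel_left b.2).1 (e ▸ a.2))).elim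
  · exact (ht ((mul_mem_cancel_left a.2).1 (e ▸ b.2))).elim
  · exact Subtype.ext (mul_right_cancel e)

theorem nt2 : Nt2Stmt.{u} := by
  intro G _ _ t J O θ h X0 p0 t0 c0 i0 k0
  obtain ⟨c, cJ, e⟩ := h.sylT p0 c0
  have ht : t ∉ MulAut.conj c • X0 := fun a => t0 (by
    rwa [mem_conj, mul_assoc, ← h.JC c cJ, inv_mul_cancel_left] at a)
  have hi : ∀ a ∈ MulAut.conj c • X0, a * a = 1 → ∀ x ∈ MulAut.conj c • X0, a * x = x * a :=
    fun a ha aa x hx => by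
      have := comm_conj_iff (g := c).2 (i0 _ (mem_conj.1 ha) (by
        calc _ = c⁻¹ * (a * a) * c := by group
          _ = 1 := by rw [aa]; group) _ (mem_conj.1 hx))
      simpa [mul_assoc] using this
  have hk : 64 ≤ Nat.card (MulAut.conj c • X0 : Subgroup G) ∨
      (32 ≤ Nat.card (MulAut.conj c • X0 : Subgroup G) ∧ ∃ A ≤ MulAut.conj c • X0,
        (∀ a ∈ A, a * a = 1) ∧ 8 ≤ Nat.card A) := by
    rw [card_conj]
    exact k0.imp id fun ⟨a, A, b, d, f⟩ => ⟨a, MulAut.conj c • A,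
      pointwise_smul_le_pointwise_smul_iff.2 b, sq_conj d c, by rwa [card_conj]⟩
  generalize MulAut.conj c • X0 = X at e ht hi hk
  clear c0 i0 k0 t0 p0 cJ c X0
  have T := h.tm
  have pr : ∀ A ≤ X, Nat.card (A ⊓ N[VV θ] : Subgroup G) ≤
      Nat.card (T0 θ ⊓ (A ⊔ zpowers t) : Subgroup G) := fun A hA =>
    (card_proj (X := A ⊓ N[VV θ]) (T := T0 θ) (fun a => ht (hA a.1)) fun x hx =>
      (e x (hA hx.1)).2.2.imp_right fun a => a.resolve_right fun b => b hx.2).trans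
      (card_le_of_le (inf_le_inf_left _ (sup_le_sup_right inf_le_left _)))
  have mem : ∀ A ≤ X, ∀ x ∈ A ⊔ zpowers t, x ∈ A ∨ x * t ∈ A := fun A hA x hx =>
    (mem_sup_t h.tt (C_le_N (mem_C.2 fun y hy => (e y (hA hy)).1))).1 hx
  have cen : ∀ a ∈ T0 θ ⊓ (X ⊔ zpowers t), a * a = 1 → ∀ x ∈ X, a * x = x * a := by
    intro a ha aa x hx
    rcases mem X le_rfl a ha.2 with b | b
    · exact hi a b aa x hx
    · have := hi _ b (by
        rw [mul_assoc, ← mul_assoc t, ← h.JC a (h.T0_le ha.1), mul_assoc, h.tt, mul_one, aa]) x hx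
      rw [mul_assoc, ← (e x hx).1, ← mul_assoc, ← mul_assoc] at this
      exact mul_right_cancel this
  have cen2 : ∀ a : G, a * t = t * a → (∀ x ∈ X, a * x = x * a) →
      ∀ x ∈ T0 θ ⊓ (X ⊔ zpowers t), a * x = x * a := fun a at' ha x hx => by
    rcases mem X le_rfl x hx.2 with b | b
    · exact ha x b
    · have := ha _ b
      rw [mul_assoc, ← at', ← mul_assoc, ← mul_assoc] at this
      exact mul_right_cancel this
  have c1 := T.cent_inv (X := T0 θ ⊓ (X ⊔ zpowers t)) inf_le_left fun a ha aa =>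
    cen2 a (h.JC a (h.T0_le ha.1)) (cen a ha aa)
  have c2 := T.two_NV (X := X) fun x hx => (e x hx).2.1
  have c3 := pr X le_rfl
  rcases hk with k | ⟨k, A, hA, sA, cA⟩
  · omega
  have nX : ¬ X ≤ N[VV θ] := fun a => by rw [inf_of_le_left a] at c3; omega
  obtain ⟨y0, y1, y2⟩ := SetLike.not_le_iff_exists.1 nX
  have hZ : ∀ a ∈ T0 θ ⊓ (X ⊔ zpowers t), a ∈ QQ θ → a * a = 1 → a ∈ ZZ θ := fun a ha q aa =>
    T.fix_swap (e y0 y1).2.1 y2 q aa (cen a ha aa y0 y1).symm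
  have lA : T0 θ ⊓ (A ⊔ zpowers t) ≤ T0 θ ⊓ (X ⊔ zpowers t) :=
    inf_le_inf_left _ (sup_le_sup_right hA _)
  have s0 : ∀ a ∈ T0 θ ⊓ (A ⊔ zpowers t), a * a = 1 := fun a ha => by
    rcases mem A hA a ha.2 with b | b
    · exact sA a b
    · have := sA _ b
      rwa [mul_assoc, ← mul_assoc t, ← h.JC a (h.T0_le ha.1), mul_assoc, h.tt, mul_one] at this
  have c4 := pr A hA
  have c5 := T.le_Q (inf_le_left : T0 θ ⊓ (A ⊔ zpowers t) ≤ _)
  have l1 : T0 θ ⊓ (A ⊔ zpowers t) ⊓ QQ θ ≤ ZZ θ := fun a ha => hZ a (lA ha.1) ha.2 (s0 a ha.1)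
  have k1 : 4 ≤ Nat.card (T0 θ ⊓ (A ⊔ zpowers t) ⊓ QQ θ : Subgroup G) →
      ZZ θ ≤ T0 θ ⊓ (X ⊔ zpowers t) ∧ T0 θ ⊓ (X ⊔ zpowers t) ≤ QQ θ := fun a => by
    have e1 := eq_of_le_of_card_ge l1 (by rwa [T.card_ZZ])
    have m := lA (e1.ge ((T.th_ZZ (n := 2) (by norm_num)).2 (by norm_num))).1
    exact ⟨e1.ge.trans (inf_le_left.trans lA), fun x hx => T.cent_Z hx.1
      (cen2 _ (h.th_t (by norm_num)) (cen _ m (T.pre.sq (by norm_num))) x hx).symm⟩
  have c6 := card_le_of_le l1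
  rw [T.card_ZZ] at c6
  by_cases nA : A ≤ N[VV θ]
  · rw [inf_of_le_left nA] at c4
    rw [inf_of_le_left (lA.trans (k1 (by omega)).2)] at c6
    omega
  obtain ⟨y, z1, z2⟩ := SetLike.not_le_iff_exists.1 nA
  have c7 := T.two_NV (X := A) fun x hx => (e x (hA hx)).2.1
  have cy := cen2 y (e y (hA z1)).1 (hi y (hA z1) (sA y z1))
  by_cases q : T0 θ ⊓ (A ⊔ zpowers t) ≤ QQ θ
  · obtain ⟨a1, a2⟩ := k1 (by rw [inf_of_le_left q]; omega)
    have := card_le_of_le (show T0 θ ⊓ (X ⊔ zpowers t) ≤ ZZ θ from fun x hx =>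
      T.fixQ (e y (hA z1)).2.1 z2 (sA y z1) (mem_C.2 fun z hz => (cy z (a1 hz)).symm) (a2 hx)
        (cy x hx))
    rw [T.card_ZZ] at this
    omega
  obtain ⟨f, f1, f2⟩ := SetLike.not_le_iff_exists.1 q
  obtain ⟨a, ha, rfl⟩ := T.mem_T0.1 f1.1
  have := (T.card_le (inf_le_left : T0 θ ⊓ (X ⊔ zpowers t) ≤ _)
    (p := fun n => Nat.beq (tm a n) (tm n a) && (Nat.ble 16 n || Nat.blt n 4)) fun n hn m => by
      rw [Bool.and_eq_true, Nat.beq_eq, Bool.or_eq_true, Nat.ble_eq, Nat.blt_eq]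
      refine ⟨(T.comm_iff ha hn).1 (cen2 _ (h.th_t ha) (cen _ (lA f1) (s0 _ f1)) _ m), ?_⟩
      by_cases b : n < 16
      · exact Or.inr ((T.th_ZZ hn).1 (hZ _ m ((T.th_QQ hn).2 (by omega)) (T.pre.sq b)))
      · omega).trans ((by decide +kernel : ∀ a < 128, ¬ a < 64 → tm a a = 0 →
      cnt (fun n => Nat.beq (tm a n) (tm n a) && (Nat.ble 16 n || Nat.blt n 4)) 128 ≤ 15) a ha
      (fun b => f2 ((T.th_QQ ha).2 b)) ((T.sq_iff ha).1 (s0 _ f1)))
  omega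

end Cfsg.Agent.H19.MW
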