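import Cfsg.Agent.H19.MWSq

/-! # MW project: NTS -/

set_option autoImplicit false
set_option maxRecDepth 100000
set_option synthInstance.maxSize 2048
open scoped Pointwise commutatorElement
open Subgroup

namespace Cfsg.Agent.H19.MW
open Cfsg.Agent.H24.MH Cfsg.Agent.H23.D2 Cfsg.Agent.H8
open Cfsg.Agent.H42 (tb cnt cnt_eq_card)

local notation "C[" A "]" => Subgroup.centralizer (SetLike.coe A)
local notation "N[" A "]" => Subgroup.normalizer (SetLike.coe A)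

universe u v
variable {G : Type*} [Group G]

theorem two_le_of [Finite G] {X B : Subgroup G} {x : G} (hx : x ∈ X) (n : x ∉ B) :
    2 * Nat.card (X ⊓ B : Subgroup G) ≤ Nat.card X := by
  obtain ⟨k, hk⟩ := card_dvd_of_le (inf_le_left : X ⊓ B ≤ X)
  have h0 : k ≠ 0 := fun e => by rw [e] at hk; exact Nat.card_pos.ne' hk
  have h1 : k ≠ 1 := fun e => n ((eq_of_le_of_card_ge (inf_le_left : X ⊓ B ≤ X)
    (by rw [hk, e, mul_one])).ge hx).2
  rw [hk, mul_comm]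
  exact Nat.mul_le_mul_left _ (by omega)

/-- a subgroup of index two in `Q` containing `U` -/
def p8 (n : ℕ) : Bool := Nat.blt n 64 && Nat.blt (n % 16) 8

theorem cl_8 : Cl p8 := by decide +kernel
theorem p8_iff {n : ℕ} : p8 n = true ↔ n < 64 ∧ n % 16 < 8 := by
  rw [p8, Bool.and_eq_true, Nat.blt_eq, Nat.blt_eq]

/-- `x` normalises both centres and moves `V₁ Z₂` to `U₁ Z₂` -/
structure Mv (η ζ : ℕ → G) (x : G) : Prop where
  nl : x ∈ N[ZZ η]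
  nr : x ∈ N[ZZ ζ]
  mv : ∀ y ∈ sp η (pE false) ⊔ sp ζ pZ, x * y * x⁻¹ ∈ sp η (pE true) ⊔ sp ζ pZ

theorem conj_back {x a b : G} (xx : x * x = 1) (e : x * a * x⁻¹ = b) : x * b * x⁻¹ = a := by
  rw [← e]
  calc x * (x * a * x⁻¹) * x⁻¹ = (x * x) * a * (x * x)⁻¹ := by group
    _ = a := by rw [xx]; group

namespace TP
variable {η ζ : ℕ → G} (h : TP η ζ)
include h

theorem Q_CZ : QQ η ⊔ QQ ζ ≤ C[(ZZ η ⊔ ZZ ζ : Subgroup G)] := fun x hx => mem_C.2 fun y hy => by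
  obtain ⟨a, a1, c, c1, a2, c2, rfl⟩ := (h.mem_sp cl_Q cl_Q).1 hx
  obtain ⟨z, z1, w, w1, z2, w2, rfl⟩ := (h.mem_sp cl_Z cl_Z).1 hy
  exact (h.comm_iff z1 w1 a1 c1).2 ⟨(comm_Z a (pQ_iff.1 a2) z (pZ_iff.1 z2)).symm,
    (comm_Z c (pQ_iff.1 c2) w (pZ_iff.1 w2)).symm⟩

theorem one_fix {x : G} (hx : x ∈ N[(T0 η ⊔ T0 ζ : Subgroup G)]) (hz : x ∈ N[ZZ η]) :
    x * η 1 * x⁻¹ = η 1 := by
  have c : η 1 ∈ C[(T0 η ⊔ T0 ζ : Subgroup G)] := mem_C.2 fun y hy => by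
    obtain ⟨a, a1, c, c1, rfl⟩ := h.mem_T.1 hy
    rw [mul_assoc, ← h.comm 1 (by norm_num) c c1, ← mul_assoc, h.l.one_comm (th_T0 η a1), mul_assoc]
  refine (h.l.center (ZZ_le_T0 η (norm_conj hz ((h.l.th_ZZ (by norm_num)).2 (by norm_num))))
    (mem_C.2 fun y hy => mem_C.1 (C_conj hx c) y (mem_sup_left hy))).resolve_left fun e => ?_
  have : η 1 = 1 := by simpa using e
  exact one_ne_zero ((h.l.eq_one (by norm_num)).1 this)

theorem exists_w {x : G} (m : Mv η ζ x) {a : ℕ} (ha : a < 16) :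
    ∃ n < 64, ∃ z < 4, η a * (x * η a * x⁻¹) = η n * ζ z ∧ n % 16 / 4 = a / 4 ∧ tm n n < 4 ∧
      (4 ≤ a → tm n n ≠ 0) := by
  obtain ⟨u, u1, z, z1, u2, z2, e⟩ := (h.mem_sp (cl_E true) cl_Z).1
    (m.mv _ (mem_sup_left (h.l.bV.mem a ha)))
  obtain ⟨k1, k2, k3, k4⟩ := (by decide +kernel : ∀ a < 16, ∀ u < 128, pE true u = true →
    tm a u < 64 ∧ tm a u % 16 / 4 = a / 4 ∧ tm (tm a u) (tm a u) < 4 ∧
      (4 ≤ a → 4 ≤ u → tm (tm a u) (tm a u) ≠ 0)) a ha u u1 u2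
  refine ⟨_, k1, z, pZ_iff.1 z2, by rw [← e, ← mul_assoc, h.l.mul a (by omega) u u1], k2, k3,
    fun b => k4 b (not_lt.1 fun c => ?_)⟩
  have n : x⁻¹ ∈ N[(ZZ η ⊔ ZZ ζ : Subgroup G)] := by
    rw [mem_N_iff, smul_sup, mem_N_iff.1 (inv_mem m.nl), mem_N_iff.1 (inv_mem m.nr)]
  have := norm_conj n ((h.th_sp cl_Z cl_Z u1 z1).2 ⟨pZ_iff.2 c, z2⟩)
  rw [e, show x⁻¹ * (x * η a * x⁻¹) * x⁻¹⁻¹ = η a * 1 by group, ← h.r.zero] at this
  have := pZ_iff.1 ((h.th_sp cl_Z cl_Z (by omega) (by norm_num)).1 this).1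
  omega

theorem w_inv {x : G} (xx : x * x = 1) {a : ℕ} (ha : a < 16) :
    x * (η a * (x * η a * x⁻¹)) * x⁻¹ = (η a * (x * η a * x⁻¹))⁻¹ := by
  rw [show x * (η a * (x * η a * x⁻¹)) * x⁻¹ = x * η a * x⁻¹ * (x * (x * η a * x⁻¹) * x⁻¹) by group,
    conj_back xx rfl]
  nth_rw 1 [← h.l.pre.inv ha]
  nth_rw 2 [← h.l.pre.inv ha]
  group

theorem sq_w {n z : ℕ} (hn : n < 64) (hz : z < 4) : η n * ζ z * (η n * ζ z) = η (tm n n) := by
  rw [h.mul (by omega) (by omega) (by omega) (by omega), (h.r.sq_iff (n := z) (by omega)).1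
    (h.r.pre.sq (by omega)), h.r.zero, mul_one]

theorem exists_q {x : G} (xx : x * x = 1) (m : Mv η ζ x) (h1 : x * η 1 * x⁻¹ = η 1)
    (h2 : x * η 2 * x⁻¹ = η 3) {a : ℕ} (ha : a < 16) :
    ∃ n < 64, ∃ z < 4, n % 16 / 4 = a / 4 ∧ η n * ζ z * x = x * (η n * ζ z) := by
  obtain ⟨n, n1, z, z1, e, k1, k2, -⟩ := h.exists_w m ha
  have i := h.w_inv xx ha
  rw [e] at i
  have s := h.sq_w n1 z1
  have f : x * η (tm n n) * x⁻¹ = η (tm n n) := by
    nth_rw 2 [← h.l.pre.inv (u := tm n n) (by omega)]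
    rw [← s, mul_inv_rev, ← i]; group
  have : tm n n = 0 ∨ tm n n = 1 := by
    by_contra c
    have : tm n n = 2 ∨ tm n n = 3 := by omega
    rcases this with e | e <;> rw [e] at f
    · exact absurd (h.l.inj 3 (by norm_num) 2 (by norm_num) (h2.symm.trans f)) (by norm_num)
    · exact absurd (h.l.inj 2 (by norm_num) 3 (by norm_num) ((conj_back xx h2).symm.trans f))
        (by norm_num)
  rcases this with c | c <;> rw [c] at s
  · rw [h.l.zero] at s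
    rw [inv_eq_of_mul_eq_one_right s, mul_inv_eq_iff_eq_mul] at i
    exact ⟨n, n1, z, z1, k1, i.symm⟩
  · obtain ⟨l1, l2⟩ := (by decide +kernel : ∀ n < 64, tm n 2 < 64 ∧ tm n 2 % 16 / 4 = n % 16 / 4) n n1
    refine ⟨_, l1, z, z1, l2.trans k1, (mul_inv_eq_iff_eq_mul.1 ?_).symm⟩
    rw [← h.l.mul n (by omega) 2 (by norm_num), mul_assoc (η n), h.comm 2 (by norm_num) z (by omega),
      ← mul_assoc (η n), show x * (η n * ζ z * η 2) * x⁻¹ =
        x * (η n * ζ z) * x⁻¹ * (x * η 2 * x⁻¹) by group, i, h2,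
      show η 3 = η 1 * η 2 from h.l.pre 1 (by norm_num) 2 (by norm_num), ← s]
    group

theorem chain [Finite G] {X B : Subgroup G}
    (hq : ∀ a < 16, ∃ n < 64, ∃ z < 4, n % 16 / 4 = a / 4 ∧ η n * ζ z ∈ X)
    (hB : QQ η ⊔ ZZ ζ ≤ B) :
    4 * Nat.card (X ⊓ B ⊓ (UU η ⊔ QQ ζ) : Subgroup G) ≤ Nat.card (X ⊓ B : Subgroup G) := by
  obtain ⟨n, n1, z, z1, e, m⟩ := hq 8 (by norm_num)
  obtain ⟨n', n2, z', z2, e', m'⟩ := hq 4 (by norm_num)
  have k : ∀ n < 64, ∀ z < 4, η n * ζ z ∈ B := fun n a z b =>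
    hB ((h.th_sp cl_Q cl_Z (by omega) (by omega)).2 ⟨pQ_iff.2 a, pZ_iff.2 b⟩)
  have h1 := two_le_of (X := X ⊓ B) (B := sp η p8 ⊔ sp ζ pQ) ⟨m, k n n1 z z1⟩ fun c => by
    have := p8_iff.1 ((h.th_sp cl_8 cl_Q (by omega) (by omega)).1 c).1
    omega
  have h2 := two_le_of (X := X ⊓ B ⊓ (sp η p8 ⊔ sp ζ pQ)) (B := UU η ⊔ QQ ζ)
    ⟨⟨m', k n' n2 z' z2⟩, (h.th_sp cl_8 cl_Q (by omega) (by omega)).2
      ⟨p8_iff.2 ⟨n2, by omega⟩, pQ_iff.2 (by omega)⟩⟩ fun c => by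
    have := pE_true.1 ((h.th_sp (cl_E true) cl_Q (by omega) (by omega)).1 c).1
    omega
  rw [inf_assoc (X ⊓ B), inf_of_le_right (show UU η ⊔ QQ ζ ≤ sp η p8 ⊔ sp ζ pQ from
    sup_le_sup_right (sp_mono η (by decide +kernel)) _)] at h2
  omega

theorem two_or {x : G} (hz : x ∈ N[ZZ η]) (h1 : x * η 1 * x⁻¹ = η 1) :
    x ∈ C[ZZ η] ∨ x * η 2 * x⁻¹ = η 3 := by
  obtain ⟨z, z1, e⟩ := h.l.mem_ZZ.1 (norm_conj hz ((h.l.th_ZZ (n := 2) (by norm_num)).2 (by norm_num)))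
  interval_cases z
  · rw [h.l.zero, eq_comm, mul_inv_eq_one, mul_eq_left, h.l.eq_one (by norm_num)] at e
    omega
  · rw [← h1, mul_left_inj, mul_right_inj] at e
    exact absurd (h.l.inj _ (by norm_num) _ (by norm_num) e) (by norm_num)
  · refine Or.inl (mem_C.2 fun y hy => ?_)
    obtain ⟨n, n1, rfl⟩ := h.l.mem_ZZ.1 hy
    rw [← mul_inv_eq_iff_eq_mul.1]
    interval_cases n
    · rw [h.l.zero]; group
    · exact h1
    · exact e.symm
    · rw [show η 3 = η 1 * η 2 from h.l.pre 1 (by norm_num) 2 (by norm_num)]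
      nth_rw 2 [← h1, e]; group
  · exact Or.inr e.symm

theorem big [Finite G] {x : G} (xx : x * x = 1) (m : Mv η ζ x) (m' : Mv ζ η x)
    (h1 : x * η 1 * x⁻¹ = η 1) (h1' : x * ζ 1 * x⁻¹ = ζ 1) (h2 : x * η 2 * x⁻¹ = η 3) :
    64 ≤ Nat.card ((QQ η ⊔ QQ ζ) ⊓ centralizer {x} : Subgroup G) ∨
      (32 ≤ Nat.card ((QQ η ⊔ QQ ζ) ⊓ centralizer {x} : Subgroup G) ∧
        ∃ A ≤ (QQ η ⊔ QQ ζ) ⊓ centralizer {x}, (∀ a ∈ A, a * a = 1) ∧ 8 ≤ Nat.card A) := by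
  have key : ∀ {η ζ : ℕ → G}, TP η ζ → Mv η ζ x → x * η 1 * x⁻¹ = η 1 → x * η 2 * x⁻¹ = η 3 →
      ∀ a < 16, ∃ n < 64, ∃ z < 4, n % 16 / 4 = a / 4 ∧
        η n * ζ z ∈ (QQ η ⊔ QQ ζ) ⊓ centralizer {x} := fun h m a b c d => by
    obtain ⟨n, n1, z, z1, e, f⟩ := h.exists_q xx m a b d
    exact ⟨n, n1, z, z1, e, (h.th_sp cl_Q cl_Q (by omega) (by omega)).2
      ⟨pQ_iff.2 n1, pQ_iff.2 (by omega)⟩, mem_centralizer_singleton_iff.2 f⟩
  have c1 := h.chain (key h m h1 h2) (B := ⊤) le_top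
  rw [inf_top_eq] at c1
  have c2 : cnt p2 128 = 2 := by decide +kernel
  have c4 : cnt pZ 128 = 4 := by decide +kernel
  have l2 : ∀ {η : ℕ → G}, TM η → x * η 1 * x⁻¹ = η 1 → sp η p2 ≤ centralizer {x} :=
    fun h a => sp_le fun n _ b => mem_centralizer_singleton_iff.2 (by
      have := p2_iff.1 b
      interval_cases n
      · rw [h.zero]; group
      · exact (mul_inv_eq_iff_eq_mul.1 a).symm)
  have l3 : ∀ η : ℕ → G, sp η p2 ≤ ZZ η := fun η => sp_mono η (by decide +kernel)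
  rcases h.symm.two_or m.nr h1' with a | a
  · have l : sp η p2 ⊔ ZZ ζ ≤ (QQ η ⊔ QQ ζ) ⊓ centralizer {x} := le_inf
      (sup_le_sup ((l3 η).trans (ZZ_le_QQ η)) (ZZ_le_QQ ζ)) (sup_le (l2 h.l h1)
        fun y hy => mem_centralizer_singleton_iff.2 (mem_C.1 a y hy))
    have c3 : Nat.card (sp η p2 ⊔ ZZ ζ : Subgroup G) = cnt p2 128 * cnt pZ 128 := h.card_sp cl_2 cl_Z
    have c5 := card_le_of_le (le_inf l (sup_le_sup ((l3 η).trans (ZZ_le_UU η)) (ZZ_le_QQ ζ)))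
    rw [c2, c4] at c3
    exact Or.inr ⟨by omega, _, l, fun y hy => h.sq_W (i := false) (j := false)
      (sup_le_sup ((l3 η).trans (ZZ_le_VV η)) (ZZ_le_VV ζ) hy), by omega⟩
  · have c3 := h.symm.chain (key h.symm m' h1' a) (B := UU η ⊔ QQ ζ)
      (sup_le le_sup_right ((ZZ_le_UU η).trans le_sup_left))
    rw [sup_comm (QQ ζ)] at c3
    have c5 := card_le_of_le (show sp η p2 ⊔ sp ζ p2 ≤ (QQ η ⊔ QQ ζ) ⊓ centralizer {x} ⊓
      (UU η ⊔ QQ ζ) ⊓ (UU ζ ⊔ QQ η) from le_inf (le_inf (le_inf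
        (sup_le_sup ((l3 η).trans (ZZ_le_QQ η)) ((l3 ζ).trans (ZZ_le_QQ ζ)))
        (sup_le (l2 h.l h1) (l2 h.r h1')))
        (sup_le_sup ((l3 η).trans (ZZ_le_UU η)) ((l3 ζ).trans (ZZ_le_QQ ζ))))
        (sup_le (((l3 η).trans (ZZ_le_QQ η)).trans le_sup_right)
          (((l3 ζ).trans (ZZ_le_UU ζ)).trans le_sup_left)))
    rw [h.card_sp cl_2 cl_2, c2] at c5
    exact Or.inl (by omega)

end TP

section tp
variable {t : G} {η : ℕ → G} (h : TP η (cj t η))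
include h

theorem Ty.mv_l {x : G} {b : Bool} (k : Ty t η x false true b) : Mv η (cj t η) x :=
  ⟨mem_N_iff.2 (ty_Z h k).1, mem_N_iff.2 (ty_Z h k).2, fun y hy => by
    rw [← XX_false] at hy ⊢; exact (k false).1.le (conj_mem_conj.2 hy)⟩

theorem Ty.mv_r {x : G} {a : Bool} (k : Ty t η x false a true) : Mv (cj t η) η x :=
  ⟨mem_N_iff.2 (ty_Z h k).2, mem_N_iff.2 (ty_Z h k).1, fun y hy => by
    rw [sup_comm, ← XX_true] at hy ⊢; exact (k false).2.le (conj_mem_conj.2 hy)⟩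

end tp

theorem EC.conj1 {t : G} {J O F P : Subgroup G} {θ η : ℕ → G} (c : EC t J O F P θ η) :
    IsConj t (t * θ 1) := by
  obtain ⟨s, -, e⟩ := cls c.wr.tp c.ctx.tt (c.wr.T0_le (th_T0 θ (n := 1) (by norm_num))) (by
    rw [mul_assoc, ← mul_assoc (θ 1), c.ctx.th_t (by norm_num), mul_assoc,
      c.ctx.tm.pre.sq (by norm_num), mul_one, c.ctx.tt])
  exact isConj_iff.2 ⟨s, e⟩

theorem nts : NtsStmt.{u} := by
  intro G _ _ t J O F P θ η c k hN x hx d cj1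
  haveI : Fact (Nat.Prime 2) := ⟨Nat.prime_two⟩
  have h := c.ctx
  have tp := c.wr.tp
  obtain ⟨g, hg⟩ := isConj_iff.1 cj1
  have H := h.cj g
  rw [hg] at H
  have xx := H.tt
  have m1 := d.mv_l tp
  have m2 := d.mv_r tp
  have f1 := tp.one_fix (hN hx) m1.nl
  have f2 := tp.symm.one_fix (by rw [sup_comm]; exact hN hx) m1.nr
  have QS : QQ η ⊔ QQ (cj t η) ≤ SS t η := sup_le_sup (QQ_le_T0 _) (QQ_le_T0 _)
  have nS : x ∉ SS t η := fun a => k.nts x a cj1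
  have fin := nt2 G x _ _ _ H ((QQ η ⊔ QQ (cj t η)) ⊓ centralizer {x})
    (tp.isPGroup.to_le (inf_le_left.trans QS)) (fun a => nS (QS a.1))
    (fun y hy => mem_centralizer_singleton_iff.1 hy.2) fun a ha aa y hy =>
      mem_C.1 (tp.Q_CZ hy.1) a (opp_Z tp d ha.1 aa (by
        rw [← mem_centralizer_singleton_iff.1 ha.2]; simp))
  rcases tp.two_or m1.nl f1 with a | a
  swap
  · exact fin (tp.big xx m1 m2 f1 f2 a)
  rcases tp.symm.two_or m1.nr f2 with b | b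
  swap
  · have := tp.symm.big xx m2 m1 f2 f1 b
    rw [sup_comm] at this
    exact fin this
  clear fin
  have xZ : ∀ z ∈ ZH t η, z * x = x * z := fun z hz => by
    obtain ⟨u, hu, v, hv, rfl⟩ := (tp.mem_sup (ZZ_le_T0 _) (ZZ_le_T0 _)).1 hz
    exact (show Commute u x from mem_C.1 a u hu).mul_left (mem_C.1 b v hv)
  have ZS : ZH t η ≤ SS t η := sup_le_sup (ZZ_le_T0 _) (ZZ_le_T0 _)
  have sZ : ∀ z ∈ ZH t η, z * z = 1 := fun z hz => tp.sq_W (i := false) (j := false)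
    (sup_le_sup (ZZ_le_VV _) (ZZ_le_VV _) hz)
  have cZ : Nat.card (ZH t η) = 16 := (tp.card_sp cl_Z cl_Z).trans (by decide +kernel)
  obtain ⟨y, -, -, y2, -, -, -, y3⟩ := out G t J O F P θ η c k hN x hx false d
  obtain ⟨l, e1, e2⟩ : ∃ l : G, l * x * l⁻¹ = t ∧
      MulAut.conj l • (ZH t η ⊔ zpowers x) = VV θ ⊔ zpowers t := by
    obtain ⟨j, jJ, e⟩ := h.e32 (X := MulAut.conj g⁻¹ • (ZH t η ⊔ zpowers x))
      (mem_conj.2 (by rw [inv_inv, hg]; exact mem_sup_right (mem_zpowers x)))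
      (sq_conj (fun z hz => by
        rcases (mem_sup_t xx (C_le_N (mem_C.2 xZ))).1 hz with a | a
        · exact sZ z a
        · have := sZ _ a
          have e : z * x = x * z := by
            have := xZ _ a
            rw [← mul_assoc] at this
            exact mul_right_cancel this
          rwa [mul_assoc, ← mul_assoc x, ← e, mul_assoc, xx, mul_one] at this) _) (by
        have := two_le_of (X := ZH t η ⊔ zpowers x) (B := ZH t η) (mem_sup_right (mem_zpowers x))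
          fun a => nS (ZS a)
        rw [inf_of_le_right le_sup_left, cZ] at this
        rwa [card_conj])
    rw [conj_smul_conj_smul] at e
    have e1 : j * g⁻¹ * x * (j * g⁻¹)⁻¹ = t := by
      rw [← hg, show j * g⁻¹ * (g * t * g⁻¹) * (j * g⁻¹)⁻¹ = j * t * j⁻¹ by group, h.JC j jJ,
        mul_inv_cancel_right]
    rcases e with e | e
    · exact ⟨_, e1, e⟩
    · refine ⟨y⁻¹ * (j * g⁻¹), ?_, ?_⟩
      · calc _ = y⁻¹ * (j * g⁻¹ * x * (j * g⁻¹)⁻¹) * y := by group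
          _ = t := by rw [e1, mul_assoc, ← y2, inv_mul_cancel_left]
      · rw [← conj_smul_conj_smul, e, smul_sup, ← y3, conj_inv_smul_conj_smul,
          mem_N_iff.1 (inv_mem (C_le_N (mem_C.2 fun z hz => comm_of_zpowers hz y2.symm)))]
  have k1 : ∀ z ∈ ZH t η, l * z * l⁻¹ ∈ VV θ := fun z hz =>
    h.map_in c.conj1 h.V_le (fun _ => h.tm.bV.sq) (k.nts z (ZS hz))
      (e2 ▸ conj_mem_conj.2 (mem_sup_left hz))
  have k2 : MulAut.conj l • ZH t η = VV θ := eq_of_le_of_card_ge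
    (fun x hx => by simpa [mul_assoc] using k1 _ (mem_conj.1 hx))
    (by rw [card_conj, h.tm.card_VV, cZ])
  obtain ⟨n, hn, e3⟩ := c.wr.syl.exists_conj_le
    (Q := MulAut.conj l • (QQ η ⊔ QQ (cj t η)) ⊓ NN t (VV θ))
    (isPGroup_conj_smul (tp.isPGroup.to_le QS) l).to_inf_left inf_le_right
  have key : ∀ r ∈ QQ η ⊔ QQ (cj t η), x * r * x⁻¹ = r⁻¹ → r * r ∈ ZH t η → r * r ≠ 1 →
      n * l * r * (n * l)⁻¹ * t ∈ VV η ⊔ VV (cj t η) := fun r r1 r2 r3 r4 => by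
    have := e3 (conj_mem_conj.2 ⟨conj_mem_conj.2 r1, mem_NN.2 ⟨by
      rw [← k2, centralizer_conj_smul]; exact conj_mem_conj.2 (tp.Q_CZ r1), by
      have e : x⁻¹ * r * x = r⁻¹ := by rw [← r2, inv_eq_of_mul_eq_one_right xx]
      have := k1 _ (inv_mem r3)
      rw [mul_inv_rev] at this
      nth_rw 1 [← e] at this
      rw [sg, ← e1]
      simpa [mul_assoc] using this⟩⟩)
    rw [show n * (l * r * l⁻¹) * n⁻¹ = n * l * r * (n * l)⁻¹ by group] at this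
    refine ((mem_sup_t h.tt (ty_t h.tt η).NW).1 this).resolve_left fun a => r4 ?_
    exact sq_of_conj (g := (n * l)⁻¹) (by
      rw [inv_inv]; exact tp.sq_W (i := false) (j := false) a)
  obtain ⟨u, u1, z, z1, eu, -, u2, u3⟩ := tp.exists_w m1 (a := 4) (by norm_num)
  obtain ⟨v, v1, w, w1, ev, -, v2, v3⟩ := tp.symm.exists_w m2 (a := 4) (by norm_num)
  have i1 := tp.w_inv xx (a := 4) (by norm_num)
  have i2 := tp.symm.w_inv xx (a := 4) (by norm_num)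
  rw [eu] at i1
  rw [ev] at i2
  have a1 := key _ ((tp.th_sp cl_Q cl_Q (by omega) (by omega)).2 ⟨pQ_iff.2 u1, pQ_iff.2 (by omega)⟩)
    i1 (by rw [tp.sq_w u1 z1]; exact mem_sup_left ((tp.l.th_ZZ (by omega)).2 u2))
    (by rw [tp.sq_w u1 z1, Ne, tp.l.eq_one (by omega)]; exact u3 le_rfl)
  have a2 := key _ (by
      rw [sup_comm]
      exact (tp.symm.th_sp cl_Q cl_Q (by omega) (by omega)).2 ⟨pQ_iff.2 v1, pQ_iff.2 (by omega)⟩)
    i2 (by rw [tp.symm.sq_w v1 w1]; exact mem_sup_right ((tp.r.th_ZZ (by omega)).2 v2))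
    (by rw [tp.symm.sq_w v1 w1, Ne, tp.r.eq_one (by omega)]; exact v3 le_rfl)
  have a3 := tp.sq_W (i := false) (j := false) (mul_mem a1 (inv_mem a2))
  rw [← tp.comm w (by omega) v (by omega)] at a3
  have a4 : η u * cj t η z * (η w * cj t η v)⁻¹ * (η u * cj t η z * (η w * cj t η v)⁻¹) = 1 :=
    sq_of_conj (g := (n * l)⁻¹) (by rw [← a3]; group)
  have l1 := iv_lt w (by omega)
  have l2 := iv_lt v (by omega)
  rw [tp.inv (by omega) (by omega), tp.mul (by omega) (by omega) l1 l2,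
    tp.sq_iff (tm_lt _ (by omega) _ l1) (tm_lt _ (by omega) _ l2)] at a4
  exact u3 le_rfl ((by decide +kernel : ∀ u < 64, ∀ w < 4,
    tm (tm u (iv w)) (tm u (iv w)) = 0 → tm u u = 0) u u1 w w1 a4.1)

theorem eqns_MWNts : True := by
  have := @p8.eq_1
  trivial

end Cfsg.Agent.H19.MW
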