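import Cfsg.Agent.H19.MWNts

/-! # MW project: RC -/

set_option autoImplicit false
set_option maxRecDepth 100000
set_option synthInstance.maxSize 2048
open scoped Pointwise commutatorElement
open Subgroup

namespace Cfsg.Agent.H19.MW
open Cfsg.Agent.H24.MH Cfsg.Agent.H23.D2 Cfsg.Agent.H8
open Cfsg.Agent.H42 (tb cnt cnt_eq_card)

local notation "C[" A "]" => Subgroup.centralizer (SetLike.coe A)
local notation "N[" A "]" => Subgroup.normalizer (SetLike.coe A)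

universe u v
variable {G : Type*} [Group G]

theorem RD.conj {x : G} {A D : Subgroup G} (h : RD x A D) (g : G) :
    RD (g * x * g⁻¹) (MulAut.conj g • A) (MulAut.conj g • D) := by
  refine ⟨conj_mem_conj.2 h.mem, pointwise_smul_le_pointwise_smul_iff.2 h.le,
    isPGroup_conj_smul h.two g, fun a ha d hd => ?_, sq_conj h.sq g, by rw [card_conj]; exact h.card,
    h.big.imp (by rw [card_conj]; exact id) fun ⟨a, b, z, c⟩ => ⟨by rwa [card_conj],
      fun d hd e => mem_conj.2 (b _ (mem_conj.1 hd) (sq_of_conj (g := g⁻¹) (by rw [← e]; group))),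
      g * z * g⁻¹, fun d hd => (c _ (mem_conj.1 hd)).imp sq_of_conj fun e => by
        rw [← e]; group⟩⟩
  simpa [mul_assoc] using comm_conj_iff (g := g).2 (h.cen _ (mem_conj.1 ha) _ (mem_conj.1 hd))

theorem RD_of [Finite G] {x r : G} {A B : Subgroup G} (rr : r * r = 1) (nr : r ∉ B)
    (cr : ∀ b ∈ B, b * r = r * b) (two : IsPGroup 2 B) (le : A ≤ B)
    (cen : ∀ a ∈ A, ∀ b ∈ B, a * b = b * a) (sq : ∀ a ∈ A, a * a = 1) (hx : x * r ∈ A)
    (card : 32 ≤ Nat.card A) (big : 64 ≤ Nat.card A ∨ (128 ≤ Nat.card B ∧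
      (∀ d ∈ B, d * d = 1 → d ∈ A) ∧ ∃ z, ∀ d ∈ B, d * d = 1 ∨ d * d = z)) :
    RD x (A ⊔ zpowers r) (B ⊔ zpowers r) := by
  haveI : Fact (Nat.Prime 2) := ⟨Nat.prime_two⟩
  have nB : r ∈ N[B] := C_le_N (mem_C.2 cr)
  have nA : r ∈ N[A] := C_le_N (mem_C.2 fun a ha => cr a (le ha))
  have s : ∀ d : G, d * r ∈ B → d * r * (d * r) = d * d := fun d hd => by
    have := cr _ hd
    rw [← mul_assoc] at this
    rw [mul_assoc, ← mul_assoc r, ← mul_right_cancel this, mul_assoc, rr, mul_one]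
  have c1 := two_le_of (X := A ⊔ zpowers r) (B := A) (mem_sup_right (mem_zpowers r)) fun a => nr (le a)
  have c2 := two_le_of (X := B ⊔ zpowers r) (B := B) (mem_sup_right (mem_zpowers r)) nr
  rw [inf_of_le_right le_sup_left] at c1 c2
  refine ⟨(mem_sup_t rr nA).2 (Or.inr hx), sup_le_sup_right le _, by
    rw [sup_comm]
    exact (pgroup_zp (n := 1) (by simpa [pow_two] using rr)).to_sup_of_normal_right' two
      (zpowers_le.2 nB), fun a ha d hd => ?_, fun a ha => ?_, by omega,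
    big.imp (by omega) fun ⟨a, b, z, c⟩ => ⟨by omega, fun d hd e => ?_, z, fun d hd => ?_⟩⟩
  · have k : A ⊔ zpowers r ≤ C[(B ⊔ zpowers r : Subgroup G)] := sup_le
      (fun a ha => mem_C.2 fun d hd => (sup_le (fun b hb => mem_centralizer_singleton_iff.2
        (cen a ha b hb).symm) (zpowers_le.2 (mem_centralizer_singleton_iff.2 (cr a (le ha)).symm)) :
          B ⊔ zpowers r ≤ centralizer {a}) hd a rfl |>.symm)
      (zpowers_le.2 (mem_C.2 fun d hd => (sup_le (fun b hb => mem_centralizer_singleton_iff.2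
        (cr b hb)) (zpowers_le.2 (mem_centralizer_singleton_iff.2 rfl)) :
          B ⊔ zpowers r ≤ centralizer {r}) hd r rfl |>.symm))
    exact (mem_C.1 (k ha) d hd).symm
  · exact ((mem_sup_t rr nA).1 ha).elim (sq a) fun b => s a (le b) ▸ sq _ b
  · exact (mem_sup_t rr nA).2 (((mem_sup_t rr nB).1 hd).imp (fun f => b d f e)
      fun f => b _ f ((s d f).trans e))
  · exact ((mem_sup_t rr nB).1 hd).elim (c d) fun f => s d f ▸ c _ f

theorem act_comm {σ : ℕ → G} {A : Subgroup G} (B : B0 A σ) {r y y' : G} {R M M' : ℕ}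
    (a : Act σ r R) (b : Act σ y M) (c : Act σ y' M') (e : r * y = y' * r) : mm R M = mm M' R :=
  B.unique (a.mul b) (e ▸ c.mul a)

namespace Wr
variable [Finite G] {t : G} {J O F : Subgroup G} {θ η : ℕ → G} (w : Wr t F θ η) (h : Ctx t J O θ)
include w h

omit [Finite G] in
theorem t_nV : t ∉ N[VV η] := fun a => by
  have m := norm_conj a (w.tm.bV.mem 1 (by norm_num))
  have := w.tp.disj' (VV_le_T0 η m) (th_T0 (cj t η) (n := 1) (by norm_num))
  exact one_ne_zero (((w.tm.cj t).eq_one (by norm_num)).1 this)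

omit [Finite G] in
theorem full' {g : G} (hg : g ∈ N[VV η]) (h2 : g ∈ N[VV (cj t η)]) :
    ∃ A, tb m7 A = true ∧ Act η g A := by
  refine (w.full g (by rw [mem_N_iff, smul_sup, mem_N_iff.1 hg, mem_N_iff.1 h2])).resolve_right
    fun ⟨A, _, a⟩ => w.t_nV h ?_
  exact (mul_mem_cancel_right hg).1 (w.tm.bV.mem_norm a)

theorem c2 {r : G} (d : Ty t η r false false true) :
    r ∈ N[VV η] ∧ MulAut.conj r • VV (cj t η) = UU (cj t η) := by
  have tp := w.tp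
  have B := w.tm.bV
  have l1 : MulAut.conj r • VV η ≤ sp η (pE false) ⊔ sp (cj t η) pZ := by
    rw [← XX_false, ← show _ = XX t η false false from (d false).1, XX_false]
    exact pointwise_smul_le_pointwise_smul_iff.2 le_sup_left
  have l2 : MulAut.conj r • VV (cj t η) ≤ sp η pZ ⊔ sp (cj t η) (pE true) := by
    rw [← XX_true, ← show _ = XX t η true true from (d false).2, XX_true]
    exact pointwise_smul_le_pointwise_smul_iff.2 le_sup_right
  have nZ : r⁻¹ ∈ N[ZH t η] := by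
    rw [mem_N_iff, ZH, smul_sup, (ty_Z tp d.inv).1, (ty_Z tp d.inv).2]; rfl
  have key : ∀ A, tb m7 A = true → ∃ y ∈ C[T0 (cj t η)], Act η y A ∧
      y ∈ N[(MulAut.conj r • VV η : Subgroup G)] ∧
      y ∈ N[(MulAut.conj r • VV (cj t η) : Subgroup G)] := fun A a => by
    obtain ⟨y, y1, y2⟩ := w.real A a
    have n : ∀ p, y ∈ N[(VV η ⊔ sp (cj t η) p : Subgroup G)] := fun p => by
      rw [mem_N_iff, smul_sup, mem_N_iff.1 (B.mem_norm y2), mem_N_iff.1 (C_le_N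
        (centralizer_le (sp_mono _ fun _ _ _ => rfl) y1))]
    have n1 : r⁻¹ * y * r ∈ N[(VV η ⊔ VV (cj t η) : Subgroup G)] := by
      have e : MulAut.conj r • (VV η ⊔ VV (cj t η)) = VV η ⊔ sp (cj t η) (pE true) :=
        d.W tp false false
      rw [← N_conj_iff, e]; exact n _
    have n2 : r⁻¹ * y * r ∈ N[VV η] := by
      rcases w.full _ n1 with ⟨A, -, b⟩ | ⟨A, -, b⟩
      · exact B.mem_norm b
      exfalso
      have m1 : r⁻¹ * y⁻¹ * r * cj t η 4 * (r⁻¹ * y⁻¹ * r)⁻¹ ∈ VV η := by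
        have := norm_conj' (B.mem_norm b) (B.mem 4 (by norm_num))
        rw [cj]; nth_rw 1 [← h.tinv]
        rw [show (t⁻¹ * η 4 * t⁻¹ : G) = t⁻¹ * η 4 * t by rw [h.tinv]]
        simpa [mul_assoc] using this
      have m2 := norm_conj (n pZ) (l1 (conj_mem_conj.2 m1))
      rw [show y * (r * (r⁻¹ * y⁻¹ * r * cj t η 4 * (r⁻¹ * y⁻¹ * r)⁻¹) * r⁻¹) * y⁻¹ =
        r * cj t η 4 * r⁻¹ by group] at m2
      have m3 : r * cj t η 4 * r⁻¹ ∈
          (sp η (pE false) ⊔ sp (cj t η) pZ) ⊓ (sp η pZ ⊔ sp (cj t η) (pE true)) :=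
        ⟨m2, l2 (conj_mem_conj.2 (tp.r.bV.mem 4 (by norm_num)))⟩
      rw [tp.inf_sp (cl_E false) cl_Z cl_Z (cl_E true), sp_congr η (q := pZ) (by decide +kernel),
        sp_congr (cj t η) (q := pZ) (by decide +kernel)] at m3
      have m4 := norm_conj nZ m3
      rw [show r⁻¹ * (r * cj t η 4 * r⁻¹) * r⁻¹⁻¹ = 1 * cj t η 4 by group, ← w.tm.zero] at m4
      exact absurd ((tp.th_sp cl_Z cl_Z (by norm_num) (by norm_num)).1 m4).2 (by decide)
    refine ⟨y, y1, y2, N_conj_iff.2 n2, N_conj_iff.2 ?_⟩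
    generalize r⁻¹ * y * r = z at n1 n2
    rcases w.full (t * z * t⁻¹) (mul_mem (mul_mem (ty_t h.tt η).NW n1) (inv_mem (ty_t h.tt η).NW))
      with ⟨A, -, b⟩ | ⟨A, -, b⟩
    · rw [VV_cj, N_conj_iff, h.tinv]
      simpa [h.tinv] using B.mem_norm b
    · have := B.mem_norm b
      rw [← mul_assoc, ← mul_assoc, h.tt, one_mul, mul_mem_cancel_left n2] at this
      exact (w.t_nV h (inv_mem_iff.1 this)).elim
  constructor
  · rw [mem_N_iff]
    refine (eq_of_le_of_card_ge (fun x hx => ?_) (by rw [card_conj])).symm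
    obtain ⟨v, v1, rfl⟩ := B.surj x hx
    obtain ⟨a, ha, na⟩ : ∃ a ∈ MulAut.conj r • VV η, a ∉ ZZ (cj t η) := by
      by_contra c
      push Not at c
      have := card_le_of_le (show _ ≤ ZZ (cj t η) from c)
      rw [card_conj, w.tm.card_VV, tp.r.card_ZZ] at this
      omega
    obtain ⟨u, u1, z, z1, u2, z2, rfl⟩ := (tp.mem_sp (cl_E false) cl_Z).1 (l1 ha)
    have u3 := pE_false.1 u2
    have u0 : u ≠ 0 := fun e => na (by rw [e, w.tm.zero, one_mul]; exact th_mem_sp _ z1 z2)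
    obtain ⟨y, y1, y2, y3, -⟩ := key lM m7_l
    have m := mul_mem (norm_conj y3 ha) (inv_mem ha)
    rw [show y * (η u * cj t η z) * y⁻¹ * (η u * cj t η z)⁻¹ =
      y * η u * y⁻¹ * (y * cj t η z * y⁻¹) * (cj t η z)⁻¹ * (η u)⁻¹ by group,
      cj_of_C y1 (th_T0 _ z1), mul_inv_cancel_right, y2.2 u u3, B.mul.inv u3,
      ← B.mul _ (mm_vec_lt _ u3) u u3] at m
    by_cases v0 : v = 0
    · rw [v0, w.tm.zero]; exact one_mem _
    obtain ⟨k1, k2⟩ := (by decide +kernel : ∀ u < 16, u ≠ 0 →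
      mm lM u ^^^ u < 16 ∧ mm lM u ^^^ u ≠ 0) u u3 u0
    generalize mm lM u ^^^ u = p at m k1 k2
    obtain ⟨A, a1, a2⟩ := tr7 k1 k2
    obtain ⟨A', b1, b2⟩ := tr7 v1 v0
    obtain ⟨y, -, c1, c2, -⟩ := key A a1
    obtain ⟨y', -, d1, d2, -⟩ := key A' b1
    have := norm_conj d2 (norm_conj' c2 m)
    rwa [← a2, ← c1.2 1 (by norm_num), show y⁻¹ * (y * η 1 * y⁻¹) * y = η 1 by group,
      d1.2 1 (by norm_num), b2] at this
  · refine eq_of_le_of_card_ge (fun a ha => ?_) (by rw [card_conj, tp.r.card_VV, tp.r.card_UU])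
    obtain ⟨z, z1, u, u1, z2, u2, rfl⟩ := (tp.mem_sp cl_Z (cl_E true)).1 (l2 ha)
    have z3 := pZ_iff.1 z2
    by_cases z0 : z = 0
    · rw [z0, w.tm.zero, one_mul]; exact th_mem_sp _ u1 u2
    exfalso
    obtain ⟨A, -, a1, a2, a3⟩ := (by decide +kernel : ∀ z < 4, z ≠ 0 → ∃ A ∈ [17144, 63011],
      tb m7 A = true ∧ 4 ≤ mm A z ∧ mm A z < 16) z z3 z0
    obtain ⟨y, y1, y2, -, y3⟩ := key A a1
    have m := l2 (norm_conj y3 ha)
    rw [show y * (η z * cj t η u) * y⁻¹ = y * η z * y⁻¹ * (y * cj t η u * y⁻¹) by group,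
      cj_of_C y1 (th_T0 _ u1), y2.2 z (by omega), tp.th_sp cl_Z (cl_E true) (by omega) u1,
      pZ_iff] at m
    omega

theorem c2' {r : G} (d : Ty t η r false false true) :
    MulAut.conj r • UU (cj t η) = VV (cj t η) := by
  rw [← (w.c2 h d.inv.cast).2, conj_smul_conj_inv_smul]

theorem nQ {r : G} (d : Ty t η r false false true) : r ∈ N[QQ (cj t η)] := by
  rw [mem_N_iff, ← w.tp.r.V_sup_U, smul_sup, (w.c2 h d).2, w.c2' h d, sup_comm]

theorem c3 {r : G} (hr : r ∈ N[SS t η]) (d : Ty t η r false false true) :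
    ∃ n < 128, (η n)⁻¹ * r ∈ C[VV η] := by
  have B := w.tm.bV
  have rV := (w.c2 h d).1
  obtain ⟨R, a⟩ := B.exists_act rV
  have m : tb m7 R = true := norm7 R a.1 (B.mat_inj a) fun A hA => by
    obtain ⟨y, y1, y2⟩ := w.real A hA
    obtain ⟨A', b1, b2⟩ := w.full' h (g := r * y * r⁻¹)
      (mul_mem (mul_mem rV (B.mem_norm y2)) (inv_mem rV))
      (C_le_N (centralizer_le (VV_le_QQ _) (C_conj (w.nQ h d) (centralizer_le (QQ_le_T0 _) y1))))
    exact ⟨A', b1, act_comm B a y2 b2 (by group)⟩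
  obtain ⟨n, n1, e⟩ := nd8 m fun n hn => by
    obtain ⟨u, u1, v, v1, e⟩ := w.tp.mem_T.1 (norm_conj hr (mem_sup_left (th_T0 η hn)))
    exact ⟨u, u1, act_comm B a (w.tm.act hn) (w.tp.act_l u1 v1) (by rw [e]; group)⟩
  exact ⟨n, n1, B.same (w.tm.act n1) (e ▸ a)⟩

theorem c4 {r : G} (hr : r ∈ N[SS t η]) (d : Ty t η r false false true) :
    ∃ n < 128, (η n)⁻¹ * r ∈ C[QQ η] := by
  have tp := w.tp
  have tN := t_NS (η := η) h.tt
  have d1 : Ty t η (t * r * t⁻¹) false true false :=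
    (((ty_t h.tt η).mul d).mul (ty_t h.tt η).inv).cast
  have e1 : MulAut.conj (t * r * t⁻¹) • VV η = UU η := by
    rw [← conj_smul_conj_smul, ← conj_smul_conj_smul, h.tinv, ← VV_cj, (w.c2 h d).2, ← UU_cj,
      cj_cj h.tt]
  have n1 : t * r * t⁻¹ ∈ N[SS t η] := mul_mem (mul_mem tN hr) (inv_mem tN)
  generalize t * r * t⁻¹ = x at d1 e1 n1
  obtain ⟨n, hn, a⟩ := w.c3 h hr d
  have nS : η n ∈ SS t η := mem_sup_left (th_T0 η hn)
  have d2 : Ty t η ((η n)⁻¹ * r) false false true := ((ty_S tp (inv_mem nS)).mul d).cast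
  have n2 : (η n)⁻¹ * r ∈ N[SS t η] := mul_mem (le_normalizer (inv_mem nS)) hr
  obtain ⟨m, hm, b⟩ := w.c3 h (mul_mem (mul_mem (inv_mem n1) n2) n1) ((d1.inv.mul d2).mul d1).cast
  obtain ⟨u, u1, v, v1, e⟩ := tp.mem_T.1 (norm_conj n1 (mem_sup_left (th_T0 η hm)))
  have b1 : (η u)⁻¹ * ((η n)⁻¹ * r) ∈ C[UU η] := by
    have b2 : x * ((η m)⁻¹ * (x⁻¹ * ((η n)⁻¹ * r) * x)) * x⁻¹ ∈ C[UU η] := by
      rw [← e1, centralizer_conj_smul]; exact conj_mem_conj.2 b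
    rw [show x * ((η m)⁻¹ * (x⁻¹ * ((η n)⁻¹ * r) * x)) * x⁻¹ =
      (x * η m * x⁻¹)⁻¹ * ((η n)⁻¹ * r) by group, ← e, mul_inv_rev, mul_assoc] at b2
    exact (mul_mem_cancel_left (inv_mem (centralizer_le (UU_le_T0 η)
      (tp.symm.le_C (th_T0 _ v1))))).1 b2
  have m2 := (w.tm.th_ZZ (n := 2) (by norm_num)).2 (by norm_num)
  have u2 : η u ∈ QQ η := w.tm.cent_Z (th_T0 η u1) (mem_C.1 (inv_mem_iff.1 ((mul_mem_cancel_right
    (centralizer_le (ZZ_le_VV η) a)).1 (centralizer_le (ZZ_le_UU η) b1))) _ m2).symm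
  rw [← w.tm.V_sup_U] at u2
  obtain ⟨p, hp, q, hq, e2⟩ := (mem_sup_N ((VV_le_T0 η).trans w.tm.T0_le_NU)).1 u2
  obtain ⟨k, hk, e3⟩ := w.tm.mem_T0.1 (mul_mem (th_T0 η hn) (VV_le_T0 η hp))
  refine ⟨k, hk, ?_⟩
  rw [e3, mul_inv_rev, mul_assoc, ← w.tm.V_sup_U]
  have c1 : p⁻¹ * ((η n)⁻¹ * r) ∈ C[VV η] :=
    mul_mem (inv_mem (mem_C.2 fun y hy => w.tm.bV.comm hy hp)) a
  have c2 : p⁻¹ * ((η n)⁻¹ * r) ∈ C[UU η] := by
    rw [← e2, mul_inv_rev, mul_assoc] at b1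
    exact (mul_mem_cancel_left (inv_mem (mem_C.2 fun y hy => w.tm.bU.comm hy hq))).1 b1
  exact mem_C.2 fun y hy => (sup_le (fun z hz => mem_centralizer_singleton_iff.2 (mem_C.1 c1 z hz))
    (fun z hz => mem_centralizer_singleton_iff.2 (mem_C.1 c2 z hz)) :
      VV η ⊔ UU η ≤ centralizer {_}) hy _ rfl |>.symm

omit h in
theorem star : ∃ O1 : Subgroup G, (∀ x, x ∈ O1 ↔ (x ∈ C[VV η] ∧ x ∈ C[QQ (cj t η)]) ∧ Odd (orderOf x)) ∧
    ∀ c ∈ C[VV η], c ∈ C[QQ (cj t η)] → ∃ a < 16, ∃ b < 4, ∃ o ∈ O1, c = η a * cj t η b * o := by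
  obtain ⟨O1, -, h2, h3⟩ := w.exists_O
  have k : ∀ c ∈ C[VV η], c ∈ C[QQ (cj t η)] → c ∈ C[(VV η ⊔ VV (cj t η) : Subgroup G)] :=
    fun c a b => mem_C.2 fun y hy => (sup_le
      (fun z hz => mem_centralizer_singleton_iff.2 (mem_C.1 a z hz))
      (fun z hz => mem_centralizer_singleton_iff.2 (mem_C.1 b z (VV_le_QQ _ hz))) :
        VV η ⊔ VV (cj t η) ≤ centralizer {c}) hy _ rfl |>.symm
  refine ⟨O1 ⊓ (C[VV η] ⊓ C[QQ (cj t η)]), fun x => ⟨fun a => ⟨a.2, ((h2 x).1 a.1).2⟩,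
    fun a => ⟨(h2 x).2 ⟨k x a.1.1 a.1.2, a.2⟩, a.1⟩⟩, fun c a b => ?_⟩
  obtain ⟨v, hv, o, ho, e, v1, o1⟩ := h3 c (k c a b)
  obtain ⟨p, p1, q, q1, p2, q2, rfl⟩ := (w.tp.mem_sp (cl_E false) (cl_E false)).1 hv
  refine ⟨p, pE_false.1 p2, q, ?_, o, ⟨ho, zpowers_le.2 a o1, zpowers_le.2 b o1⟩, e⟩
  have := w.tp.r.cent_U q1 (centralizer_le (UU_le_QQ _) ((mul_mem_cancel_left
    (centralizer_le (QQ_le_T0 _) (w.tp.le_C (th_T0 η p1)))).1 (zpowers_le.2 b v1)))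
  have := pE_false.1 q2
  omega

theorem star2 {r : G} (d : Ty t η r false false true) (hr : r ∈ C[VV η]) (hz : r * r ∈ VV η) :
    r * r = 1 := by
  have tp := w.tp
  have B := w.tm.bV
  obtain ⟨O1, o1, o2⟩ := w.star
  obtain ⟨y, y1, y2⟩ := w.real hM m7_h
  have yQ : y ∈ C[QQ (cj t η)] := centralizer_le (QQ_le_T0 _) y1
  have rQ := w.nQ h d
  obtain ⟨a, ha, b, hb, o, ho, e⟩ := o2 (y * r * y⁻¹ * r⁻¹)
    (mul_mem (C_conj (B.mem_norm y2) hr) (inv_mem hr))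
    (by simpa [mul_assoc] using mul_mem yQ (C_conj rQ (inv_mem yQ)))
  obtain ⟨⟨p1, p2⟩, p3⟩ := (o1 o).1 ho
  have m1 : r * o * r⁻¹ ∈ O1 := (o1 _).2 ⟨⟨C_conj (C_le_N hr) p1, C_conj rQ p2⟩, by
    rwa [← (MulAut.conj r).orderOf_eq o] at p3⟩
  have bZ := (tp.r.th_ZZ (n := b) (by omega)).2 hb
  have m2 : r * cj t η b * r⁻¹ ∈ ZZ (cj t η) := norm_conj (mem_N_iff.2 (ty_Z tp d).2) bZ
  obtain ⟨z, z1, ez⟩ := B.surj _ hz
  have e1 : y * η z * y⁻¹ * (η z)⁻¹ =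
      cj t η b * (r * cj t η b * r⁻¹) * (o * (r * o * r⁻¹)) := by
    have a1 := cj_of_C hr (B.mem a ha)
    calc _ = y * r * y⁻¹ * r⁻¹ * (r * (y * r * y⁻¹ * r⁻¹) * r⁻¹) := by rw [ez]; group
      _ = η a * cj t η b * (o * (r * η a * r⁻¹)) * (r * cj t η b * r⁻¹) * (r * o * r⁻¹) := by
        rw [e]; group
      _ = η a * (cj t η b * η a) * (o * (r * cj t η b * r⁻¹)) * (r * o * r⁻¹) := by
        rw [a1, ← mem_C.1 p1 _ (B.mem a ha)]; group
      _ = _ := by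
        rw [← tp.comm a (by omega) b (by omega), ← mul_assoc (η a) (η a), B.mul.sq ha,
          ← mem_C.1 p2 _ (ZZ_le_QQ _ m2)]; group
  have m3 : y * η z * y⁻¹ * (η z)⁻¹ ∈ VV η :=
    mul_mem (norm_conj (B.mem_norm y2) (B.mem z z1)) (inv_mem (B.mem z z1))
  have m4 := mul_mem bZ m2
  have e2 : o * (r * o * r⁻¹) = 1 := eq_one_of_odd_two ((o1 _).1 (mul_mem ho m1)).2 (n := 1) (by
    rw [pow_one, pow_two, ← inv_mul_eq_iff_eq_mul.2 e1]
    exact tp.sq_W (i := false) (j := false)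
      (mul_mem (mem_sup_right (ZZ_le_VV _ (inv_mem m4))) (mem_sup_left m3)))
  rw [e2, mul_one] at e1
  have e3 := tp.disj' (VV_le_T0 _ m3) (e1 ▸ ZZ_le_T0 _ m4)
  rw [mul_inv_eq_one, mul_inv_eq_iff_eq_mul] at e3
  rw [← ez, hM_fpf z z1 (B.fix_of_comm y2 z1 e3), w.tm.zero]

theorem rd_low {r : G} (hr : r ∈ N[SS t η]) (d : Ty t η r false false true) (hc : r ∈ C[QQ η])
    {n : ℕ} (hn : n < 64) (e : η n * r * (η n * r) = 1) : ∃ A D, RD (η n * r) A D := by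
  have tp := w.tp
  have mn := (w.tm.th_QQ (n := n) (by omega)).2 hn
  rw [mul_assoc, ← mul_assoc r, ← mem_C.1 hc _ mn, mul_assoc, ← mul_assoc] at e
  have rr := w.star2 h d (centralizer_le (VV_le_QQ η) hc) (by
    rw [eq_inv_of_mul_eq_one_right e, w.tm.mul n (by omega) n (by omega)]
    have := (by decide +kernel : ∀ n < 64, MW.tm n n < 16) n hn
    exact inv_mem (w.tm.bV.mem _ this))
  rw [rr, mul_one, w.tm.sq_iff (by omega)] at e
  obtain ⟨i, hi⟩ := pE_of_sq n hn e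
  have EQ : sp η (pE i) ≤ QQ η := sp_mono η (by cases i <;> decide +kernel)
  have nS : r ∉ SS t η := fun a => by simpa using ty_unique tp d (ty_S tp a)
  have m := d.mv_r tp
  have f := tp.symm.one_fix (by rw [sup_comm]; exact hr) m.nl
  have mx : η n * r * r ∈ sp η (pE i) := by
    rw [mul_assoc, rr, mul_one]; exact th_mem_sp η (by omega) hi
  have cr : ∀ C ≤ QQ (cj t η), (∀ c ∈ C, c * r = r * c) → ∀ b ∈ sp η (pE i) ⊔ C, b * r = r * b :=
    fun C a b x hx => (sup_le (fun z hz => mem_centralizer_singleton_iff.2 (mem_C.1 hc z (EQ hz)))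
      (fun z hz => mem_centralizer_singleton_iff.2 (b z hz)) :
        sp η (pE i) ⊔ C ≤ centralizer {r}) hx _ rfl |>.symm
  have lS : ∀ C ≤ QQ (cj t η), sp η (pE i) ⊔ C ≤ SS t η := fun C a =>
    sup_le_sup (EQ.trans (QQ_le_T0 _)) (a.trans (QQ_le_T0 _))
  have sZ : ∀ a ∈ sp η (pE i) ⊔ ZZ (cj t η), a * a = 1 := fun a ha =>
    tp.sq_W (i := i) (j := false) (sup_le_sup_left (ZZ_le_VV _) _ ha)
  rcases tp.symm.two_or m.nl f with a | a
  · have c : Nat.card (sp η (pE i) ⊔ ZZ (cj t η) : Subgroup G) = 64 :=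
      (tp.card_sp (cl_E i) cl_Z).trans (by rw [cnt_E]; decide +kernel)
    exact ⟨_, _, RD_of (A := sp η (pE i) ⊔ ZZ (cj t η)) rr (fun b => nS (lS _ (ZZ_le_QQ _) b))
      (cr _ (ZZ_le_QQ _) (mem_C.1 a)) (tp.isPGroup.to_le (lS _ (ZZ_le_QQ _))) le_rfl
      (fun a ha b hb => comm_of_sq sZ ha hb) sZ (mem_sup_left mx) (by omega) (Or.inl c.ge)⟩
  have fz : ∀ z < 4, cj t η z * r = r * cj t η z → z < 2 := fun z hz e => by
    by_contra c
    have e' := mul_inv_eq_iff_eq_mul.2 e.symm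
    have : z = 2 ∨ z = 3 := by omega
    rcases this with rfl | rfl
    · exact absurd (tp.r.inj 3 (by norm_num) 2 (by norm_num) (a.symm.trans e')) (by norm_num)
    · exact absurd (tp.r.inj 2 (by norm_num) 3 (by norm_num) ((conj_back rr a).symm.trans e'))
        (by norm_num)
  have l2 : sp (cj t η) p2 ≤ QQ (cj t η) ⊓ centralizer {r} := le_inf
    (sp_mono _ (by decide +kernel)) (sp_le fun n _ b => mem_centralizer_singleton_iff.2 (by
      have := p2_iff.1 b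
      interval_cases n
      · rw [tp.r.zero]; group
      · exact (mul_inv_eq_iff_eq_mul.1 f).symm))
  have c1 := tp.symm.chain (X := QQ (cj t η) ⊓ centralizer {r} ⊔ ZZ η) (B := ⊤) (fun u hu => by
    obtain ⟨n, n1, z, z1, e1, e2⟩ := tp.symm.exists_q rr m f a hu
    have mz := (w.tm.th_ZZ (n := z) (by omega)).2 z1
    refine ⟨n, n1, z, z1, e1, mul_mem (mem_sup_left ⟨(tp.r.th_QQ (by omega)).2 n1,
      mem_centralizer_singleton_iff.2 ?_⟩) (mem_sup_right mz)⟩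
    rw [mul_assoc, mem_C.1 hc _ (ZZ_le_QQ η mz), ← mul_assoc, ← mul_assoc] at e2
    exact mul_right_cancel e2) le_top
  rw [inf_top_eq] at c1
  have c2 := card_le_of_le (show sp (cj t η) p2 ⊔ ZZ η ≤ (QQ (cj t η) ⊓ centralizer {r} ⊔ ZZ η) ⊓
    (UU (cj t η) ⊔ QQ η) from le_inf (sup_le_sup_right l2 _)
      (sup_le_sup (sp_mono _ (by decide +kernel)) (ZZ_le_QQ η)))
  have lT : QQ (cj t η) ⊓ centralizer {r} ≤ T0 (cj t η) := inf_le_left.trans (QQ_le_T0 _)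
  rw [tp.symm.card_sup lT (ZZ_le_T0 η), w.tm.card_ZZ] at c1
  rw [show Nat.card (sp (cj t η) p2 ⊔ ZZ η : Subgroup G) = cnt p2 128 * cnt pZ 128 from
    tp.symm.card_sp cl_2 cl_Z, show cnt p2 128 * cnt pZ 128 = 8 by decide +kernel] at c2
  have sq : ∀ x ∈ sp η (pE i) ⊔ QQ (cj t η) ⊓ centralizer {r}, ∃ u < 128, ∃ c < 64, pE i u = true ∧
      x = η u * cj t η c ∧ cj t η c * r = r * cj t η c ∧ x * x = cj t η (MW.tm c c) := fun x hx => by
    obtain ⟨p, hp, q, hq, rfl⟩ := (tp.mem_sup (EQ.trans (QQ_le_T0 _)) lT).1 hx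
    obtain ⟨u, u1, u2, rfl⟩ := (w.tm.mem_sp (cl_E i)).1 hp
    obtain ⟨c, c1, rfl⟩ := tp.r.mem_QQ.1 hq.1
    exact ⟨u, u1, c, c1, u2, rfl, mem_centralizer_singleton_iff.1 hq.2, by
      rw [tp.mul u1 (by omega) u1 (by omega), pE_sq i u u1 u2, w.tm.zero, one_mul]⟩
  refine ⟨_, _, RD_of (A := sp η (pE i) ⊔ sp (cj t η) p2)
    (B := sp η (pE i) ⊔ QQ (cj t η) ⊓ centralizer {r}) rr (fun b => nS (lS _ inf_le_left b))
    (cr _ inf_le_left fun c hc => mem_centralizer_singleton_iff.1 hc.2)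
    (tp.isPGroup.to_le (lS _ inf_le_left)) (sup_le_sup_left l2 _) (fun a ha b hb => ?_)
    (fun a ha => sZ a (sup_le_sup_left (sp_mono _ (by decide +kernel)) _ ha)) (mem_sup_left mx)
    (by rw [tp.card_sp (cl_E i) cl_2, cnt_E]; decide +kernel) (Or.inr ⟨?_, fun x hx xx => ?_,
      cj t η 1, fun x hx => ?_⟩)⟩
  · obtain ⟨u, u1, c, c1, u2, rfl, -, -⟩ := sq b hb
    obtain ⟨v, v1, z, z1, v2, z2, rfl⟩ := (tp.mem_sp (cl_E i) cl_2).1 ha
    exact (tp.comm_iff v1 z1 u1 (by omega)).2 ⟨(by decide +kernel : ∀ i, ∀ v < 128, ∀ u < 128,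
      pE i v = true → pE i u = true → MW.tm v u = MW.tm u v) i v v1 u u1 v2 u2,
      (comm_Z c c1 z (by have := p2_iff.1 z2; omega)).symm⟩
  · rw [tp.card_sup (EQ.trans (QQ_le_T0 _)) lT, w.tm.card_sp (cl_E i), cnt_E]
    omega
  · obtain ⟨u, u1, c, c1, u2, rfl, e1, e2⟩ := sq x hx
    rw [e2, ← tp.r.mul c (by omega) c (by omega)] at xx
    have mZ : cj t η c ∈ ZZ (cj t η) := by
      have e3 : r * cj t η c * r⁻¹ = cj t η c := by rw [← e1, mul_inv_cancel_right]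
      rw [← tp.r.V_inf_U]
      rcases tp.r.invol_Q ((tp.r.th_QQ (by omega)).2 c1) xx with b | b
      · exact ⟨b, by rw [← (w.c2 h d).2, ← e3]; exact conj_mem_conj.2 b⟩
      · exact ⟨by rw [← w.c2' h d, ← e3]; exact conj_mem_conj.2 b, b⟩
    exact (tp.th_sp (cl_E i) cl_2 u1 (by omega)).2
      ⟨u2, p2_iff.2 (fz c ((tp.r.th_ZZ (by omega)).1 mZ) e1)⟩
  · obtain ⟨u, u1, c, c1, u2, rfl, e1, e2⟩ := sq x hx
    have := fz _ ((by decide +kernel : ∀ c < 64, MW.tm c c < 4) c c1) (by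
      rw [← tp.r.mul c (by omega) c (by omega)]
      exact (show Commute (cj t η c) r from e1).mul_left e1)
    rw [e2]
    interval_cases MW.tm c c
    · exact Or.inl tp.r.zero
    · exact Or.inr rfl

end Wr

theorem rc : RcStmt.{u} := by
  intro G _ _ t J O F P θ η c k hN x hx xx d
  have h := c.ctx
  have w := c.wr
  have tp := w.tp
  have B := w.tm.bV
  obtain ⟨n, hn, a⟩ := w.c4 h (hN hx) d
  have nS : η n ∈ SS t η := mem_sup_left (th_T0 η hn)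
  have d2 : Ty t η ((η n)⁻¹ * x) false false true := ((ty_S tp (inv_mem nS)).mul d).cast
  have rP : (η n)⁻¹ * x ∈ P := mul_mem (inv_mem (c.SP nS)) hx
  obtain ⟨r, rfl⟩ : ∃ r, x = η n * r := ⟨(η n)⁻¹ * x, by group⟩
  rw [inv_mul_cancel_left] at a d2 rP
  by_cases q : n < 64
  · exact w.rd_low h (hN rP) d2 a q xx
  have rV : r ∈ C[VV η] := centralizer_le (VV_le_QQ η) a
  have ax := B.act_mul_right rV (w.tm.act hn)
  obtain ⟨M, M', m1, m0, m2, -, -, m3⟩ := inv7 (am_mem n hn) (B.unique (ax.mul ax) (xx ▸ Act.one))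
    fun e => q (by have := am_I4 n hn e; omega)
  obtain ⟨y, y1, y2⟩ := w.real M m1
  have ay : Act η (y⁻¹ * (η n * r * y)) b1M := ((y2.inv m2 (m7_lt m0)).mul (ax.mul y2)).of_eq m3
  have ap : Act η (η 16 * r) b1M := B.act_mul_right rV (am_16 ▸ w.tm.act (by norm_num))
  obtain ⟨O1, o1, o2⟩ := w.star
  have cQ : ∀ m < 128, η m ∈ C[QQ (cj t η)] := fun m hm =>
    centralizer_le (QQ_le_T0 _) (tp.le_C (th_T0 η hm))
  have yQ : y ∈ C[QQ (cj t η)] := centralizer_le (QQ_le_T0 _) y1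
  obtain ⟨u, hu, b, hb, o, ho, e⟩ := o2 _ (B.same' ap ay) (by
    simpa [mul_assoc] using mul_mem (mul_mem (mul_mem (inv_mem yQ) (cQ n hn))
      (C_conj (w.nQ h d2) yQ)) (inv_mem (cQ 16 (by norm_num))))
  obtain ⟨⟨p1, p2⟩, p3⟩ := (o1 o).1 ho
  have bZ := (tp.r.th_ZZ (n := b) (by omega)).2 hb
  have bS : cj t η b ∈ SS t η := mem_sup_right (ZZ_le_T0 _ bZ)
  have l : tm u 16 < 64 := (by decide +kernel : ∀ u < 16, tm u 16 < 64) u hu
  have e1 : y⁻¹ * (η n * r * y) = o * (η (tm u 16) * (cj t η b * r)) := by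
    rw [mul_inv_eq_iff_eq_mul.1 e, mul_assoc (η u), mem_C.1 p2 _ (ZZ_le_QQ _ bZ), ← mul_assoc,
      ← mul_assoc, mem_C.1 p1 _ (B.mem u hu), ← w.tm.mul u (by omega) 16 (by norm_num),
      mul_assoc (o * η u), ← tp.comm 16 (by norm_num) b (by omega)]
    group
  have r1 : cj t η b * r ∈ P := mul_mem (c.SP bS) rP
  have d3 : Ty t η (cj t η b * r) false false true := ((ty_S tp bS).mul d2).cast
  have uS : η (tm u 16) ∈ SS t η := mem_sup_left (th_T0 η (by omega))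
  have d4 : Ty t η (η (tm u 16) * (cj t η b * r)) false false true := ((ty_S tp uS).mul d3).cast
  have key := w.rd_low h (hN r1) d3 (mul_mem (centralizer_le (QQ_le_T0 η)
    (tp.symm.le_C (ZZ_le_T0 _ bZ))) a) l
  have pP := mul_mem (c.SP uS) r1
  generalize η (tm u 16) * (cj t η b * r) = p at e1 d4 key pP
  have x1 : o * p * (o * p) = 1 := by
    rw [← e1]; exact sq_of_conj (g := y⁻¹) (by rw [← xx]; group)
  have pp : p * p = 1 := by
    obtain ⟨l, hl⟩ := two_of_mem c.syl.isPGroup (mul_mem pP pP)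
    refine eq_one_of_odd_two ((o1 _).1 ?_).2 hl
    rw [eq_inv_of_mul_eq_one_right (show o * (p * o * p⁻¹) * (p * p) = 1 by rw [← x1]; group)]
    exact inv_mem (mul_mem ho ((o1 _).2 ⟨⟨C_conj (w.c2 h d4).1 p1, C_conj (w.nQ h d4) p2⟩, by
      rwa [← (MulAut.conj p).orderOf_eq o] at p3⟩))
  obtain ⟨g, -, e2⟩ := odd_dih pp x1 (by rwa [mul_assoc, pp, mul_one])
  obtain ⟨A, D, rd⟩ := key pp
  have := rd.conj (y * g)
  rw [show y * g * p * (y * g)⁻¹ = y * (g * p * g⁻¹) * y⁻¹ by group, e2, ← e1,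
    show y * (y⁻¹ * (η n * r * y)) * y⁻¹ = η n * r by group] at this
  exact ⟨_, _, this⟩

end Cfsg.Agent.H19.MW
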