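import Cfsg.Agent.H19.MWNt2

/-! # MW project: SK -/

set_option autoImplicit false
set_option maxRecDepth 100000
set_option synthInstance.maxSize 2048
open scoped Pointwise commutatorElement
open Subgroup

namespace Cfsg.Agent.H19.MW
open Cfsg.Agent.H24.MH Cfsg.Agent.H23.D2 Cfsg.Agent.H8
open Cfsg.Agent.H42 (tb cnt cnt_eq_card)

local notation "C[" A "]" => Subgroup.centralizer (SetLike.coe A)
local notation "N[" A "]" => Subgroup.normalizer (SetLike.coe A)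

universe u v
variable {G : Type*} [Group G]

theorem Cl.and {p q : ℕ → Bool} (hp : Cl p) (hq : Cl q) : Cl fun n => p n && q n :=
  ⟨by simp [hp.1, hq.1], fun n a m b c d => by
    rw [Bool.and_eq_true] at c d ⊢
    exact ⟨hp.2 n a m b c.1 d.1, hq.2 n a m b c.2 d.2⟩⟩

theorem sp_congr (θ : ℕ → G) {p q : ℕ → Bool} (h : ∀ n < 128, p n = q n) : sp θ p = sp θ q :=
  le_antisymm (sp_mono θ fun n a b => h n a ▸ b) (sp_mono θ fun n a b => (h n a).symm ▸ b)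

/-- the centre -/
def p2 (n : ℕ) : Bool := Nat.blt n 2

theorem cl_2 : Cl p2 := by decide +kernel
theorem p2_iff {n : ℕ} : p2 n = true ↔ n < 2 := by rw [p2, Nat.blt_eq]
theorem cent_out : ∀ a < 128, ¬ a < 64 → ∀ z < 4, tm z a = tm a z → z < 2 := by decide +kernel

namespace TP
variable {η ζ : ℕ → G} (h : TP η ζ)

/-- the projection to the first factor -/
def pj (E : Subgroup G) : Subgroup G where
  carrier := {x | ∃ a < 128, ∃ c < 128, η a * ζ c ∈ E ∧ η a = x}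
  mul_mem' := by
    rintro _ _ ⟨a, a1, c, c1, m, rfl⟩ ⟨a', a2, c', c2, m', rfl⟩
    exact ⟨_, tm_lt a a1 a' a2, _, tm_lt c c1 c' c2, h.mul a1 c1 a2 c2 ▸ mul_mem m m',
      (h.l.mul a a1 a' a2).symm⟩
  one_mem' := ⟨0, by norm_num, 0, by norm_num, by rw [h.l.zero, h.r.zero, mul_one]; exact one_mem _,
    h.l.zero⟩
  inv_mem' := by
    rintro _ ⟨a, a1, c, c1, m, rfl⟩
    exact ⟨_, iv_lt a a1, _, iv_lt c c1, h.inv a1 c1 ▸ inv_mem m, (h.l.inv a1).symm⟩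

theorem pj_le (E : Subgroup G) : h.pj E ≤ T0 η := by
  rintro _ ⟨a, a1, -, -, -, rfl⟩; exact th_T0 η a1

theorem pj_sq {E : Subgroup G} (hs : ∀ x ∈ E, x * x = 1) : ∀ x ∈ h.pj E, x * x = 1 := by
  rintro _ ⟨a, a1, c, c1, m, rfl⟩
  exact (h.l.sq_iff a1).2 ((h.sq_iff a1 c1).1 (hs _ m)).1

theorem le_pj {E : Subgroup G} (hE : E ≤ T0 η ⊔ T0 ζ) : E ≤ h.pj E ⊔ h.symm.pj E := fun x hx => by
  obtain ⟨a, a1, c, c1, rfl⟩ := h.mem_T.1 (hE hx)
  exact mul_mem (mem_sup_left ⟨a, a1, c, c1, hx, rfl⟩)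
    (mem_sup_right ⟨c, c1, a, a1, h.comm a a1 c c1 ▸ hx, rfl⟩)

include h

theorem e256 [Finite G] {E : Subgroup G} (hE : E ≤ T0 η ⊔ T0 ζ) (hs : ∀ x ∈ E, x * x = 1)
    (hc : 256 ≤ Nat.card E) : ∃ i j, E = sp η (pE i) ⊔ sp ζ (pE j) := by
  have h1 := card_le_of_le (h.le_pj hE)
  rw [h.card_sup (h.pj_le E) (h.symm.pj_le E)] at h1
  have h2 := h.l.elem_le (h.pj_le E) (h.pj_sq hs)
  have h3 := h.r.elem_le (h.symm.pj_le E) (h.symm.pj_sq hs)
  obtain ⟨i, hi⟩ : ∃ i, h.pj E = sp η (pE i) :=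
    (h.l.e16 (h.pj_le E) (h.pj_sq hs) (by nlinarith)).elim (fun e => ⟨false, e⟩) fun e => ⟨true, e⟩
  obtain ⟨j, hj⟩ : ∃ j, h.symm.pj E = sp ζ (pE j) :=
    (h.r.e16 (h.symm.pj_le E) (h.symm.pj_sq hs) (by nlinarith)).elim (fun e => ⟨false, e⟩)
      fun e => ⟨true, e⟩
  exact ⟨i, j, eq_of_le_of_card_ge (hi ▸ hj ▸ h.le_pj hE) (by rwa [h.card_W])⟩

theorem inf_sp {p q p' q' : ℕ → Bool} (hp : Cl p) (hq : Cl q) (hp' : Cl p') (hq' : Cl q') :
    (sp η p ⊔ sp ζ q) ⊓ (sp η p' ⊔ sp ζ q') =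
      sp η (fun n => p n && p' n) ⊔ sp ζ fun n => q n && q' n := by
  ext x
  rw [mem_inf, h.mem_sp (hp.and hp') (hq.and hq'), h.mem_sp hp hq]
  constructor
  · rintro ⟨⟨a, a1, c, c1, a2, c2, rfl⟩, m⟩
    rw [h.th_sp hp' hq' a1 c1] at m
    exact ⟨a, a1, c, c1, by simp [a2, m.1], by simp [c2, m.2], rfl⟩
  · rintro ⟨a, a1, c, c1, a2, c2, rfl⟩
    rw [Bool.and_eq_true] at a2 c2
    exact ⟨⟨a, a1, c, c1, a2.1, c2.1, rfl⟩, (h.th_sp hp' hq' a1 c1).2 ⟨a2.2, c2.2⟩⟩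

theorem card_inf_W (i j i' j' : Bool) :
    Nat.card ((sp η (pE i) ⊔ sp ζ (pE j)) ⊓ (sp η (pE i') ⊔ sp ζ (pE j')) : Subgroup G) =
      (if i = i' then 16 else 4) * if j = j' then 16 else 4 := by
  have k : ∀ i i', cnt (fun n => pE i n && pE i' n) 128 = if i = i' then 16 else 4 := by
    decide +kernel
  rw [h.inf_sp (cl_E _) (cl_E _) (cl_E _) (cl_E _),
    h.card_sp ((cl_E _).and (cl_E _)) ((cl_E _).and (cl_E _)), k, k]

theorem inf_l (i j : Bool) : (sp η (pE i) ⊔ sp ζ (pE j)) ⊓ (sp η (pE i) ⊔ sp ζ (pE !j)) =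
    sp η (pE i) ⊔ sp ζ pZ := by
  rw [h.inf_sp (cl_E _) (cl_E _) (cl_E _) (cl_E _), sp_congr η (q := pE i) (by simp),
    sp_congr ζ (q := pZ) (by cases j <;> decide +kernel)]

theorem inf_r (i j : Bool) : (sp η (pE i) ⊔ sp ζ (pE j)) ⊓ (sp η (pE !i) ⊔ sp ζ (pE j)) =
    sp η pZ ⊔ sp ζ (pE j) := by
  rw [h.inf_sp (cl_E _) (cl_E _) (cl_E _) (cl_E _), sp_congr ζ (q := pE j) (by simp),
    sp_congr η (q := pZ) (by cases i <;> decide +kernel)]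

theorem br {a c a' c' : ℕ} (ha : a < 128) (hc : c < 128) (ha' : a' < 128) (hc' : c' < 128) :
    ⁅η a * ζ c, η a' * ζ c'⁆ =
      η (tm (tm (tm a a') (iv a)) (iv a')) * ζ (tm (tm (tm c c') (iv c)) (iv c')) := by
  rw [commutatorElement_def, h.mul ha hc ha' hc', h.inv ha hc, h.inv ha' hc',
    h.mul (tm_lt _ ha _ ha') (tm_lt _ hc _ hc') (iv_lt _ ha) (iv_lt _ hc),
    h.mul (tm_lt _ (tm_lt _ ha _ ha') _ (iv_lt _ ha)) (tm_lt _ (tm_lt _ hc _ hc') _ (iv_lt _ hc))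
      (iv_lt _ ha') (iv_lt _ hc')]

theorem comm_X (i : Bool) : ⁅sp η (pE i) ⊔ sp ζ pZ, sp η (pE !i) ⊔ sp ζ pZ⁆ = ZZ η := by
  have key : ⁅sp η (pE false) ⊔ sp ζ pZ, sp η (pE true) ⊔ sp ζ pZ⁆ = ZZ η := by
    refine le_antisymm (commutator_le.2 fun x hx y hy => ?_) (sp_le fun n _ hn => ?_)
    · obtain ⟨a, a1, c, c1, a2, c2, rfl⟩ := (h.mem_sp (cl_E _) cl_Z).1 hx
      obtain ⟨a', b1, c', d1, b2, d2, rfl⟩ := (h.mem_sp (cl_E _) cl_Z).1 hy
      have k := (by decide +kernel : ∀ a < 16, ∀ a' < 64, tm (tm (tm a a') (iv a)) (iv a') < 4)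
        a (pE_false.1 a2) a' (pE_true.1 b2).1
      rw [h.br a1 c1 b1 d1, (by decide +kernel : ∀ c < 4, ∀ c' < 4,
        tm (tm (tm c c') (iv c)) (iv c') = 0) c (pZ_iff.1 c2) c' (pZ_iff.1 d2), h.r.zero, mul_one]
      exact (h.l.th_ZZ (by omega)).2 k
    · obtain ⟨a, a1, e⟩ := (by decide +kernel : ∀ n < 4, ∃ a < 16,
        tm (tm (tm a 16) (iv a)) (iv 16) = n) n (by simpa using hn)
      have := commutator_mem_commutator
        ((h.th_sp (cl_E false) cl_Z (a := a) (c := 0) (by omega) (by norm_num)).2 ⟨pE_false.2 a1, rfl⟩)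
        ((h.th_sp (cl_E true) cl_Z (a := 16) (c := 0) (by norm_num) (by norm_num)).2 ⟨rfl, rfl⟩)
      rwa [h.br (by omega) (by norm_num) (by norm_num) (by norm_num), e,
        show tm (tm (tm 0 0) (iv 0)) (iv 0) = 0 by decide +kernel, h.r.zero, mul_one] at this
  cases i
  · exact key
  · rw [commutator_comm]; exact key

theorem e64 [Finite G] {s : G} (hs : s ∈ T0 η ⊔ T0 ζ) (e : s * s = 1) :
    ∃ E ≤ T0 η ⊔ T0 ζ, s ∈ E ∧ (∀ y ∈ E, y * y = 1) ∧ 64 ≤ Nat.card E := by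
  obtain ⟨a, a1, c, c1, rfl⟩ := h.mem_T.1 hs
  rw [h.sq_iff a1 c1] at e
  obtain ⟨A, l1, s1, k1, m1⟩ := h.l.e8 (th_T0 η a1) ((h.l.sq_iff a1).2 e.1)
  obtain ⟨B, l2, s2, k2, m2⟩ := h.r.e8 (th_T0 ζ c1) ((h.r.sq_iff c1).2 e.2)
  refine ⟨A ⊔ B, sup_le_sup l1 l2, mul_mem (mem_sup_left m1) (mem_sup_right m2), fun y hy => ?_,
    by rw [h.card_sup l1 l2]; nlinarith⟩
  obtain ⟨x, hx, z, hz, rfl⟩ := (h.mem_sup l1 l2).1 hy
  rw [mul_assoc, ← mul_assoc z, ← h.comm' (l1 hx) (l2 hz), mul_assoc, s2 z hz, mul_one, s1 x hx]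

theorem le_two [Finite G] {E : Subgroup G} {q : ℕ → Bool} (hq : Cl q) (hE : E ≤ T0 η ⊔ sp ζ q) :
    Nat.card E ≤ 2 * Nat.card (E ⊓ (QQ η ⊔ sp ζ q) : Subgroup G) :=
  card_le_mul hE (sup_le_sup_right (QQ_le_T0 η) _) (by
    rw [h.card_sup le_rfl (sp_mono ζ fun _ _ _ => rfl),
      h.card_sup (QQ_le_T0 η) (sp_mono ζ fun _ _ _ => rfl), h.l.card_T0, h.l.card_QQ]; ring)

theorem le_two' [Finite G] {E : Subgroup G} {p : ℕ → Bool} (hp : Cl p) (hE : E ≤ sp η p ⊔ T0 ζ) :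
    Nat.card E ≤ 2 * Nat.card (E ⊓ (sp η p ⊔ QQ ζ) : Subgroup G) := by
  rw [sup_comm] at hE ⊢; exact h.symm.le_two hp hE

theorem le_four [Finite G] {E : Subgroup G} (hE : E ≤ T0 η ⊔ T0 ζ) :
    Nat.card E ≤ 4 * Nat.card (E ⊓ (QQ η ⊔ QQ ζ) : Subgroup G) :=
  card_le_mul hE (sup_le_sup (QQ_le_T0 η) (QQ_le_T0 ζ)) (by
    rw [h.card_sup le_rfl le_rfl, h.card_sup (QQ_le_T0 η) (QQ_le_T0 ζ), h.l.card_T0, h.l.card_QQ,
      h.r.card_T0, h.r.card_QQ])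

theorem rk4_aux [Finite G] {E : Subgroup G} (hE : E ≤ T0 η ⊔ T0 ζ) (hs : ∀ x ∈ E, x * x = 1)
    (hZ : E ⊓ (QQ η ⊔ QQ ζ) ≤ ZZ η ⊔ ZZ ζ) : Nat.card E ≤ 16 := by
  have key : ∀ {η ζ : ℕ → G}, TP η ζ → E ≤ T0 η ⊔ T0 ζ → E ⊓ (QQ η ⊔ QQ ζ) ≤ ZZ η ⊔ ZZ ζ →
      ¬ E ≤ QQ η ⊔ T0 ζ → E ⊓ (QQ η ⊔ QQ ζ) ≤ sp η p2 ⊔ ZZ ζ := fun {η ζ} h hE hZ n x hx => by
    obtain ⟨y, y1, y2⟩ := SetLike.not_le_iff_exists.1 n
    obtain ⟨a, a1, c, c1, rfl⟩ := h.mem_T.1 (hE y1)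
    obtain ⟨z, z1, w, w1, z2, w2, rfl⟩ := (h.mem_sp cl_Z cl_Z).1 (hZ hx)
    exact (h.th_sp cl_2 cl_Z z1 w1).2 ⟨p2_iff.2 (cent_out a a1
      (fun b => y2 ((h.th_sp cl_Q cl_T a1 c1).2 ⟨pQ_iff.2 b, rfl⟩)) z (pZ_iff.1 z2)
      ((h.comm_iff z1 w1 a1 c1).1 (comm_of_sq hs hx.1 y1)).1), w2⟩
  have k1 := fun n => key h hE hZ n
  have k2 := fun n => key h.symm (sup_comm (T0 η) _ ▸ hE)
    (by rw [sup_comm (QQ ζ), sup_comm (ZZ ζ)]; exact hZ) n
  rw [sup_comm (QQ ζ), sup_comm (QQ ζ), sup_comm (sp ζ p2)] at k2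
  have c2 : cnt p2 128 = 2 := by decide +kernel
  have c4 : cnt pZ 128 = 4 := by decide +kernel
  by_cases a : E ≤ QQ η ⊔ T0 ζ <;> by_cases b : E ≤ T0 η ⊔ QQ ζ
  · have e : E ≤ QQ η ⊔ QQ ζ := fun x hx => by
      obtain ⟨a', a1, c, c1, a2, -, rfl⟩ := (h.mem_sp cl_Q cl_T).1 (a hx)
      exact (h.th_sp cl_Q cl_Q a1 c1).2 ⟨a2, ((h.th_sp cl_T cl_Q a1 c1).1 (b hx)).2⟩
    have := card_le_of_le hZ
    rwa [inf_of_le_left e, show Nat.card (ZZ η ⊔ ZZ ζ : Subgroup G) = cnt pZ 128 * cnt pZ 128 from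
       h.card_sp cl_Z cl_Z,
      c4] at this
  · have h1 := h.le_two' cl_Q a
    have h2 := card_le_of_le (k2 b)
    rw [show Nat.card (ZZ η ⊔ sp ζ p2 : Subgroup G) = cnt pZ 128 * cnt p2 128 from
       h.card_sp cl_Z cl_2, c2, c4] at h2
    exact h1.trans (Nat.mul_le_mul_left 2 h2)
  · have h1 := h.le_two cl_Q b
    have h2 := card_le_of_le (k1 a)
    rw [show Nat.card (sp η p2 ⊔ ZZ ζ : Subgroup G) = cnt p2 128 * cnt pZ 128 from
       h.card_sp cl_2 cl_Z, c2, c4] at h2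
    exact h1.trans (Nat.mul_le_mul_left 2 h2)
  · have h1 := h.le_four hE
    have h2 := card_le_of_le (show E ⊓ (QQ η ⊔ QQ ζ) ≤ sp η p2 ⊔ sp ζ p2 from fun x hx => by
      obtain ⟨a', a1, c, c1, a2, -, rfl⟩ := (h.mem_sp cl_2 cl_Z).1 (k1 a hx)
      exact (h.th_sp cl_2 cl_2 a1 c1).2 ⟨a2, ((h.th_sp cl_Z cl_2 a1 c1).1 (k2 b hx)).2⟩)
    rw [h.card_sp cl_2 cl_2, c2] at h2
    omega

end TP

section tp
variable {t : G} {η : ℕ → G} (h : TP η (cj t η))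
include h

theorem ty_of [Finite G] {g : G} (hg : g ∈ N[SS t η]) : ∃ e a b, Ty t η g e a b := by
  have key : ∀ i j, ∃ p q, MulAut.conj g • (sp η (pE i) ⊔ sp (cj t η) (pE j)) =
      sp η (pE p) ⊔ sp (cj t η) (pE q) := fun i j => h.e256 (fun x hx => by
    simpa [mul_assoc, SS] using norm_conj hg (sup_le_sup (sp_mono η fun _ _ _ => rfl)
      (sp_mono _ fun _ _ _ => rfl) (mem_conj.1 hx))) (sq_conj (fun _ => h.sq_W) g)
      (by rw [card_conj, h.card_W])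
  choose p q e using key
  have c : ∀ i j i' j', ((if p i j = p i' j' then 16 else 4) * if q i j = q i' j' then 16 else 4) =
      (if i = i' then 16 else 4) * if j = j' then 16 else 4 := fun i j i' j' => by
    rw [← h.card_inf_W, ← h.card_inf_W, ← e, ← e, ← smul_inf, card_conj]
  have c1 := c false false true true
  have c2 := c false false false true
  have c3 := c false true true false
  have l : ∀ j, MulAut.conj g • XX t η false j = (sp η (pE (p j false)) ⊔ sp (cj t η) (pE (q j false))) ⊓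
      (sp η (pE (p j true)) ⊔ sp (cj t η) (pE (q j true))) := fun j => by
    rw [XX_false, ← h.inf_l j false, smul_inf, e, e]; rfl
  have r : ∀ j, MulAut.conj g • XX t η true j = (sp η (pE (p false j)) ⊔ sp (cj t η) (pE (q false j))) ⊓
      (sp η (pE (p true j)) ⊔ sp (cj t η) (pE (q true j))) := fun j => by
    rw [XX_true, ← h.inf_r false j, smul_inf, e, e]; rfl
  have f : ∀ a b c d : Bool,
      (((if a = c then 16 else 4) * if b = d then 16 else 4) = 16 → c = (!a) ∧ d = !b) ∧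
      (((if a = c then 16 else 4) * if b = d then 16 else 4) = 64 →
        (c = a ∧ d = !b) ∨ (c = (!a) ∧ d = b)) := by decide
  have e1 := (f _ _ _ _).1 c1
  have e3 := (f _ _ _ _).1 c3
  have e2 := (f _ _ _ _).2 c2
  rcases e2 with e2 | e2
  · refine ⟨false, p false false, q false false, fun j => ?_⟩
    rw [l, r, Bool.not_false, XX_false, XX_true]
    cases j <;> simp only [e1, e3, e2, Bool.not_not, Bool.false_xor, Bool.true_xor]
    · exact ⟨h.inf_l _ _, h.inf_r _ _⟩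
    · exact ⟨h.inf_l _ _, h.inf_r _ _⟩
  · refine ⟨true, q false false, p false false, fun j => ?_⟩
    rw [l, r, Bool.not_true, XX_false, XX_true]
    cases j <;> simp only [e1, e3, e2, Bool.not_not, Bool.false_xor, Bool.true_xor]
    · exact ⟨h.inf_r _ _, h.inf_l _ _⟩
    · exact ⟨h.inf_r _ _, h.inf_l _ _⟩

theorem ZZ_XX (e a : Bool) : ⁅XX t η e a, XX t η e !a⁆ = ZZ (bif e then cj t η else η) := by
  cases e
  · rw [XX_false, XX_false]; exact h.comm_X a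
  · rw [XX_true, XX_true, sup_comm, sup_comm (sp η pZ)]; exact h.symm.comm_X a

theorem ty_Z {g : G} {e a b : Bool} (k : Ty t η g e a b) :
    MulAut.conj g • ZZ η = ZZ (bif e then cj t η else η) ∧
    MulAut.conj g • ZZ (cj t η) = ZZ (bif e then η else cj t η) := by
  constructor
  · rw [← show _ = ZZ η from ZZ_XX h false false, commutator_conj_smul, (k _).1, (k _).1,
      ← ZZ_XX h e a]; simp
  · rw [← show _ = ZZ (cj t η) from ZZ_XX h true false, commutator_conj_smul, (k _).2, (k _).2]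
    have := ZZ_XX h (!e) b
    cases e <;> simpa using this

theorem cls (tt : t * t = 1) {s : G} (hs : s ∈ SS t η) (e : t * s * (t * s) = 1) :
    ∃ c ∈ SS t η, c * t * c⁻¹ = t * s := by
  obtain ⟨a, a1, c, c1, rfl⟩ := h.mem_T.1 hs
  have ti : t⁻¹ = t := inv_eq_of_mul_eq_one_right tt
  rw [← mul_assoc, show t * (η a * cj t η c) * t = t * (η a * cj t η c) * t⁻¹ by rw [ti],
    t_conj h tt a1 c1, h.mul c1 a1 a1 c1, h.eq_one (tm_lt _ c1 _ a1) (tm_lt _ a1 _ c1)] at e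
  refine ⟨η c, mem_sup_left (th_T0 η c1), ?_⟩
  rw [h.comm a a1 c c1, inv_eq_of_mul_eq_one_right (a := η c) (b := η a)
    (by rw [h.l.mul c c1 a a1, e.1, h.l.zero]), cj, ti, ← mul_assoc, ← mul_assoc, ← mul_assoc, tt,
    one_mul]

theorem cent_eq (tt : t * t = 1) {a c : ℕ} (a1 : a < 128) (c1 : c < 128)
    (e : η a * cj t η c * t = t * (η a * cj t η c)) : a = c := by
  have := t_conj h tt a1 c1
  rw [← e, mul_inv_cancel_right] at this
  exact (h.uniq a1 c1 c1 a1 this).1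

theorem opp_Z {x y : G} (k : Ty t η x false true true)
    (hy : y ∈ QQ η ⊔ QQ (cj t η)) (e : y * y = 1) (c : x * y * x⁻¹ * y⁻¹ ∈ ZH t η) : y ∈ ZH t η := by
  obtain ⟨i, j, m⟩ := h.invol_Q hy e
  have h1 := k.sup i j
  rw [XX_sup, XX_sup] at h1
  simp only [cond_false, Bool.xor_true] at h1
  refine h.opp m ?_
  have h2 : ZH t η ≤ sp η (pE !i) ⊔ sp (cj t η) (pE !j) :=
    sup_le_sup (sp_mono _ (by cases i <;> decide +kernel)) (sp_mono _ (by cases j <;> decide +kernel))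
  have h3 := mul_mem (inv_mem (h2 c)) (h1.le (conj_mem_conj.2 m))
  simpa [mul_assoc] using h3

end tp

namespace Wr
variable {t : G} {J O F : Subgroup G} {θ η : ℕ → G} (w : Wr t F θ η) (h : Ctx t J O θ)
include w h

theorem cent {s : G} (hs : s ∈ SS t η) (e : s * t = t * s) : s ∈ T0 θ := by
  obtain ⟨a, a1, c, c1, rfl⟩ := w.tp.mem_T.1 hs
  obtain rfl := cent_eq w.tp h.tt a1 c1 e
  rw [w.diag a a1]; exact th_T0 θ a1

theorem cent_E {i : Bool} {s : G} :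
    s ∈ sp θ (pE i) ↔ s ∈ sp η (pE i) ⊔ sp (cj t η) (pE i) ∧ s * t = t * s := by
  constructor
  · intro hs
    obtain ⟨a, a1, a2, rfl⟩ := (h.tm.mem_sp (cl_E i)).1 hs
    exact ⟨w.diag a a1 ▸ (w.tp.th_sp (cl_E i) (cl_E i) a1 a1).2 ⟨a2, a2⟩, h.th_t a1⟩
  · rintro ⟨hs, e⟩
    obtain ⟨a, a1, c, c1, a2, -, rfl⟩ := (w.tp.mem_sp (cl_E i) (cl_E i)).1 hs
    obtain rfl := cent_eq w.tp h.tt a1 c1 e
    rw [w.diag a a1]; exact th_mem_sp θ a1 a2

variable [Finite G]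

theorem nts {s : G} (hs : s ∈ SS t η) : ¬ IsConj t s := fun c => by
  obtain ⟨g, rfl⟩ := isConj_iff.1 c
  obtain ⟨E, -, a, b, d⟩ := w.tp.e64 hs (h.cj g).tt
  have := h.rank c a b
  omega

theorem NV {y : G} (ht : y * t = t * y) (hy : y ∈ N[(VV η ⊔ VV (cj t η) : Subgroup G)]) :
    y ∈ N[VV θ] := mem_N_of fun x hx => by
  obtain ⟨a, b⟩ := (w.cent_E h (i := false)).1 hx
  refine (w.cent_E h (i := false)).2 ⟨norm_conj hy a, ?_⟩
  have e : t = y * t * y⁻¹ := by rw [ht]; group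
  rw [e, comm_conj_iff, b]

theorem ker2 {R : Subgroup G} (hR : IsPGroup 2 R) (h1 : SS t η ⊔ zpowers t ≤ R)
    (h2 : R ≤ N[(VV η ⊔ VV (cj t η) : Subgroup G)]) : R ≤ SS t η ⊔ zpowers t := by
  haveI : Fact (Nat.Prime 2) := ⟨Nat.prime_two⟩
  by_contra hne
  obtain ⟨y, ⟨y1, y2⟩, y3⟩ := SetLike.exists_of_lt
    (lt_inf_normalizer_of_lt hR (lt_of_le_of_ne h1 fun e => hne e.ge))
  have tN := t_NS (η := η) h.tt
  have mt : t ∈ SS t η ⊔ zpowers t := mem_sup_right (mem_zpowers t)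
  have a := ((mem_sup_t h.tt tN).1 (norm_conj y2 mt)).resolve_left fun b =>
    w.nts h b (isConj_iff.2 ⟨y, rfl⟩)
  have e1 : t * (t⁻¹ * (y * t * y⁻¹ * t) * t) = y * t * y⁻¹ := by
    rw [mul_assoc t⁻¹, mul_assoc _ t t, h.tt]; group
  obtain ⟨c, c1, c2⟩ := cls w.tp h.tt (norm_conj' tN a) (by rw [e1]; exact (h.cj y).tt)
  rw [e1] at c2
  have c3 : c⁻¹ * y * t = t * (c⁻¹ * y) := by
    calc _ = c⁻¹ * (y * t * y⁻¹) * y := by group
      _ = _ := by rw [← c2]; group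
  have mc : c ∈ SS t η ⊔ zpowers t := mem_sup_left c1
  have c4 : c⁻¹ * y ∈ R := mul_mem (inv_mem (h1 mc)) y1
  have c5 := mul_mem (le_normalizer (inv_mem mc)) y2
  refine y3 ((mul_mem_cancel_left (inv_mem mc)).1 ?_)
  generalize c⁻¹ * y = z at c3 c4 c5
  have c6 : z ∈ N[T0 θ] := mem_N_of fun x hx => by
    have m := norm_conj (h.NJ z c3) (h.T0_le hx)
    rcases (mem_sup_t h.tt tN).1 (norm_conj c5 (mem_sup_left (w.T0_le hx))) with b | b
    · exact w.cent h b (h.JC _ m)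
    · exact (h.mul_nm m (h.T0_le (w.cent h b (by rw [h.JC _ m, mul_assoc, h.JC _ m])))).elim
  rcases h.pos c3 c6 (two_of_mem hR c4) with b | b | b
  · exact mem_sup_left (w.T0_le b)
  · exact (mem_sup_t h.tt tN).2 (Or.inr (w.T0_le b))
  · exact (b (w.NV h c3 (h2 c4))).elim

end Wr

theorem Ty.NW {t g : G} {η : ℕ → G} {e : Bool} (k : Ty t η g e false false) :
    g ∈ N[(VV η ⊔ VV (cj t η) : Subgroup G)] := by
  have := k.sup false false
  rw [mem_N_iff, ← W00_eq, this]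
  cases e <;> rfl

theorem sk : SkStmt.{u} := by
  intro G _ _ t J O F P θ η c
  have h := c.ctx
  have w := c.wr
  refine ⟨fun g hg => ty_of w.tp hg, fun g hg k => ?_, fun s hs => w.nts h hs,
    fun s hs => cls w.tp h.tt hs, fun s hs => w.cent h hs, fun E a b d => ?_,
    fun g _ e a b k => ty_Z w.tp k, fun x _ k E a b d => w.tp.rk4_aux a b fun y hy =>
      opp_Z w.tp k hy.2 (b y hy.1) (by rw [← d y hy.1]; simp)⟩
  · refine ((mem_sup_t h.tt (t_NS h.tt)).1 (w.ker2 h (c.syl.isPGroup.to_inf_left) (le_inf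
      (sup_le c.SP (zpowers_le.2 c.tP)) (sup_le (fun s hs => (ty_S w.tp hs).NW)
        (zpowers_le.2 (ty_t h.tt η).NW))) inf_le_right ⟨hg, k.NW⟩)).resolve_right fun a => ?_
    simpa using (ty_unique w.tp (ty_S w.tp a) (k.mul (ty_t h.tt η))).1
  · simpa only [XX_sup] using w.tp.e256 a b d

theorem eqns_MWSk : True := by
  have := @p2.eq_1
  have := @TP.pj.eq_1.{0}
  trivial

end Cfsg.Agent.H19.MW
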