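import Cfsg.Agent.H19.MWSk

/-! # MW project: SQ and OUT -/

set_option autoImplicit false
set_option maxRecDepth 100000
set_option synthInstance.maxSize 2048
open scoped Pointwise commutatorElement
open Subgroup

namespace Cfsg.Agent.H19.MW
open Cfsg.Agent.H24.MH Cfsg.Agent.H23.D2 Cfsg.Agent.H8
open Cfsg.Agent.H42 (tb cnt cnt_eq_card)

local notation "C[" A "]" => Subgroup.centralizer (SetLike.coe A)
local notation "N[" A "]" => Subgroup.normalizer (SetLike.coe A)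

universe u v
variable {G : Type*} [Group G]

/-- a set of types closed under the group operations -/
def TCl (p : Bool → Bool → Bool → Bool) : Prop :=
  p false false false = true ∧ (∀ e a b, p e a b = true → p e (bif e then b else a) (bif e then a else b) = true) ∧
  ∀ e a b e' a' b', p e a b = true → p e' a' b' = true →
    p (xor e e') (xor a' (bif e' then b else a)) (xor b' (bif e' then a else b)) = true

instance (p : Bool → Bool → Bool → Bool) : Decidable (TCl p) := by unfold TCl; infer_instance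

/-- the elements whose type satisfies `p` -/
def tyS (t : G) (η : ℕ → G) (p : Bool → Bool → Bool → Bool) (hp : TCl p) : Subgroup G where
  carrier := {g | ∃ e a b, p e a b = true ∧ Ty t η g e a b}
  mul_mem' := fun ⟨_, _, _, x, y⟩ ⟨_, _, _, z, w⟩ => ⟨_, _, _, hp.2.2 _ _ _ _ _ _ x z, y.mul w⟩
  one_mem' := ⟨_, _, _, hp.1, ty_one t η⟩
  inv_mem' := fun ⟨_, _, _, x, y⟩ => ⟨_, _, _, hp.2.1 _ _ _ x, y.inv⟩

theorem Ty.cast {t g : G} {η : ℕ → G} {e a b e' a' b' : Bool} (k : Ty t η g e a b)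
    (h : e = e' ∧ a = a' ∧ b = b' := by decide) : Ty t η g e' a' b' := by
  obtain ⟨rfl, rfl, rfl⟩ := h; exact k

theorem mem_tyS {t g : G} {η : ℕ → G} {p : Bool → Bool → Bool → Bool} {hp : TCl p} :
    g ∈ tyS t η p hp ↔ ∃ e a b, p e a b = true ∧ Ty t η g e a b := Iff.rfl

theorem ty_two [Finite G] {t : G} {η : ℕ → G} {p q : Bool → Bool → Bool → Bool} (hq : TCl q)
    (h : ∀ e a b e' a' b', p e a b = true → p e' a' b' = true → q e a b = false → q e' a' b' = false →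
      q (xor e e') (xor a' (bif e' then b else a)) (xor b' (bif e' then a else b)) = true)
    {X : Subgroup G} (hX : ∀ x ∈ X, ∃ e a b, p e a b = true ∧ Ty t η x e a b) :
    Nat.card X ≤ 2 * Nat.card (X ⊓ tyS t η q hq : Subgroup G) :=
  card_le_two fun x hx y hy nx ny => by
    obtain ⟨e, a, b, c, d⟩ := hX x hx
    obtain ⟨e', a', b', c', d'⟩ := hX y hy
    exact ⟨_, _, _, h _ _ _ _ _ _ c c' (Bool.eq_false_iff.2 fun z => nx ⟨_, _, _, z, d⟩)
      (Bool.eq_false_iff.2 fun z => ny ⟨_, _, _, z, d'⟩), d.mul d'⟩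

namespace TP
variable {η ζ : ℕ → G} (h : TP η ζ)
include h

theorem card_le [Finite G] {E : Subgroup G} (hE : E ≤ T0 η ⊔ T0 ζ) {p q : ℕ → Bool}
    (k : ∀ a < 128, ∀ c < 128, η a * ζ c ∈ E → p a = true ∧ q c = true) :
    Nat.card E ≤ cnt p 128 * cnt q 128 := by
  have h1 := card_le_of_le (h.le_pj hE)
  rw [h.card_sup (h.pj_le E) (h.symm.pj_le E)] at h1
  refine h1.trans (Nat.mul_le_mul (h.l.card_le (h.pj_le E) ?_) (h.r.card_le (h.symm.pj_le E) ?_))
  · rintro n hn ⟨a, a1, c, c1, m, e⟩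
    exact h.l.inj _ a1 _ hn e ▸ (k a a1 c c1 m).1
  · rintro n hn ⟨c, c1, a, a1, m, e⟩
    exact h.r.inj _ c1 _ hn e ▸ (k a a1 c c1 (h.comm a a1 c c1 ▸ m)).2

theorem W_inj {i j i' j' : Bool} (e : sp η (pE i) ⊔ sp ζ (pE j) = sp η (pE i') ⊔ sp ζ (pE j')) :
    i = i' ∧ j = j' := by
  have := h.card_inf_W i j i' j'
  rw [← e, inf_idem, h.card_W] at this
  revert this
  cases i <;> cases j <;> cases i' <;> cases j' <;> decide

theorem W_le (i j : Bool) : sp η (pE i) ⊔ sp ζ (pE j) ≤ T0 η ⊔ T0 ζ :=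
  sup_le_sup (sp_mono η fun _ _ _ => rfl) (sp_mono ζ fun _ _ _ => rfl)

theorem sq_aux [Finite G] {E : Subgroup G} (hE : E ≤ T0 η ⊔ T0 ζ) (hs : ∀ x ∈ E, x * x = 1)
    (hc : 128 ≤ Nat.card E) {i : Bool} (hX : E ⊓ (QQ η ⊔ QQ ζ) ≤ sp η (pE i) ⊔ sp ζ pZ) : False := by
  have c4 : cnt pZ 128 = 4 := by decide +kernel
  have c64 := h.card_sp (cl_E i) cl_Z
  rw [cnt_E, c4] at c64
  by_cases a : E ≤ QQ η ⊔ T0 ζ
  · have h1 : Nat.card E ≤ 2 * Nat.card (E ⊓ (QQ η ⊔ QQ ζ) : Subgroup G) := h.le_two' cl_Q a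
    have e := eq_of_le_of_card_ge hX (by omega)
    have m := (e.ge ((h.th_sp (cl_E i) cl_Z (a := 0) (c := 2) (by norm_num) (by norm_num)).2
      ⟨(cl_E i).1, rfl⟩)).1
    have : E ≤ QQ η ⊔ QQ ζ := fun x hx => by
      obtain ⟨a', a1, c, c1, a2, -, rfl⟩ := (h.mem_sp cl_Q cl_T).1 (a hx)
      exact (h.th_sp cl_Q cl_Q a1 c1).2 ⟨a2, pQ_iff.2 (comm_two c c1 ((h.comm_iff a1 c1
        (by norm_num) (by norm_num)).1 (comm_of_sq hs hx m)).2)⟩
    rw [inf_of_le_left this] at e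
    rw [e] at hc
    omega
  obtain ⟨y, y1, y2⟩ := SetLike.not_le_iff_exists.1 a
  obtain ⟨a, a1, c, c1, rfl⟩ := h.mem_T.1 (hE y1)
  have h1 := h.le_four hE
  have h2 := h.card_le (E := E ⊓ (QQ η ⊔ QQ ζ)) (inf_le_left.trans hE)
    (p := fun n => pE i n && Nat.beq (tm n a) (tm a n)) (q := pZ) fun n hn m hm k => by
      have := (h.th_sp (cl_E i) cl_Z hn hm).1 (hX k)
      rw [Bool.and_eq_true, Nat.beq_eq]
      exact ⟨⟨this.1, ((h.comm_iff hn hm a1 c1).1 (comm_of_sq hs k.1 y1)).1⟩, this.2⟩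
  have h3 := (by decide +kernel : ∀ i, ∀ a < 128, ¬ a < 64 →
    cnt (fun n => pE i n && Nat.beq (tm n a) (tm a n)) 128 ≤ 4) i a a1
    fun b => y2 ((h.th_sp cl_Q cl_T a1 c1).2 ⟨pQ_iff.2 b, rfl⟩)
  rw [c4] at h2
  omega

end TP

section tp
variable {t : G} {η : ℕ → G} (h : TP η (cj t η))
include h

theorem ty_sq {x : G} {e a b : Bool} (k : Ty t η x e a b) (xx : x * x = 1) : e = true → a = b := by
  have := ty_unique h (k.mul k) (xx ▸ ty_one t η)
  revert this
  cases e <;> cases a <;> cases b <;> decide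

theorem Ty.W {x : G} {e a b : Bool} (k : Ty t η x e a b) (i j : Bool) :
    MulAut.conj x • (sp η (pE i) ⊔ sp (cj t η) (pE j)) =
      sp η (pE (bif e then xor j b else xor i a)) ⊔
        sp (cj t η) (pE (bif e then xor i a else xor j b)) := by
  rw [← XX_sup, k.sup, XX_sup]

/-- an element interchanging the factors fixes at most 16 elements of each `W` -/
theorem fix16 [Finite G] {x : G} {a b : Bool} (k : Ty t η x true a b) {E : Subgroup G} {i j : Bool}
    (hE : E ≤ sp η (pE i) ⊔ sp (cj t η) (pE j)) (hc : ∀ y ∈ E, y * x = x * y) : Nat.card E ≤ 16 := by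
  have c4 : cnt pZ 128 = 4 := by decide +kernel
  have fx : ∀ A : Subgroup G, ∀ y ∈ E, y ∈ A → y ∈ MulAut.conj x • A := fun A y hy m => by
    rwa [mem_conj, mul_assoc, hc y hy, inv_mul_cancel_left]
  have h1 := card_le_mul hE (V := sp η (pE i) ⊔ sp (cj t η) pZ) (k := 4)
    (sup_le_sup_left (sp_mono _ (by cases j <;> decide +kernel)) _)
    (by rw [h.card_W, h.card_sp (cl_E i) cl_Z, cnt_E, c4])
  have l : E ⊓ (sp η (pE i) ⊔ sp (cj t η) pZ) ≤ sp η pZ ⊔ sp (cj t η) pZ := fun y hy => by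
    have m := fx _ y hy.1 hy.2
    rw [← XX_false, (k i).1, XX_true] at m
    obtain ⟨u, u1, v, v1, -, v2, rfl⟩ := (h.mem_sp (cl_E i) cl_Z).1 hy.2
    exact (h.th_sp cl_Z cl_Z u1 v1).2 ⟨((h.th_sp cl_Z (cl_E _) u1 v1).1 m).1, v2⟩
  have h2 := card_le_mul l (V := ZZ η) (k := 4) le_sup_left
    (by rw [h.card_sp cl_Z cl_Z, h.l.card_ZZ, c4])
  have h3 : E ⊓ (sp η (pE i) ⊔ sp (cj t η) pZ) ⊓ ZZ η = ⊥ := le_bot_iff.1 fun y hy => by
    have m := fx _ y hy.1.1 hy.2
    rw [(ty_Z h k).1] at m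
    exact h.disj' (ZZ_le_T0 _ hy.2) (ZZ_le_T0 _ m)
  rw [h3, card_bot] at h2
  omega

end tp

namespace SK
variable [Finite G] {t : G} {P : Subgroup G} {θ η : ℕ → G} (k : SK t P θ η)
include k

theorem inf_le {X : Subgroup G} (hX : X ≤ P) {hq : TCl fun e a b => !e && !a && !b} :
    X ⊓ tyS t η _ hq ≤ X ⊓ SS t η := by
  rintro x ⟨hx, e, a, b, c, d⟩
  exact ⟨hx, k.ker x (hX hx) (d.cast (by clear d; revert e a b; decide))⟩

theorem le_eight {X : Subgroup G} (hX : X ≤ P) (hN : X ≤ N[SS t η]) :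
    Nat.card X ≤ 8 * Nat.card (X ⊓ SS t η : Subgroup G) := by
  have h1 := ty_two (t := t) (η := η) (p := fun _ _ _ => true) (q := fun e _ _ => !e) (by decide)
    (by decide) (X := X) fun x hx => by simpa using k.ty x (hN hx)
  have h2 := ty_two (t := t) (η := η) (p := fun e _ _ => !e) (q := fun e a _ => !e && !a)
    (by decide) (by decide) (X := X ⊓ tyS t η (fun e _ _ => !e) (by decide)) fun x hx => hx.2
  have h3 := ty_two (t := t) (η := η) (p := fun e a _ => !e && !a)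
    (q := fun e a b => !e && !a && !b) (by decide) (by decide)
    (X := X ⊓ tyS t η (fun e _ _ => !e) (by decide) ⊓ tyS t η (fun e a _ => !e && !a) (by decide))
    fun x hx => hx.2
  have h4 := card_le_of_le ((k.inf_le ((inf_le_left.trans inf_le_left).trans hX) (hq := by decide)
    (X := X ⊓ tyS t η (fun e _ _ => !e) (by decide) ⊓ tyS t η (fun e a _ => !e && !a)
      (by decide))).trans (inf_le_inf_right _ (inf_le_left.trans inf_le_left)))
  omega

theorem e256_le (h : TP η (cj t η)) {E : Subgroup G} (hP : E ≤ P) (hN : E ≤ N[SS t η])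
    (hs : ∀ x ∈ E, x * x = 1) (hc : 256 ≤ Nat.card E) : E ≤ SS t η := by
  by_cases c : ∃ x ∈ E, Ty t η x false true true
  · obtain ⟨x, hx, c⟩ := c
    have h1 := k.rk4 x (hN hx) c (E ⊓ SS t η) inf_le_right (fun y hy => hs y hy.1)
      fun y hy => comm_of_sq hs hy.1 hx
    have h2 := k.le_eight hP hN
    omega
  push Not at c
  by_contra n
  obtain ⟨x, hx, nx⟩ := SetLike.not_le_iff_exists.1 n
  have h1 : Nat.card E ≤ 2 * Nat.card (E ⊓ SS t η : Subgroup G) :=
    card_le_two fun y hy z hz ny nz => by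
      obtain ⟨e, a, b, d⟩ := k.ty y (hN hy)
      obtain ⟨e', a', b', d'⟩ := k.ty z (hN hz)
      have s1 := ty_sq h d (hs y hy)
      have s2 := ty_sq h d' (hs z hz)
      have s3 := ty_sq h (d.mul d') (hs _ (mul_mem hy hz))
      have n1 := fun x => c y hy (d.cast x)
      have n2 := fun x => c z hz (d'.cast x)
      have n3 := fun x => c _ (mul_mem hy hz) ((d.mul d').cast x)
      have n4 := fun x => ny (k.ker y (hP hy) (d.cast x))
      have n5 := fun x => nz (k.ker z (hP hz) (d'.cast x))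
      refine k.ker _ (hP (mul_mem hy hz)) ((d.mul d').cast ?_)
      clear d d'
      revert e a b e' a' b'
      decide
  have s1 : ∀ y ∈ E ⊓ SS t η, y * y = 1 := fun y hy => hs y hy.1
  have h2 := h.le_four (inf_le_right : E ⊓ SS t η ≤ _)
  obtain ⟨i, j, l⟩ := h.elem_Q (inf_le_right : E ⊓ SS t η ⊓ _ ≤ _) fun y hy => s1 y hy.1
  have cx : ∀ y ∈ E ⊓ SS t η ⊓ (QQ η ⊔ QQ (cj t η)), y * x = x * y := fun y hy =>
    comm_of_sq hs hy.1.1 hx
  obtain ⟨e, a, b, d⟩ := k.ty x (hN hx)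
  cases e
  swap
  · have := fix16 h d l cx
    omega
  have l2 : E ⊓ SS t η ⊓ (QQ η ⊔ QQ (cj t η)) ≤ sp η (pE (xor i a)) ⊔ sp (cj t η) (pE (xor j b)) :=
    fun y hy => (d.W h i j).le (by
      rw [mem_conj, mul_assoc, cx y hy, inv_mul_cancel_left]; exact l hy)
  have l3 := le_inf l l2
  cases a <;> cases b
  · exact nx (k.ker x (hP hx) d)
  · rw [Bool.xor_false, Bool.xor_true, h.inf_l] at l3
    exact h.sq_aux (E := E ⊓ SS t η) inf_le_right s1 (by omega) l3
  · rw [Bool.xor_false, Bool.xor_true, h.inf_r, sup_comm, sup_comm (sp η pZ)] at l3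
    exact h.symm.sq_aux (E := E ⊓ SS t η) (inf_le_right.trans (sup_comm _ _).le) s1 (by omega) l3
  · exact c x hx d

end SK

theorem sq : SqStmt.{u} := by
  intro G _ _ t J O F P θ η c k
  haveI : Fact (Nat.Prime 2) := ⟨Nat.prime_two⟩
  have h := c.wr.tp
  by_contra n
  obtain ⟨g, ⟨g1, g2⟩, g3⟩ := SetLike.exists_of_lt (lt_inf_normalizer_of_lt c.syl.isPGroup
    (lt_of_le_of_ne (inf_le_left : P ⊓ N[SS t η] ≤ P) fun e => n (e.ge.trans inf_le_right)))
  have SN : SS t η ≤ P ⊓ N[SS t η] := le_inf c.SP le_normalizer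
  refine g3 ⟨g1, mem_N_of fun s hs => ?_⟩
  have m := norm_conj g2 (SN hs)
  obtain ⟨e, a, b, d⟩ := k.ty _ m.2
  have key : ∀ i j, MulAut.conj (g * s * g⁻¹) • (sp η (pE i) ⊔ sp (cj t η) (pE j)) =
      sp η (pE i) ⊔ sp (cj t η) (pE j) := fun i j => by
    have l : MulAut.conj g⁻¹ • (sp η (pE i) ⊔ sp (cj t η) (pE j)) ≤ P ⊓ N[SS t η] := fun x hx => by
      simpa [mul_assoc] using norm_conj' g2 (SN (h.W_le i j (mem_conj.1 hx)))
    have s1 := sq_conj (fun _ => h.sq_W (i := i) (j := j)) g⁻¹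
    have c1 : 256 ≤ Nat.card (MulAut.conj g⁻¹ • (sp η (pE i) ⊔ sp (cj t η) (pE j)) : Subgroup G) := by
      rw [card_conj, h.card_W]
    obtain ⟨p, q, e⟩ := h.e256 (k.e256_le h (l.trans inf_le_left) (l.trans inf_le_right) s1 c1) s1 c1
    have e2 := (ty_S h hs).W h p q
    simp only [cond_false, Bool.xor_false] at e2
    rw [← conj_smul_conj_smul, e, ← conj_smul_conj_smul, e2, ← e, conj_smul_conj_inv_smul]
  have h1 := h.W_inj ((d.W h false false).symm.trans (key false false))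
  have h2 := h.W_inj ((d.W h false true).symm.trans (key false true))
  refine k.ker _ m.1 (d.cast ?_)
  clear d
  revert e a b
  decide

theorem EC.cent_t [Finite G] {t : G} {J O F P : Subgroup G} {θ η : ℕ → G} (c : EC t J O F P θ η)
    (k : SK t P θ η) {x : G} (hx : x ∈ P) {e a : Bool} (d : Ty t η x e a a) :
    ∃ s ∈ SS t η, s * x * t = t * (s * x) := by
  have h := c.ctx
  have m := k.ker (t⁻¹ * (x * t * x⁻¹))
    (mul_mem (inv_mem c.tP) (mul_mem (mul_mem hx c.tP) (inv_mem hx))) (by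
      exact ((ty_t h.tt η).inv.mul ((d.mul (ty_t h.tt η)).mul d.inv)).cast
        (by cases e <;> cases a <;> decide))
  obtain ⟨s, s1, s2⟩ := k.cls _ m (by rw [mul_inv_cancel_left]; exact (h.cj x).tt)
  rw [mul_inv_cancel_left] at s2
  refine ⟨s⁻¹, inv_mem s1, ?_⟩
  calc _ = s⁻¹ * (x * t * x⁻¹) * x := by group
    _ = _ := by rw [← s2]; group

theorem out : OutStmt.{u} := by
  intro G _ _ t J O F P θ η c k hN x hx e d
  have h := c.ctx
  have tp := c.wr.tp
  obtain ⟨y, y1, y2, y3⟩ : ∃ y ∈ P, y * t = t * y ∧ Ty t η y false true true := by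
    obtain ⟨s, s1, s2⟩ := c.cent_t k hx d
    have d1 := (ty_S tp s1).mul d
    cases e
    · exact ⟨_, mul_mem (c.SP s1) hx, s2, d1.cast⟩
    · exact ⟨_, mul_mem (mul_mem (c.SP s1) hx) c.tP, by rw [s2, mul_assoc t, s2],
        (d1.mul (ty_t h.tt η)).cast⟩
  have ct : ∀ a, a * t = t * a → y * a * y⁻¹ * t = t * (y * a * y⁻¹) := fun a b => by
    have e : t = y * t * y⁻¹ := by rw [y2]; group
    rw [e, comm_conj_iff, b]
  have e1 : MulAut.conj y • VV θ = UU θ := eq_of_le_of_card_ge (fun z hz => by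
    obtain ⟨a, b⟩ := (c.wr.cent_E h (i := false)).1 (mem_conj.1 hz)
    have := (c.wr.cent_E h (i := true)).2 ⟨(y3.W tp false false).le (conj_mem_conj.2 a), ct _ b⟩
    simpa [mul_assoc, sp_E] using this) (by rw [card_conj, h.tm.card_VV, h.tm.card_UU])
  have yT : y ∈ N[T0 θ] := mem_N_of fun z hz =>
    k.cent _ (norm_conj (hN y1) (c.wr.T0_le hz)) (ct _ (h.JC z (h.T0_le hz)))
  obtain ⟨m, hm, em⟩ := h.tm.mem_T0.1 (inv_mem (k.cent _ (k.ker _ (mul_mem y1 y1) (y3.mul y3).cast)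
    (by rw [mul_assoc, y2, ← mul_assoc, y2, mul_assoc])))
  obtain ⟨n, hn, tr⟩ := h.inv y (h.NJ y y2) (h.NO y y2) yT
    (fun a => h.tm.V_ne_U ((mem_N_iff.1 a).symm.trans e1)) m hm
    (by rw [em, inv_mul_cancel]; exact triv_one J O)
  have nS := c.wr.T0_le (th_T0 θ hn)
  have z1 := mul_mem (c.SP nS) y1
  have z2 : θ n * y * t = t * (θ n * y) := by rw [mul_assoc, y2, ← mul_assoc, h.th_t hn, mul_assoc]
  have z3 : Ty t η (θ n * y) false true true := ((ty_S tp nS).mul y3).cast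
  have z4 : MulAut.conj (θ n * y) • VV θ = UU θ := by
    rw [← conj_smul_conj_smul, e1, mem_N_iff.1 (h.tm.T0_le_NU (th_T0 θ hn))]
  generalize θ n * y = z at tr z1 z2 z3 z4
  refine ⟨z, z1, ?_, z2, z3, fun a => h.not_conj a z4, fun a => h.not_conj a (by
    rw [← conj_smul_conj_smul, mem_N_iff.1 (C_le_N h.t_CV), z4]), z4⟩
  rcases h.tr _ (by rw [mul_assoc, z2, ← mul_assoc, z2, mul_assoc]) tr with a | a
  · obtain ⟨l, hl⟩ := two_of_mem c.syl.isPGroup (mul_mem z1 z1)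
    exact eq_one_of_odd_two (odd_of_mem h.odd a) hl
  · obtain ⟨l, hl⟩ := two_of_mem c.syl.isPGroup (mul_mem (mul_mem z1 z1) c.tP)
    have := ty_unique tp ((z3.mul z3).mul (ty_t h.tt η))
      (eq_one_of_odd_two (odd_of_mem h.odd a) hl ▸ ty_one t η)
    simp at this

theorem eqns_MWSq : True := by
  have := @TCl.eq_1
  have := @tyS.eq_1.{0}
  trivial

end Cfsg.Agent.H19.MW
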