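import Cfsg.Agent.H19.MWStart

/-! # MW project: the endomorphism kit, TYPE and FUS -/

set_option autoImplicit false
set_option maxRecDepth 100000
set_option synthInstance.maxSize 2048
open scoped Pointwise commutatorElement
open Subgroup

namespace Cfsg.Agent.H19.MW
open Cfsg.Agent.H24.MH Cfsg.Agent.H23.D2 Cfsg.Agent.H8
open Cfsg.Agent.H42 (tb cnt cnt_eq_card)

local notation "C[" A "]" => Subgroup.centralizer (SetLike.coe A)
local notation "N[" A "]" => Subgroup.normalizer (SetLike.coe A)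

universe u v
variable {G : Type*} [Group G]

section End
open scoped IsMulCommutative
variable (W : Subgroup G) [IsMulCommutative W]

open Classical in
/-- an element of `W`, additively -/
noncomputable def el (w : G) : Additive W := if h : w ∈ W then Additive.ofMul ⟨w, h⟩ else 0

/-- the underlying group element -/
def vl (x : Additive W) : G := (x.toMul : G)

open Classical in
/-- conjugation as an additive endomorphism -/
noncomputable def ro (g : G) : Module.End ℤ (Additive W) :=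
  if h : g ∈ N[W] then
    (MonoidHom.toAdditive (W.normalizerMonoidHom ⟨g, h⟩).toMonoidHom).toIntLinearMap else 1

variable {W}

omit [IsMulCommutative W] in
theorem vl_mem (x : Additive W) : vl W x ∈ W := x.toMul.2
omit [IsMulCommutative W] in
theorem vl_inj {x y : Additive W} (h : vl W x = vl W y) : x = y :=
  Additive.toMul.injective (Subtype.ext h)
omit [IsMulCommutative W] in
theorem vl_el {w : G} (h : w ∈ W) : vl W (el W w) = w := by rw [el, dif_pos h]; rfl
omit [IsMulCommutative W] in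
theorem el_vl (x : Additive W) : el W (vl W x) = x := vl_inj (vl_el (vl_mem x))
omit [IsMulCommutative W] in
theorem vl_add (x y : Additive W) : vl W (x + y) = vl W x * vl W y := rfl
omit [IsMulCommutative W] in
theorem vl_zero : vl W 0 = 1 := rfl
omit [IsMulCommutative W] in
theorem el_mul {a b : G} (ha : a ∈ W) (hb : b ∈ W) : el W (a * b) = el W a + el W b :=
  vl_inj (by rw [vl_add, vl_el ha, vl_el hb, vl_el (mul_mem ha hb)])
omit [IsMulCommutative W] in
theorem el_one : el W (1 : G) = 0 := vl_inj (vl_el (one_mem W))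
omit [IsMulCommutative W] in
theorem el_inj {a b : G} (ha : a ∈ W) (hb : b ∈ W) (e : el W a = el W b) : a = b := by
  rw [← vl_el ha, e, vl_el hb]

theorem vl_ro {g : G} (h : g ∈ N[W]) (x : Additive W) : vl W (ro W g x) = g * vl W x * g⁻¹ := by
  rw [ro, dif_pos h]; rfl

theorem ro_el {g w : G} (h : g ∈ N[W]) (hw : w ∈ W) : ro W g (el W w) = el W (g * w * g⁻¹) :=
  vl_inj (by rw [vl_ro h, vl_el hw, vl_el (norm_conj h hw)])

theorem ro_mul {a b : G} (ha : a ∈ N[W]) (hb : b ∈ N[W]) : ro W (a * b) = ro W a * ro W b :=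
  LinearMap.ext fun x => vl_inj (by
    rw [vl_ro (mul_mem ha hb), Module.End.mul_apply, vl_ro ha, vl_ro hb]; group)

theorem ro_C {c : G} (h : c ∈ C[W]) : ro W c = 1 :=
  LinearMap.ext fun x => vl_inj (by rw [vl_ro (C_le_N h), cj_of_C h (vl_mem x)]; rfl)

theorem ro_one : ro W (1 : G) = 1 := ro_C (one_mem _)

theorem ro_eq {a b : G} (ha : a ∈ N[W]) (h : b * a⁻¹ ∈ C[W]) : ro W b = ro W a := by
  rw [← inv_mul_cancel_right b a, ro_mul (C_le_N h) ha, ro_C h, one_mul]

theorem ro_act {σ : ℕ → G} (hσ : ∀ v < 16, σ v ∈ W) {g : G} (h : g ∈ N[W]) {M : ℕ}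
    (a : Act σ g M) {v : ℕ} (hv : v < 16) : ro W g (el W (σ v)) = el W (σ (mm M v)) := by
  rw [ro_el h (hσ v hv), a.2 v hv]

omit [IsMulCommutative W] in
theorem el_xor {σ : ℕ → G} (hσ : ∀ v < 16, σ v ∈ W) (p : Pre σ) {u v : ℕ} (hu : u < 16)
    (hv : v < 16) : el W (σ (u ^^^ v)) = el W (σ u) + el W (σ v) := by
  rw [p u hu v hv, el_mul (hσ u hu) (hσ v hv)]

end End

theorem type : TypeStmt.{u} := by
  intro G _ _ t J O W θ h d
  refine d.type.elim id fun hi => False.elim ?_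
  haveI : IsMulCommutative W := ⟨⟨fun a b => Subtype.ext (d.comm _ a.2 _ b.2)⟩⟩
  open scoped IsMulCommutative in
  have B := h.tm.bV
  have hV : ∀ v < 16, θ v ∈ W := fun v hv => d.le (B.mem v hv)
  obtain ⟨l, lJ, lN, al⟩ := d.real lM m7_l
  have n1 := d.tN (th_T0 θ (n := 16) (by norm_num))
  have n2 := d.tN (th_T0 θ (n := 32) (by norm_num))
  have cm : ∀ n < 128, mm lM (am n) = mm (am n) lM → ro W l * ro W (θ n) = ro W (θ n) * ro W l :=
    fun n hn e => by
      have nn := d.tN (th_T0 θ hn)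
      rw [← ro_mul lN nn, ← ro_mul nn lN]
      exact ro_eq (mul_mem nn lN) (d.cw h (mul_mem (mul_mem lJ (h.mem n hn))
        (inv_mem (mul_mem (h.mem n hn) lJ))) (mul_mem (mul_mem lN nn) (inv_mem (mul_mem nn lN)))
        (B.same' ((h.tm.act hn).mul al) ((al.mul (h.tm.act hn)).of_eq e)))
  have c1 := cm 16 (by norm_num) (by decide +kernel)
  have c2 := cm 32 (by norm_num) (by decide +kernel)
  have c3 : ro W (θ 16) * ro W (θ 32) = ro W (θ 32) * ro W (θ 16) := by
    rw [← ro_mul n1 n2, ← ro_mul n2 n1, (h.tm.comm_iff (by norm_num) (by norm_num)).2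
      (by decide +kernel)]
  have s1 : ro W (θ 16) * ro W (θ 16) = 1 := by
    rw [← ro_mul n1 n1, (h.tm.sq_iff (by norm_num)).2 (by decide +kernel), ro_one]
  have s2 : ro W (θ 32) * ro W (θ 32) = 1 := by
    rw [← ro_mul n2 n2, (h.tm.sq_iff (by norm_num)).2 (by decide +kernel), ro_one]
  have ee : ∀ v < 16, el W (θ v) + el W (θ v) = 0 := fun v hv => by
    rw [← el_mul (hV v hv) (hV v hv), B.mul.sq hv, el_one]
  have a1 : ∀ n < 128, ∀ v < 16, (1 - ro W (θ n)) (el W (θ v)) = el W (θ (v ^^^ mm (am n) v)) :=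
    fun n hn v hv => by
      rw [el_xor hV B.mul hv (mm_vec_lt _ hv), LinearMap.sub_apply, Module.End.one_apply,
        ro_act hV (d.tN (th_T0 θ hn)) (h.tm.act hn) hv, sub_eq_add_neg,
        neg_eq_of_add_eq_zero_right (ee _ (mm_vec_lt _ hv))]
  have a2 : ∀ v < 16, (ro W l * (1 - ro W (θ 16))) (el W (θ v)) = (1 - ro W (θ 32)) (el W (θ v)) :=
    fun v hv => by
      rw [Module.End.mul_apply, a1 16 (by norm_num) v hv, a1 32 (by norm_num) v hv,
        ro_act hV lN al (xor_lt16 hv (mm_vec_lt _ hv)),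
        (by decide +kernel : ∀ v < 16, mm lM (v ^^^ mm (am 16) v) = v ^^^ mm (am 32) v) v hv]
  obtain ⟨w, hw, ew⟩ := d.onto _ (B.mem 4 (by norm_num))
  have e4 : el W w⁻¹ + el W w⁻¹ = el W (θ 4) := by
    rw [← el_mul (inv_mem hw) (inv_mem hw)]
    congr 1
    refine mul_left_cancel (a := t) ?_
    rw [← ew, ← mul_assoc, mul_left_inj]
    rw [← hi w hw, ← mul_assoc, ← mul_assoc, h.tt, one_mul]
  have a3 := a1 16 (by norm_num)
  have a4 := a1 32 (by norm_num)
  have a5 := fun v hv => ro_act hV lN al (v := v) hv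
  clear a1 cm
  generalize el W w⁻¹ = x at e4
  generalize ro W (θ 16) = a at *
  generalize ro W (θ 32) = b at *
  generalize ro W l = r at *
  have hd : ∃ v < 16, (1 - b - r * (1 - a)) x = el W (θ v) := by
    have e1 : (1 - b - r * (1 - a)) x + (1 - b - r * (1 - a)) x = 0 := by
      rw [← map_add, e4]
      exact sub_eq_zero.2 (a2 4 (by norm_num)).symm
    generalize (1 - b - r * (1 - a)) x = y at e1
    have e2 : vl W y * vl W y = 1 := congrArg (vl W) e1
    obtain ⟨v, hv, e⟩ := B.surj _ (d.fix _ (vl_mem y) (by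
      rw [← inv_eq_of_mul_eq_one_right e2, ← hi _ (vl_mem y), mul_assoc, h.tt, mul_one,
        ← mul_assoc, ← mul_assoc, h.tt, one_mul]
      exact (comm_of_invs h.tt e2 (by
        rw [← mul_assoc, hi _ (vl_mem y), inv_mul_cancel])).trans rfl))
    exact ⟨v, hv, by rw [e, el_vl]⟩
  obtain ⟨v, hv, ev⟩ := hd
  have key : (1 - b) * (1 + 1) = r * (r * (1 - a)) * (1 + 1) +
      (r * (1 - a) + (1 - b)) * (1 - b - r * (1 - a)) := by
    have f1 : b * (r * a) = r * (a * b) := by rw [← mul_assoc, ← c2, mul_assoc, c3]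
    have f2 : a * (r * a) = r := by rw [← mul_assoc, ← c1, mul_assoc, s1, mul_one]
    have f3 : r * a * (r * a) = r * r := by rw [mul_assoc, f2]
    have f4 : r * a * r = r * (r * a) := by rw [mul_assoc, c1]
    simp only [mul_sub, sub_mul, mul_add, add_mul, mul_one, one_mul, s2, f1, f3, f4, ← c2]
    simp only [mul_assoc]
    abel
  have e5 : (1 + 1 : Module.End ℤ (Additive W)) x = el W (θ 4) := e4
  have := congrArg (fun f : Module.End ℤ (Additive W) => f x) key
  simp only [LinearMap.add_apply, Module.End.mul_apply] at this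
  rw [← LinearMap.add_apply 1 1, e5, ev, ← Module.End.mul_apply r (1 - a) (el W (θ v)), a2 v hv,
    a4 v hv, ee _ (xor_lt16 hv (mm_vec_lt _ hv)), add_zero, a4 4 (by norm_num), a3 4 (by norm_num),
    a5 _ (by decide +kernel), a5 _ (by decide +kernel)] at this
  exact absurd (B.inj2 (by decide +kernel) (by decide +kernel)
    (el_inj (hV _ (by decide +kernel)) (hV _ (by decide +kernel)) this)) (by decide +kernel)

theorem fus : FusStmt.{u} := by
  intro G _ _ t J O W θ h d hs hc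
  haveI : Fact (Nat.Prime 2) := ⟨Nat.prime_two⟩
  have B := h.tm.bV
  have b1 : θ 16 * θ 16 = 1 := (h.tm.sq_iff (by norm_num)).2 (by decide +kernel)
  have bU : θ 16 ∈ UU θ := (h.tm.th_UU (by norm_num)).2 (by norm_num)
  obtain ⟨g, hg⟩ := isConj_iff.1 (hc.trans (h.conj_ta (h.mem 16 (by norm_num)) b1
    fun e => absurd ((h.tm.eq_one (by norm_num)).1 e) (by norm_num)))
  have tN := d.tn h
  have uN : t * θ 16 ∈ N[W] := mul_mem tN (d.tN (th_T0 θ (by norm_num)))
  have uU : t * θ 16 ∈ UU θ ⊔ zpowers t :=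
    mul_mem (mem_sup_right (mem_zpowers t)) (mem_sup_left bU)
  have sU := h.sq_Vt h.U_le fun _ => h.tm.bU.sq
  have uu := sU _ uU
  have c1 : 16 ≤ Nat.card (W ⊓ centralizer {t * θ 16} : Subgroup G) := by
    have := card_le_fix_sq hs uu uN
    rw [d.card] at this
    nlinarith
  generalize t * θ 16 = u at hg uN uU uu c1
  have uc : IsConj t u := isConj_iff.2 ⟨g, hg⟩
  have mE : ∀ x ∈ W ⊓ centralizer {u}, x * u = u * x := fun x hx =>
    mem_centralizer_singleton_iff.1 hx.2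
  have uE : u ∈ N[(W ⊓ centralizer {u} : Subgroup G)] := C_le_N (mem_C.2 mE)
  have sX : ∀ x ∈ W ⊓ centralizer {u} ⊔ zpowers u, x * x = 1 := fun x hx => by
    rcases (mem_sup_t uu uE).1 hx with a | a
    · exact hs x a.1
    · have e : x = x * u * u := by rw [mul_assoc, uu, mul_one]
      generalize x * u = y at a e
      rw [e, mul_assoc, ← mul_assoc u, ← mE y a, mul_assoc, uu, mul_one, hs y a.1]
  have cX : 32 ≤ Nat.card (W ⊓ centralizer {u} ⊔ zpowers u : Subgroup G) := by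
    obtain ⟨k, hk⟩ := card_dvd_of_le (le_sup_left : W ⊓ centralizer {u} ≤ _ ⊔ zpowers u)
    have h0 : k ≠ 0 := fun e => by rw [e] at hk; exact Nat.card_pos.ne' hk
    have h1 : k ≠ 1 := fun e => d.ntW h hs (w := u) (by
      have := eq_of_le_of_card_ge (le_sup_left : W ⊓ centralizer {u} ≤ _ ⊔ zpowers u)
        (by rw [hk, e, mul_one])
      exact (this.ge (mem_sup_right (mem_zpowers u))).1) uc
    rw [hk]
    exact le_trans (by norm_num) (Nat.mul_le_mul c1 (by omega : 2 ≤ k))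
  have cU : 32 ≤ Nat.card (UU θ ⊔ zpowers t : Subgroup G) := by
    have := h.card_Vt h.U_le; rwa [h.tm.card_UU] at this
  have P2 : IsPGroup 2 (T0 θ ⊔ (W ⊔ zpowers t) : Subgroup G) :=
    h.tm.isPGroup.to_sup_of_normal_right' d.syl.isPGroup fun x hx => by
      rw [mem_N_iff, smul_sup, mem_N_iff.1 (d.tN hx), mem_N_iff.1 (C_le_N (mem_C.2 fun y hy =>
        comm_of_zpowers hy (h.JC x (h.T0_le hx)).symm))]
  obtain ⟨c, cJ, e⟩ := h.sylT (R := MulAut.conj g⁻¹ • ((T0 θ ⊔ (W ⊔ zpowers t)) ⊓ centralizer {u}))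
    (isPGroup_conj_smul P2.to_inf_left _) fun x hx => by
      have := mem_centralizer_singleton_iff.1 (mem_conj.1 hx).2
      rwa [← hg, inv_inv, comm_conj_iff] at this
  rw [conj_smul_conj_smul] at e
  have e1 : c * g⁻¹ * u * (c * g⁻¹)⁻¹ = t := by
    rw [← hg, show c * g⁻¹ * (g * t * g⁻¹) * (c * g⁻¹)⁻¹ = c * t * c⁻¹ by group, h.JC c cJ,
      mul_inv_cancel_right]
  generalize c * g⁻¹ = k at e e1
  have key : ∀ X ≤ T0 θ ⊔ (W ⊔ zpowers t), u ∈ X → (∀ x ∈ X, x * x = 1) → 32 ≤ Nat.card X →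
      MulAut.conj k • X = VV θ ⊔ zpowers t ∨ MulAut.conj k • X = UU θ ⊔ zpowers t :=
    fun X a1 a2 a3 a4 => h.e32T (e1 ▸ conj_mem_conj.2 a2) (sq_conj a3 k) (by rwa [card_conj])
      fun x hx => (e x (mem_conj.2 ⟨a1 (mem_conj.1 hx),
        mem_centralizer_singleton_iff.2 (comm_of_sq a3 (mem_conj.1 hx) a2)⟩)).2.1
  have lU : UU θ ⊔ zpowers t ≤ T0 θ ⊔ (W ⊔ zpowers t) := sup_le_sup (UU_le_T0 θ) le_sup_right
  have mv : ∀ k : G, k * t * k⁻¹ ∈ VV θ ⊔ zpowers t → ∃ w ∈ W, w * t * w⁻¹ = k * t * k⁻¹ :=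
    fun k a => by
      have b := ((mem_sup_t h.tt (C_le_N h.t_CV)).1 a).resolve_left fun b =>
        h.ntJ (h.V_le b) (isConj_iff.2 ⟨k, rfl⟩)
      obtain ⟨w, hw, e⟩ := d.onto _ b
      exact ⟨w, hw, by rw [e, ← h.JC _ (h.V_le b), mul_assoc, h.tt, mul_one]⟩
  obtain ⟨k, e1, e2⟩ : ∃ k : G, k * u * k⁻¹ = t ∧
      MulAut.conj k • (W ⊓ centralizer {u} ⊔ zpowers u) = VV θ ⊔ zpowers t := by
    rcases key _ (sup_le (inf_le_left.trans (le_sup_left.trans le_sup_right))
      (zpowers_le.2 (lU uU))) (mem_sup_right (mem_zpowers u)) sX cX with a | a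
    · exact ⟨k, e1, a⟩
    rcases key _ lU uU sU cU with b | b
    · obtain ⟨w, hw, ew⟩ := mv k (b ▸ conj_mem_conj.2 (mem_sup_right (mem_zpowers t)))
      have wN : w ∈ N[(VV θ ⊔ zpowers t : Subgroup G)] := mem_N_of fun x hx => by
        obtain ⟨v, hv, e⟩ := d.br w hw
        have ht : w * t * w⁻¹ ∈ VV θ ⊔ zpowers t :=
          e ▸ mul_mem (mem_sup_right (mem_zpowers t)) (mem_sup_left hv)
        rcases (mem_sup_t h.tt (C_le_N h.t_CV)).1 hx with y | y
        · rw [cj_of_C (d.W_CV hw) y]; exact hx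
        · have := mul_mem (mem_sup_left y : _ ∈ VV θ ⊔ zpowers t) (inv_mem ht)
          rw [← cj_of_C (d.W_CV hw) y] at this
          simpa [mul_assoc] using this
      refine ⟨w⁻¹ * k * k, ?_, ?_⟩
      · calc _ = w⁻¹ * (k * (k * u * k⁻¹) * k⁻¹) * w := by group
          _ = t := by rw [e1, ← ew]; group
      · rw [← conj_smul_conj_smul, a, ← conj_smul_conj_smul, b, mem_N_iff.1 (inv_mem wN)]
    · exfalso
      have e3 := MulAction.injective _ (a.trans b.symm)
      have : W ⊓ centralizer {u} ≤ ZZ θ := fun x hx => by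
        have m : x ∈ UU θ ⊔ zpowers t := e3 ▸ mem_sup_left hx
        have mV := d.fix x hx.1 (comm_of_sq sU m (mem_sup_right (mem_zpowers t)))
        exact h.tm.V_inf_U ▸ ⟨mV, h.mem_of_sup h.U_le m (h.V_le mV)⟩
      have := card_le_of_le this
      rw [h.tm.card_ZZ] at this
      omega
  have k1 : ∀ x ∈ W ⊓ centralizer {u}, k * x * k⁻¹ ∈ VV θ := fun x hx =>
    h.map_in hc h.V_le (fun _ => B.sq) (d.ntW h hs hx.1) (e2 ▸ conj_mem_conj.2 (mem_sup_left hx))
  have k2 : MulAut.conj k • (W ⊓ centralizer {u}) = VV θ := eq_of_le_of_card_ge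
    (fun x hx => by simpa [mul_assoc] using k1 _ (mem_conj.1 hx))
    (by rwa [card_conj, h.tm.card_VV])
  obtain ⟨n, hn, e3⟩ := d.syl.exists_conj_le (pgroup_of_sq (sq_conj hs k)) fun x hx => by
    obtain ⟨y, rfl⟩ : ∃ y, x = k * y * k⁻¹ := ⟨k⁻¹ * x * k, by group⟩
    rw [conj_mem_conj] at hx
    refine mem_NN.2 ⟨mem_C.2 fun v hv => ?_, ?_⟩
    · rw [← k2] at hv
      have := comm_conj_iff (g := k).2 (d.comm _ (mem_conj.1 hv).1 _ hx)
      simpa [mul_assoc] using this
    · have m : u⁻¹ * y * u * y⁻¹ ∈ W := mul_mem (norm_conj' uN hx) (inv_mem hx)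
      have := k1 _ ⟨m, mem_centralizer_singleton_iff.2 (comm_of_invs uu (hs _ m) (by
        calc _ = y * (u * u) * y⁻¹ := by group
          _ = 1 := by rw [uu]; group)).symm⟩
      rw [sg, ← e1]
      simpa [mul_assoc] using this
  rw [conj_smul_conj_smul] at e3
  have kN : n * k ∈ N[W] := mem_N_of fun x hx => by
    have m := e3 (conj_mem_conj.2 hx)
    by_contra nm
    have a := ((mem_sup_t h.tt tN).1 m).resolve_left nm
    have sq := sq_conj hs (n * k) _ (conj_mem_conj.2 hx)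
    have e4 : IsConj x (n * k * x * (n * k)⁻¹) := isConj_iff.2 ⟨_, rfl⟩
    generalize n * k * x * (n * k)⁻¹ = y at a sq e4
    have e5 : t * (y * t) = t * y * t⁻¹ := by rw [h.tinv, mul_assoc]
    obtain ⟨w, -, ew⟩ := d.onto _ (d.inv_V hs h.tt a (by
      rw [e5, show t * y * t⁻¹ * (t * y * t⁻¹) = t * (y * y) * t⁻¹ by group, sq]; group))
    exact d.ntW h hs hx (((isConj_iff.2 ⟨w, ew.trans e5⟩).trans
      (isConj_iff.2 ⟨t, rfl⟩).symm).trans e4.symm)
  obtain ⟨w, hw, ew⟩ := mv n (by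
    rw [sg_eq]; exact mul_mem (mem_sup_right (mem_zpowers t)) (mem_sup_left (mem_NN.1 hn).2))
  refine ⟨(n * k)⁻¹ * w, mul_mem (inv_mem kN) (le_normalizer hw), ?_⟩
  calc _ = (n * k)⁻¹ * (w * t * w⁻¹) * (n * k) := by group
    _ = u := by rw [ew, ← e1]; group

theorem eqns_MWType : True := by
  have := @el.eq_1.{0}
  have := @vl.eq_1.{0}
  have := @ro.eq_1.{0}
  trivial

end Cfsg.Agent.H19.MW
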