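import Cfsg.Agent.H19.NzC
import Cfsg.Agent.H54.SzAl

/-!
# Standard `Sz(q)`: the wreathed case is impossible
-/

set_option autoImplicit false
set_option linter.unusedSectionVars false

namespace Cfsg.Agent.H19.NzAl

open Subgroup H39 H86 Nz
open scoped Pointwise

universe u

variable {F : Type} [Field F] [TF F]

variable {G : Type u} [Group G] [Finite G] (C : Ctx G F)

theorem eq_one_of_mem {a : G} (ha : a ∈ C.A) (hk : a ∈ C.K) : a = 1 := by
  have := C.S.eq_one_of_comm (g := ⟨a, ha⟩) (Subtype.ext (hk _ (C.S.u 0 1).2).symm)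
    (Subtype.ext (hk _ C.S.w.2).symm)
  exact congrArg Subtype.val this

theorem center_eq_bot : center C.A = ⊥ := (eq_bot_iff_forall _).mpr fun z hz =>
  Subtype.ext (eq_one_of_mem C z.2 fun b hb =>
    congrArg Subtype.val (mem_center_iff.mp hz ⟨b, hb⟩))

theorem dec {g : G} (hg : g ∈ C.N) {n : ℕ} (h : g ^ 2 ^ n = 1) :
    ∃ r ∈ C.K, ∃ a : C.A, g = r * a :=
  decomp C.std.1.1 (C.S.comap ((QuotientGroup.quotientMulEquivOfEq (center_eq_bot C)).trans
    QuotientGroup.quotientBot)) hg h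

/-- `R × U`. -/
def P0 {R : Subgroup G} (hR : R ≤ C.K) : Subgroup G := bT C.S (MonoidHom.id C.A) hR

theorem mem_P0 {R : Subgroup G} (hR : R ≤ C.K) {x : G} :
    x ∈ P0 C hR ↔ ∃ r ∈ R, ∃ a b, x = r * C.u a b :=
  ⟨by rintro ⟨r, hr, _, ⟨a, b, rfl⟩, e⟩; exact ⟨r, hr, a, b, e⟩,
    by rintro ⟨r, hr, a, b, e⟩; exact ⟨r, hr, _, ⟨a, b, rfl⟩, e⟩⟩

theorem syl_P0 {R : Subgroup G} (hR : IsSylowIn 2 R C.K) : IsSylowIn 2 (P0 C hR.1) C.N :=
  isSylowIn_bT C.S ⟨Function.surjective_id, by simp, by simp⟩ (by simp [center_eq_bot C])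
    (fun _ hg _ h => dec C hg h) hR

theorem syl_U : IsSylowIn 2 C.U C.A := isSylowIn_map C.A C.S.sylowU

theorem u_sq (a b : F) : C.u a b * C.u a b = C.u 0 ((a * th a)) := by
  rw [C.u_mul, CharTwo.add_self_eq_zero, CharTwo.add_self_eq_zero, zero_add, mul_comm (th a)]

theorem z_mul (b d : F) : C.u 0 b * C.u 0 d = C.u 0 (b + d) := by
  rw [C.u_mul]; simp

theorem z_sq (b : F) : C.u 0 b * C.u 0 b = 1 := by
  rw [z_mul, CharTwo.add_self_eq_zero, C.u_zero]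

theorem z_comm (b a c : F) : Commute (C.u 0 b) (C.u a c) := by
  change _ * _ = _ * _
  rw [C.u_mul, C.u_mul]; simp [add_comm]

theorem z_eq_one {b : F} (h : C.u 0 b = 1) : b = 0 := (C.u_inj (h.trans C.u_zero.symm)).2

theorem K_comm {k : G} (hk : k ∈ C.K) (a b : F) : Commute k (C.u a b) :=
  (hk _ (C.u_mem a b)).symm

theorem conj_mem_K {n k : G} (hn : n ∈ C.N) (hk : k ∈ C.K) : n * k * n⁻¹ ∈ C.K :=
  (mem_normalizer_iff.mp (normalizer_le_normalizer_centralizer _ hn) k).mp hk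

theorem mem_conj {g x : G} {H : Subgroup G} : x ∈ MulAut.conj g • H ↔ g⁻¹ * x * g ∈ H := by
  rw [mem_pointwise_smul_iff_inv_smul_mem]; simp

theorem mem_N {s g : G} (hs : s * s = 1) (h1 : s ≠ 1) (hK : s ∈ C.K) (hg : g * s * g⁻¹ ∈ C.K) :
    g ∈ C.N :=
  H10.Std.norm_of_conj_mem C.std (orderOf_eq_prime ((pow_two _).trans hs) h1) hK hg

/-- `x` lies in a conjugate of `K`. -/
def InD (x : G) : Prop := ∃ h : G, h⁻¹ * x * h ∈ C.K

variable {C}

theorem InD.conj {x : G} (h : InD C x) (y : G) : InD C (y * x * y⁻¹) := by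
  obtain ⟨h, hh⟩ := h
  exact ⟨y * h, by convert hh using 1; group⟩

theorem InD.of_conj {x y : G} (h : InD C (y * x * y⁻¹)) : InD C x := by
  have := h.conj y⁻¹
  rwa [show y⁻¹ * (y * x * y⁻¹) * y⁻¹⁻¹ = x by group] at this

/-- The normalized first case. -/
structure Sit (C : Ctx G F) (g : G) : Prop where
  pair : ∀ (g k : G) (b : F), C.Pair g k b → C.Alpha g ∨ C.Beta g
  hg : g ∉ C.N
  h1 : ∀ a b, g⁻¹ * C.u a b * g ∈ C.K
  syl : IsSylowIn 2 (MulAut.conj g • C.U) C.K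

theorem exists_sit (hP : PairStmt.{u}) {g : G} (hg : g ∉ C.N) (h : C.Alpha g) :
    ∃ g, Sit C g := by
  obtain ⟨h1, R, hR, hR'⟩ := h
  obtain ⟨a, ha, hc⟩ := (syl_U C).exists_conj (B := MulAut.conj g⁻¹ • R)
    (fun x hx => by
      have := mem_conj.mp (hR'.1 (mem_conj.mp hx))
      rwa [show g⁻¹ * (g⁻¹⁻¹ * x * g⁻¹) * g = x by group] at this)
    (hR.2.1.of_equiv (equivSMul (MulAut.conj g⁻¹) R))
  have hle : R ≤ MulAut.conj (g * a⁻¹) • C.U := fun r hr => by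
    have := hc (g⁻¹ * r * g) (mem_conj.mpr (by
      rwa [show g⁻¹⁻¹ * (g⁻¹ * r * g) * g⁻¹ = r by group]))
    rw [mem_conj]
    convert this using 1; group
  have heq : MulAut.conj (g * a⁻¹) • C.U = R := le_antisymm (hR'.2.2 _ (fun x hx => by
      have := mul_mem (mul_mem (inv_mem ha) ((syl_U C).1 (mem_conj.mp hx))) ha
      rw [mem_conj]
      convert this using 1; group)
    ((syl_U C).2.1.of_equiv (equivSMul _ C.U)) hle) hle
  refine ⟨g * a⁻¹, fun g k b => hP F G C g k b, fun h => hg ?_, fun c d => ?_, heq ▸ hR⟩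
  · simpa using mul_mem h (le_normalizer ha)
  · have := conj_mem_K C (le_normalizer ha) (mem_conj.mp (h1 (C.mem_U.mpr ⟨c, d, rfl⟩)))
    convert this using 1; group

namespace Sit

variable {g : G} (h : Sit C g)
include h

theorem mem_R (a b : F) : g * C.u a b * g⁻¹ ∈ MulAut.conj g • C.U :=
  mem_conj.mpr (C.mem_U.mpr ⟨a, b, by group⟩)

theorem h2 (a b : F) : g * C.u a b * g⁻¹ ∈ C.K := h.syl.1 (h.mem_R a b)

theorem notD {z : G} {b : F} (hz : z ∈ C.K) (zz : z * z = 1) (hD : InD C (z * C.u 0 b)) :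
    z = 1 ∨ b = 0 := by
  by_contra hc
  push Not at hc
  obtain ⟨m, hm⟩ := hD
  by_cases hmN : m ∈ C.N
  · have := conj_mem_K C hmN hm
    rw [show m * (m⁻¹ * (z * C.u 0 b) * m) * m⁻¹ = z * C.u 0 b by group,
      mul_mem_cancel_left hz] at this
    exact hc.2 (z_eq_one C (eq_one_of_mem C (C.u_mem 0 b) this))
  rcases h.pair m z b ⟨hmN, hz, zz, hc.2, mem_conj.mpr hm⟩ with ⟨h1, -⟩ | ⟨-, R, hR, h2, -⟩
  · have h3 := h1 (C.mem_U.mpr ⟨0, b, rfl⟩)
    have h4 := (mul_mem_cancel_right h3).mp (mem_conj.mpr hm)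
    refine hmN ?_
    simpa using inv_mem (mem_N C (g := m⁻¹) zz hc.1 hz (by simpa using mem_conj.mp h4))
  · obtain ⟨k, -, hk⟩ := hR.exists_conj h.syl.1 h.syl.2.1
    have := h2 _ (hk _ (h.mem_R 1 0))
    rw [conj_mul, conj_mul, u_sq, th_one, mul_one, conj_eq_one_iff, conj_eq_one_iff] at this
    exact one_ne_zero (z_eq_one C this)

/-- The Sylow subgroup of `N`. -/
abbrev P : Subgroup G := P0 C h.syl.1

/-- The elements of `Ω₁(P)`. -/
noncomputable def ee (_ : Sit C g) (a b : F) : G := g * C.u 0 a * g⁻¹ * C.u 0 b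

theorem u_mem (a b : F) : C.u a b ∈ h.P :=
  (mem_P0 C _).mpr ⟨1, one_mem _, a, b, (one_mul _).symm⟩

theorem v_mem (a b : F) : g * C.u a b * g⁻¹ ∈ h.P :=
  (mem_P0 C _).mpr ⟨_, h.mem_R a b, 0, 0, by rw [C.u_zero, mul_one]⟩

theorem ee_mul (a b c d : F) : h.ee a b * h.ee c d = h.ee (a + c) (b + d) := by
  unfold ee
  rw [(K_comm C (h.h2 0 c) 0 b).symm.mul_mul_mul_comm, conj_mul, z_mul, z_mul]

theorem ee_D {a b : F} : InD C (h.ee a b) ↔ a = 0 ∨ b = 0 := by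
  refine ⟨fun hD => (h.notD (h.h2 0 a) (by rw [conj_mul, z_sq]; group) hD).imp_left fun e =>
    z_eq_one C (conj_eq_one_iff.mp e), ?_⟩
  rintro (rfl | rfl)
  · exact ⟨g, by simpa [ee, C.u_zero] using h.h1 0 b⟩
  · exact ⟨1, by simpa [ee, C.u_zero] using h.h2 0 a⟩

theorem exists_ee {x : G} (hx : x ∈ h.P) (xx : x * x = 1) : ∃ a b, x = h.ee a b := by
  obtain ⟨r, hr, c, d, rfl⟩ := (mem_P0 C _).mp hx
  obtain ⟨a, b, e⟩ := C.mem_U.mp (mem_conj.mp hr)
  obtain rfl : r = g * C.u a b * g⁻¹ := by rw [← e]; group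
  rw [← (K_comm C (h.h2 a b) c d).mul_mul_mul_comm, conj_mul, u_sq, u_sq] at xx
  have h1 : C.u 0 ((c * th c)) = 1 := eq_one_of_mem C (C.u_mem _ _) (by
    rw [eq_inv_of_mul_eq_one_right xx]; exact inv_mem (h.h2 _ _))
  rw [h1, mul_one, conj_eq_one_iff] at xx
  obtain rfl : c = 0 := nm_eq_zero (z_eq_one C h1)
  obtain rfl : a = 0 := nm_eq_zero (z_eq_one C xx)
  exact ⟨b, d, rfl⟩

theorem cen {x y : G} (hx : x ∈ h.P) (xx : x * x = 1) (hy : y ∈ h.P) : Commute x y := by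
  obtain ⟨a, b, rfl⟩ := h.exists_ee hx xx
  obtain ⟨r, hr, c, d, rfl⟩ := (mem_P0 C _).mp hy
  obtain ⟨a', b', e⟩ := C.mem_U.mp (mem_conj.mp hr)
  obtain rfl : r = g * C.u a' b' * g⁻¹ := by rw [← e]; group
  exact Commute.mul_left (((z_comm C a a' b').conj g).mul_right (K_comm C (h.h2 0 a) c d))
    ((K_comm C (h.h2 a' b') 0 b).symm.mul_right (z_comm C b c d))

/-- `Ω₁(P)`. -/
def E : Subgroup G where
  carrier := {x | x ∈ h.P ∧ x * x = 1}
  one_mem' := ⟨one_mem _, one_mul _⟩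
  mul_mem' := by
    rintro x y ⟨hx, xx⟩ ⟨hy, yy⟩
    exact ⟨mul_mem hx hy, by rw [← (h.cen hx xx hy).mul_mul_mul_comm, xx, yy, one_mul]⟩
  inv_mem' := by
    rintro x ⟨hx, xx⟩
    exact ⟨inv_mem hx, by rw [← mul_inv_rev, xx, inv_one]⟩

theorem cases {m : G} {b : F} (hb : b ≠ 0) (hm : m * (g * C.u 0 b * g⁻¹) * m⁻¹ ∈ h.P) :
    m ∈ C.N ∨ g⁻¹ * m ∈ C.N := by
  have zz : (g * C.u 0 b * g⁻¹) * (g * C.u 0 b * g⁻¹) = 1 := by rw [conj_mul, z_sq]; group
  have h1 : g * C.u 0 b * g⁻¹ ≠ 1 := fun e => hb (z_eq_one C (conj_eq_one_iff.mp e))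
  obtain ⟨a, c, e⟩ := h.exists_ee hm (by rw [conj_mul, zz]; group)
  have hD : InD C (h.ee a c) := e ▸ InD.conj ⟨1, by simpa using h.h2 0 b⟩ m
  rcases h.ee_D.mp hD with rfl | rfl
  · refine Or.inr (mem_N C zz h1 (h.h2 0 b) ?_)
    have := h.h1 0 c
    rw [show C.u 0 c = h.ee 0 c by simp [ee, C.u_zero], ← e] at this
    convert this using 1; group
  · refine Or.inl (mem_N C zz h1 (h.h2 0 b) ?_)
    rw [e]
    simpa [ee, C.u_zero] using h.h2 0 a

section T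

variable {T : Subgroup G} (hT : IsSylowIn 2 T (normalizer (h.P : Set G))) (hle : h.P ≤ T)
include hT hle

theorem mem_of_N {t : G} (ht : t ∈ T) (hN : t ∈ C.N) : t ∈ h.P :=
  (syl_P0 C h.syl).2.2 (T ⊓ C.N) inf_le_right hT.2.1.to_inf_left
    (le_inf hle (syl_P0 C h.syl).1) ⟨ht, hN⟩

theorem out {t : G} (ht : t ∈ T) (hn : t ∉ h.P) : g⁻¹ * t ∈ C.N :=
  (h.cases one_ne_zero ((mem_normalizer_iff.mp (hT.1 ht) _).mp (h.v_mem 0 1))).resolve_left
    fun hN => hn (h.mem_of_N hT hle ht hN)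

theorem mul_out {s t : G} (hs : s ∈ T) (ht : t ∈ T) (hs' : s ∉ h.P) (ht' : t ∉ h.P) :
    s * t ∈ h.P := by
  refine h.mem_of_N hT hle (mul_mem hs ht) ?_
  have := mul_mem (inv_mem (h.out hT hle (inv_mem hs) (by rwa [inv_mem_iff]))) (h.out hT hle ht ht')
  convert this using 1; group

theorem wc {m : G} (hm : ∀ x ∈ h.P, m * x * m⁻¹ ∈ T) : ∀ x ∈ h.P, m * x * m⁻¹ ∈ h.P := by
  have h1 : m ∈ C.N ∨ g⁻¹ * m ∈ C.N := by
    obtain ⟨c, hc0, hc1⟩ : ∃ c : F, c ≠ 0 ∧ 1 + c ≠ 0 :=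
      (exists_ne2 0 1).imp fun c h => ⟨h.1, fun e => h.2 (CharTwo.add_eq_zero.1 e).symm⟩
    by_cases e1 : m * (g * C.u 0 1 * g⁻¹) * m⁻¹ ∈ h.P
    · exact h.cases one_ne_zero e1
    by_cases e2 : m * (g * C.u 0 c * g⁻¹) * m⁻¹ ∈ h.P
    · exact h.cases hc0 e2
    have := h.mul_out hT hle (hm _ (h.v_mem 0 1)) (hm _ (h.v_mem 0 c)) e1 e2
    rw [conj_mul, conj_mul, z_mul] at this
    exact h.cases hc1 this
  intro x hx
  have hxN := (syl_P0 C h.syl).1 hx
  rcases h1 with h1 | h1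
  · exact h.mem_of_N hT hle (hm x hx) (mul_mem (mul_mem h1 hxN) (inv_mem h1))
  · by_contra hc
    have h2 := h.out hT hle (hm x hx) hc
    refine h.hg ?_
    have h3 : m ∈ C.N := by
      have := mul_mem (mul_mem (inv_mem h2) h1) hxN
      convert this using 1; group
    have := mul_mem h3 (inv_mem h1)
    convert this using 1; group

theorem syl_top : IsSylowIn 2 T ⊤ :=
  isSylowIn_top_of_normalizer_le hT fun _ hn => mem_normalizer_of_conj_le
    (h.wc hT hle fun x hx => (mem_normalizer_iff.mp hn x).mp (hle hx))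

theorem swap {d : G} (hd : d ∈ T) (hn : d ∉ h.P) (a b : F) : d * C.u a b * d⁻¹ ∈ C.K := by
  have := conj_mem_K C (inv_mem (h.out hT hle (inv_mem hd) (by rwa [inv_mem_iff]))) (h.h1 a b)
  convert this using 1; group

theorem closed : IsStronglyClosed h.E T := by
  refine ⟨fun x hx => hle hx.1, fun e he m hd => ⟨?_, by rw [conj_mul, he.2]; group⟩⟩
  by_contra hn
  have dd : (m * e * m⁻¹) * (m * e * m⁻¹) = 1 := by rw [conj_mul, he.2]; group
  obtain ⟨d, hde⟩ : ∃ d, d = m * e * m⁻¹ := ⟨_, rfl⟩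
  rw [← hde] at hd hn dd
  have di : d⁻¹ = d := inv_eq_of_mul_eq_one_right dd
  obtain ⟨Q, hQ, hUQ⟩ := exists_isSylowIn (p := 2) (A := T ⊓ centralizer {d})
    (H := centralizer {d}) inf_le_right hT.2.1.to_inf_left
  obtain ⟨c, hc, hcQ⟩ := hQ.exists_conj (B := MulAut.conj m • h.P) (fun x hx => by
      have := ((h.cen he.1 he.2 (mem_conj.mp hx)).conj m).symm
      rw [show m * (m⁻¹ * x * m) * m⁻¹ = x by group, ← hde] at this
      exact mem_centralizer_singleton_iff.mpr this)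
    ((syl_P0 C h.syl).2.1.of_equiv (equivSMul _ h.P))
  obtain ⟨y, -, hy⟩ := (h.syl_top hT hle).exists_conj (B := Q) le_top hQ.2.1
  have hyd : y * d * y⁻¹ ∈ h.P := by
    have := h.wc hT hle (m := y * c * m) (fun x hx => by
      have := hy _ (hcQ (m * x * m⁻¹) (mem_conj.mpr (by
        rwa [show m⁻¹ * (m * x * m⁻¹) * m = x by group])))
      convert this using 1; group) e he.1
    rwa [show y * c * m * e * (y * c * m)⁻¹ = y * (c * (m * e * m⁻¹) * c⁻¹) * y⁻¹ by group, ← hde,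
      mem_centralizer_singleton_iff.mp hc, mul_inv_cancel_right] at this
  -- the diagonal
  let δ : F → G := fun b => d * C.u 0 b * d⁻¹ * C.u 0 b
  have δmul : ∀ a b, δ a * δ b = δ (a + b) := fun a b => by
    simp only [δ]
    rw [(K_comm C (h.swap hT hle hd hn 0 b) 0 a).symm.mul_mul_mul_comm, conj_mul, z_mul]
  have δsq : ∀ a, δ a * δ a = 1 := fun a => by
    rw [δmul, CharTwo.add_self_eq_zero]; simp [δ, C.u_zero]
  have δD : ∀ a, InD C (δ a) → a = 0 := fun a hD =>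
    (h.notD (h.swap hT hle hd hn 0 a) (by rw [conj_mul, z_sq]; group) hD).elim
      (fun e => z_eq_one C (conj_eq_one_iff.mp e)) id
  have δP : ∀ b, y * δ b * y⁻¹ ∈ h.P := fun b => by
    obtain ⟨a, rfl⟩ := nm_surj b
    have hK := K_comm C (h.swap hT hle hd hn a 0) a 0
    have h1 : y * (d * C.u a 0 * d⁻¹ * C.u a 0) * y⁻¹ ∈ T := by
      refine hy _ (hUQ ⟨T.mul_mem (T.mul_mem (T.mul_mem hd (hle (h.u_mem a 0))) (T.inv_mem hd))
        (hle (h.u_mem a 0)), mem_centralizer_singleton_iff.mpr ?_⟩)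
      rw [hK.eq, di]
      calc C.u a 0 * (d * C.u a 0 * d) * d = C.u a 0 * d * C.u a 0 * (d * d) := by group
        _ = (d * d) * C.u a 0 * d * C.u a 0 := by rw [dd]; group
        _ = d * (d * C.u a 0 * d⁻¹ * C.u a 0) := by rw [di]; group
        _ = _ := by rw [hK.eq, di]
    have h2 : y * δ ((a * th a)) * y⁻¹ = (y * (d * C.u a 0 * d⁻¹ * C.u a 0) * y⁻¹) *
        (y * (d * C.u a 0 * d⁻¹ * C.u a 0) * y⁻¹) := by
      rw [conj_mul, ← hK.mul_mul_mul_comm, conj_mul, u_sq]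
    rw [h2]
    by_cases h3 : y * (d * C.u a 0 * d⁻¹ * C.u a 0) * y⁻¹ ∈ h.P
    · exact mul_mem h3 h3
    · exact h.mul_out hT hle h1 h1 h3 h3
  choose f f' hf using fun b => h.exists_ee (δP b) (by rw [conj_mul, δsq]; group)
  obtain ⟨e₁, e₂, hee⟩ := h.exists_ee hyd (by rw [conj_mul, dd]; group)
  have key : ∀ a b, f a + f b = 0 ∨ f' a + f' b = 0 → a = b := fun a b hab => by
    have := h.ee_D.mpr hab
    rw [← h.ee_mul, ← hf, ← hf, conj_mul, δmul] at this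
    exact CharTwo.add_eq_zero.mp (δD _ this.of_conj)
  have finj : Function.Injective f := fun a b hab =>
    key a b (Or.inl (CharTwo.add_eq_zero.mpr hab))
  have finj' : Function.Injective f' := fun a b hab =>
    key a b (Or.inr (CharTwo.add_eq_zero.mpr hab))
  have hcl : ∀ b, InD C d ↔ (e₁ + f b = 0 ∨ e₂ + f' b = 0) := fun b => by
    rw [← h.ee_D, ← h.ee_mul, ← hf, ← hee, conj_mul]
    have : d * δ b = C.u 0 b * d * (C.u 0 b)⁻¹ := by
      simp only [δ]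
      rw [inv_eq_of_mul_eq_one_right (z_sq C b), di, ← mul_assoc, ← mul_assoc, ← mul_assoc, dd,
        one_mul]
    rw [this]
    exact ⟨fun hD => (hD.conj _).conj _, fun hD => hD.of_conj.of_conj⟩
  obtain ⟨b₁, hb₁⟩ := Finite.injective_iff_surjective.mp finj e₁
  obtain ⟨b₂, hb₂⟩ := Finite.injective_iff_surjective.mp finj' e₂
  have hD := (hcl b₁).mpr (Or.inl (CharTwo.add_eq_zero.mpr hb₁.symm))
  obtain ⟨b, h1, h2⟩ :=
    exists_ne2 b₁ b₂
  rcases (hcl b).mp hD with h3 | h3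
  · exact h1 (finj ((CharTwo.add_eq_zero.mp h3).symm.trans hb₁.symm))
  · exact h2 (finj' ((CharTwo.add_eq_zero.mp h3).symm.trans hb₂.symm))

end T

theorem false_of_nsc (hn : C.NSC) : False := by
  obtain ⟨T, hT, hle⟩ := exists_isSylowIn (p := 2) (A := h.P) le_normalizer (syl_P0 C h.syl).2.1
  obtain ⟨P, rfl⟩ := (h.syl_top hT hle).exists_sylow_top
  exact hn P h.E ⟨⟨fun x y => Subtype.ext (h.cen x.2.1 x.2.2 y.2.1).eq⟩⟩ (h.closed hT hle)
    ⟨h.u_mem 0 1, z_sq C 1⟩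

end Sit

/-- **ALPHA** -/
theorem alpha (hP : PairStmt.{u}) : AlphaStmt.{u} := fun _ _ _ _ _ _ _ _ hn hg h => by
  obtain ⟨g, h⟩ := exists_sit hP hg h
  exact h.false_of_nsc hn

theorem eqns_NzAl : True := by
  have := @P0.eq_1.{0}
  have := @InD.eq_1.{0}
  have := @Sit.ee.eq_1.{0}
  have := @Sit.E.eq_1.{0}
  trivial

end Cfsg.Agent.H19.NzAl
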