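import Cfsg.Agent.H19.NzD
import Cfsg.Agent.H98.SzC

/-!
# A standard subgroup `Sz(q)`: basic facts
-/

set_option autoImplicit false
set_option maxRecDepth 100000

namespace Cfsg.Agent.H19.Nz

open Subgroup H39
open scoped Pointwise

universe u

variable {F : Type} [Field F] [TF F]

local instance factTwoNzC : Fact (Nat.Prime 2) := ⟨Nat.prime_two⟩

theorem syl_iff {G : Type*} [Group G] [Finite G] {R H : Subgroup G} :
    H86.IsSylowIn 2 R H ↔ H8.IsSylowIn 2 R H := H98.Sz.syl_iff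

namespace Ctx

variable {G : Type u} [Group G] (C : Ctx G F)

theorem comm {k a : G} (hk : k ∈ C.K) (ha : a ∈ C.A) : k * a = a * k := (hk a ha).symm

theorem conj_of_K {k a : G} (hk : k ∈ C.K) (ha : a ∈ C.A) : k * a * k⁻¹ = a := by
  rw [C.comm hk ha, mul_inv_cancel_right]

theorem conj_of_A {k a : G} (hk : k ∈ C.K) (ha : a ∈ C.A) : a * k * a⁻¹ = k := by
  rw [← C.comm hk ha, mul_inv_cancel_right]

theorem u_sq (a b : F) : C.u a b * C.u a b = C.u 0 (a * th a) := by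
  rw [C.u_mul, CharTwo.add_self_eq_zero, CharTwo.add_self_eq_zero, zero_add, mul_comm (th a)]

theorem z_mul (b d : F) : C.u 0 b * C.u 0 d = C.u 0 (b + d) := by rw [C.u_mul]; simp
theorem z_sq (b : F) : C.u 0 b * C.u 0 b = 1 := by rw [C.u_sq, ← C.u_zero]; simp
theorem z_inv (b : F) : (C.u 0 b)⁻¹ = C.u 0 b := inv_eq_of_mul_eq_one_right (C.z_sq b)
theorem z_comm (b c d : F) : C.u 0 b * C.u c d = C.u c d * C.u 0 b := by
  rw [C.u_mul, C.u_mul]; simp [add_comm]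

theorem u_inv (a b : F) : (C.u a b)⁻¹ = C.u a (b + a * th a) := by
  rw [inv_eq_iff_mul_eq_one, C.u_mul, ← C.u_zero, CharTwo.add_self_eq_zero]
  congr 1
  linear_combination (b + a * th a) * (CharTwo.two_eq_zero : (2 : F) = 0)

theorem u_conj (a b c d : F) :
    C.u a b * C.u c d * (C.u a b)⁻¹ = C.u c (d + (th a * c + a * th c)) := by
  rw [mul_inv_eq_iff_eq_mul, C.u_mul, C.u_mul, add_comm a c]
  congr 1
  linear_combination (-a * th c) * (CharTwo.two_eq_zero : (2 : F) = 0)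

theorem u_eq_one {a b : F} (h : C.u a b = 1) : a = 0 ∧ b = 0 := C.u_inj (h.trans C.u_zero.symm)

theorem eq_zero_of_sq {a b : F} (h : C.u a b * C.u a b = 1) : a = 0 := by
  rw [C.u_sq] at h
  exact nm_eq_zero (C.u_eq_one h).2

theorem u_mem_U (a b : F) : C.u a b ∈ C.U := C.mem_U.2 ⟨a, b, rfl⟩
theorem z_mem_Z (b : F) : C.u 0 b ∈ C.Z := C.mem_Z.2 ⟨b, rfl⟩
theorem U_le : C.U ≤ C.A := map_subtype_le _
theorem Z_le : C.Z ≤ C.U := map_mono C.S.Z_le_U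
theorem A_le : C.A ≤ C.N := le_normalizer
theorem K_le : C.K ≤ C.N := centralizer_le_normalizer _
theorem N_eq : C.N = normalizer (C.K : Set G) := C.std.2.2.2
theorem U_two : IsPGroup 2 C.U := C.S.isPGroup_U.map _

theorem card_U : Nat.card C.U = Nat.card F ^ 2 := by
  rw [U, card_map_of_injective C.A.subtype_injective, C.S.card_U]

theorem card_Z : Nat.card C.Z = Nat.card F := by
  rw [Z, card_map_of_injective C.A.subtype_injective, C.S.card_Z]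

theorem conj_mem_A {n a : G} (hn : n ∈ C.N) (ha : a ∈ C.A) : n * a * n⁻¹ ∈ C.A :=
  (mem_normalizer_iff.1 hn a).1 ha

theorem conj_mem_K {n k : G} (hn : n ∈ C.N) (hk : k ∈ C.K) : n * k * n⁻¹ ∈ C.K :=
  (mem_normalizer_iff.1 (C.N_eq ▸ hn) k).1 hk

theorem center_eq : center C.A = ⊥ := by
  have := C.S.isSimpleGroup
  refine (inferInstance : (center C.A).Normal).eq_bot_or_eq_top.resolve_right fun e => ?_
  have h := C.S.centralizer_of_mem_Z (C.S.u_mem_Z 1) C.S.u_zero_one_ne_one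
  have h1 : C.S.w ∈ centralizer {C.S.u 0 1} :=
    mem_centralizer_singleton_iff.2 (mem_center_iff.1 (e.ge (mem_top _)) _)
  exact C.S.w_notMem_B (C.S.U_le_B (h ▸ h1))

theorem eq_one {x : G} (ha : x ∈ C.A) (hk : x ∈ C.K) : x = 1 := by
  have : (⟨x, ha⟩ : C.A) ∈ center C.A := mem_center_iff.2 fun g => Subtype.ext (hk g g.2)
  rw [C.center_eq, mem_bot] at this
  exact congrArg Subtype.val this

theorem mul_inj {k k' a a' : G} (hk : k ∈ C.K) (hk' : k' ∈ C.K) (ha : a ∈ C.A) (ha' : a' ∈ C.A)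
    (h : k * a = k' * a') : k = k' ∧ a = a' := by
  have h1 : k'⁻¹ * k = a' * a⁻¹ := by
    rw [inv_mul_eq_iff_eq_mul, ← mul_assoc, ← h, mul_inv_cancel_right]
  have h2 := C.eq_one (h1 ▸ mul_mem ha' (inv_mem ha)) (mul_mem (inv_mem hk') hk)
  exact ⟨(inv_mul_eq_one.1 h2).symm, (mul_inv_eq_one.1 (h1 ▸ h2)).symm⟩

theorem pow_eq_one {k a : G} (hk : k ∈ C.K) (ha : a ∈ C.A) {n : ℕ} (h : (k * a) ^ n = 1) :
    k ^ n = 1 ∧ a ^ n = 1 := by
  rw [(show Commute k a from C.comm hk ha).mul_pow, ← mul_one 1] at h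
  exact C.mul_inj (pow_mem hk n) (one_mem _) (pow_mem ha n) (one_mem _) h

theorem decomp {g : G} (hg : g ∈ C.N) {n : ℕ} (h : g ^ 2 ^ n = 1) :
    ∃ k ∈ C.K, ∃ a ∈ C.A, g = k * a := by
  let e : C.A ⧸ center C.A ≃* C.A :=
    (QuotientGroup.quotientMulEquivOfEq C.center_eq).trans QuotientGroup.quotientBot
  obtain ⟨r, hr, a, e⟩ := H39.decomp C.std.1.1 (C.S.comap e) hg h
  exact ⟨r, hr, a, a.2, e⟩

theorem exists_h {μ : F} (hμ : μ ≠ 0) :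
    ∃ h ∈ C.A, ∀ a b, h * C.u a b * h⁻¹ = C.u (μ * a) ((μ * th μ) * b) := by
  refine ⟨C.S.h (Units.mk0 (ta μ) (ta_ne_zero hμ)), Subtype.coe_prop _, fun a b => ?_⟩
  have h := congrArg Subtype.val (C.S.h_conj_u (Units.mk0 (ta μ) (ta_ne_zero hμ)) a b)
  rw [C.hθ, Units.val_mk0, th_ta, ta_sq, mul_comm (th μ)] at h
  exact h

/-- A `2`-element of `A` conjugating a nontrivial element of `U` into `U` lies in `U`. -/
theorem mem_U_of_conj {a x : G} (ha : a ∈ C.A) {n : ℕ} (h : a ^ 2 ^ n = 1) (hx : x ∈ C.U)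
    (h1 : x ≠ 1) (h2 : a * x * a⁻¹ ∈ C.U) : a ∈ C.U := by
  obtain ⟨x, hx, rfl⟩ := hx
  obtain ⟨y, hy, e⟩ := h2
  refine ⟨⟨a, ha⟩, C.S.mem_U_of_pow_eq_one (n := n) (C.S.mem_B_of_conj_mem_B' hx
    (fun e => h1 (by rw [e]; rfl)) ?_) (Subtype.ext h), rfl⟩
  rw [show (⟨a, ha⟩ : C.A) * x * (⟨a, ha⟩ : C.A)⁻¹ = y from Subtype.ext e.symm]
  exact C.S.U_le_B hy

theorem mem_U_of_comm {a x : G} (ha : a ∈ C.A) (hx : x ∈ C.U) (h1 : x ≠ 1) (h2 : a * x = x * a) :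
    a ∈ C.U := by
  obtain ⟨x, hx, rfl⟩ := hx
  exact ⟨⟨a, ha⟩, C.S.mem_U_of_comm hx (fun e => h1 (by rw [e]; rfl)) (Subtype.ext h2), rfl⟩

theorem mem_sup_U {R : Subgroup G} (hR : R ≤ C.K) {x : G} :
    x ∈ R ⊔ C.U ↔ ∃ r ∈ R, ∃ a b, x = r * C.u a b := by
  rw [sup_comm, H52.mem_sup_of_le_normalizer (C.U_le.trans fun a ha =>
    centralizer_le_normalizer _ (mem_centralizer_iff.2 fun r hr => C.comm (hR hr) ha))]
  constructor
  · rintro ⟨a, ha, r, hr, rfl⟩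
    obtain ⟨a, b, rfl⟩ := C.mem_U.1 ha
    exact ⟨r, hr, a, b, (C.comm (hR hr) (C.u_mem a b)).symm⟩
  · rintro ⟨r, hr, a, b, rfl⟩
    exact ⟨_, C.u_mem_U a b, r, hr, (C.comm (hR hr) (C.u_mem a b)).symm⟩

theorem card_sup_U {R : Subgroup G} (hR : R ≤ C.K) : Nat.card ↥(R ⊔ C.U) = 
    Nat.card R * Nat.card F ^ 2 := by
  rw [pow_two, ← Nat.card_prod, ← Nat.card_prod]
  refine (Nat.card_eq_of_bijective (fun p : R × F × F => (⟨p.1 * C.u p.2.1 p.2.2,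
    (C.mem_sup_U hR).2 ⟨_, p.1.2, _, _, rfl⟩⟩ : ↥(R ⊔ C.U))) ⟨?_, ?_⟩).symm
  · rintro ⟨r, a, b⟩ ⟨r', a', b'⟩ h
    obtain ⟨h1, h2⟩ := C.mul_inj (hR r.2) (hR r'.2) (C.u_mem _ _) (C.u_mem _ _) (Subtype.mk.inj h)
    obtain ⟨rfl, rfl⟩ := C.u_inj h2
    rw [Subtype.ext h1]
  · rintro ⟨x, hx⟩
    obtain ⟨r, hr, a, b, rfl⟩ := (C.mem_sup_U hR).1 hx
    exact ⟨(⟨r, hr⟩, a, b), rfl⟩

theorem sup_U_two {R : Subgroup G} (hR : R ≤ C.K) (h : IsPGroup 2 R) : IsPGroup 2 ↥(R ⊔ C.U) := by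
  rintro ⟨x, hx⟩
  obtain ⟨r, hr, a, b, rfl⟩ := (C.mem_sup_U hR).1 hx
  obtain ⟨n, hn⟩ := h ⟨r, hr⟩
  obtain ⟨m, hm⟩ := C.U_two ⟨_, C.u_mem_U a b⟩
  refine ⟨n + m, Subtype.ext ?_⟩
  change (r * C.u a b) ^ 2 ^ (n + m) = 1
  rw [(show Commute r (C.u a b) from C.comm (hR hr) (C.u_mem a b)).mul_pow, pow_add, pow_mul,
    show r ^ 2 ^ n = 1 from congrArg Subtype.val hn, mul_comm (2 ^ n), pow_mul,
    show C.u a b ^ 2 ^ m = 1 from congrArg Subtype.val hm]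
  simp

/-- A `2`-element of `N` conjugating a nontrivial element of `U` into `U` (or only into `K U`). -/
theorem decomp_U {g : G} (hg : g ∈ C.N) {n : ℕ} (h : g ^ 2 ^ n = 1) {x : G} (hx : x ∈ C.U)
    (h1 : x ≠ 1) (h2 : g * x * g⁻¹ ∈ C.U) : ∃ k ∈ C.K, ∃ a b, g = k * C.u a b := by
  obtain ⟨k, hk, a, ha, rfl⟩ := C.decomp hg h
  have h3 : k * a * x * (k * a)⁻¹ = a * x * a⁻¹ := by
    rw [← C.conj_of_K hk (C.conj_mem_A (C.A_le ha) (C.U_le hx))]; group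
  obtain ⟨a, b, rfl⟩ := C.mem_U.1 (C.mem_U_of_conj ha (C.pow_eq_one hk ha h).2 hx h1 (h3 ▸ h2))
  exact ⟨k, hk, a, b, rfl⟩

variable [Finite G]

theorem syl_U : H86.IsSylowIn 2 C.U C.A := H86.isSylowIn_map _ C.S.sylowU

/-- A `2`-subgroup of `N` containing `U` is the product of `U` and its part in `K`. -/
theorem two_decomp {D : Subgroup G} (hD : IsPGroup 2 D) (hN : D ≤ C.N) (hU : C.U ≤ D) {d : G}
    (hd : d ∈ D) : ∃ k ∈ D ⊓ C.K, ∃ a b, d = k * C.u a b := by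
  obtain ⟨n, hn⟩ := hD ⟨d, hd⟩
  have h1 : D ⊓ C.A ≤ C.U := C.syl_U.2.2 _ inf_le_right hD.to_inf_left (le_inf hU C.U_le)
  obtain ⟨k, hk, a, b, rfl⟩ := C.decomp_U (hN hd) (congrArg Subtype.val hn) (C.u_mem_U 0 1)
    (fun e => one_ne_zero (C.u_eq_one e).2) (h1 ⟨D.mul_mem (D.mul_mem hd (hU (C.u_mem_U 0 1)))
      (D.inv_mem hd), C.conj_mem_A (hN hd) (C.u_mem 0 1)⟩)
  exact ⟨k, ⟨(mul_mem_cancel_right (hU (C.u_mem_U a b))).1 hd, hk⟩, a, b, rfl⟩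

theorem syl_N {R : Subgroup G} (hR : H86.IsSylowIn 2 R C.K) : H86.IsSylowIn 2 (R ⊔ C.U) C.N := by
  refine ⟨sup_le (hR.1.trans C.K_le) (C.U_le.trans C.A_le), C.sup_U_two hR.1 hR.2.1,
    fun D hD pD hT d hd => ?_⟩
  obtain ⟨k, hk, a, b, rfl⟩ := C.two_decomp pD hD (le_sup_right.trans hT) hd
  exact (C.mem_sup_U hR.1).2 ⟨k, hR.2.2 _ inf_le_right pD.to_inf_left
    (le_inf (le_sup_left.trans hT) hR.1) hk, a, b, rfl⟩

theorem mem_N_of_conj {x g : G} (hx : x ∈ C.K) (h2 : x * x = 1) (h1 : x ≠ 1)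
    (hg : g * x * g⁻¹ ∈ C.K) : g ∈ C.N :=
  H10.Std.norm_of_conj_mem C.std (orderOf_eq_prime ((pow_two x).trans h2) h1) hx hg

theorem mem_N_of_comm {x g : G} (hx : x ∈ C.K) (h2 : x * x = 1) (h1 : x ≠ 1)
    (hg : g * x = x * g) : g ∈ C.N :=
  C.mem_N_of_conj hx h2 h1 (by rwa [hg, mul_inv_cancel_right])

omit [Finite G] in
theorem conj_K (g : G) : (C.conj g).K = MulAut.conj g • C.K := H8.centralizer_conj_smul _ g

omit [Finite G] in
theorem conj_N (g : G) : (C.conj g).N = MulAut.conj g • C.N := H8.normalizer_conj_smul _ g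

omit [Finite G] in
theorem conj_A (g : G) : (C.conj g).A = MulAut.conj g • C.A := rfl

omit [Finite G] in
theorem conj_A_of_mem {g : G} (hg : g ∈ C.N) : (C.conj g).A = C.A :=
  H8.mem_normalizer_iff_conj_smul_eq.1 hg

omit [Finite G] in
theorem smul_K_of_mem {g : G} (hg : g ∈ C.N) : MulAut.conj g • C.K = C.K :=
  H8.mem_normalizer_iff_conj_smul_eq.1 (C.N_eq ▸ hg)

/-- Two conjugates of `K` with a common involution are equal. -/
theorem smul_K_eq {x g g' : G} (hx : x ∈ MulAut.conj g • C.K) (hx' : x ∈ MulAut.conj g' • C.K)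
    (h2 : x * x = 1) (h1 : x ≠ 1) : MulAut.conj g • C.K = MulAut.conj g' • C.K := by
  rw [H8.mem_conj_smul] at hx hx'
  have h := C.mem_N_of_conj (g := g⁻¹ * g') hx' (by
    rw [show g'⁻¹ * x * g' * (g'⁻¹ * x * g') = g'⁻¹ * (x * x) * g' by group, h2]; group)
    (fun e => h1 (by
      rw [show x = g' * (g'⁻¹ * x * g') * g'⁻¹ by group, e]; group))
    (by rwa [show g⁻¹ * g' * (g'⁻¹ * x * g') * (g⁻¹ * g')⁻¹ = g⁻¹ * x * g by group])
  conv_lhs => rw [← C.smul_K_of_mem h, H8.conj_smul_conj_smul, mul_inv_cancel_left]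

theorem eq_one_of_mem_smul {x g : G} (hg : g ∉ C.N) (hx : x ∈ C.K) (hx' : x ∈ MulAut.conj g • C.K)
    {n : ℕ} (h : x ^ 2 ^ n = 1) : x = 1 := by
  by_contra h1
  obtain ⟨y, hy, ho⟩ := H10.exists_orderOf_eq_of_ne_bot (p := 2) (H10.isPGroup_zpowers_of_pow h)
    (by rwa [Ne, zpowers_eq_bot])
  have h2 : y * y = 1 := by rw [← pow_two, ← ho, pow_orderOf_eq_one]
  have h3 : y ≠ 1 := fun e => by rw [e, orderOf_one] at ho; exact absurd ho (by decide)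
  have h4 := C.smul_K_eq (g := g) (g' := 1) (zpowers_le.2 hx' hy)
    (by rw [map_one, one_smul]; exact zpowers_le.2 hx hy) h2 h3
  rw [map_one, one_smul] at h4
  exact hg (C.N_eq ▸ H8.mem_normalizer_iff_conj_smul_eq.2 h4)

/-- A `2`-subgroup of `N` lies in `K` times a Sylow subgroup of `A`. -/
theorem exists_twist {D : Subgroup G} (hD : IsPGroup 2 D) (hN : D ≤ C.N) :
    ∃ a ∈ C.A, ∀ d ∈ D, ∃ k ∈ C.K, ∃ x y, d = k * (C.conj a).u x y := by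
  obtain ⟨R, hR, -⟩ := H86.exists_isSylowIn (p := 2) (bot_le : ⊥ ≤ C.K) IsPGroup.of_bot
  obtain ⟨n, hn, h⟩ := (C.syl_N hR).exists_conj hN hD
  obtain ⟨a, ha, h1⟩ := C.syl_U.exists_conj (B := MulAut.conj n⁻¹ • C.U)
    (fun x hx => by
      rw [H8.mem_conj_smul, inv_inv] at hx
      simpa [mul_assoc] using C.conj_mem_A (inv_mem hn) (C.U_le hx))
    (H8.isPGroup_conj_smul C.U_two _)
  refine ⟨a⁻¹, inv_mem ha, fun d hd => ?_⟩
  obtain ⟨r, hr, x, y, e⟩ := (C.mem_sup_U hR.1).1 (h d hd)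
  obtain ⟨x', y', e'⟩ := C.mem_U.1 (h1 _ (H8.conj_mem_conj_smul.2 (C.u_mem_U x y)))
  refine ⟨n⁻¹ * r * n⁻¹⁻¹, C.conj_mem_K (inv_mem hn) (hR.1 hr), x', y', ?_⟩
  rw [conj_u, ← e', show d = n⁻¹ * (n * d * n⁻¹) * n by group, e]
  group

end Ctx

end Cfsg.Agent.H19.Nz
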