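import Cfsg.Agent.H19.NzP

/-!
# The local configuration of a standard subgroup `Sz(q)`
-/

set_option autoImplicit false
set_option maxRecDepth 100000

namespace Cfsg.Agent.H19.Nz

open Subgroup H39 H8
open scoped Pointwise

universe u

variable {F : Type} [Field F] [TF F]

local instance factTwoNzQ : Fact (Nat.Prime 2) := ⟨Nat.prime_two⟩

theorem four_le {G : Type*} [Group G] [Finite G] (h : IsPGroup 2 G) (hc : ¬ IsCyclic G) :
    4 ≤ Nat.card G := by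
  obtain ⟨n, hn⟩ := IsPGroup.iff_card.1 h
  rcases n with _ | _ | n
  · exact absurd (isCyclic_of_card_dvd_prime (p := 2) (by rw [hn]; norm_num)) hc
  · exact absurd (isCyclic_of_card_dvd_prime (p := 2) (by rw [hn]; norm_num)) hc
  · rw [hn, pow_succ, pow_succ]
    have := Nat.two_pow_pos n
    omega

theorem conf (hA : AlphaStmt.{u}) : ConfStmt.{u} := by
  intro F _ _ G _ _ C g k b hn hp hc
  classical
  have hz : ∀ g b, C.u 0 b ∈ MulAut.conj g • C.K → b = 0 := fun g b hb => by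
    by_contra b0
    have hg : g ∉ C.N := fun hg => b0 (C.u_eq_one (C.eq_one (C.u_mem 0 b)
      (C.smul_K_of_mem hg ▸ hb))).2
    rcases pair F G C g 1 b ⟨hg, one_mem _, mul_one 1, b0, by rwa [one_mul]⟩ with h | h
    exacts [hA F G C g hn hg h, b0 (h.1 b hb)]
  obtain ⟨-, R, hR, hsq, hl⟩ := (pair F G C g k b hp).resolve_left (hA F G C g hn hp.hg)
  have uniq : ∀ {g x b b'}, x * C.u 0 b ∈ MulAut.conj g • C.K → x * C.u 0 b' ∈ MulAut.conj g • C.K →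
      b = b' := fun {g x b b'} h1 h2 => by
    have h3 := mul_mem (inv_mem h1) h2
    rw [mul_inv_rev, mul_assoc, inv_mul_cancel_left, C.z_inv, C.z_mul] at h3
    exact CharTwo.add_eq_zero.1 (hz g _ h3)
  let L : AddSubgroup F :=
    { carrier := {b | ∃ x ∈ R, x * C.u 0 b ∈ MulAut.conj g • C.K}
      zero_mem' := ⟨1, one_mem _, by rw [C.u_zero, mul_one]; exact one_mem _⟩
      add_mem' := by
        rintro a b ⟨x, hx, h1⟩ ⟨y, hy, h2⟩
        refine ⟨x * y, mul_mem hx hy, ?_⟩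
        have h3 := mul_mem h1 h2
        rwa [mul_assoc, ← mul_assoc (C.u 0 a), ← C.comm (hR.1 hy) (C.u_mem 0 a), mul_assoc, C.z_mul,
          ← mul_assoc] at h3
      neg_mem' := fun h => by rwa [CharTwo.neg_eq] }
  have hex : ∀ b, ∃ x ∈ R, b ∈ L → x * C.u 0 b ∈ MulAut.conj g • C.K := fun b => by
    by_cases hb : b ∈ L
    · obtain ⟨x, hx, h⟩ := hb
      exact ⟨x, hx, fun _ => h⟩
    · exact ⟨1, one_mem _, fun h => absurd h hb⟩
  choose r hr hr' using hex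
  have r_eq : ∀ {x b}, x ∈ R → x * C.u 0 b ∈ MulAut.conj g • C.K → r b = x := fun {x b} hx h => by
    have h1 := mul_mem (hr' b ⟨x, hx, h⟩) (inv_mem h)
    rw [mul_inv_rev, ← mul_assoc, mul_inv_cancel_right] at h1
    exact mul_inv_eq_one.1 (C.eq_one_of_mem_smul hp.hg (hR.1 (mul_mem (hr b) (inv_mem hx))) h1
      (n := 1) ((pow_two _).trans (hsq _ (mul_mem (hr b) (inv_mem hx)))))
  have r_surj : ∀ x ∈ R, ∃ b ∈ L, r b = x := fun x hx => by
    by_cases x1 : x = 1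
    · exact ⟨0, zero_mem _, r_eq hx (by rw [x1, C.u_zero, mul_one]; exact one_mem _)⟩
    · obtain ⟨b, -, h⟩ := hl x hx x1
      exact ⟨b, ⟨x, hx, h⟩, r_eq hx h⟩
  have r_one : ∀ x ∈ L, r x = 1 → x = 0 := fun x hx h => hz g x (by simpa [h] using hr' x hx)
  have r0 : r 0 = 1 := r_eq (one_mem _) (by rw [C.u_zero, mul_one]; exact one_mem _)
  have hK : ∀ x, r x ∈ C.K := fun x => hR.1 (hr x)
  have h4 : 4 ≤ Nat.card L := (four_le hR.2.1 (hc R hR)).trans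
    (Nat.card_le_card_of_surjective (fun b : L => (⟨r b, hr b⟩ : R)) fun x => by
      obtain ⟨b, hb, e⟩ := r_surj x x.2
      exact ⟨⟨b, hb⟩, Subtype.ext e⟩)
  obtain ⟨x₀, hx₀, x0, -⟩ := exists_ne_mem h4 0
  have r1 : r x₀ ≠ 1 := fun e => x0 (r_one x₀ hx₀ e)
  have sq : ∀ x b, r x * C.u 0 b * (r x * C.u 0 b) = 1 := fun x b => by
    rw [mul_assoc, ← mul_assoc (C.u 0 b), ← C.comm (hK x) (C.u_mem 0 b), mul_assoc, C.z_sq, mul_one,
      hsq _ (hr x)]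
  have ne : ∀ {x b}, r x ≠ 1 → r x * C.u 0 b ≠ 1 := fun {x b} h e =>
    h (C.mul_inj (hK x) (one_mem _) (C.u_mem 0 b) (one_mem _) (e.trans (mul_one 1).symm)).1
  have hN : ∀ {n : G}, n * r x₀ * n⁻¹ ∈ C.K → n ∈ C.N :=
    C.mem_N_of_conj (hK x₀) (hsq _ (hr x₀)) r1
  refine ⟨⟨C.u, C.u_mul, L, h4, r, fun x hx y hy => (r_eq (mul_mem (hr x) (hr y)) ?_).symm,
    fun x _ a b => C.comm (hK x) (C.u_mem a b), fun x hx a b e => ?_, fun μ hμ => ?_, ?_,
    fun n h => ?_, fun n ⟨i, hi⟩ h1 h2 => ?_, fun n h1 h2 a b => ?_, hn⟩⟩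
  · have h3 := mul_mem (hr' x hx) (hr' y hy)
    rwa [mul_assoc, ← mul_assoc (C.u 0 x), ← C.comm (hK y) (C.u_mem 0 x), mul_assoc, C.z_mul,
      ← mul_assoc] at h3
  · obtain ⟨h1, h2⟩ := C.mul_inj (hK x) (one_mem _) (C.u_mem a b) (one_mem _)
      (e.trans (mul_one 1).symm)
    exact ⟨r_one x hx h1, C.u_eq_one h2⟩
  · obtain ⟨h, hA, e⟩ := C.exists_h hμ
    exact ⟨h, fun x _ => C.conj_of_A (hK x) hA, e⟩
  · have h1 := syl_iff.1 (C.syl_N hR)
    have h2 : R ⊔ C.U ≤ MulAut.conj g • C.N := fun y hy => by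
      obtain ⟨s, hs, a, b, rfl⟩ := (C.mem_sup_U hR.1).1 hy
      rw [← C.conj_N]
      refine (C.conj g).mem_N_of_comm (C.conj_K g ▸ hr' x₀ hx₀) (sq _ _) (ne r1) ?_
      have c1 : Commute s (r x₀) := H3.SzE.comm_of_sq hsq hs (hr x₀)
      have c2 : Commute s (C.u 0 x₀) := C.comm (hR.1 hs) (C.u_mem _ _)
      have c3 : Commute (C.u a b) (r x₀) := (C.comm (hK x₀) (C.u_mem _ _)).symm
      have c4 : Commute (C.u a b) (C.u 0 x₀) := (C.z_comm _ _ _).symm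
      exact (c1.mul_right c2).mul_left (c3.mul_right c4)
    obtain ⟨n, hn, e⟩ := (h1.conj_smul g).exists_conj_eq
      ((h1.conj_smul g).of_card_ge h1.isPGroup h2 (H8.card_conj_smul _ g).le)
    rw [conj_smul_conj_smul] at e
    have h3 : ∀ y ∈ R ⊔ C.U, ∃ x ∈ L, ∃ a b, n * g * y * (n * g)⁻¹ = r x * C.u a b := fun y hy => by
      obtain ⟨s, hs, a, b, e'⟩ := (C.mem_sup_U hR.1).1 (e ▸ conj_mem_conj_smul.2 hy)
      obtain ⟨x, hx, rfl⟩ := r_surj s hs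
      exact ⟨x, hx, a, b, e'⟩
    refine ⟨n * g, fun x _ a b => h3 _ ((C.mem_sup_U hR.1).2 ⟨_, hr x, a, b, rfl⟩), fun x _ => ?_⟩
    obtain ⟨y, hy, a, b, e'⟩ := h3 _ (mem_sup_left (hr x))
    have h5 : r y * C.u a b ∈ MulAut.conj g • C.K := by
      rw [← e', ← C.conj_K, show n * g * r x * (n * g)⁻¹ = n * (g * r x * g⁻¹) * n⁻¹ by group]
      exact (C.conj g).conj_mem_K (C.conj_N g ▸ hn) (C.conj_K g ▸ conj_mem_conj_smul.2 (hK x))
    have h6 : (r y * C.u a b) ^ 2 = 1 := by rw [← e', pow_two, conj_mul, hsq _ (hr x)]; group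
    obtain rfl := C.eq_zero_of_sq ((pow_two _).symm.trans (C.pow_eq_one (hK y) (C.u_mem a b) h6).2)
    exact ⟨y, hy, by rw [e', uniq h5 (hr' y hy)]⟩
  · have h1 : ∀ c : F, ∃ g' : G, ∀ y ∈ L, r y * C.u 0 (c * y) ∈ MulAut.conj g' • C.K := fun c => by
      by_cases c0 : c = 0
      · exact ⟨1, fun y _ => by rw [c0, zero_mul, C.u_zero, mul_one, map_one, one_smul]; exact hK y⟩
      obtain ⟨μ, rfl⟩ := nm_surj c
      obtain ⟨h, hA, e⟩ := C.exists_h (μ := μ) fun e => c0 (by rw [e]; simp)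
      refine ⟨h * g, fun y hy => ?_⟩
      have h2 := (conj_mem_conj_smul (g := h)).2 (hr' y hy)
      rwa [conj_smul_conj_smul, ← conj_mul, C.conj_of_A (hK y) hA, e, mul_zero] at h2
    obtain ⟨y₀, hy₀, b₀, e₀⟩ := h x₀ hx₀
    have y0 : y₀ ≠ 0 := fun e => by
      rw [e, r0, one_mul] at e₀
      rw [hz n b₀ (e₀ ▸ conj_mem_conj_smul.2 (hK x₀)), C.u_zero, conj_eq_one_iff] at e₀
      exact r1 e₀
    obtain ⟨g', h2⟩ := h1 (b₀ / y₀)
    have h3 : MulAut.conj n • C.K = MulAut.conj g' • C.K :=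
      C.smul_K_eq (e₀ ▸ conj_mem_conj_smul.2 (hK x₀))
        (by simpa [y0] using h2 y₀ hy₀) (sq _ _) (ne fun e => y0 (r_one _ hy₀ e))
    refine ⟨b₀ / y₀, fun x hx => ?_⟩
    obtain ⟨y, hy, b, e⟩ := h x hx
    have h5 : r y * C.u 0 b ∈ MulAut.conj g' • C.K := by
      rw [← h3, ← e]; exact conj_mem_conj_smul.2 (hK x)
    exact ⟨y, hy, by rw [e, uniq h5 (h2 y hy)]⟩
  · obtain ⟨y, -, e⟩ := h1 x₀ hx₀
    obtain ⟨b', e'⟩ := h2 1
    obtain ⟨k, hk, a, b, rfl⟩ := C.decomp_U (hN (e ▸ hK y)) hi (C.u_mem_U 0 1)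
      (fun e => one_ne_zero (C.u_eq_one e).2) (e' ▸ C.u_mem_U 0 b')
    have h3 : k ∈ R := (syl_iff.1 hR).le_of_le_normalizer'
      (H10.isPGroup_zpowers_of_pow (C.pow_eq_one hk (C.u_mem a b) hi).1) (zpowers_le.2 hk)
      (zpowers_le.2 (mem_normalizer_fintype fun s hs => by
        obtain ⟨x, hx, rfl⟩ := r_surj s hs
        obtain ⟨y, -, e⟩ := h1 x hx
        rw [show k * C.u a b * r x * (k * C.u a b)⁻¹ = k * (C.u a b * r x * (C.u a b)⁻¹) * k⁻¹ by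
          group, C.conj_of_A (hK x) (C.u_mem a b)] at e
        exact e ▸ hr y)) (mem_zpowers k)
    obtain ⟨x, hx, rfl⟩ := r_surj k h3
    exact ⟨x, hx, a, b, rfl⟩
  · obtain ⟨c, σ, -, h3⟩ := C.S.semi_aut (C.A.normalizerMonoidHom ⟨n, hN ((h1 x₀ hx₀).symm ▸ hK x₀)⟩)
      one_ne_zero (Subtype.ext (h2 1))
    obtain ⟨e', h4⟩ := h3 a b
    have h5 : n * C.u a b * n⁻¹ = C.u (c * σ a) e' := congrArg Subtype.val h4
    have h6 := h2 ((a * th a))
    rw [← C.u_sq a b, ← conj_mul, h5, C.u_sq, C.u_sq] at h6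
    exact ⟨e', by rw [h5, nm_inj (C.u_inj h6).2]⟩

end Cfsg.Agent.H19.Nz
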