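import Cfsg.Agent.H19.NzC
import Cfsg.Agent.H3.SzEnd

/-!
# Two conjugates of the standard subgroup `Sz(q)`
-/

set_option autoImplicit false
set_option maxRecDepth 100000

namespace Cfsg.Agent.H19.Nz

open Subgroup H39 H8
open scoped Pointwise

universe u

variable {F : Type} [Field F] [TF F]

local instance factTwoNzP : Fact (Nat.Prime 2) := ⟨Nat.prime_two⟩

variable {G : Type u} [Group G] {C C' : Ctx G F} {P : Subgroup G}

/-- Two different conjugates. -/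
def Two (C C' : Ctx G F) : Prop := ∃ g ∉ C.N, C'.A = MulAut.conj g • C.A

namespace Two

theorem K_eq {g : G} (e : C'.A = MulAut.conj g • C.A) : C'.K = MulAut.conj g • C.K := by
  rw [Ctx.K, e, centralizer_conj_smul]

theorem symm (h : Two C C') : Two C' C := by
  obtain ⟨g, hg, e⟩ := h
  refine ⟨g⁻¹, fun h => hg ?_, by rw [e, conj_inv_smul_conj_smul]⟩
  rw [Ctx.N, e, H8.normalizer_conj_smul, mem_conj_smul] at h
  simpa using h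

variable [Finite G] (h : Two C C')
include h

theorem eq_one {x : G} (hx : x ∈ C.K) (hx' : x ∈ C'.K) {n : ℕ} (e : x ^ 2 ^ n = 1) : x = 1 := by
  obtain ⟨g, hg, e1⟩ := h
  exact C.eq_one_of_mem_smul hg hx (K_eq e1 ▸ hx') e

omit h in
theorem syl (hP : IsSylowIn 2 P (C.N ⊓ C'.N)) : IsSylowIn 2 (P ⊓ C'.K) (C'.K ⊓ C.N) := by
  have h1 := hP.inf_of_le_normalizer (N := C'.K) (inf_le_right.trans C'.N_eq.le)
  rwa [show C.N ⊓ C'.N ⊓ C'.K = C'.K ⊓ C.N from le_antisymm (fun x hx => ⟨hx.2, hx.1.1⟩)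
    fun x hx => ⟨⟨hx.2, C'.K_le hx.1⟩, hx.1⟩] at h1

theorem pair (hP : IsSylowIn 2 P (C.N ⊓ C'.N)) (h1 : P ⊓ C'.K ≠ ⊥) :
    ∃ T₀ ≤ C.K ⊓ C'.N, Nonempty (T₀ ≃* ↥(P ⊓ C'.K)) := by
  have h2 := syl hP
  obtain ⟨g, hg, e⟩ := h
  obtain ⟨T₀, h3, h4, h5⟩ := H10.Std.exists_pair C.std hg (by rw [← K_eq e]; exact h2) h1
  obtain ⟨⟨t, ht⟩, t1⟩ := ne_bot_iff_exists_ne_one.1 h1
  obtain ⟨n, hn⟩ := h2.isPGroup ⟨t, ht⟩
  exact ⟨T₀, fun y hy => ⟨h3 hy, H10.Std.cent_le_norm' C'.std (congrArg Subtype.val hn)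
    (fun e => t1 (Subtype.ext e)) ht.2 (H10.Std.mem_cent1.2 (h4 t ht y hy).symm)⟩, h5⟩

theorem card_le (hP : IsSylowIn 2 P (C.N ⊓ C'.N)) (h1 : P ⊓ C'.K ≠ ⊥) :
    Nat.card ↥(P ⊓ C'.K) ≤ Nat.card ↥(P ⊓ C.K) := by
  obtain ⟨T₀, h2, ⟨e⟩⟩ := h.pair hP h1
  rw [← Nat.card_congr e.toEquiv]
  exact (syl (inf_comm C.N C'.N ▸ hP)).card_le ((syl hP).isPGroup.of_equiv e.symm) h2

theorem ne_bot (hP : IsSylowIn 2 P (C.N ⊓ C'.N)) (h1 : P ⊓ C'.K ≠ ⊥) : P ⊓ C.K ≠ ⊥ := fun e => by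
  have h2 := h.card_le hP h1
  rw [e, card_bot] at h2
  exact h1 (eq_bot_of_card_le _ h2)

theorem card_eq (hP : IsSylowIn 2 P (C.N ⊓ C'.N)) (h1 : P ⊓ C'.K ≠ ⊥) :
    Nat.card ↥(P ⊓ C'.K) = Nat.card ↥(P ⊓ C.K) :=
  le_antisymm (h.card_le hP h1) (h.symm.card_le (inf_comm C.N C'.N ▸ hP) (h.ne_bot hP h1))

theorem elem (hP : IsSylowIn 2 P (C.N ⊓ C'.N)) (h1 : P ⊓ C'.K ≠ ⊥)
    (he : ∀ x ∈ P ⊓ C'.K, x * x = 1) : ∀ x ∈ P ⊓ C.K, x * x = 1 := by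
  obtain ⟨T₀, h2, ⟨e⟩⟩ := h.pair hP h1
  have h3 := syl (inf_comm C.N C'.N ▸ hP)
  have h4 := h3.of_card_ge ((syl hP).isPGroup.of_equiv e.symm) h2
    (by rw [Nat.card_congr e.toEquiv, h.card_eq hP h1])
  obtain ⟨c, -, h5⟩ := h4.exists_conj_eq h3
  intro x hx
  rw [← h5, mem_conj_smul] at hx
  have h6 : (⟨_, hx⟩ : T₀) * ⟨_, hx⟩ = 1 := e.injective (by
    rw [map_mul, map_one]; exact Subtype.ext (he _ (e _).2))
  have h7 : c⁻¹ * x * c * (c⁻¹ * x * c) = 1 := congrArg Subtype.val h6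
  rw [show x * x = c * (c⁻¹ * x * c * (c⁻¹ * x * c)) * c⁻¹ by group, h7]; group

omit h in
theorem conj_mem (hP : IsSylowIn 2 P (C.N ⊓ C'.N)) {x t : G} (hx : x ∈ P) (ht : t ∈ P ⊓ C'.K) :
    x * t * x⁻¹ ∈ P ⊓ C'.K :=
  ⟨P.mul_mem (P.mul_mem hx ht.1) (P.inv_mem hx), C'.conj_mem_K (hP.le hx).2 ht.2⟩

end Two

theorem aux2 {a l : F} (ha : a ≠ 0) (hl : l ≠ 0) : ∃ c c' : F, th a * c + a * th c ≠ 0 ∧
    l * (th a * c + a * th c) = th a * c' + a * th c' := by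
  classical
  let f : F →+ F := AddMonoidHom.mk' (fun c => th a * c + a * th c) fun x y => by
    rw [th_add]; ring
  have hk : Nat.card f.ker ≤ 2 := by
    have : Nat.card f.ker ≤ Nat.card ({0, a} : Finset F) :=
      Nat.card_le_card_of_injective (fun y => ⟨y.1, by
        by_cases e : y.1 = 0
        · simp [e]
        · simp [← ratio_inj ha e (CharTwo.add_eq_zero.1 y.2)]⟩) fun a b e =>
          Subtype.ext (Subtype.mk.inj e)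
    rw [Nat.card_eq_fintype_card (α := ({0, a} : Finset F)), Fintype.card_coe] at this
    exact this.trans Finset.card_le_two
  have hi : f.range.index ≤ 2 := by
    have h1 := f.ker.card_mul_index
    have h2 := f.range.card_mul_index
    rw [AddSubgroup.index_ker] at h1
    have h3 : 0 < Nat.card f.range := Nat.card_pos
    nlinarith
  have hi' : (f.range.comap (AddMonoidHom.mulLeft l)).index ≤ 2 := by
    rwa [AddSubgroup.index_comap_of_surjective _ (mulLeft_bijective₀ l hl).2]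
  have h1 := (AddSubgroup.index_inf_le (H := f.range)
    (K := f.range.comap (AddMonoidHom.mulLeft l))).trans (Nat.mul_le_mul hi hi')
  have h2 := (f.range ⊓ f.range.comap (AddMonoidHom.mulLeft l)).card_mul_index
  have h3 := TF.big (F := F)
  obtain ⟨y, ⟨⟨c, rfl⟩, c', h4⟩, y0, -⟩ := exists_ne_mem
    (L := f.range ⊓ f.range.comap (AddMonoidHom.mulLeft l)) (by nlinarith) 0
  exact ⟨c, c', y0, h4.symm⟩

theorem aux3 (y b : F) (hy : y ≠ 0) : b = 0 ∨ ∃ μ : F, μ ≠ 0 ∧ μ * th μ * y = b := by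
  refine or_iff_not_imp_left.2 fun hb => ?_
  obtain ⟨μ, h⟩ := nm_surj (b / y)
  exact ⟨μ, fun e => div_ne_zero hb hy (by rw [← h, e, zero_mul]), by rw [h, div_mul_cancel₀ _ hy]⟩

theorem aux4 (a a' : F) (ha : a ≠ 0) : a' = 0 ∨ ∃ μ ν : F, μ ≠ 0 ∧ ν ≠ 0 ∧ μ * a + ν * a = a' := by
  obtain ⟨μ, h1, h2⟩ := exists_ne2 0 (a' / a)
  refine Or.inr ⟨μ, μ + a' / a, h1, fun e => h2 (CharTwo.add_eq_zero.1 e), ?_⟩
  rw [add_mul, ← add_assoc, aa, zero_add, div_mul_cancel₀ _ ha]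

variable [Finite G]

/-- If the part of `P` in `K'` has an element outside `K Z`, then `U ≤ K'`. -/
theorem half (hP : IsSylowIn 2 P (C.N ⊓ C'.N)) (hU : C.U ≤ P) {k : G} (hk : k ∈ C.K) {a b : F}
    (ht : k * C.u a b ∈ P ⊓ C'.K) (ha : a ≠ 0) : C.U ≤ C'.K ∧ C.K ≤ C'.N := by
  have h1 : ∀ c, C.u 0 (th a * c + a * th c) ∈ C'.K := fun c => by
    have h2 := C'.K.mul_mem (Two.conj_mem hP (hU (C.u_mem_U c 0)) ht).2 (C'.K.inv_mem ht.2)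
    have h3 : C.u c 0 * (k * C.u a b) * (C.u c 0)⁻¹ * (k * C.u a b)⁻¹ =
        k * (C.u c 0 * C.u a b * (C.u c 0)⁻¹ * (C.u a b)⁻¹) * k⁻¹ := by
      rw [← mul_assoc (C.u c 0), ← C.comm hk (C.u_mem c 0)]; group
    rw [h3, C.u_conj, C.u_inv, C.u_mul, C.conj_of_K hk (C.u_mem _ _), CharTwo.add_self_eq_zero] at h2
    convert h2 using 2
    linear_combination (-b - (a * th a)) * (CharTwo.two_eq_zero : (2 : F) = 0)
  obtain ⟨c, -, y0, -⟩ := aux2 ha one_ne_zero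
  have z1 : ∀ {p}, p ≠ 0 → C.u 0 p ≠ 1 := fun hp e => hp (C.u_eq_one e).2
  have h3 : ∀ μ ≠ (0 : F), ∃ h ∈ C.A, h ∈ C'.N ∧
      ∀ a b, h * C.u a b * h⁻¹ = C.u (μ * a) ((μ * th μ) * b) := fun μ hμ => by
    obtain ⟨h, hA, e⟩ := C.exists_h hμ
    obtain ⟨d, d', p0, hq⟩ := aux2 ha (nm_ne_zero hμ)
    refine ⟨h, hA, C'.mem_N_of_conj (h1 d) (C.z_sq _) (z1 p0) ?_, e⟩
    rw [e, mul_zero, hq]
    exact h1 d'
  have h4 : ∀ b, C.u 0 b ∈ C'.K := fun b => by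
    rcases aux3 _ b y0 with rfl | ⟨μ, hμ, rfl⟩
    · rw [C.u_zero]; exact one_mem _
    obtain ⟨h, -, hN, e⟩ := h3 μ hμ
    have := C'.conj_mem_K hN (h1 c)
    rwa [e, mul_zero] at this
  have h5 : ∀ μ ≠ (0 : F), k * C.u (μ * a) ((μ * th μ) * b) ∈ C'.K := fun μ hμ => by
    obtain ⟨h, hA, hN, e⟩ := h3 μ hμ
    have := C'.conj_mem_K hN ht.2
    rwa [← conj_mul, C.conj_of_A hk hA, e] at this
  refine ⟨fun x hx => ?_, fun x hx => C'.mem_N_of_comm (h4 1) (C.z_sq 1) (z1 one_ne_zero)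
    (C.comm hx (C.u_mem 0 1))⟩
  obtain ⟨a', b', rfl⟩ := C.mem_U.1 hx
  rcases aux4 a a' ha with rfl | ⟨μ, ν, hμ, hν, rfl⟩
  · exact h4 b'
  have h6 := mul_mem (inv_mem (h5 μ hμ)) (h5 ν hν)
  rw [mul_inv_rev, mul_assoc, inv_mul_cancel_left, C.u_inv, C.u_mul] at h6
  have h7 := mul_mem h6 (h4 (b' + ((μ * th μ) * b + ((μ * a) * th (μ * a)) + (ν * th ν) * b + th (μ * a) * (ν * a))))
  rw [C.u_mul, add_zero] at h7
  convert h7 using 2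
  linear_combination (-((μ * th μ) * b + ((μ * a) * th (μ * a)) + (ν * th ν) * b + th (μ * a) * (ν * a))) *
    (CharTwo.two_eq_zero : (2 : F) = 0)

/-- If the part of `P` in `K'` lies in `K Z` it is elementary. -/
theorem elem_of (h : Two C C') (hP : IsSylowIn 2 P (C.N ⊓ C'.N)) (hU : C.U ≤ P)
    (hz : ∀ k ∈ C.K, ∀ a b, k * C.u a b ∈ P ⊓ C'.K → a = 0) : ∀ x ∈ P ⊓ C'.K, x * x = 1 := by
  intro x hx
  obtain ⟨k, hk, a, b, rfl⟩ := C.two_decomp hP.isPGroup (hP.le.trans inf_le_left) hU hx.1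
  obtain rfl := hz k hk.2 a b hx
  have e : k * C.u 0 b * (k * C.u 0 b) = k * k := by
    rw [mul_assoc, ← mul_assoc (C.u 0 b), ← C.comm hk.2 (C.u_mem 0 b), mul_assoc, C.z_sq, mul_one]
  obtain ⟨n, hn⟩ := hP.isPGroup ⟨_, mul_mem hx.1 hx.1⟩
  exact h.eq_one (e ▸ mul_mem hk.2 hk.2) (mul_mem hx.2 hx.2) (congrArg Subtype.val hn)

theorem not_elem_U : ¬ ∀ x ∈ C.U, x * x = 1 := fun h =>
  one_ne_zero (C.eq_zero_of_sq (h _ (C.u_mem_U 1 0)))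

theorem alpha_of (h : Two C C') (hP : IsSylowIn 2 P (C.N ⊓ C'.N)) (hU : C.U ≤ P) (hU' : C'.U ≤ P)
    (h1 : C.U ≤ C'.K) (h2 : C.K ≤ C'.N) :
    H86.IsSylowIn 2 C'.U C.K := by
  have hP' : IsSylowIn 2 P (C'.N ⊓ C.N) := inf_comm C.N C'.N ▸ hP
  have hb : P ⊓ C'.K ≠ ⊥ := fun e => not_elem_U (C := C) fun x hx => by
    rw [mem_bot.1 (e.le ⟨hU hx, h1 hx⟩), mul_one]
  have h3 : C'.U ≤ C.K := by
    by_contra h3
    refine not_elem_U (C := C) fun x hx => h.symm.elem hP' (h.ne_bot hP hb)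
      (elem_of h.symm hP' hU' fun k hk a b ht => ?_) x ⟨hU hx, h1 hx⟩
    by_contra ha
    exact h3 (half hP' hU' hk ht ha).1
  have h4 := Two.syl hP'
  rw [inf_eq_left.2 h2] at h4
  have h5 : P ⊓ C.K = C'.U := by
    refine le_antisymm (fun x hx => ?_) (le_inf hU' h3)
    obtain ⟨k, hk, a, b, rfl⟩ := C'.two_decomp hP.isPGroup (hP.le.trans inf_le_right) hU' hx.1
    obtain ⟨n, hn⟩ := hP.isPGroup ⟨k, hk.1⟩
    rw [h.eq_one ((mul_mem_cancel_right (h3 (C'.u_mem_U a b))).1 hx.2) hk.2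
      (congrArg Subtype.val hn), one_mul]
    exact C'.u_mem_U a b
  exact syl_iff.2 (h5 ▸ h4)

theorem beta_of (h : Two C C') (hP : IsSylowIn 2 P (C.N ⊓ C'.N)) (hU : C.U ≤ P) (hU' : C'.U ≤ P)
    (hb : P ⊓ C'.K ≠ ⊥) (hz : ∀ k ∈ C.K, ∀ a b, k * C.u a b ∈ P ⊓ C'.K → a = 0) :
    (∀ b, C.u 0 b ∈ C'.K → b = 0) ∧ ∃ R, H86.IsSylowIn 2 R C.K ∧ (∀ x ∈ R, x * x = 1) ∧
      ∀ x ∈ R, x ≠ 1 → ∃ b ≠ 0, x * C.u 0 b ∈ C'.K := by
  have hP' : IsSylowIn 2 P (C'.N ⊓ C.N) := inf_comm C.N C'.N ▸ hP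
  have e1 := elem_of h hP hU hz
  have e2 := h.elem hP hb e1
  have h1 : ∀ b, C.u 0 b ∈ C'.K → b = 0 := fun b hb => by
    obtain ⟨a, rfl⟩ := nm_surj b
    obtain ⟨k, hk, x, y, e⟩ := C'.two_decomp hP.isPGroup (hP.le.trans inf_le_right) hU'
      (hU (C.u_mem_U a 0))
    have h2 : C.u 0 ((a * th a)) ∈ C'.A := by
      rw [← C.u_sq a 0, e, mul_assoc, ← mul_assoc (C'.u x y), ← C'.comm hk.2 (C'.u_mem x y),
        ← mul_assoc, ← mul_assoc, e1 k hk, one_mul]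
      exact mul_mem (C'.u_mem x y) (C'.u_mem x y)
    exact (C.u_eq_one (C'.eq_one h2 hb)).2
  have h2 : ∀ t : ↥(P ⊓ C'.K), ∃ k : ↥(P ⊓ C.K), ∃ b, (t : G) = k * C.u 0 b := fun t => by
    obtain ⟨k, hk, a, b, e⟩ := C.two_decomp hP.isPGroup (hP.le.trans inf_le_left) hU t.2.1
    obtain rfl := hz k hk.2 a b (e ▸ t.2)
    exact ⟨⟨k, hk⟩, b, e⟩
  choose f β hf using h2
  have hi : Function.Injective f := fun t t' e => by
    have h3 := C'.K.mul_mem (C'.K.inv_mem t.2.2) t'.2.2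
    rw [hf, hf, e, mul_inv_rev, mul_assoc, inv_mul_cancel_left, C.z_inv, C.z_mul] at h3
    exact Subtype.ext (by rw [hf, hf, e, CharTwo.add_eq_zero.1 (h1 _ h3)])
  have hs := ((Nat.bijective_iff_injective_and_card f).2 ⟨hi, h.card_eq hP hb⟩).2
  have h3 : ∀ x ∈ P ⊓ C.K, x ≠ 1 → ∃ b ≠ 0, x * C.u 0 b ∈ C'.K := fun x hx x1 => by
    obtain ⟨t, e⟩ := hs ⟨x, hx⟩
    have h4 := t.2.2
    rw [hf, e] at h4
    refine ⟨β t, fun e' => x1 ?_, h4⟩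
    rw [e', C.u_zero, mul_one] at h4
    exact h.eq_one hx.2 h4 (n := 1) ((pow_two x).trans (e2 x hx))
  have h4 := Two.syl hP'
  obtain ⟨R, hR, hle⟩ := exists_isSylowIn_ge h4.isPGroup (inf_le_right : P ⊓ C.K ≤ C.K)
  have h5 : ∀ k ∈ P ⊓ C.K, k ≠ 1 → R ⊓ centralizer {k} = P ⊓ C.K := fun k hk k1 => by
    obtain ⟨b, hb, h5⟩ := h3 k hk k1
    refine h4.eq_of_le hR.isPGroup.to_inf_left (fun r hr => ⟨hR.le hr.1, ?_⟩) (le_inf hle fun x hx =>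
      mem_centralizer_singleton_iff.2 (H3.SzE.comm_of_sq e2 hx hk))
    refine C'.mem_N_of_comm h5 ?_ (fun e => k1 (C.mul_inj hk.2 (one_mem _) (C.u_mem 0 b) (one_mem _)
      (e.trans (mul_one 1).symm)).1) ?_
    · rw [mul_assoc, ← mul_assoc (C.u 0 b), ← C.comm hk.2 (C.u_mem 0 b), mul_assoc, C.z_sq, mul_one,
        e2 k hk]
    · rw [← mul_assoc, mem_centralizer_singleton_iff.1 hr.2, mul_assoc,
        C.comm (hR.le hr.1) (C.u_mem 0 b), mul_assoc]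
  obtain ⟨⟨k₀, hk₀⟩, k1⟩ := ne_bot_iff_exists_ne_one.1 (h.ne_bot hP hb)
  have k1' : k₀ ≠ 1 := fun e => k1 (Subtype.ext e)
  have : Nontrivial R := ⟨⟨⟨k₀, hle hk₀⟩, 1, fun e => k1' (congrArg Subtype.val e)⟩⟩
  have := hR.isPGroup.center_nontrivial
  obtain ⟨⟨z, hz⟩, z1⟩ := exists_ne (1 : center R)
  have h6 : ∀ r ∈ R, r * z = z * r := fun r hr =>
    congrArg Subtype.val (mem_center_iff.1 hz ⟨r, hr⟩)
  have h7 : (z : G) ∈ P ⊓ C.K :=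
    h5 k₀ hk₀ k1' ▸ ⟨z.2, mem_centralizer_singleton_iff.2 (h6 _ (hle hk₀)).symm⟩
  have h8 := h5 z h7 fun e => z1 (Subtype.ext (Subtype.ext e))
  rw [inf_eq_left.2 fun r hr => mem_centralizer_singleton_iff.2 (h6 r hr)] at h8
  exact ⟨h1, R, syl_iff.2 hR, h8 ▸ e2, h8 ▸ h3⟩

theorem pair : PairStmt.{u} := by
  intro F _ _ G _ _ C g k b hp
  have h0 : Two C (C.conj g) := ⟨g, hp.hg, rfl⟩
  have hd : k * C.u 0 b ∈ (C.conj g).K := C.conj_K g ▸ hp.mem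
  have hc : ∀ x ∈ C.U, x * (k * C.u 0 b) = k * C.u 0 b * x := fun x hx => by
    obtain ⟨x, y, rfl⟩ := C.mem_U.1 hx
    rw [← mul_assoc, ← C.comm hp.hk (C.u_mem x y), mul_assoc, mul_assoc, C.z_comm]
  have d2 : k * C.u 0 b * (k * C.u 0 b) = 1 := by
    rw [mul_assoc, ← mul_assoc (C.u 0 b), ← C.comm hp.hk (C.u_mem 0 b), mul_assoc, C.z_sq, mul_one,
      hp.kk]
  have d1 : k * C.u 0 b ≠ 1 := fun e => hp.hb (C.u_eq_one (C.mul_inj hp.hk (one_mem _) (C.u_mem 0 b)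
    (one_mem _) (e.trans (mul_one 1).symm)).2).2
  have h1 : C.U ≤ (C.conj g).N := fun x hx => (C.conj g).mem_N_of_comm hd d2 d1 (hc x hx)
  have h2 : k ∈ (C.conj g).N :=
    (mul_mem_cancel_right (h1 (C.u_mem_U 0 b))).1 ((C.conj g).K_le hd)
  obtain ⟨P, hP, hle⟩ := exists_isSylowIn_ge (H := C.N ⊓ (C.conj g).N)
    (C.sup_U_two (zpowers_le.2 hp.hk) (H10.isPGroup_zpowers_of_pow (k := 1) ((pow_two k).trans hp.kk)))
    (sup_le (zpowers_le.2 ⟨C.K_le hp.hk, h2⟩) (le_inf (C.U_le.trans C.A_le) h1))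
  have hU : C.U ≤ P := le_sup_right.trans hle
  have hb : P ⊓ (C.conj g).K ≠ ⊥ := fun e => d1 (mem_bot.1 (e ▸ (⟨mul_mem
    (hle (mem_sup_left (mem_zpowers k))) (hU (C.u_mem_U 0 b)), hd⟩ : _ ∈ P ⊓ (C.conj g).K)))
  obtain ⟨a, ha, h3⟩ := (C.conj g).exists_twist hP.isPGroup (hP.le.trans inf_le_right)
  obtain ⟨C', hA, h3⟩ : ∃ C' : Ctx G F, C'.A = (C.conj g).A ∧
      ∀ d ∈ P, ∃ k ∈ C'.K, ∃ x y, d = k * C'.u x y := by
    have e := (C.conj g).conj_A_of_mem ((C.conj g).A_le ha)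
    exact ⟨(C.conj g).conj a, e, by rw [Ctx.K, e]; exact h3⟩
  have hK : (C.conj g).K = C'.K := by rw [Ctx.K, Ctx.K, hA]
  have hN : (C.conj g).N = C'.N := by rw [Ctx.N, Ctx.N, hA]
  have h : Two C C' := ⟨g, hp.hg, hA⟩
  rw [hN] at hP
  rw [hK] at hb
  have hU' : C'.U ≤ P := by
    obtain ⟨t, ht, t2⟩ := H10.exists_orderOf_eq_of_ne_bot (p := 2) hP.isPGroup.to_inf_left
      (h.ne_bot hP hb)
    have tt : t * t = 1 := by rw [← pow_two, ← t2, pow_orderOf_eq_one]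
    have t1 : t ≠ 1 := fun e => by rw [e, orderOf_one] at t2; exact absurd t2 (by decide)
    obtain ⟨k', hk', x, y, rfl⟩ := h3 t ht.1
    obtain rfl := C'.eq_zero_of_sq ((pow_two _).symm.trans
      (C'.pow_eq_one hk' (C'.u_mem x y) ((pow_two _).trans tt)).2)
    refine hP.le_of_le_normalizer C'.U_two (le_inf (fun s hs => C.mem_N_of_comm ht.2 tt t1 ?_)
      (C'.U_le.trans C'.A_le)) fun d hd => mem_normalizer_fintype fun s hs => ?_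
    · obtain ⟨x, y', rfl⟩ := C'.mem_U.1 hs
      rw [← mul_assoc, ← C'.comm hk' (C'.u_mem x y'), mul_assoc, mul_assoc, C'.z_comm]
    · obtain ⟨k, hk, x, y, rfl⟩ := h3 d hd
      have h4 := mul_mem (mul_mem (C'.u_mem_U x y) hs) (inv_mem (C'.u_mem_U x y))
      rw [← C'.conj_of_K hk (C'.U_le h4)] at h4
      simpa only [mul_assoc, mul_inv_rev, SetLike.mem_coe] using h4
  rw [Ctx.Alpha, Ctx.Beta, ← C.conj_K, hK, ← C.conj_A, ← hA]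
  by_cases hz : ∀ k ∈ C.K, ∀ a b, k * C.u a b ∈ P ⊓ C'.K → a = 0
  · exact Or.inr (beta_of h hP hU hU' hb hz)
  · push Not at hz
    obtain ⟨k, hk, a, b, ht, ha⟩ := hz
    obtain ⟨h4, h5⟩ := half hP hU hk ht ha
    exact Or.inl ⟨h4, C'.U, alpha_of h hP hU hU' h4 h5, C'.syl_U⟩

theorem eqns_NzP : True := by
  have := @Two.eq_1.{0}
  trivial

end Cfsg.Agent.H19.Nz
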