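import Cfsg.Agent.H19.PT2
import Cfsg.Agent.H86.ZDFinal

/-!
`{2,p}`-transposition groups are solvable for `p ≥ 5`.
-/

set_option autoImplicit false

namespace Cfsg.Agent.H19.PT

open Cfsg Subgroup Cfsg.Agent.H63

universe u

variable {G : Type u} [Group G] {p : ℕ} {D : Set G}

/-- The class of `a`. -/
def V (D : Set G) (a : G) : Set G := {x | x ∈ D ∧ Eqv D a x}

/-- The products of two members of the class of `a` which fix the class of `y`. -/
def T (D : Set G) (a y : G) : Set G :=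
  {g | (∃ a' ∈ V D a, ∃ a'' ∈ V D a, g = a' * a'') ∧ Eqv D y (g * y * g⁻¹)}

/-- A good pair. -/
def Good (D : Set G) (a y : G) : Prop := ∃ g ∈ T D a y, g ≠ 1

theorem V_comm {a x y : G} (hx : x ∈ V D a) (hy : y ∈ V D a) : Commute x y :=
  (hx.2.symm.trans hy.2).comm hy.1

theorem V_conj (h : PT p D) {a g x : G} (hg : Eqv D a (g * a * g⁻¹)) (hx : x ∈ V D a) :
    g * x * g⁻¹ ∈ V D a := ⟨h.conj x hx.1 g, hg.trans (hx.2.conj h g)⟩

theorem V_two (h : PT p D) (a : G) : IsPGroup 2 (closure (V D a)) :=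
  isPGroup_closure h (fun _ hx => hx.1) fun _ hx _ hy => V_comm hx hy

theorem V_ncard (h : PT p D) (a g : G) : (V D (g * a * g⁻¹)).ncard = (V D a).ncard := by
  rw [← Set.ncard_image_of_injective (V D a) (MulAut.conj g).injective]
  congr 1
  ext x
  refine ⟨fun hx => ⟨g⁻¹ * x * g⁻¹⁻¹, ⟨h.conj x hx.1 _, ?_⟩, by simp [mul_assoc]⟩, ?_⟩
  · simpa [mul_assoc] using hx.2.conj h g⁻¹
  · rintro ⟨y, hy, rfl⟩
    exact ⟨h.conj y hy.1 g, hy.2.conj h g⟩

/-- The centralizer of a product of two distinct equivalent members fixes their class. -/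
theorem eqv_of_comm (h : PT p D) {a a' a'' k : G} (h1 : a' ∈ V D a) (h2 : a'' ∈ V D a)
    (hne : a' * a'' ≠ 1) (hk : Commute k (a' * a'')) : Eqv D a (k * a * k⁻¹) := by
  have hn : a' ≠ a'' := fun e => hne (e ▸ h.sq a' h1.1)
  have key : ∀ x ∈ D, Commute a x ↔ Commute x (a' * a'') := fun x hx =>
    ⟨fun e => ((h1.2 x hx).1 e).symm.mul_right ((h2.2 x hx).1 e).symm,
      fun e => (h1.2 x hx).2 (h.f1 h1.1 h2.1 hx hn e).symm⟩
  intro x hx
  rw [comm_conj_iff, key x hx, key _ (h.conj x hx _), comm_conj_iff, inv_inv, hk.eq,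
    mul_inv_cancel_right]

variable [Finite G]

theorem mem_norm_closure {X : Set G} {g : G} (hg : ∀ x ∈ X, g * x * g⁻¹ ∈ closure X) :
    g ∈ normalizer (closure X : Set G) := by
  refine mem_normalizer_fintype fun x hx => ?_
  induction hx using closure_induction with
  | mem x hx => exact hg x hx
  | one => simpa using one_mem _
  | mul x y _ _ h1 h2 => rw [← conj_mul]; exact mul_mem h1 h2
  | inv x _ h1 => rw [← conj_inv]; exact inv_mem h1

theorem norm_T (h : PT p D) {a y a' : G} (ha' : a' ∈ V D a) :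
    a' ∈ normalizer (closure (T D a y ∪ T D y a) : Set G) := by
  refine mem_norm_closure ?_
  rintro g (hg | hg)
  · obtain ⟨b, hb, c, hc, e⟩ := hg.1
    have : Commute a' g := e ▸ (V_comm ha' hb).mul_right (V_comm ha' hc)
    rw [this.eq, mul_inv_cancel_right]
    exact subset_closure (Or.inl hg)
  · obtain ⟨b, hb, c, hc, e⟩ := hg.1
    by_cases h1 : g = 1
    · rw [h1]; simpa using one_mem _
    have hgg : g * g = 1 := e ▸ h.mul_sq hb.1 hc.1 (V_comm hb hc)
    have hgi : g⁻¹ = g := inv_eq_of_mul_eq_one_right hgg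
    have h2 := V_conj h hg.2 ha'
    have h3 : Commute (a' * (g * a' * g⁻¹)) g := by
      have : g * (a' * (g * a' * g⁻¹)) * g⁻¹ = a' * (g * a' * g⁻¹) := by
        rw [← conj_mul, (V_comm ha' h2).eq]
        congr 1
        calc _ = (g * g) * a' * (g * g)⁻¹ := by group
          _ = a' := by rw [hgg]; simp
      exact (mul_inv_eq_iff_eq_mul.1 this).symm
    have h4 : a' * (g * a' * g⁻¹) ∈ T D a y :=
      ⟨⟨_, ha', _, h2, rfl⟩, eqv_of_comm h hb hc (e ▸ h1) (e ▸ h3)⟩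
    have h5 := mul_mem (subset_closure (k := T D a y ∪ T D y a) (Or.inl h4))
      (subset_closure (Or.inr hg))
    rw [h.inv ha'.1]
    rwa [mul_assoc a', inv_mul_cancel_right, ← mul_assoc] at h5

namespace MC

theorem good_proper (h : MC p D) {a y : G} (hg : Good D a y) :
    ∃ K : Subgroup G, K ≠ ⊤ ∧ (∀ x ∈ V D a, x ∈ K) ∧ ∀ x ∈ V D y, x ∈ K := by
  refine ⟨normalizer (closure (T D a y ∪ T D y a) : Set G), fun e => ?_,
    fun x hx => norm_T h.toPT hx, fun x hx => Set.union_comm _ _ ▸ norm_T h.toPT hx⟩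
  obtain ⟨g, hg, hg1⟩ := hg
  have hT : ∀ a y : G, closure (T D a y) ≤ closure (V D a) := fun a y => (closure_le _).2 (by
    rintro _ ⟨⟨b, hb, c, hc, rfl⟩, -⟩
    exact mul_mem (subset_closure hb) (subset_closure hc))
  have h1 : IsPGroup 2 ↥(closure (V D a) ⊔ closure (T D y a)) :=
    (V_two h.toPT a).to_sup_of_normal_left' ((V_two h.toPT y).to_le (hT y a))
      ((closure_le _).2 fun k hk => mem_norm_closure fun x hx => subset_closure (V_conj h.toPT hk.2 hx))
  have h2 := h.two_bot (normalizer_eq_top_iff.1 e) (h1.to_le (by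
    rw [Subgroup.closure_union]; exact sup_le_sup_right (hT a y) _))
  exact hg1 (mem_bot.1 (h2 ▸ subset_closure (Or.inl hg)))

theorem mem_T (h : MC p D) {a y a' a'' : G} (hy : y ∈ D) (hay : ¬ Commute a y) (h1 : a' ∈ V D a)
    (h2 : a'' ∈ V D a) {K : Subgroup G} (hK : K ≠ ⊤) (k1 : a' ∈ K) (k2 : a'' ∈ K) (k3 : y ∈ K) :
    a' * a'' ∈ T D a y := by
  refine ⟨⟨_, h1, _, h2, rfl⟩, ?_⟩
  have n1 : ¬ Commute a' y := fun e => hay ((h1.2 y hy).2 e)
  have n2 : ¬ Commute a'' y := fun e => hay ((h2.2 y hy).2 e)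
  refine h.kl hy h1.1 (h.conj y hy _) (h.s1 h1.1 hy h2.1 (V_comm h1 h2) n1 n2 hK k1 k3 k2)
    (fun e => n1 e.symm) (fun e => n1 ?_) hK k3 k1
    (mul_mem (mul_mem (mul_mem k1 k2) k3) (inv_mem (mul_mem k1 k2)))
  rw [comm_conj_iff, ((Commute.refl a').mul_left (V_comm h2 h1)).inv_left.eq, inv_inv,
    inv_mul_cancel_right] at e
  exact e.symm

theorem card_V (h : MC p D) {a b : G} (ha : a ∈ D) (hb : b ∈ D) : (V D a).ncard = (V D b).ncard := by
  obtain ⟨g, rfl⟩ := isConj_iff.1 (h.cls a ha b hb)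
  exact (V_ncard h.toPT a g).symm

theorem not_dvd (h : MC p D) {a y : G} (ha : a ∈ D) (hy : y ∈ D) (hay : ¬ Commute a y)
    (hg : Good D a y) : ¬ p ∣ (V D y).ncard := by
  obtain ⟨K, hK, k1, k2⟩ := h.good_proper hg
  have haV : a ∈ V D a := ⟨ha, Eqv.refl a⟩
  have hyV : y ∈ V D y := ⟨hy, Eqv.refl y⟩
  set U := closure (T D a y)
  have hU : IsPGroup 2 U := (V_two h.toPT a).to_le ((closure_le _).2 (by
    rintro _ ⟨⟨b, hb, c, hc, rfl⟩, -⟩
    exact mul_mem (subset_closure hb) (subset_closure hc)))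
  letI : MulAction U G := MulAction.compHom G ((MulAut.conj (G := G)).comp U.subtype)
  have hs : ∀ (u : U) (x : G), u • x = u * x * (u : G)⁻¹ := fun _ _ => rfl
  have h1 : MulAction.orbit U y ⊆ V D y := by
    rintro _ ⟨⟨u, hu⟩, rfl⟩
    have : u ∈ normalizer (V D y) := ((closure_le _).2 fun k hk =>
      mem_normalizer_fintype fun x hx => V_conj h.toPT hk.2 hx) hu
    exact (this y).1 hyV
  have h2 : (V D a).ncard ≤ (MulAction.orbit U y).ncard := by
    refine Set.ncard_le_ncard_of_injOn (fun x => a * x * y * (a * x)⁻¹) (fun x hx =>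
      ⟨⟨a * x, subset_closure (h.mem_T hy hay haV hx hK (k1 a haV) (k1 x hx) (k2 y hyV))⟩, rfl⟩)
      fun x hx z hz e => ?_
    refine h.mid_unique hy hx.1 hz.1 (fun e' => hay ((hx.2 y hy).2 e'.symm)) ?_
    have := congrArg (fun w => a⁻¹ * w * a) e
    simpa [mul_assoc, h.inv hx.1, h.inv hz.1] using this
  have h3 := Set.eq_of_subset_of_ncard_le h1 ((h.card_V hy ha).le.trans h2)
  obtain ⟨n, hn⟩ := hU.card_orbit y
  rw [← h3, ← Nat.card_coe_set_eq, hn]
  exact (Nat.Prime.coprime_iff_not_dvd h.prime).1 (h.cop2 n).symm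

omit [Finite G] in
theorem swap (h : MC p D) {a y s a' : G} (hs : s ∈ D) (ha' : a' ∈ V D a) (e : s * y * s = a') :
    Eqv D y (s * a * s⁻¹) ∧ Eqv D a (s * y * s⁻¹) := by
  refine ⟨?_, by rw [h.inv hs, e]; exact ha'.2⟩
  have := ha'.2.symm.conj h.toPT s
  rw [h.inv hs] at this ⊢
  rwa [← e, ← mul_assoc, ← mul_assoc, h.sq s hs, one_mul, mul_assoc y, h.sq s hs, mul_one] at this

omit [Finite G] in
theorem swap2 (h : MC p D) {a y s t : G} (h1 : Eqv D y (t * a * t⁻¹)) (h2 : Eqv D a (s * y * s⁻¹)) :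
    Eqv D a (s * t * a * (s * t)⁻¹) := by
  have := h2.trans (h1.conj h.toPT s)
  simpa [mul_assoc] using this

theorem all_good (h : MC p D) {a y a' a'' : G} (ha : a ∈ D) (hy : y ∈ D) (hay : ¬ Commute a y)
    (hp : ¬ p ∣ (V D a).ncard) (h1 : a' ∈ V D a) (h2 : a'' ∈ V D a) : a' * a'' ∈ T D a y := by
  by_cases hn : a' = a''
  · subst hn
    exact ⟨⟨_, h1, _, h1, rfl⟩, by rw [h.sq a' h1.1]; simpa using Eqv.refl y⟩
  have n1 : ¬ Commute y a' := fun e => hay ((h1.2 y hy).2 e.symm)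
  have n2 : ¬ Commute y a'' := fun e => hay ((h2.2 y hy).2 e.symm)
  obtain ⟨s, hs, es⟩ := h.mid_exists hy h1.1 n1
  obtain ⟨t, ht, et⟩ := h.mid_exists hy h2.1 n2
  have hst : s ≠ t := fun e => hn (by rw [← es, ← et, e])
  have hk := h.swap2 (h.swap ht h2 et).1 (h.swap hs h1 es).2
  have hsa : ∀ x ∈ V D a, ¬ Commute s x := fun x hx e => by
    have h3 : Commute s a' := ((h1.2 s hs).1 ((hx.2 s hs).2 e.symm)).symm
    rw [← es, mul_assoc] at h3
    have h4 := ((Commute.refl s).mul_right h3).mul_right (Commute.refl s)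
    rw [h.cancel hs, mul_assoc, h.sq s hs, mul_one] at h4
    exact n1 (by rw [← es, h4.eq, mul_assoc, h.sq s hs, mul_one])
  have hc : Commute s t := by
    by_contra hc
    haveI : Fact p.Prime := ⟨h.prime⟩
    haveI := Fintype.ofFinite (V D a)
    have hN : s * t ∈ normalizer (V D a) := mem_normalizer_fintype fun x hx => V_conj h.toPT hk hx
    let σ : Equiv.Perm (V D a) := Equiv.Perm.subtypePerm (MulAut.conj (s * t)).toEquiv
      fun x => (hN x).symm
    obtain ⟨⟨x, hx⟩, e⟩ := Equiv.Perm.exists_fixed_point_of_prime (p := p) (n := 1) (σ := σ)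
      (by rwa [← Nat.card_eq_fintype_card, Nat.card_coe_set_eq]) (by
        have key : ∀ (n : ℕ) (x : V D a), ((σ ^ n) x : G) = (s * t) ^ n * x * ((s * t) ^ n)⁻¹ := by
          intro n
          induction n with
          | zero => simp
          | succ n ih =>
            intro x
            rw [pow_succ', Equiv.Perm.mul_apply, pow_succ']
            change s * t * ((σ ^ n) x : G) * (s * t)⁻¹ = _
            rw [ih]; simp only [mul_inv_rev, mul_assoc]
        ext x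
        rw [pow_one, key, h.pw hs ht hc]; simp)
    have e' : s * t * x * (s * t)⁻¹ = x := congrArg Subtype.val e
    exact hsa x hx (h.f2 hs ht hx.1 hc (mul_inv_eq_iff_eq_mul.1 e').symm).symm
  have haV : a ∈ V D a := ⟨ha, Eqv.refl a⟩
  have he : Eqv D s t := by
    by_contra he
    exact hsa a haV (h.f1 hs ht ha hst (mul_inv_eq_iff_eq_mul.1
      (h.g1 hs ht ha hc he (hk.comm (h.conj a ha _)))).symm).symm
  obtain ⟨K, hK, k1, k2⟩ := h.good_proper (a := s) (y := a)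
    ⟨s * t, ⟨⟨s, ⟨hs, Eqv.refl s⟩, t, ⟨ht, he⟩, rfl⟩, hk⟩, fun e => hst (h.eq_of_mul ht e)⟩
  have k3 := k1 s ⟨hs, Eqv.refl s⟩
  refine h.mem_T hy hay h1 h2 hK (k2 _ h1) (k2 _ h2) ?_
  have := mul_mem (mul_mem k3 (k2 _ h1)) k3
  rwa [← es, ← mul_assoc, ← mul_assoc, h.sq s hs, one_mul, mul_assoc, h.sq s hs, mul_one] at this

/-- The action on the classes is faithful. -/
theorem ker_triv (h : MC p D) {k : G} (hk : ∀ d ∈ D, Eqv D d (k * d * k⁻¹)) : k = 1 := by
  let K : Subgroup G :=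
    { carrier := {k | ∀ d ∈ D, Eqv D d (k * d * k⁻¹)}
      one_mem' := fun d _ => by simpa using Eqv.refl d
      mul_mem' := fun {a b} ha hb d hd => by
        have := (ha d hd).trans ((hb d hd).conj h.toPT a)
        simpa [mul_assoc] using this
      inv_mem' := fun {a} ha d hd => by
        have := (ha d hd).symm.conj h.toPT a⁻¹
        simpa [mul_assoc] using this }
  have hKn : K.Normal := ⟨fun a ha g d hd => by
    have := (ha _ (h.conj d hd g⁻¹)).conj h.toPT g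
    simpa [mul_assoc] using this⟩
  refine h.eq_one_of_D fun d hd => ?_
  have hdV : d ∈ V D d := ⟨hd, Eqv.refl d⟩
  have h1 : closure (V D d) ⊓ K ≤ (pCore 2 K).map K.subtype :=
    H3.le_map_pCore (V_two h.toPT d).to_inf_left inf_le_right fun g hg =>
      mem_normalizer_fintype fun x hx => ⟨(mem_norm_closure (fun z hz =>
        subset_closure (V_conj h.toPT (hg d hd) hz)) x).1 hx.1, hKn.conj_mem x hx.2 g⟩
  rw [h.two_bot (H3.map_pCore_normal K) (H3.map_pCore_isPGroup K)] at h1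
  have h2 : k * d * k⁻¹ * d⁻¹ ∈ closure (V D d) ⊓ K :=
    mem_inf.2 ⟨mul_mem (subset_closure (V_conj h.toPT (hk d hd) hdV)) (inv_mem (subset_closure hdV)), by
      have := mul_mem (show k ∈ K from hk) (hKn.conj_mem _ (inv_mem (show k ∈ K from hk)) d)
      simpa only [mul_assoc] using this⟩
  have h3 := mem_bot.1 (h1 h2)
  rwa [mul_inv_eq_one, mul_inv_eq_iff_eq_mul] at h3

/-- The case without good pairs. -/
theorem case2b (h : MC p D) {a₀ a₁ : G} (h0 : a₀ ∈ D) (h1 : a₁ ∈ D) (hne : a₀ ≠ a₁) (he : Eqv D a₀ a₁)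
    (hno : ∀ a ∈ D, ∀ y ∈ D, ¬ Commute a y → ¬ Good D a y) : False := by
  haveI : Fact p.Prime := ⟨h.prime⟩
  have htwo : ∀ a ∈ D, ∃ a' ∈ V D a, a ≠ a' := fun a ha => by
    obtain ⟨g, rfl⟩ := isConj_iff.1 (h.cls a₀ h0 a ha)
    exact ⟨_, ⟨h.conj a₁ h1 g, he.conj h.toPT g⟩, fun e => hne (by simpa using e)⟩
  have haux : ∀ a ∈ D, ∀ c ∈ D, Commute a c → ∀ d ∈ D, Commute c d → Commute a d :=
    fun a ha c hc hac d hd hcd => by
    by_contra had
    obtain ⟨a', ha', hn⟩ := htwo a ha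
    exact hno a ha d hd had ⟨_, h.mem_T hd had ⟨ha, Eqv.refl a⟩ ha' (h.cent_ne (h.ne_one c hc))
      (mem_centralizer_singleton_iff.2 hac.eq)
      (mem_centralizer_singleton_iff.2 ((ha'.2 c hc).1 hac).eq)
      (mem_centralizer_singleton_iff.2 hcd.symm.eq), fun e => hn (h.eq_of_mul ha'.1 e)⟩
  have heq : ∀ a ∈ D, ∀ c ∈ D, Commute a c → Eqv D a c := fun a ha c hc hac d hd =>
    ⟨haux c hc a ha hac.symm d hd, haux a ha c hc hac d hd⟩
  let S : Setoid D := ⟨fun a b => Eqv D a b, fun _ => Eqv.refl _, Eqv.symm, Eqv.trans⟩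
  let Ω := Quotient S
  let mk : D → Ω := Quotient.mk S
  have hmk : ∀ a b : D, mk a = mk b ↔ Eqv D a b := fun a b => Quotient.eq
  letI : MulAction G Ω :=
    { smul := fun g => Quotient.map (fun a : D => (⟨_, h.conj a a.2 g⟩ : D)) fun a b e => e.conj h.toPT g
      one_smul := by
        rintro ⟨a⟩
        exact congrArg mk (Subtype.ext (by simp))
      mul_smul := by
        rintro g k ⟨a⟩
        exact congrArg mk (Subtype.ext (by simp [mul_assoc])) }
  have hs : ∀ (g : G) (a : D), g • mk a = mk ⟨_, h.conj a a.2 g⟩ := fun _ _ => rfl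
  have hsurj : ∀ ω : Ω, ∃ a, mk a = ω := fun ω => Quotient.exists_rep ω
  have hfix : ∀ (g : G) (a : D), g • mk a = mk a ↔ Eqv D a (g * a * g⁻¹) := fun g a => by
    rw [hs, eq_comm, hmk]
  have hfixD : ∀ d (hd : d ∈ D) (ω : Ω), d • ω = ω ↔ ω = mk ⟨d, hd⟩ := fun d hd ω => by
    obtain ⟨a, rfl⟩ := hsurj ω
    rw [hfix, hmk]
    refine ⟨fun e => heq _ a.2 _ hd (h.comm_of_conj a.2 hd ?_), fun e => ?_⟩
    · have := e.comm (h.conj _ a.2 d)
      rwa [h.inv hd] at this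
    · rw [(e.comm hd).symm.eq, mul_inv_cancel_right]; exact Eqv.refl _
  have hZ : H6.ZD.ZH G Ω D := by
    refine ⟨fun d hd => h.two hd, h.conj, fun d hd => ⟨_, (hfixD d hd _).2 rfl,
      fun ω e => (hfixD d hd ω).1 e⟩, fun a ha b hb hab hc => ⟨mk ⟨a, ha⟩, ?_, fun ω e => ?_⟩⟩
    · change (a * b) • mk ⟨a, ha⟩ = _
      rw [hfix, ((Commute.refl a).mul_left (Commute.symm hc)).eq, mul_inv_cancel_right]
      exact Eqv.refl _
    · obtain ⟨y, rfl⟩ := hsurj ω
      rw [hmk]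
      refine (heq a ha y y.2 ?_).symm
      by_contra hay
      exact hno a ha y y.2 hay ⟨a * b, ⟨⟨a, ⟨ha, Eqv.refl a⟩, b, ⟨hb, heq a ha b hb hc⟩, rfl⟩,
        (hfix _ _).1 e⟩, fun e' => hab (h.eq_of_mul hb e')⟩
  have hker : ∀ k : G, (∀ ω : Ω, k • ω = ω) → k = 1 := fun k hk =>
    h.ker_triv fun d hd => (hfix k ⟨d, hd⟩).1 (hk _)
  have horb : ∀ ω : Ω, ∃ d ∈ D, d • ω = ω := fun ω => by
    obtain ⟨a, rfl⟩ := hsurj ω
    exact ⟨a, a.2, (hfixD a a.2 _).2 rfl⟩
  obtain ⟨y, hy, hay⟩ : ∃ y ∈ D, ¬ Commute a₀ y := by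
    by_contra hc
    push Not at hc
    exact h.ne_one a₀ h0 (h.eq_one_of_D hc)
  have hαβ : mk ⟨a₀, h0⟩ ≠ mk ⟨y, hy⟩ := fun e => hay (((hmk _ _).1 e).comm hy)
  have ho := H86.ZB.orbD_top horb
  have hkb : ∀ x ∈ H6.ZD.kerD D Ω (⊤ : Subgroup G), x = 1 := fun x hx =>
    hker x fun ω => (H86.ZB.mem_kerD.1 hx).2 ω (ho ▸ Set.mem_univ ω)
  have hF : H6.ZD.FB G Ω D := by
    refine ⟨hZ, ⟨fun {g k} e => ?_⟩, horb, ⟨_, _, hαβ⟩,
      ⟨a₀, h0, a₁, h1, mem_top _, mem_top _, hne, (he.comm h1).eq⟩, fun x hx h2 => ?_⟩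
    · refine inv_mul_eq_one.1 (hker _ fun ω => ?_)
      rw [mul_smul, ← e, inv_smul_smul]
    · have := H86.ZB.allStmt H86.zd_coreStmt D hZ ⊤ (ho ▸ Set.nontrivial_univ_iff.2 ⟨_, _, hαβ⟩) x hx
        (fun e => by rw [hkb x e, orderOf_one] at h2; omega)
        (by rw [← pow_two, ← h2, pow_orderOf_eq_one]; exact one_mem _)
      simpa [ho] using this
  have hR := H82.ZR.rka0 D hF (mk ⟨a₀, h0⟩)
  haveI : Finite Ω := Finite.of_surjective mk hsurj
  haveI := Fintype.ofFinite Ω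
  have hpow : ∀ k : G, k ^ p = 1 → MulAction.toPermHom G Ω k ^ p ^ 1 = 1 := fun k hk => by
    rw [pow_one, ← map_pow, hk, map_one]
  -- `p` divides the degree
  have hdvd : p ∣ Fintype.card Ω := by
    by_contra hp
    set t := a₀
    have hex : ∀ z : {z : G // z ∈ D ∧ ¬ Commute t z}, ∃ δ : Ω, (t * z) • δ = δ := fun z =>
      Equiv.Perm.exists_fixed_point_of_prime hp (hpow _ (h.pw h0 z.2.1 z.2.2))
    choose δ hδ using hex
    choose x hx using hsurj
    have hz : ∀ z : {z : G // z ∈ D ∧ ¬ Commute t z}, (z : G) • δ z = t • δ z := fun z => by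
      have := congrArg (fun w => t • w) (hδ z)
      simpa only [smul_smul, h.cancel h0] using this
    have hδt : ∀ z, t • δ z ≠ δ z := fun z e => by
      have e1 := (hfixD t h0 _).1 e
      have e2 := (hfixD _ z.2.1 _).1 ((hz z).trans e)
      exact z.2.2 (((hmk _ _).1 (e1.symm.trans e2)).comm z.2.1)
    have hcls : ∀ (g : G) (ω : Ω), mk ⟨_, h.conj _ (x ω).2 g⟩ = g • ω := fun g ω => by rw [← hs, hx]
    have hnc : ∀ ω : Ω, t • ω ≠ ω → ∀ g : G, g • ω = t • ω → ¬ Commute t (g * x ω * g⁻¹) :=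
      fun ω hω g hg e => by
      have e1 := (hmk ⟨t, h0⟩ ⟨_, h.conj _ (x ω).2 g⟩).2 (heq _ h0 _ (h.conj _ (x ω).2 g) e)
      rw [hcls, hg] at e1
      have e2 := (hfixD t h0 _).2 e1.symm
      exact hω (smul_left_cancel t e2)
    have hinj : ∀ ω : Ω, t • ω ≠ ω → ∀ g ∈ D, ∀ k ∈ D, g • ω = t • ω →
        g * x ω * g⁻¹ = k * x ω * k⁻¹ → g = k := fun ω hω g hg k hk e1 e2 => by
      rw [h.inv hg, h.inv hk] at e2
      refine h.mid_unique (x ω).2 hg hk (fun e => hω ?_) e2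
      rw [← e1, hfixD g hg, ← hx ω, hmk]
      exact heq _ (x ω).2 _ hg e
    let ψ : {z : G // z ∈ D ∧ ¬ Commute t z} → {z : G // z ∈ D ∧ ¬ Commute t z} := fun z =>
      ⟨z * x (δ z) * (z : G)⁻¹, h.conj _ (x _).2 _, hnc _ (hδt z) _ (hz z)⟩
    have hψ : Function.Injective ψ := fun z w e => by
      have e1 : (z : G) * x (δ z) * (z : G)⁻¹ = w * x (δ w) * (w : G)⁻¹ := congrArg Subtype.val e
      have e2 : δ z = δ w := smul_left_cancel t (by
        rw [← hz, ← hz, ← hcls, ← hcls]; exact congrArg mk (Subtype.ext e1))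
      rw [← e2] at e1
      exact Subtype.ext (hinj _ (hδt z) _ z.2.1 _ w.2.1 (hz z) e1)
    have hβ : t • mk ⟨y, hy⟩ ≠ mk ⟨y, hy⟩ := fun e => hαβ ((hfixD t h0 _).1 e).symm
    obtain ⟨z, e⟩ := Finite.injective_iff_surjective.1 hψ
      ⟨t * x (mk ⟨y, hy⟩) * t⁻¹, h.conj _ (x _).2 _, hnc _ hβ t rfl⟩
    have e1 : (z : G) * x (δ z) * (z : G)⁻¹ = t * x (mk ⟨y, hy⟩) * t⁻¹ := congrArg Subtype.val e
    have e2 : δ z = mk ⟨y, hy⟩ := smul_left_cancel t (by
      rw [← hz, ← hcls, ← hcls]; exact congrArg mk (Subtype.ext e1))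
    rw [← e2] at e1
    exact z.2.2 (by rw [hinj _ (hδt z) _ z.2.1 _ h0 (hz z) e1])
  -- an element of order `p` with exactly two fixed points
  have n1 : ¬ Commute y a₀ := fun e => hay e.symm
  have n2 : ¬ Commute y a₁ := fun e => hay ((he y hy).2 e.symm)
  obtain ⟨s, hsD, es⟩ := h.mid_exists hy h0 n1
  obtain ⟨t, ht, et⟩ := h.mid_exists hy h1 n2
  have hst : s ≠ t := fun e => hne (by rw [← es, ← et, e])
  have w1 := h.swap hsD (a := a₀) ⟨h0, Eqv.refl _⟩ es
  have w2 := h.swap ht (a := a₀) ⟨h1, he⟩ et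
  have hk := h.swap2 w2.1 w1.2
  have hk' := h.swap2 w2.2 w1.1
  have hc : ¬ Commute s t := fun hc => by
    refine hno s hsD a₀ h0 (fun e => ?_) ⟨s * t, ⟨⟨s, ⟨hsD, Eqv.refl s⟩, t, ⟨ht, heq _ hsD _ ht hc⟩, rfl⟩,
      hk⟩, fun e => hst (h.eq_of_mul ht e)⟩
    have := w1.1
    rw [e.eq, mul_inv_cancel_right] at this
    exact n1 (this.comm h0)
  have hkp := h.pw hsD ht hc
  have hk1 : s * t ≠ 1 := fun e => hst (h.eq_of_mul ht e)
  have f1 := (hfix _ ⟨a₀, h0⟩).2 hk
  have f2 := (hfix _ ⟨y, hy⟩).2 hk'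
  have hall : ∀ ω : Ω, (s * t) • ω = ω → ω = mk ⟨a₀, h0⟩ ∨ ω = mk ⟨y, hy⟩ := fun ω e => by
    by_contra hcon
    push Not at hcon
    refine hk1 (hkb _ (hR.three _ (mem_top _) ?_ s hsD (mem_top _) ?_ _ (ho ▸ Set.mem_univ _) _
      (ho ▸ Set.mem_univ _) _ (ho ▸ Set.mem_univ _) hαβ hcon.1.symm hcon.2.symm f1 f2 e))
    · rw [orderOf_eq_prime hkp hk1]
      exact h.prime.odd_of_ne_two (by have := h.five; omega)
    · rw [mul_inv_rev, h.inv hsD, h.inv ht, h.cancel hsD]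
  classical
  have h3 := Equiv.Perm.card_fixedPoints_modEq (p := p) (n := 1)
    (f := (fun ω : Ω => (s * t) • ω : Function.End Ω)) (by
      have : (fun ω : Ω => (s * t) • ω : Function.End Ω) = MulAction.toEndHom (s * t) := rfl
      rw [this, pow_one, ← map_pow, hkp, map_one])
  have h4 : Function.fixedPoints (fun ω : Ω => (s * t) • ω) = {mk ⟨a₀, h0⟩, mk ⟨y, hy⟩} := by
    ext ω
    refine ⟨fun e => hall ω e, ?_⟩
    rintro (rfl | rfl)
    · exact f1
    · exact f2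
  rw [← Nat.card_eq_fintype_card (α := Function.fixedPoints _), h4, Nat.card_coe_set_eq,
    Set.ncard_pair hαβ] at h3
  have h5 := Nat.le_of_dvd two_pos ((Nat.modEq_zero_iff_dvd.1 (h3.symm.trans hdvd.modEq_zero_nat)))
  have := h.five
  omega

theorem false (h : MC p D) : False := by
  by_cases htr : ∀ a ∈ D, ∀ b ∈ D, Eqv D a b → a = b
  · exact h.case1 htr
  push Not at htr
  obtain ⟨a, ha, b, hb, he, hne⟩ := htr
  by_cases hno : ∀ a ∈ D, ∀ y ∈ D, ¬ Commute a y → ¬ Good D a y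
  · exact h.case2b ha hb hne he hno
  push Not at hno
  obtain ⟨x, hx, y, hy, hxy, hg⟩ := hno
  have hp := h.not_dvd hx hy hxy hg
  rw [h.card_V hy ha] at hp
  refine hne (h.eq_of_mul hb (h.ker_triv fun d hd => ?_))
  by_cases had : Commute a d
  · rw [(had.mul_left ((he d hd).1 had)).eq, mul_inv_cancel_right]; exact Eqv.refl d
  · exact (h.all_good ha hd had hp ⟨ha, Eqv.refl a⟩ ⟨hb, he⟩).2

end MC

/-- A finite group generated by a normal set of `{2,p}`-transpositions, `p ≥ 5`, is solvable. -/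
theorem solvable {G : Type u} [Group G] [Finite G] {D : Set G} (h : PT p D) (hD : closure D = ⊤) :
    Group.IsSolvable G := by
  induction hn : Nat.card G using Nat.strong_induction_on generalizing G with
  | _ n ih =>
  by_contra hcon
  have hrad : ∀ N : Subgroup G, N.Normal → Group.IsSolvable N → N = ⊥ := fun N hN hs => by
    by_contra hN1
    have hlt : Nat.card (G ⧸ N) < n := by
      rw [← hn, card_eq_card_quotient_mul_card_subgroup N]
      exact lt_mul_of_one_lt_right Nat.card_pos ((one_lt_card_iff_ne_bot N).2 hN1)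
    have := ih _ hlt (h.image _ (QuotientGroup.mk'_surjective N)) (by
      rw [← MonoidHom.map_closure, hD]
      exact map_top_of_surjective _ (QuotientGroup.mk'_surjective N)) rfl
    exact hcon ((Group.isSolvable_iff_subgroup_quotient N).2 ⟨hs, this⟩)
  have hsub : ∀ X : Set G, X ⊆ D → closure X ≠ ⊤ → Group.IsSolvable (closure X) := fun X hX hne =>
    ih _ (by rw [← hn, ← card_top (G := G)]; exact H67.card_lt_of_lt (lt_top_iff_ne_top.2 hne))
      (h.sub _) (eq_top_iff.2 (closure_closure_coe_preimage.ge.trans (closure_mono fun x hx => hX hx))) rfl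
  obtain ⟨d, hd, hd1⟩ : ∃ d ∈ D, d ≠ 1 := by
    by_contra hc
    push Not at hc
    exact hcon (Group.isSolvable_of_top_eq_bot _ (le_bot_iff.1 (hD.ge.trans ((closure_le _).2 hc))))
  have hD1 : conjugatesOf d ⊆ D := fun x hx => by
    obtain ⟨g, rfl⟩ := isConj_iff.1 hx
    exact h.conj d hd g
  have hconj : ∀ x ∈ conjugatesOf d, ∀ g : G, g * x * g⁻¹ ∈ conjugatesOf d := fun x hx g =>
    IsConj.trans hx (isConj_iff.2 ⟨g, rfl⟩)
  refine MC.false (p := p) (D := conjugatesOf d) ⟨⟨h.prime, h.five, fun x hx => h.sq x (hD1 hx), hconj,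
    fun a ha b hb => h.prod a (hD1 ha) b (hD1 hb)⟩, fun x hx e => hd1 (isConj_one_right.1 (e ▸ hx.symm)),
    fun a ha b hb => IsConj.trans (IsConj.symm ha) hb, ⟨d, IsConj.refl d⟩, ?_, hrad,
    fun X hX => hsub X (hX.trans hD1)⟩
  by_contra hne
  have hN : (closure (conjugatesOf d)).Normal := normalizer_eq_top_iff.1 (eq_top_iff.2 fun g _ =>
    mem_norm_closure fun x hx => subset_closure (hconj x hx g))
  exact hd1 (mem_bot.1 (hrad _ hN (hsub _ hD1 hne) ▸ subset_closure (IsConj.refl d)))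

end Cfsg.Agent.H19.PT
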