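import Cfsg.Agent.H95.ParBase

/-! Frames of common eigenvectors of the sign changes on two octads meeting in four points. -/

set_option autoImplicit false

namespace Cfsg.Agent.H19.Par

open Cfsg Finset Cfsg.Agent.H48 Cfsg.Agent.H49 Cfsg.Agent.H95.Par

theorem c8 (v w : Lam) (t : GolayPt) (h : ∀ i, 8 ∣ w.1 i - v.1 i) :
    cong v w ∨ cong (v + e8 t) w := by
  choose b hb using h
  rcases Int.emod_two_eq_zero_or_one (∑ i, b i) with e | e
  · refine Or.inl ⟨⟨fun i => 4 * b i, mem_of_four_dvd _ (fun i => Dvd.intro _ rfl) ?_⟩,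
      Subtype.ext (funext fun i => ?_)⟩
    · rw [← mul_sum]; omega
    · have := hb i
      simp only [AddSubgroup.coe_add, Pi.add_apply]
      omega
  · refine Or.inr ⟨⟨fun i => 4 * (b i - if i = t then 1 else 0), mem_of_four_dvd _ (fun i => Dvd.intro _ rfl) ?_⟩,
      Subtype.ext (funext fun i => ?_)⟩
    · rw [← mul_sum, sum_sub_distrib, sum_ite_eq' univ t, if_pos (mem_univ t)]; omega
    · have := hb i
      simp only [AddSubgroup.coe_add, Pi.add_apply, e8_apply]
      split_ifs <;> omega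

theorem supp {c : Finset GolayPt} {hc : IsWord c} {g : Co0} (h : g * signEl c hc * g⁻¹ ∈ Signs)
    {j t : GolayPt} (ht : t ∈ c) (h0 : (g⁻¹ • e8 j).1 t ≠ 0) {i : GolayPt} (hi : i ∉ c) :
    (g⁻¹ • e8 j).1 i = 0 := by
  obtain ⟨c', hc', e⟩ := h
  have k : signEl c hc • g⁻¹ • e8 j = g⁻¹ • signEl c' hc' • e8 j := by
    rw [← e, ← mul_smul, ← mul_smul]; simp [mul_assoc]
  have k1 := signEl_apply c hc (g⁻¹ • e8 j) t
  have k2 := signEl_apply c hc (g⁻¹ • e8 j) i
  rw [k, signEl_e8] at k1 k2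
  rw [if_pos ht] at k1
  rw [if_neg hi] at k2
  split_ifs at k1 k2
  · rw [co_neg, AddSubgroup.coe_neg, Pi.neg_apply] at k2
    omega
  · omega

/-- **SEXT** -/
theorem sext : SextStmt := by
  intro c d hc hd c8' _ h4
  obtain ⟨t, ht⟩ : (c ∩ d).Nonempty := card_pos.1 (by omega)
  have m : (fun i => if i ∈ c ∩ d then (4 : ℤ) else 0) ∈ leechLattice :=
    mem_of_four_dvd _ (fun i => by split_ifs <;> simp) (by
      rw [sum_ite_mem, univ_inter, sum_const, h4]; decide)
  refine ⟨e8 none, ⟨_, m⟩, ⟨_, m⟩ + e8 t, fun g h1 h2 => ?_⟩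
  obtain ⟨j, hj⟩ : ∃ j, (g⁻¹ • e8 j).1 t ≠ 0 := by
    by_contra hn
    push Not at hn
    have k : (g • e8 t).1 = 0 := funext fun j => by
      have := eight_mul_smul' g (e8 t) j
      rw [dotInt_comm, dot_e8, hn] at this
      simpa using this
    have := co_sqNorm g (e8 t)
    rw [k, sqNorm_e8] at this
    simp [sqNorm] at this
  have cg : cong (g⁻¹ • e8 j) (g⁻¹ • e8 none) := (cong_e8_e8 j none).smul _
  have n64 : sqNorm (g⁻¹ • e8 j).1 = 64 := (co_sqNorm _ _).trans (sqNorm_e8 j)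
  have s0 : ∀ i, i ∉ c ∩ d → (g⁻¹ • e8 j).1 i = 0 := fun i hi => by
    rcases not_and_or.1 (mem_inter.not.1 hi) with e | e
    exacts [supp h1 (mem_inter.1 ht).1 hj e, supp h2 (mem_inter.1 ht).2 hj e]
  generalize g⁻¹ • e8 j = f at cg n64 s0 hj
  obtain ⟨i0, hi0⟩ : ∃ i, i ∉ c ∩ d := by
    by_contra hn
    push Not at hn
    rw [eq_univ_of_forall hn, card_univ, card_golayPt] at h4
    omega
  have ev := evenCond_of f.2 i0 (by rw [s0 i0 hi0]; rfl)
  have e2 : cls f.1 2 = ∅ := ev.2.2.eq_empty_of_card_lt (lt_of_le_of_lt (card_le_card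
    (t := c ∩ d) fun i hi => by_contra fun e => by
      have := mem_cls.1 hi
      rw [s0 i e] at this
      omega) (by omega))
  have d4 : ∀ i, 4 ∣ f.1 i := fun i => by
    have h5 := ev.1 i
    have h6 : ¬ f.1 i % 4 = 2 := fun e => by simpa [e2] using mem_cls.2 e
    omega
  let S : Finset GolayPt := univ.filter fun i => f.1 i % 8 = 4
  have hS : S ⊆ c ∩ d := fun i hi => by_contra fun e => by
    have := (mem_filter.1 hi).2
    rw [s0 i e] at this
    omega
  have dS : (64 : ℤ) ∣ sqNorm f.1 - 16 * S.card := by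
    rw [sqNorm, show ((S.card : ℕ) : ℤ) = ∑ i, if f.1 i % 8 = 4 then 1 else 0 by
      rw [sum_boole], mul_sum, ← sum_sub_distrib]
    refine dvd_sum fun i _ => ?_
    have := d4 i
    split_ifs with e
    · obtain ⟨k, hk⟩ : ∃ k, f.1 i = 8 * k + 4 := ⟨f.1 i / 8, by omega⟩
      exact ⟨k ^ 2 + k, by rw [hk]; ring⟩
    · obtain ⟨k, hk⟩ : ∃ k, f.1 i = 8 * k := ⟨f.1 i / 8, by omega⟩
      exact ⟨k ^ 2, by rw [hk]; ring⟩
  have cS := card_le_card hS
  by_cases e : S.card = 0
  · rcases c8 0 f none (fun i => by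
      have h5 := d4 i
      have h6 : ¬ f.1 i % 8 = 4 := fun e' => by
        have : i ∈ S := mem_filter.2 ⟨mem_univ _, e'⟩
        simp [card_eq_zero.1 e] at this
      simp only [AddSubgroup.coe_zero, Pi.zero_apply]
      omega) with h | h
    · rw [h.eq_zero n64.le] at n64
      simp [sqNorm] at n64
    · exact Or.inl ((zero_add (e8 none) ▸ h).trans cg)
  · have eS : S = c ∩ d := eq_of_subset_of_card_le hS (by omega)
    refine Or.inr ((c8 ⟨_, m⟩ f t fun i => ?_).imp (·.trans cg) (·.trans cg))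
    dsimp only
    split_ifs with hi
    · have := (mem_filter.1 (eS ▸ hi : i ∈ S)).2
      omega
    · simp [s0 i hi]

end Cfsg.Agent.H19.Par
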