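import Cfsg.Agent.H19.OddIndex
import Cfsg.Agent.H19.RealBlock
import Cfsg.Agent.H21.Induced

/-! Counting modulo `p` under a Galois automorphism of `p`-power order. -/

namespace Cfsg.Agent.H19

open Cfsg
open scoped ComplexConjugate

universe u

theorem sum_eq_sum_fixed_perm {p : ℕ} (hp : p.Prime) {α A : Type*} [Fintype α] [DecidableEq α]
    [AddCommGroup A] (τ : Equiv.Perm α) {e : ℕ} (hτ : τ ^ p ^ e = 1) (f : α → A)
    (hf : ∀ a, f (τ a) = f a) (hI : ∀ a, p • f a = 0) :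
    ∑ a, f a = ∑ a with τ a = a, f a := by
  classical
  haveI : Fact p.Prime := ⟨hp⟩
  have hP : IsPGroup p (Subgroup.zpowers τ) := by
    rintro ⟨σ, hσ⟩
    refine ⟨e, Subtype.ext ?_⟩
    obtain ⟨n, rfl⟩ := Subgroup.mem_zpowers_iff.1 hσ
    change (τ ^ n) ^ p ^ e = 1
    rw [← zpow_natCast, ← zpow_mul, mul_comm, zpow_mul, zpow_natCast, hτ, one_zpow]
  have hpow : ∀ (n : ℕ) a, f ((τ ^ n) a) = f a := by
    intro n
    induction n with
    | zero => simp
    | succ n ih => intro a; rw [pow_succ', Equiv.Perm.mul_apply, hf, ih]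
  rw [H21.sum_eq_sum_fixed hP f ?_ hI]
  · refine Finset.sum_congr ?_ fun _ _ => rfl
    ext a
    simp only [Finset.mem_filter, Finset.mem_univ, true_and]
    refine ⟨fun h => h ⟨τ, Subgroup.mem_zpowers τ⟩, fun h => ?_⟩
    rintro ⟨_, n, rfl⟩
    exact Equiv.Perm.zpow_apply_eq_self_of_apply_eq_self h n
  · rintro ⟨σ, hσ⟩ a
    obtain ⟨n, rfl⟩ := (mem_powers_iff_mem_zpowers.2 hσ)
    exact hpow n a

variable {G : Type u} [Group G] [Finite G]

/-- The power map as a permutation of the irreducible characters. -/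
noncomputable def powPerm {k : ℕ} (hk : k.Coprime (Nat.card G)) : Equiv.Perm (IrrCharacter G) :=
  Equiv.ofBijective (powIrr hk) (powIrr_bijective hk)

theorem powPerm_apply {k : ℕ} (hk : k.Coprime (Nat.card G)) (χ : IrrCharacter G) :
    powPerm hk χ = powIrr hk χ := rfl

theorem powPerm_pow_apply {k : ℕ} (hk : k.Coprime (Nat.card G)) (j : ℕ) (χ : IrrCharacter G)
    (g : G) : ((powPerm hk ^ j) χ).1 g = χ.1 (g ^ k ^ j) := by
  induction j generalizing g with
  | zero => simp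
  | succ j ih =>
    rw [pow_succ', Equiv.Perm.mul_apply, powPerm_apply, powIrr_apply, ih, ← pow_mul, ← pow_succ']

theorem powPerm_pow_eq_one {k : ℕ} (hk : k.Coprime (Nat.card G)) {j : ℕ}
    (h : ∀ g : G, g ^ k ^ j = g) : powPerm hk ^ j = 1 := by
  ext χ g
  rw [powPerm_pow_apply, h]; rfl

theorem pow_pow_eq_of_modEq {k j : ℕ} (h : k ^ j ≡ 1 [MOD Nat.card G]) (g : G) :
    g ^ k ^ j = g := by
  conv_rhs => rw [← pow_one g]
  rw [pow_eq_pow_iff_modEq]
  exact h.of_dvd (orderOf_dvd_natCard g)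

open Classical in
theorem sum_irr_eq_sum_fixed [Fintype (IrrCharacter G)] {p : ℕ} (hp : p.Prime) {A : Type*}
    [AddCommGroup A] {k : ℕ} (hk : k.Coprime (Nat.card G)) {e : ℕ}
    (h : ∀ g : G, g ^ k ^ p ^ e = g) (f : IrrCharacter G → A)
    (hf : ∀ χ, f (powIrr hk χ) = f χ) (hI : ∀ a, p • f a = 0) :
    ∑ χ, f χ = ∑ χ with (∀ g, χ.1 (g ^ k) = χ.1 g), f χ := by
  rw [sum_eq_sum_fixed_perm hp (powPerm hk) (powPerm_pow_eq_one hk h) f hf hI]
  refine Finset.sum_congr ?_ fun _ _ => rfl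
  ext χ
  simp only [Finset.mem_filter, powPerm_apply, powIrr_eq_iff]

theorem coprime_of_pow_ne_one {k : ℕ} (h : ∀ g : G, (orderOf g).Prime → g ^ k ≠ 1) :
    k.Coprime (Nat.card G) := by
  refine Nat.coprime_of_dvd fun q hq hqk hqG => ?_
  haveI : Fact q.Prime := ⟨hq⟩
  obtain ⟨g, hg⟩ := exists_prime_orderOf_dvd_card' (G := G) q hqG
  exact h g (hg ▸ hq) (orderOf_dvd_iff_pow_eq_one.1 (hg ▸ hqk))

theorem coprime_of_parts {p k c : ℕ} (hp : p.Prime) (hc : ¬ p ∣ c)
    (hk₁ : ∀ g : G, (∃ j : ℕ, orderOf g = p ^ j) → g ^ k = g ^ c)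
    (hk₂ : ∀ g : G, (orderOf g).Coprime p → g ^ k = g) : k.Coprime (Nat.card G) := by
  refine coprime_of_pow_ne_one fun g hg h1 => ?_
  by_cases hq : orderOf g = p
  · rw [hk₁ g ⟨1, by rw [hq, pow_one]⟩, ← orderOf_dvd_iff_pow_eq_one, hq] at h1
    exact hc h1
  · rw [hk₂ g ((Nat.coprime_primes hg hp).2 hq)] at h1
    rw [h1, orderOf_one] at hg
    exact Nat.not_prime_one hg

theorem pow_pow_eq_of_parts {p k c : ℕ} (hp : p.Prime) (hc : c ≡ 1 [MOD p])
    (hk₁ : ∀ g : G, (∃ j : ℕ, orderOf g = p ^ j) → g ^ k = g ^ c)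
    (hk₂ : ∀ g : G, (orderOf g).Coprime p → g ^ k = g) (g : G) :
    g ^ k ^ p ^ (Nat.card G).factorization p = g := by
  obtain ⟨u, v, hu, hv, huv, ⟨j, hj⟩, hcop⟩ := H13.exists_p_parts hp g
  have hcomm := H13.commute_of_mem_zpowers hu hv
  obtain ⟨i, -, hi⟩ := (Nat.dvd_prime_pow hp).1 (orderOf_dvd_iff_pow_eq_one.2 hj)
  have h1 : ∀ n : ℕ, u ^ k ^ n = u ^ c ^ n := by
    intro n
    induction n with
    | zero => simp
    | succ n ih =>
      rw [pow_succ', pow_mul, hk₁ u ⟨i, hi⟩, ← pow_mul, mul_comm c, pow_mul, ih, ← pow_mul,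
        ← pow_succ]
  have h2 : ∀ n : ℕ, v ^ k ^ n = v := by
    intro n
    induction n with
    | zero => simp
    | succ n ih => rw [pow_succ', pow_mul, hk₂ v hcop, ih]
  set a := (Nat.card G).factorization p
  have h3 : c ^ p ^ a ≡ 1 [MOD p ^ (a + 1)] := by
    have h := dvd_sub_pow_of_dvd_sub (R := ℤ) (p := p) (a := 1) (b := (c : ℤ))
      (by exact_mod_cast hc.dvd) a
    rw [one_pow] at h
    exact Nat.modEq_iff_dvd.2 (by exact_mod_cast h)
  have h4 : u ^ c ^ p ^ a = u := by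
    conv_rhs => rw [← pow_one u]
    rw [pow_eq_pow_iff_modEq, hi]
    refine h3.of_dvd (pow_dvd_pow p ?_)
    have := (hp.pow_dvd_iff_le_factorization (Nat.card_pos (α := G)).ne').1
      (hi ▸ orderOf_dvd_natCard u)
    omega
  conv_lhs => rw [huv, hcomm.mul_pow, h1, h2, h4, ← huv]

variable {M : Ideal AlgInt} {p : ℕ}

open Classical in
/-- `∑_{χ ∈ B} χ(1)² ≡ 0` when `p` divides the group order. -/
theorem sum_red_degree_sq [Fintype (IrrCharacter G)] (hM : IsPModular p M)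
    {B : Set (IrrCharacter G)} (hB : IsPBlock M B) (hG : p ∣ Nat.card G) :
    ∑ χ ∈ Finset.univ.filter (· ∈ B), (charDegree χ.1 : kk M) ^ 2 = 0 := by
  haveI : Fact p.Prime := ⟨hM.1⟩
  letI := Fintype.ofFinite G
  obtain ⟨y, hy⟩ := exists_prime_orderOf_dvd_card' (G := G) p hG
  have h := H21.weak_orth' hM hB (x := y) (y := 1) (hy ▸ dvd_rfl)
    (by rw [orderOf_one, Nat.dvd_one]; exact hM.1.ne_one)
  rw [H17.finsum_mem_irr] at h
  have h2 := congrArg (red M) h
  rw [red_zero, red_sum] at h2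
  · rw [← h2]
    refine Finset.sum_congr rfl fun χ _ => ?_
    rw [H11.conj_apply (H11.irr_isCharacter χ), inv_one,
      red_mul (irr_mem_Vr χ y) (irr_mem_Vr χ 1),
      red_char_p_elem hM (H11.irr_isCharacter χ) (k := 1)
        (by rw [pow_one, ← hy, pow_orderOf_eq_one]),
      ← charDegree_cast_irr, red_natCast, sq]
  · intro χ _
    rw [H11.conj_apply (H11.irr_isCharacter χ)]
    exact mul_mem (irr_mem_Vr χ _) (irr_mem_Vr χ _)

theorem inner_mul_div_mem_Vr [Fintype G] (N : Subgroup G) [N.Normal] [Fintype N]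
    (θ : IrrCharacter N) (ψ : IrrCharacter G) :
    classInner (fun n : N => ψ.1 n) θ.1 * ψ.1 1 / θ.1 1 ∈ Vr M := by
  obtain ⟨e, he⟩ := H11.exists_nat_classInner
    (H11.isCharacter_restrict (H11.irr_isCharacter ψ) N) (H11.irr_isCharacter θ)
  by_cases h0 : classInner (fun n : N => ψ.1 n) θ.1 = 0
  · rw [h0, zero_mul, zero_div]; exact zero_mem _
  · rw [H14.clifford_degree N ψ.2 θ.2 h0, he, mul_div_assoc,
      mul_div_cancel_right₀ _ (H11.irr_apply_one_ne_zero θ.2)]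
    exact mul_mem (natCast_mem_Vr _) (mul_mem (natCast_mem_Vr _) (natCast_mem_Vr _))

open Classical in
/-- The degree of the `B`-part of an induced character. -/
theorem sum_inner_mul_div_eq [Fintype G] [Fintype (IrrCharacter G)] (H : Subgroup G) [Fintype H]
    (B : Set (IrrCharacter G)) (θ : IrrCharacter H) :
    ∑ ψ ∈ Finset.univ.filter (· ∈ B), classInner (fun n : H => ψ.1 n) θ.1 * ψ.1 1 / θ.1 1 =
      H.index * H21.om θ.1 (fun h : H => blockCoeff B h) := by
  rw [← H21.om_indFun H θ.1 (H21.blockCoeff_isClassFunction B), ← H21.blockPart_one_div,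
    H21.blockPart_apply, H14.indFun_one, ← Finset.sum_div]
  have h1 : (H.index : ℂ) ≠ 0 := Nat.cast_ne_zero.2 Subgroup.index_ne_zero_of_finite
  have h2 := H11.irr_apply_one_ne_zero θ.2
  have h3 : ∀ ψ : IrrCharacter G, classInner (indFun H θ.1) ψ.1 =
      classInner (fun n : H => ψ.1 n) θ.1 := fun ψ => by
    rw [H14.classInner_indFun_left H θ.1 (H11.isClassFunction_of_irr ψ.2),
      H11.classInner_comm_of_isCharacter (H11.irr_isCharacter θ)
        (H11.isCharacter_restrict (H11.irr_isCharacter ψ) H)]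
  simp only [h3]
  field_simp

end Cfsg.Agent.H19
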