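import Mathlib
import Cfsg.Agent.S1175
import Cfsg.Agent.S1225
import Cfsg.Agent.S1220
import Cfsg.Agent.S0215
import Cfsg.Agent.H3.Cores

/-! A class of odd transpositions in a simple group, split into lines by commutation. -/

set_option autoImplicit false

namespace Cfsg.Agent.H19.RC

open Subgroup

variable {X : Type*} [Group X]

theorem sq_of {d : X} (h : orderOf d = 2) : d * d = 1 := by rw [← pow_two, ← h, pow_orderOf_eq_one]

theorem ord2 {d : X} (h : d * d = 1) (h1 : d ≠ 1) : orderOf d = 2 :=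
  orderOf_eq_prime (by rw [pow_two, h]) h1

theorem cj {a b : X} (h : Commute a b) (g : X) : Commute (g * a * g⁻¹) (g * b * g⁻¹) := by
  simpa using h.map (MulAut.conj g)

theorem top_of [IsSimpleGroup X] {H : Subgroup X} {x : X} (x1 : x ≠ 1)
    (h : ∀ g : X, g * x * g⁻¹ ∈ H) : H = ⊤ :=
  eq_top_iff.2 (((IsSimpleGroup.eq_bot_or_eq_top_of_normal H.normalCore inferInstance).resolve_left
    fun e => x1 (mem_bot.1 (e ▸ (h : x ∈ H.normalCore)))).ge.trans H.normalCore_le)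

theorem not_central [IsSimpleGroup X] (hna : ¬ IsMulCommutative X) {x : X} (x1 : x ≠ 1)
    (h : ∀ g : X, g * x = x * g) : False := by
  have := top_of (H := center X) x1 fun g => by
    rw [h g, mul_inv_cancel_right]; exact mem_center_iff.2 h
  exact hna ⟨⟨fun a b => mem_center_iff.1 (this.ge (mem_top b)) a⟩⟩

theorem odd_bot [Finite X] [IsSimpleGroup X] {z : X} (hz : orderOf z = 2) {N : Subgroup X}
    (hN : N.Normal) (ho : Odd (Nat.card N)) : N = ⊥ :=
  (IsSimpleGroup.eq_bot_or_eq_top_of_normal N hN).resolve_right fun e =>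
    ho.not_two_dvd_nat (hz ▸ N.orderOf_dvd_natCard (e ▸ mem_top z))

theorem midpoint {d e : X} (hd : d * d = 1) (he : e * e = 1) (ho : Odd (orderOf (e * d))) :
    ∃ u : X, u * u = 1 ∧ u * d * u⁻¹ = e := by
  obtain ⟨k, hk⟩ := ho
  have di := inv_eq_of_mul_eq_one_right hd
  have ei := inv_eq_of_mul_eq_one_right he
  have i : d * (e * d) ^ (k + 1) * d⁻¹ = ((e * d) ^ (k + 1))⁻¹ := by
    rw [← conj_pow, ← inv_pow, mul_inv_rev, di, ei, ← mul_assoc, mul_assoc (d * e), hd, mul_one]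
  have uu : (e * d) ^ (k + 1) * d * ((e * d) ^ (k + 1) * d) = 1 := by
    rw [di] at i
    rw [mul_assoc, ← mul_assoc d, i, mul_inv_cancel]
  refine ⟨_, uu, ?_⟩
  rw [inv_eq_of_mul_eq_one_right uu]
  calc (e * d) ^ (k + 1) * d * d * ((e * d) ^ (k + 1) * d)
      = (e * d) ^ (k + 1) * (d * d) * (e * d) ^ (k + 1) * d := by simp only [mul_assoc]
    _ = (e * d) ^ (2 * k + 1) * (e * (d * d)) := by
      rw [hd, mul_one, ← pow_add, show k + 1 + (k + 1) = 2 * k + 1 + 1 by ring, pow_succ, mul_assoc,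
        mul_assoc, hd]
    _ = e := by rw [← hk, pow_orderOf_eq_one, hd, one_mul, mul_one]

theorem ae {X : Type*} [Group X] [Finite X] [IsSimpleGroup X] (hna : ¬ IsMulCommutative X)
    (D : Set X) (z : X) (hz : z ∈ D) (hinv : ∀ d ∈ D, orderOf d = 2)
    (hcj : ∀ d ∈ D, ∀ g : X, g * d * g⁻¹ ∈ D)
    (h1 : ∃ S : Sylow 2 X, z ∈ S ∧ ∀ s ∈ S, Commute s z)
    (h2 : ∀ d ∈ D, ∀ e ∈ D, Commute d e ∨ Odd (orderOf (d * e)))
    (h3 : ∀ d ∈ D, ∀ e ∈ D, ∀ f ∈ D, Commute f (d * e) → Commute d e)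
    (h4 : ∀ d ∈ D, ∀ e ∈ D, ∀ f ∈ D, d ≠ e → Commute d e → Commute f (d * e) → Commute f d)
    (h5 : ∀ d ∈ D, ∀ d' ∈ D, ∀ e ∈ D, ∀ e' ∈ D, Commute d d' → Commute e e' → ¬ Commute d e →
      ∃ φ : MulAut X, φ d = d' ∧ φ e = e') : False := by
  classical
  have sq : ∀ {d}, d ∈ D → d * d = 1 := fun h => sq_of (hinv _ h)
  have iv : ∀ {d}, d ∈ D → d⁻¹ = d := fun h => inv_eq_of_mul_eq_one_right (sq h)
  have z2 := hinv z hz
  have z1 : z ≠ 1 := by rintro rfl; simp at z2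
  have tr : ∀ {d e f}, d ∈ D → e ∈ D → f ∈ D → Commute d f → Commute f e → Commute d e :=
    fun hd he hf a b => h3 _ hd _ he _ hf (a.symm.mul_right b)
  have nl : ∀ {d e}, d ∈ D → e ∈ D → Commute (d * e * d⁻¹) e → Commute d e := fun {d e} hd he c =>
    (h2 d hd e he).elim id fun ho => by
      have e4 : (d * e) ^ 2 ^ 2 = 1 := by
        have : (d * e) ^ 2 = d * e * d⁻¹ * e := by rw [iv hd, pow_two, mul_assoc (d * e)]
        rw [pow_two 2, pow_mul, this, c.mul_pow, pow_two, pow_two, sq he, sq (hcj e he d), mul_one]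
      have := orderOf_eq_one_iff.1 (Nat.eq_one_of_dvd_coprimes
        (Nat.Coprime.pow_left 2 (Nat.coprime_two_left.2 ho)) (orderOf_dvd_of_pow_eq_one e4) dvd_rfl)
      rw [eq_inv_of_mul_eq_one_left this]
      exact (Commute.refl e).inv_left
  let M : Subgroup X :=
    { carrier := {g | Commute (g * z * g⁻¹) z}
      one_mem' := by simp
      mul_mem' := fun {g h} a b => tr (hcj z hz _) hz (hcj z hz g)
        (by simpa only [mul_assoc, mul_inv_rev] using cj b g) a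
      inv_mem' := fun {g} a => by simpa [mul_assoc] using (cj a g⁻¹).symm }
  have mM : ∀ {g}, g ∈ M ↔ Commute (g * z * g⁻¹) z := Iff.rfl
  obtain ⟨g0, hg0⟩ : ∃ g, g ∉ M := by
    by_contra hh
    push Not at hh
    have := top_of (H := centralizer {z}) z1 fun g => mem_centralizer_singleton_iff.2 (hh g)
    exact not_central hna z1 fun g => mem_centralizer_singleton_iff.1 (this.ge (mem_top g))
  have Mt : M ≠ ⊤ := fun e => hg0 (e ▸ mem_top g0)
  have zM : z ∈ M := mM.2 (by simp)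
  obtain ⟨H, hH⟩ := Cfsg.Agent.S1175.result M Mt z z2 zM h1 (fun g a => nl (hcj z hz g) hz a)
    fun g a ne c hc => h4 z hz _ (hcj z hz g) _ (hcj z hz c) ne.symm a (by
      have := cj ((Commute.refl z).mul_right a) c
      rwa [mem_centralizer_singleton_iff.1 hc, mul_inv_cancel_right] at this)
  have all : ∀ a : X, orderOf a = 2 → ∃ g, g * z * g⁻¹ = a := fun a ha => by
    obtain ⟨g, hg⟩ : ∃ g, g * z * g⁻¹ ∉ H := not_forall.1 fun h => hH.1 (top_of z1 h)
    obtain ⟨s, hs⟩ := exists_prime_orderOf_dvd_card' (G := H) 2 hH.2.1.two_dvd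
    rw [← Subgroup.orderOf_coe] at hs
    exact isConj_iff.1 ((Cfsg.Agent.S1225.result H hH _ (hinv _ (hcj z hz g)) hg s s hs s.2 hs s.2).2
      z a z2 ha)
  have inD : ∀ {a : X}, orderOf a = 2 → a ∈ D := fun ha => by
    obtain ⟨g, rfl⟩ := all _ ha
    exact hcj z hz g
  have hM : Cfsg.IsStronglyEmbedded M := ⟨Mt, even_iff_two_dvd.2 (z2 ▸ M.orderOf_dvd_natCard zM),
    fun g hg => Nat.not_even_iff_odd.1 fun he => by
      obtain ⟨⟨_, hj, m, hm, rfl⟩, hs⟩ := exists_prime_orderOf_dvd_card' 2 he.two_dvd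
      rw [← Subgroup.orderOf_coe] at hs
      have hm2 : orderOf m = 2 := ((MulAut.conj g).orderOf_eq m).symm.trans hs
      exact hg (tr (hcj z hz g) hz (inD hs) (cj (nl (inD hm2) hz hm).symm g) (nl (inD hs) hz hj))⟩
  have two := (Cfsg.Agent.S1220.result M hM).resolve_right fun e => Mt (by
    have := e.2
    rwa [odd_bot z2 (N := Cfsg.oddCore X) inferInstance
      (Nat.coprime_two_right.1 (H3.pPrimeCore_coprime 2 X)), bot_sup_eq] at this)
  have fixT : ∀ {d e d' e'}, d ∈ D → e ∈ D → d' ∈ D → e' ∈ D → ¬ Commute d e → ¬ Commute d' e' →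
      (∃ f ∈ D, Commute (d * e * f * (d * e)⁻¹) f) → ∃ f ∈ D, Commute (d' * e' * f * (d' * e')⁻¹) f := by
    rintro d e d' e' hd he hd' he' n n' ⟨f, hf, c⟩
    obtain ⟨a, rfl⟩ := all d (hinv d hd)
    obtain ⟨a', rfl⟩ := all d' (hinv d' hd')
    obtain ⟨b, rfl⟩ := all e (hinv e he)
    obtain ⟨b', rfl⟩ := all e' (hinv e' he')
    obtain ⟨h, hh, k⟩ := two (a⁻¹ * b) (a'⁻¹ * b')
      (fun m => n (by simpa [mul_assoc] using (cj (mM.1 m) a).symm))
      fun m => n' (by simpa [mul_assoc] using (cj (mM.1 m) a').symm)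
    obtain ⟨φ, p1, p2⟩ := h5 _ (hcj _ hd (a' * h * a⁻¹)) _ hd' _ (hcj _ he (a' * h * a⁻¹)) _ he'
      (by simpa [mul_assoc] using cj (mM.1 hh) a') (by simpa [mul_assoc] using cj (mM.1 k) b')
      fun m => n (by simpa [mul_assoc] using cj m (a' * h * a⁻¹)⁻¹)
    refine ⟨_, inD ((φ.orderOf_eq _).trans (hinv _ (hcj f hf (a' * h * a⁻¹)))), ?_⟩
    rw [← p1, ← p2]
    have := (cj c (a' * h * a⁻¹)).map φ
    convert this using 1
    simp only [← map_mul, ← map_inv]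
    congr 1
    group
  have inj : ∀ {f u u'}, f ∈ D → u ∈ D → u' ∈ D → ¬ Commute u f → u * f * u⁻¹ = u' * f * u'⁻¹ →
      u = u' := fun {f u u'} hf hu hu' n e => by
    by_contra ne
    have c : Commute f (u' * u) := by
      calc f * (u' * u) = u'⁻¹ * (u' * f * u'⁻¹) * (u' * u') * u'⁻¹ * u'⁻¹ * u' * u' * u := by group
        _ = u' * u * f := by rw [← e, sq hu', iv hu', iv hu]; simp [mul_assoc, sq hu', sq hu]
    have c2 := h3 _ hu' _ hu _ hf c
    have j : u' * u ∈ D := inD (ord2 (by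
      rw [mul_assoc, ← mul_assoc u, ← c2.eq, mul_assoc, sq hu, mul_one, sq hu']) fun k =>
        ne ((eq_inv_of_mul_eq_one_right k).trans (iv hu')))
    exact n (tr hu hf j (c2.symm.mul_right (Commute.refl u)) c.symm)
  obtain ⟨S, zS, hS⟩ := h1
  obtain ⟨g1, s1, n1⟩ : ∃ g, g * z * g⁻¹ ∈ S ∧ g * z * g⁻¹ ≠ z := by
    by_contra hh
    push Not at hh
    obtain ⟨N, hN, ho, k⟩ := Cfsg.Agent.S0215.result S z z2 zS hh
    rw [odd_bot z2 hN ho] at k
    exact not_central hna z1 fun g => by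
      have := mem_bot.1 (k g)
      rw [mul_inv_eq_one, mul_inv_eq_iff_eq_mul] at this
      exact this.symm
  have d1 := hcj z hz g0
  have d2 := hcj _ (hcj z hz g1) g0
  have c12 := cj (hS _ s1) g0
  have nz1 : ¬ Commute (g0 * z * g0⁻¹) z := hg0
  have nz2 : ¬ Commute (g0 * (g1 * z * g1⁻¹) * g0⁻¹) z := fun c => nz1 (tr d1 hz d2 c12.symm c)
  have ne12 : g0 * (g1 * z * g1⁻¹) * g0⁻¹ ≠ g0 * z * g0⁻¹ := fun e => n1 (by simpa using e)
  generalize g0 * z * g0⁻¹ = e1 at d1 c12 nz1 ne12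
  generalize g0 * (g1 * z * g1⁻¹) * g0⁻¹ = e2 at d2 c12 nz2 ne12
  have mid : ∀ {e}, e ∈ D → ¬ Commute e z → ∃ u ∈ D, u * z * u⁻¹ = e := fun {e} he n => by
    obtain ⟨u, uu, k⟩ := midpoint (sq hz) (sq he) ((h2 e he z hz).resolve_left n)
    exact ⟨u, inD (ord2 uu (by rintro rfl; exact n (k ▸ by simp))), k⟩
  obtain ⟨u1, hu1, k1⟩ := mid d1 nz1
  obtain ⟨u2, hu2, k2⟩ := mid d2 nz2
  have fx : Commute (u1 * u2 * z * (u1 * u2)⁻¹) z := by
    have := cj c12 u1
    rw [← k1, ← k2] at this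
    simpa [mul_assoc, iv hu1, sq hu1, ← mul_assoc u1 u1] using this
  have n12 : ¬ Commute u1 u2 := fun c => by
    have j : u1 * u2 ∈ D := inD (ord2 (by
      rw [mul_assoc, ← mul_assoc u2, ← c.eq, mul_assoc, sq hu2, mul_one, sq hu1]) fun k =>
        ne12 (by rw [← k1, ← k2, (eq_inv_of_mul_eq_one_right k).trans (iv hu1)]))
    have := tr hu1 hz j ((Commute.refl u1).mul_right c) (nl j hz fx)
    exact nz1 (by rw [← k1, this.eq, mul_inv_cancel_right])
  let rep : X → X := fun d => Classical.epsilon fun f => f ∈ D ∧ Commute f d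
  have r1 : ∀ {d}, d ∈ D → rep d ∈ D ∧ Commute (rep d) d := fun {d} hd =>
    Classical.epsilon_spec (p := fun f => f ∈ D ∧ Commute f d) ⟨d, hd, Commute.refl d⟩
  have r2 : ∀ {d e}, d ∈ D → e ∈ D → Commute (rep d) (rep e) → rep d = rep e := fun {d e} hd he c => by
    have c' : Commute d e := tr hd he (r1 he).1 (tr hd (r1 he).1 (r1 hd).1 (r1 hd).2.symm c) (r1 he).2
    exact congrArg Classical.epsilon (funext fun f => propext
      ⟨fun k => ⟨k.1, tr k.1 he hd k.2 c'⟩, fun k => ⟨k.1, tr k.1 hd he k.2 c'.symm⟩⟩)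
  have ex : ∀ d : {d // d ∈ D ∧ ¬ Commute d z}, ∃ f ∈ D,
      Commute (z * d * rep f * (z * d)⁻¹) (rep f) ∧ ¬ Commute (rep f) z ∧ ¬ Commute d.1 (rep f) := by
    rintro ⟨d, hd, n⟩
    obtain ⟨f, hf, c⟩ := fixT hu1 hu2 hz hd n12 (fun c => n c.symm) ⟨z, hz, fx⟩
    obtain ⟨a, b⟩ := r1 hf
    have c' : Commute (z * d * rep f * (z * d)⁻¹) (rep f) :=
      tr (hcj _ a _) a hf (tr (hcj _ a _) hf (hcj _ hf _) (cj b _) c) b.symm
    refine ⟨f, hf, c', fun k => n (nl hd hz ?_), fun k => n (tr hd hz a k (nl hz a ?_).symm)⟩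
    · refine tr (hcj _ hz d) hz (hcj _ a d) (cj k.symm d) ?_
      simpa [mul_assoc] using cj (tr (hcj _ a _) hz a c' k) z⁻¹
    · have : z * d * rep f * (z * d)⁻¹ = z * rep f * z⁻¹ := by
        rw [mul_assoc z d, k.eq]; group
      exact this ▸ c'
  choose F F1 F2 F3 F4 using ex
  let Φ : {d // d ∈ D ∧ ¬ Commute d z} → {d // d ∈ D ∧ ¬ Commute d z} := fun d =>
    ⟨z * d * rep (F d) * (z * d)⁻¹, hcj _ (r1 (F1 d)).1 _, fun c =>
      F3 d (tr (r1 (F1 d)).1 hz (hcj _ (r1 (F1 d)).1 _) (F2 d).symm c)⟩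
  have Φi : Function.Injective Φ := fun d d' e => by
    have e1 : z * d * rep (F d) * (z * d)⁻¹ = z * d' * rep (F d') * (z * d')⁻¹ :=
      congrArg Subtype.val e
    have e2 := r2 (F1 d) (F1 d') (tr (r1 (F1 d)).1 (r1 (F1 d')).1 (Φ d).2.1 (F2 d).symm
      (e ▸ F2 d'))
    rw [← e2] at e1
    exact Subtype.ext (inj (r1 (F1 d)).1 d.2.1 d'.2.1 (F4 d)
      (by simpa [mul_assoc] using congrArg (· * z) e1))
  obtain ⟨d, hd⟩ := Finite.surjective_of_injective Φi
    ⟨rep e1, (r1 d1).1, fun c => nz1 (tr d1 hz (r1 d1).1 (r1 d1).2.symm c)⟩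
  have e3 : z * d * rep (F d) * (z * d)⁻¹ = rep e1 := congrArg Subtype.val hd
  have e4 := r2 d1 (F1 d) (e3 ▸ F2 d)
  have := inj (r1 (F1 d)).1 d.2.1 hz (F4 d) (by
    rw [e4] at e3
    nth_rw 2 [← e3]
    simp [mul_assoc, iv hz, ← mul_assoc z z, sq hz])
  exact d.2.2 (by rw [this])

end Cfsg.Agent.H19.RC
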