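import Cfsg.Agent.H54.RfKitP
import Cfsg.Agent.H72.VBAS

/-!
# Standard subgroups of type `²F₄(q)`: a `2`-element moving `t` and centralizing the torus of `K₄`
-/

set_option autoImplicit false
set_option linter.unusedSimpArgs false
set_option linter.unnecessarySeqFocus false
set_option linter.unusedSectionVars false

namespace Cfsg.Agent.H19.RfSt2a

open Cfsg Cfsg.Agent.H15.O8 Cfsg.Agent.H39 Cfsg.Agent.H36.O8T Cfsg.Agent.H54.RF Subgroup
open Cfsg.Agent.H72.VB (Y1 Lam supp Y1_normal chrZ chrW fld_tor fT sec2)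
open scoped commutatorElement

universe u v

variable {K : Type v} [Field K] {T : Tits K} {G : Type u} [Group G] {M : FF T G} {t : G}

theorem act_mul {g k : G} {β γ : MulAut (U T)} (hg : ∀ u, g * M.φ u * g⁻¹ = M.φ (β u))
    (hk : ∀ u, k * M.φ u * k⁻¹ = M.φ (γ u)) (u : U T) :
    g * k * M.φ u * (g * k)⁻¹ = M.φ ((β * γ) u) := by
  rw [MulAut.mul_apply, ← hg, ← hk]; group

theorem act_inv {g : G} {β : MulAut (U T)} (hg : ∀ u, g * M.φ u * g⁻¹ = M.φ (β u)) (u : U T) :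
    g⁻¹ * M.φ u * g⁻¹⁻¹ = M.φ (β⁻¹ u) := by
  have := hg (β⁻¹ u)
  rw [show β (β⁻¹ u) = u from β.apply_symm_apply u] at this
  rw [← this]; group

theorem norm_of_act {g : G} {β : MulAut (U T)} (hg : ∀ u, g * M.φ u * g⁻¹ = M.φ (β u)) :
    g ∈ normalizer (M.φ.range : Set G) := mem_normalizer_iff.2 fun x =>
  ⟨fun ⟨u, e⟩ => ⟨β u, by rw [← hg, e]⟩, fun ⟨u, e⟩ => ⟨β⁻¹ u, by
    rw [← act_inv hg, e]; group⟩⟩

variable [Finite K]

/-- An element of `K₄` acting trivially on `W / Z` lies in `U`. -/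
theorem mem_U {x : G} (hx : x ∈ M.cf.C) {γ : MulAut (U T)}
    (hγ : ∀ u, x * M.φ u * x⁻¹ = M.φ (γ u)) (hY : γ ∈ Y1 T) : x ∈ M.φ.range := by
  have w6 : x6 T 1 ∈ W T := by o8s
  obtain ⟨u, c, rfl⟩ := (M.cf.mem_B x).1 (M.cf.cen x hx _ _ (hγ (x6 T 1))
    (Or.inl ⟨W_le_R w6, by o8s; simp, W_le_R (chrW γ _ w6)⟩))
  have e : γ (x6 T 1) = u * tor T (1, c) (x6 T 1) * u⁻¹ := M.inj (by
    rw [← hγ, map_mul, map_mul, map_inv, ← M.hφ]
    show M.φ u * M.h (1, c) * _ * (M.φ u * M.h (1, c))⁻¹ = _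
    group)
  have h1 := hY.2 _ w6
  rw [e, tor_x6] at h1
  have w6' : x6 T (((1 : Kˣ), c).2 * T.θ ((1 : Kˣ), c).2 * 1) ∈ W T := by o8s
  have h2 := (z2 _).1 (inv_mem w6') u
  have h3 : (x6 T 1)⁻¹ * x6 T (((1 : Kˣ), c).2 * T.θ ((1 : Kˣ), c).2 * 1) ∈ Z T := by
    have := mul_mem h1 (inv_mem h2)
    convert this using 1
    rw [commutatorElement_def]
    have hz := cZ _ h2
    rw [commutatorElement_def] at hz
    group
  obtain rfl : c = 1 := Units.ext (nrm_eq_one (T := T) (by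
    have := T.charP
    o8s at h3
    grind))
  exact ⟨u, by rw [map_one, mul_one]; rfl⟩

theorem conj_tor {l : MulAut (U T)} (hl : l ∈ Lam T) (d : Kˣ × Kˣ) :
    ∃ e, l⁻¹ * tor T d * l = tor T e := by
  obtain ⟨c, φ, rfl⟩ := hl
  refine ⟨fT φ⁻¹ d, ?_⟩
  have h1 := fld_tor (T := T) φ⁻¹ d
  rw [map_inv] at h1
  have h2 : (tor T c)⁻¹ * tor T d * tor T c = tor T d := by
    rw [← map_inv, ← map_mul, ← map_mul, mul_comm c⁻¹, inv_mul_cancel_right]
  calc _ = (H96.VB.fld T φ)⁻¹ * ((tor T c)⁻¹ * tor T d * tor T c) * H96.VB.fld T φ := by group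
    _ = _ := by rw [h2, h1, inv_mul_cancel_right]

variable [Finite G]

/-- An element normalizing `K₄` and moving `t` inside `t U` normalizes the set `O`. -/
theorem od_conj (h : Ctx M t) {g : G} (hK : g ∈ normalizer (M.cf.C : Set G)) {z : U T}
    (e : g * t * g⁻¹ = t * M.φ z) {k : G} (hk : Od M t k) : Od M t (g * k * g⁻¹) := by
  have h1 : ∀ x ∈ M.cf.C, Commute (g * k * g⁻¹) x := fun x hx => by
    have := comm_conj (hk.comm (KX M ((mem_normalizer_iff.1 (inv_mem hK) x).1 hx))) g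
    rwa [show g * (g⁻¹ * x * g⁻¹⁻¹) * g⁻¹ = x by group] at this
  refine h.od_of ?_ ?_ fun w _ => h1 _ (φK M w)
  · have := (e ▸ comm_conj hk.2.1 g).mul_right (h1 _ (φK M z)).inv_right
    rwa [mul_inv_cancel_right] at this
  · have := (MulAut.conj g).orderOf_eq k
    rw [MulAut.conj_apply] at this
    rw [this]
    exact hk.2.2

/-- First step: an element acting on `U` through `Y1` and centralizing `O`. -/
theorem step1 (h : Ctx M t) {g : G} (hg : S1 M t g) :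
    ∃ g₁, S1 M t g₁ ∧ (∀ k, Od M t k → Commute g₁ k) ∧
      ∃ β ∈ Y1 T, ∀ u, g₁ * M.φ u * g₁⁻¹ = M.φ (β u) := by
  obtain ⟨hU, hK, a, a0, e⟩ := hg
  obtain ⟨β, hβ⟩ := exists_aut M hU
  obtain ⟨l, hl, hy⟩ := supp β
  obtain ⟨α, α0, α1⟩ := H92.UL.exists_ne h.q2
  set d : Kˣ × Kˣ := (Units.mk0 α α0, 1) with hd
  obtain ⟨d', hd'⟩ := conj_tor hl d
  have act := act_mul (act_mul (act_mul (act_inv hβ) (M.hφ d)) hβ) (M.hφ d'⁻¹)
  refine ⟨g⁻¹ * M.h d * g * M.h d'⁻¹, ⟨norm_of_act act, ?_, ?_⟩, fun k hk => ?_, _, ?_, act⟩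
  · exact mul_mem (mul_mem (mul_mem (inv_mem hK) (h_norm_C M.toPF d)) hK) (h_norm_C M.toPF _)
  · have hz : β⁻¹ (x4 T (a + α * T.θ α * a)) ∈ Z T := chrZ β⁻¹ _ (x4_mem _)
    refine ⟨(β⁻¹ (x4 T (a + α * T.θ α * a))).a4, fun e0 => ?_, ?_⟩
    · have h1 := eq_x4 hz
      rw [e0, x4_zero, MulEquiv.map_eq_one_iff] at h1
      have h2 : a + α * T.θ α * a = 0 := by
        by_contra h3
        exact x4_ne h3 h1
      have := T.charP
      exact α1 (nrm_eq_one (T := T) (mul_right_cancel₀ a0 (by grind)))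
    · have h1 := conj_eq_iff.2 (h.th d'⁻¹)
      have h2 := conj_eq_iff.2 (h.th d)
      have h3 := M.hφ d (x4 T a)
      rw [tor_x4] at h3
      have h4 : g⁻¹ * t * g = t * (g⁻¹ * M.φ (x4 T a) * g⁻¹⁻¹) := by
        have : M.φ (x4 T a) * M.φ (x4 T a) = 1 := by
          rw [← map_mul, ← x4_add, add_self (T := T), x4_zero, map_one]
        calc _ = g⁻¹ * (t * (M.φ (x4 T a) * M.φ (x4 T a))) * g := by rw [this, mul_one]
          _ = g⁻¹ * (g * t * g⁻¹ * M.φ (x4 T a)) * g := by rw [e, mul_assoc t]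
          _ = _ := by group
      rw [← eq_x4 hz, ← act_inv hβ, x4_add, map_mul]
      calc _ = g⁻¹ * (M.h d * (g * (M.h d'⁻¹ * t * (M.h d'⁻¹)⁻¹) * g⁻¹) * (M.h d)⁻¹) * g := by group
        _ = g⁻¹ * ((M.h d * t * (M.h d)⁻¹) * (M.h d * M.φ (x4 T a) * (M.h d)⁻¹)) * g := by
          rw [h1, e]; group
        _ = (g⁻¹ * t * g) * (g⁻¹ * M.φ (x4 T (α * T.θ α * a)) * g⁻¹⁻¹) := by
          rw [h2, h3]
          show g⁻¹ * (t * M.φ (x4 T (α * T.θ α * a))) * g = _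
          group
        _ = _ := by rw [h4]; group
  · refine Commute.mul_left ?_ (hk.comm (hX M _)).symm
    have := comm_conj ((od_conj h hK e hk).comm (hX M d)).symm g⁻¹
    rwa [inv_inv, show g⁻¹ * (g * k * g⁻¹) * g = k by group] at this
  · have e1 : β⁻¹ * tor T d * β * tor T d'⁻¹ =
        (l⁻¹ * β)⁻¹ * (tor T d' * (l⁻¹ * β) * (tor T d')⁻¹) := by
      rw [map_inv, ← hd']; group
    rw [e1]
    exact mul_mem (inv_mem hy) (Y1_normal.conj_mem _ hy _)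

/-- Second step: centralizing the torus of `K₄`. -/
theorem step2 (h : Ctx M t) {g : G} (hg : S1 M t g) (ho : ∀ k, Od M t k → Commute g k)
    {β : MulAut (U T)} (hY : β ∈ Y1 T) (hβ : ∀ u, g * M.φ u * g⁻¹ = M.φ (β u)) :
    ∃ g₂, S1 M t g₂ ∧ (∀ k, Od M t k → Commute g₂ k) ∧ (∀ b, Commute g₂ (M.h (1, b))) ∧
      ∀ a, Commute g₂ (M.φ (x4 T a)) := by
  obtain ⟨hU, hK, a, a0, e⟩ := hg
  let N := normalizer (M.φ.range : Set G)
  let s : Kˣ →* N := M.cf.d.codRestrict N fun b => norm_of_act (M.hφ (1, b))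
  let s' : Kˣ →* N := (MulAut.conj (⟨g, hU⟩ : N)).toMonoidHom.comp s
  have odd : Odd (Nat.card Kˣ) := by
    rw [Nat.card_units]
    exact Nat.Even.sub_odd Nat.card_pos (CF.even_card (T := T)) odd_one
  obtain ⟨w, ⟨u, hu⟩, hw⟩ := sec2 (M.φ.range.subgroupOf N) (M.cf.isPGroup_S.comap_subtype) odd s s'
    fun b => by
      have act := act_mul (act_inv (M.hφ (1, b)))
        (act_mul (act_mul hβ (M.hφ (1, b))) (act_inv hβ))
      refine mem_U (mul_mem (inv_mem (H54.RF.hK M b))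
        ((mem_normalizer_iff.1 hK _).1 (H54.RF.hK M b))) act ?_
      have e1 : (tor T (1, b))⁻¹ * (β * tor T (1, b) * β⁻¹) =
          ((tor T (1, b))⁻¹ * β * (tor T (1, b))⁻¹⁻¹) * β⁻¹ := by group
      rw [e1]
      exact mul_mem (Y1_normal.conj_mem _ hY _) (inv_mem hY)
  have hw' : ∀ b, g * M.h (1, b) * g⁻¹ = M.φ u * M.h (1, b) * (M.φ u)⁻¹ := fun b => by
    rw [hu]
    exact congrArg Subtype.val (hw b)
  have cz : ∀ a, Commute (M.φ u) (M.φ (x4 T a)) := fun a => (φ_comm M).2 (cZ _ (x4_mem a) u)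
  refine ⟨(M.φ u)⁻¹ * g, ⟨mul_mem (inv_mem (le_normalizer ⟨u, rfl⟩)) hU,
    mul_mem (inv_mem (le_normalizer (φK M u))) hK, a, a0, ?_⟩,
    fun k hk => (hk.φ u).symm.inv_left.mul_left (ho k hk), fun b => ?_, fun a => ?_⟩
  · have := conj_eq_iff.2 ((h.tφ u).mul_right (cz a)).inv_left
    rw [← this, ← e]; group
  · rw [← conj_eq_iff]
    calc _ = (M.φ u)⁻¹ * (g * M.h (1, b) * g⁻¹) * M.φ u := by group
      _ = _ := by rw [hw']; group
  · refine (cz a).inv_left.mul_left (conj_eq_iff.1 ?_)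
    rw [hβ, hY.1 _ (x4_mem a)]

/-- **ST2A** -/
theorem st2a : St2aStmt.{u, v} := by
  intro K _ _ T G _ _ M t h g hg
  obtain ⟨g₁, h1, ho, β, hY, hβ⟩ := step1 h.toCtx hg
  obtain ⟨g₂, ⟨hU, hK, a, a0, e⟩, ho₂, ht, hz⟩ := step2 h.toCtx h1 ho hY hβ
  obtain ⟨x, hx, o, hox, x2, oo, e2⟩ := two_odd g₂
  have sq : Commute (g₂ ^ 2) t := by
    rw [← conj_eq_iff]
    have h2 : M.φ (x4 T a) * M.φ (x4 T a) = 1 := by
      rw [← map_mul, ← x4_add, add_self (T := T), x4_zero, map_one]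
    calc _ = g₂ * (g₂ * t * g₂⁻¹) * g₂⁻¹ := by rw [pow_two]; group
      _ = g₂ * (t * M.φ (x4 T a)) * g₂⁻¹ := by rw [e]
      _ = g₂ * t * g₂⁻¹ * (g₂ * M.φ (x4 T a) * g₂⁻¹) := by group
      _ = t := by rw [e, conj_eq_iff.2 (hz a), mul_assoc, h2, mul_one]
  have ot : Commute o t := by
    refine comm_of_zpowers (g := o ^ 2) (mem_zpowers_pow_iff.2 (Nat.coprime_two_left.2 oo)) ?_
    obtain ⟨k, rfl⟩ := hox
    have := sq.zpow_left k
    rwa [← zpow_natCast, ← zpow_mul, mul_comm, zpow_mul, zpow_natCast] at this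
  refine ⟨x, ⟨zpowers_le.2 hU hx, zpowers_le.2 hK hx, a, a0, ?_⟩, x2,
    fun k hk => comm_of_zpowers hx (ho₂ k hk), fun b => comm_of_zpowers hx (ht b),
    fun a => comm_of_zpowers hx (hz a)⟩
  rw [← e, e2, mul_assoc x o, ot.eq]
  group

end Cfsg.Agent.H19.RfSt2a
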