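import Cfsg.Agent.H87.Transfer
import Cfsg.Agent.H6.ZStar
import Cfsg.Agent.S3331

/-! General tools for the 3-local characterisation of `S₈`. -/

set_option autoImplicit false

namespace Cfsg.Agent.H19.S8

open Subgroup
open scoped Pointwise

variable {G : Type*} [Group G]

theorem cm (k x y : G) : k * (x * y) * k⁻¹ = k * x * k⁻¹ * (k * y * k⁻¹) := by group

theorem cj_comm {g x y : G} (h : x * y = y * x) :
    g * x * g⁻¹ * (g * y * g⁻¹) = g * y * g⁻¹ * (g * x * g⁻¹) := by rw [← cm, h, cm]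

theorem cj_comm' {g x y : G} (h : g * x * g⁻¹ * (g * y * g⁻¹) = g * y * g⁻¹ * (g * x * g⁻¹)) :
    x * y = y * x := by
  rw [← cm, ← cm] at h; simpa using h

theorem cj_sq {g x : G} (h : x * x = 1) : g * x * g⁻¹ * (g * x * g⁻¹) = 1 := by
  rw [← cm, h]; simp

theorem cj_cube {g x : G} (h : x ^ 3 = 1) : (g * x * g⁻¹) ^ 3 = 1 := by
  rw [conj_pow, h]; simp

theorem cj_ne {g x : G} (h : x ≠ 1) : g * x * g⁻¹ ≠ 1 := by simpa using h

theorem cj_eq {g x : G} (h : g * x = x * g) : g * x * g⁻¹ = x := mul_inv_eq_iff_eq_mul.2 h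

theorem eq_cj {g x : G} (h : g * x * g⁻¹ = x) : g * x = x * g := mul_inv_eq_iff_eq_mul.1 h

theorem inv2 {x : G} (h : x * x = 1) : x⁻¹ = x := inv_eq_of_mul_eq_one_right h

/-! ### abelian Sylow 3-subgroups -/

/-- every 3-subgroup is abelian -/
def A3 (G : Type*) [Group G] : Prop :=
  ∀ P : Subgroup G, IsPGroup 3 P → ∀ x ∈ P, ∀ y ∈ P, x * y = y * x

instance fact3 : Fact (Nat.Prime 3) := ⟨Nat.prime_three⟩

theorem a3_of [Finite G] (P : Sylow 3 G) [h : IsMulCommutative (P : Subgroup G)] : A3 G := by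
  intro Q hQ x hx y hy
  obtain ⟨R, hR⟩ := hQ.exists_le_sylow
  obtain ⟨g, rfl⟩ := MulAction.exists_smul_eq G P R
  have h1 : ∀ x ∈ ((g • P : Sylow 3 G) : Subgroup G), g⁻¹ * x * g⁻¹⁻¹ ∈ (P : Subgroup G) := by
    intro x hx
    rw [Sylow.coe_subgroup_smul, Subgroup.mem_pointwise_smul_iff_inv_smul_mem] at hx
    simpa using hx
  exact cj_comm' (congrArg Subtype.val (h.is_comm.comm ⟨_, h1 x (hR hx)⟩ ⟨_, h1 y (hR hy)⟩))

theorem pg_zpowers {x : G} (h : x ^ 3 = 1) : IsPGroup 3 (zpowers x) := by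
  rintro ⟨_, k, rfl⟩
  refine ⟨1, Subtype.ext ?_⟩
  show (x ^ k) ^ 3 ^ 1 = 1
  rw [pow_one, ← zpow_natCast, ← zpow_mul, mul_comm, zpow_mul, zpow_natCast, h, one_zpow]

theorem exists_conj_sylow [Finite G] (P : Sylow 3 G) {x : G} (h : x ^ 3 = 1) :
    ∃ c : G, c * x * c⁻¹ ∈ (P : Subgroup G) := by
  obtain ⟨R, hR⟩ := (pg_zpowers h).exists_le_sylow
  obtain ⟨g, rfl⟩ := MulAction.exists_smul_eq G P R
  have hx := hR (mem_zpowers x)
  rw [Sylow.coe_subgroup_smul, Subgroup.mem_pointwise_smul_iff_inv_smul_mem] at hx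
  exact ⟨g⁻¹, by simpa using hx⟩

theorem A3.conj_comm [Finite G] (hA : A3 G) {H : Subgroup G} {x y : G} (hx : x ∈ H) (hy : y ∈ H)
    (x3 : x ^ 3 = 1) (y3 : y ^ 3 = 1) : ∃ c ∈ H, c * x * c⁻¹ * y = y * (c * x * c⁻¹) := by
  obtain ⟨R, hR⟩ := (pg_zpowers (x := (⟨y, hy⟩ : H)) (Subtype.ext y3)).exists_le_sylow
  obtain ⟨c, hc⟩ := exists_conj_sylow R (x := (⟨x, hx⟩ : H)) (Subtype.ext x3)
  exact ⟨c, c.2, hA _ (R.isPGroup'.map H.subtype) _ ⟨_, hc, rfl⟩ _ ⟨_, hR (mem_zpowers _), rfl⟩⟩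

/-- strong 3-embedding -/
def SE (H : Subgroup G) : Prop :=
  ∀ x g : G, x ∈ H → x ^ 3 = 1 → x ≠ 1 → g * x * g⁻¹ ∈ H → g ∈ H

theorem se_of [Finite G] (P : Sylow 3 G) [IsMulCommutative (P : Subgroup G)] {H : Subgroup G}
    (hP : (P : Subgroup G) ≤ H) (hN : normalizer ((P : Subgroup G) : Set G) ≤ H)
    (hC : ∀ w ∈ (P : Subgroup G), w ≠ 1 → ∀ g, g * w = w * g → g ∈ H) : SE H := by
  have h0 : ∀ x ∈ H, x ^ 3 = 1 → ∃ c ∈ H, c * x * c⁻¹ ∈ (P : Subgroup G) := by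
    intro x hx x3
    obtain ⟨c, hc⟩ := exists_conj_sylow (P.subtype hP) (x := (⟨x, hx⟩ : H)) (Subtype.ext x3)
    exact ⟨c, c.2, hc⟩
  intro x g hx x3 x1 hg
  obtain ⟨c, hc, h1⟩ := h0 x hx x3
  obtain ⟨d, hd, h2⟩ := h0 _ hg (cj_cube x3)
  obtain ⟨n, hn, h3⟩ := P.conj_eq_normalizer_conj_of_mem (c * x * c⁻¹) (c * g⁻¹ * d⁻¹) h1
    (by rw [show (c * g⁻¹ * d⁻¹)⁻¹ * (c * x * c⁻¹) * (c * g⁻¹ * d⁻¹) = d * (g * x * g⁻¹) * d⁻¹ by
      group]; exact h2)
  have h4 := hC _ h1 (cj_ne x1) (n * (d * g * c⁻¹)) (by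
    calc _ = n * ((c * g⁻¹ * d⁻¹)⁻¹ * (c * x * c⁻¹) * (c * g⁻¹ * d⁻¹)) * (d * g * c⁻¹) := by group
      _ = _ := by rw [h3]; group)
  rwa [H.mul_mem_cancel_left (hN hn), H.mul_mem_cancel_right (H.inv_mem hc),
    H.mul_mem_cancel_left hd] at h4

theorem SE.cent {H : Subgroup G} (h : SE H) {x g : G} (hx : x ∈ H) (x3 : x ^ 3 = 1) (x1 : x ≠ 1)
    (hg : g * x = x * g) : g ∈ H := h x g hx x3 x1 (by rwa [cj_eq hg])

theorem SE.fus [Finite G] (hA : A3 G) {H : Subgroup G} (h : SE H) {u g x y : G} (hx : x ∈ H)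
    (x3 : x ^ 3 = 1) (x1 : x ≠ 1) (hxu : x * u = u * x) (hy : y ∈ H) (y3 : y ^ 3 = 1) (y1 : y ≠ 1)
    (hyu : y * (g * u * g⁻¹) = g * u * g⁻¹ * y) : ∃ k ∈ H, k * u * k⁻¹ = g * u * g⁻¹ := by
  obtain ⟨c, hc, h1⟩ := hA.conj_comm (H := centralizer {g * u * g⁻¹}) (x := g * x * g⁻¹) (y := y)
    (mem_centralizer_singleton_iff.2 (cj_comm hxu)) (mem_centralizer_singleton_iff.2 hyu)
    (cj_cube x3) y3
  refine ⟨c * g, h x _ hx x3 x1 ?_, ?_⟩
  · have := h.cent hy y3 y1 h1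
    convert this using 1; group
  · have := cj_eq (mem_centralizer_singleton_iff.1 hc)
    rw [← this]; group

/-! ### an involution fixing exactly one coset -/

theorem odd_relIndex [Finite G] {H Y : Subgroup G} {t : G} (t2 : t * t = 1) (htY : t ∈ Y)
    (htH : t ∈ H) (uf : ∀ g, g * t * g⁻¹ ∈ H → g ∈ H) : Odd (H.relIndex Y) := by
  classical
  haveI : Fact (Nat.Prime 2) := ⟨Nat.prime_two⟩
  by_contra h
  rw [Nat.not_odd_iff_even, even_iff_two_dvd] at h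
  haveI := Fintype.ofFinite (Y ⧸ H.subgroupOf Y)
  obtain ⟨b, h1, h2⟩ := Equiv.Perm.exists_fixed_point_of_prime' (p := 2) (n := 1)
    (α := Y ⧸ H.subgroupOf Y) (by rw [← Nat.card_eq_fintype_card]; exact h)
    (σ := MulAction.toPermHom Y _ ⟨t, htY⟩)
    (by rw [← map_pow, show (⟨t, htY⟩ : Y) ^ 2 ^ 1 = 1 from Subtype.ext (by simpa [sq] using t2),
      map_one]) (a := ((1 : Y) : Y ⧸ H.subgroupOf Y)) (by
      simp only [MulAction.toPermHom_apply, MulAction.toPerm_apply, MulAction.Quotient.smul_mk,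
        QuotientGroup.eq, mem_subgroupOf]
      simpa using htH)
  obtain ⟨b, rfl⟩ := QuotientGroup.mk_surjective b
  simp only [MulAction.toPermHom_apply, MulAction.toPerm_apply, MulAction.Quotient.smul_mk,
    QuotientGroup.eq, mem_subgroupOf] at h1
  refine h2 (QuotientGroup.eq.2 (mem_subgroupOf.2 ?_))
  have := uf (b : G)⁻¹ (by simpa [inv2 t2, mul_assoc] using h1)
  simpa using this

theorem exists_conj_mem [Finite G] {H Y : Subgroup G} (h : Odd (H.relIndex Y)) {x : G}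
    (hx : x ∈ Y) (x4 : x ^ 4 = 1) : ∃ g ∈ Y, g * x * g⁻¹ ∈ H := by
  classical
  haveI : Fact (Nat.Prime 2) := ⟨Nat.prime_two⟩
  haveI := Fintype.ofFinite (Y ⧸ H.subgroupOf Y)
  obtain ⟨b, h1⟩ := Equiv.Perm.exists_fixed_point_of_prime (p := 2) (n := 2)
    (α := Y ⧸ H.subgroupOf Y) (by
      rw [← Nat.card_eq_fintype_card, ← even_iff_two_dvd, Nat.not_even_iff_odd]; exact h)
    (σ := MulAction.toPermHom Y _ ⟨x, hx⟩)
    (by rw [← map_pow, show (⟨x, hx⟩ : Y) ^ 2 ^ 2 = 1 from Subtype.ext (by simpa using x4),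
      map_one])
  obtain ⟨b, rfl⟩ := QuotientGroup.mk_surjective b
  simp only [MulAction.toPermHom_apply, MulAction.toPerm_apply, MulAction.Quotient.smul_mk,
    QuotientGroup.eq, mem_subgroupOf] at h1
  refine ⟨(b : G)⁻¹, Y.inv_mem b.2, H.inv_mem_iff.1 ?_⟩
  simpa [mul_assoc] using h1

/-! ### index two -/

def I2 (A B : Subgroup G) : Prop := A ≤ B ∧ A.relIndex B = 2

theorem I2.mul_iff {A B : Subgroup G} (h : I2 A B) {a b : G} (ha : a ∈ B) (hb : b ∈ B) :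
    a * b ∈ A ↔ (a ∈ A ↔ b ∈ A) :=
  mul_mem_iff_of_index_two (H := A.subgroupOf B) h.2 (a := ⟨a, ha⟩) (b := ⟨b, hb⟩)

theorem I2.conj {A B : Subgroup G} (h : I2 A B) {g a : G} (hg : g ∈ B) (ha : a ∈ A) :
    g * a * g⁻¹ ∈ A := by
  rw [h.mul_iff (B.mul_mem hg (h.1 ha)) (B.inv_mem hg), h.mul_iff hg (h.1 ha), A.inv_mem_iff]
  simp [ha]

theorem I2.sq {A B : Subgroup G} (h : I2 A B) {g : G} (hg : g ∈ B) : g * g ∈ A :=
  (h.mul_iff hg hg).2 Iff.rfl

theorem I2.odd_mem {A B : Subgroup G} (h : I2 A B) {g : G} (hg : g ∈ B) {k : ℕ}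
    (hk : g ^ (2 * k + 1) = 1) : g ∈ A := by
  have : g = (g ^ (k + 1)) * g ^ (k + 1) := by
    rw [← pow_add, show k + 1 + (k + 1) = 2 * k + 1 + 1 by ring, pow_succ, hk, one_mul]
  rw [this]; exact h.sq (B.pow_mem hg _)

theorem i2_of {A B : Subgroup G} (h : A ≤ B) {x : G} (hx : x ∈ B) (hxA : x ∉ A)
    (h2 : ∀ g ∈ B, g ∈ A ∨ g * x ∈ A) : I2 A B :=
  ⟨h, relIndex_eq_two_iff.2 ⟨x, hx, fun b hb => by
    by_cases h3 : b ∈ A
    · exact Or.inr ⟨h3, by rwa [A.mul_mem_cancel_left h3]⟩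
    · exact Or.inl ⟨(h2 b hb).resolve_left h3, h3⟩⟩⟩

theorem I2.odd {A B H : Subgroup G} (h : I2 A B) (hH : Odd (H.relIndex B)) :
    Odd (H.relIndex A) := by
  have h1 := relIndex_inf_mul_relIndex H A B
  have h2 := relIndex_inf_mul_relIndex A H B
  rw [inf_of_le_left h.1, h.2] at h1
  rw [inf_comm A H, ← h1] at h2
  haveI : (A.subgroupOf B).Normal := normal_of_index_eq_two h.2
  have h3 : A.relIndex (H ⊓ B) ∣ 2 := by
    rw [← relIndex_subgroupOf (L := B) inf_le_right, ← h.2]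
    exact relIndex_dvd_index_of_normal _ _
  rcases (Nat.dvd_prime Nat.prime_two).1 h3 with h4 | h4 <;> rw [h4] at h2
  · obtain ⟨k, hk⟩ := hH; omega
  · rwa [show H.relIndex A = H.relIndex B by omega]

theorem tt [Finite G] {H Y M : Subgroup G} (hH : Odd (H.relIndex Y)) (hM : I2 M (H ⊓ Y)) {x : G}
    (hx : x ∈ Y) (x2 : x * x = 1) (h : ∀ g ∈ Y, g * x * g⁻¹ ∉ M) :
    ∃ Y', I2 Y' Y ∧ x ∉ Y' := by
  obtain ⟨K, -, h1, h2⟩ := H87.thompson_transfer_involution (G := Y) (H := H.subgroupOf Y)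
    (M := M.subgroupOf Y) hH (by
      rw [← inf_subgroupOf_right H, relIndex_subgroupOf inf_le_right]; exact hM.2)
    (x := ⟨x, hx⟩) (Subtype.ext (by simpa [sq] using x2)) fun g => h g g.2
  refine ⟨K.map Y.subtype, ⟨map_subtype_le K, ?_⟩, ?_⟩
  · rw [relIndex, subgroupOf, comap_map_eq_self_of_injective Y.subtype_injective, h1]
  · rintro ⟨y, hy, e⟩
    exact h2 (by rwa [show y = ⟨x, hx⟩ from Subtype.ext e] at hy)

theorem SE.up {H A B : Subgroup G} (h : SE H) (hAB : I2 A B) (hA : A ≤ H) {x : G} (hx : x ∈ A)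
    (x3 : x ^ 3 = 1) (x1 : x ≠ 1) : B ≤ H := fun g hg =>
  h x g (hA hx) x3 x1 (hA (hAB.conj hg hx))

/-- `N ∪ N x` -/
def ext2 (N : Subgroup G) (x : G) (x2 : x * x = 1) (hx : ∀ n ∈ N, x * n * x⁻¹ ∈ N) :
    Subgroup G where
  carrier := {g | g ∈ N ∨ g * x ∈ N}
  one_mem' := Or.inl N.one_mem
  mul_mem' := by
    have i := inv2 x2
    rintro a b (ha | ha) (hb | hb)
    · exact Or.inl (N.mul_mem ha hb)
    · exact Or.inr (by rw [mul_assoc]; exact N.mul_mem ha hb)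
    · refine Or.inr ?_
      have := N.mul_mem ha (hx b hb)
      rwa [i, ← mul_assoc, ← mul_assoc, mul_assoc a, x2, mul_one] at this
    · refine Or.inl ?_
      have := N.mul_mem ha (hx _ hb)
      rwa [mul_assoc x, mul_inv_cancel_right, ← mul_assoc, mul_assoc a, x2, mul_one] at this
  inv_mem' := by
    rintro a (ha | ha)
    · exact Or.inl (N.inv_mem ha)
    · refine Or.inr ?_
      have := hx _ (N.inv_mem ha)
      rwa [mul_inv_rev, ← mul_assoc, mul_inv_cancel, one_mul, inv2 x2] at this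

theorem mem_ext2 {N : Subgroup G} {x : G} {x2 : x * x = 1} {hx : ∀ n ∈ N, x * n * x⁻¹ ∈ N} {g : G} :
    g ∈ ext2 N x x2 hx ↔ g ∈ N ∨ g * x ∈ N := Iff.rfl

theorem i2_ext2 {N : Subgroup G} {x : G} (x2 : x * x = 1) (hx : ∀ n ∈ N, x * n * x⁻¹ ∈ N)
    (h : x ∉ N) : I2 N (ext2 N x x2 hx) :=
  i2_of (fun _ => Or.inl) (Or.inr (by rw [x2]; exact N.one_mem)) h fun _ => id

/-! ### dihedral groups -/

theorem dihedral [Finite G] {t u : G} (t2 : t * t = 1) (u2 : u * u = 1)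
    (h : ∀ g, g * t * g⁻¹ ≠ u) : ∃ w, w * w = 1 ∧ w ≠ 1 ∧ w * t = t * w ∧ w * u = u * w ∧
      (∀ c, c * t = t * c → c * u = u * c → c * w = w * c) ∧
      ∃ g, g * u * g⁻¹ = w * u ∨ g * t * g⁻¹ = w * u := by
  set f := t * u with hf
  have i1 : u * f * u⁻¹ = f⁻¹ := by
    rw [hf, mul_inv_rev, inv2 t2, inv2 u2, mul_assoc, mul_assoc, u2, mul_one]
  have i2 : ∀ k : ℕ, u * f ^ k * u⁻¹ = (f ^ k)⁻¹ := fun k => by rw [← conj_pow, i1, inv_pow]
  have i3 : ∀ k : ℕ, f ^ k * u * (f ^ k)⁻¹ = f ^ (2 * k) * u := fun k => by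
    rw [← i2, inv2 u2, two_mul, pow_add]
    simp only [← mul_assoc]
    rw [mul_assoc _ u u, u2, mul_one]
  have e : t = f * u := by rw [hf, mul_assoc, u2, mul_one]
  have i4 : ∀ k : ℕ, f ^ k * t * (f ^ k)⁻¹ = f ^ (2 * k + 1) * u := fun k => by
    rw [pow_succ', mul_assoc f, ← i3, e]
    have : f ^ k * f = f * f ^ k := by rw [← pow_succ, pow_succ']
    simp only [← mul_assoc, this]
  rcases Nat.even_or_odd' (orderOf f) with ⟨m, hm | hm⟩
  · have hp := orderOf_pos f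
    have w2 : f ^ m * f ^ m = 1 := by rw [← pow_add, ← two_mul, ← hm, pow_orderOf_eq_one]
    have wu : f ^ m * u = u * f ^ m := by
      have := i2 m; rw [inv2 w2] at this; exact (eq_cj this).symm
    refine ⟨f ^ m, w2, pow_ne_one_of_lt_orderOf (by omega) (by omega), ?_, wu, fun c h1 h2 => ?_, ?_⟩
    · calc f ^ m * t = f ^ m * f * u := by rw [mul_assoc, ← e]
        _ = f * (f ^ m * u) := by rw [← pow_succ, pow_succ', mul_assoc]
        _ = _ := by rw [wu, ← mul_assoc, ← e]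
    · exact (show Commute c f from Commute.mul_right h1 h2).pow_right m
    · rcases Nat.even_or_odd' m with ⟨k, rfl | rfl⟩
      · exact ⟨_, Or.inl (i3 k)⟩
      · exact ⟨_, Or.inr (i4 k)⟩
  · exact absurd (by rw [i4, ← hm, pow_orderOf_eq_one, one_mul]) (h (f ^ m))

/-! ### self-centralising elements of order three -/

theorem card_A5 : Nat.card (alternatingGroup (Fin 5)) = 60 := by
  have := two_mul_card_alternatingGroup (α := Fin 5)
  rw [Fintype.card_perm, Fintype.card_fin] at this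
  rw [Nat.card_eq_fintype_card]
  have h : Nat.factorial 5 = 120 := rfl
  omega

theorem f3 [Finite G] {Y : Subgroup G} (φ : alternatingGroup (Fin 5) →* G)
    (hφ : Function.Injective φ) (hK : φ.range ≤ Y) (ho : Odd (φ.range.relIndex Y)) {x : G}
    (hx : x ∈ Y) (x3 : x ^ 3 = 1) (x1 : x ≠ 1)
    (hc : ∀ g ∈ Y, g * x = x * g → g ∈ zpowers x) : Y ≤ φ.range := by
  have c1 : Nat.card φ.range = 60 := by
    rw [← card_A5]; exact (Nat.card_congr (MonoidHom.ofInjective hφ).toEquiv).symm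
  have c2 : φ.range.relIndex Y * 60 = Nat.card Y := by
    rw [← c1, ← Nat.card_congr (subgroupOfEquivOfLe hK).toEquiv]
    exact (φ.range.subgroupOf Y).index_mul_card
  have o3 : orderOf (⟨x, hx⟩ : Y) = 3 :=
    orderOf_eq_prime (Subtype.ext x3) fun h => x1 (congrArg Subtype.val h)
  obtain ⟨k, hk⟩ := ho
  rcases S3331.result (zpowers (⟨x, hx⟩ : Y)) (by rw [Nat.card_zpowers, o3]) (by
    refine le_antisymm (fun g hg => ?_) fun g hg => ?_
    · obtain ⟨n, hn⟩ := hc g g.2 (congrArg Subtype.val (hg _ (mem_zpowers _))).symm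
      exact ⟨n, Subtype.ext (by simpa using hn)⟩
    · rintro _ ⟨m, rfl⟩
      obtain ⟨n, rfl⟩ := hg
      exact (Commute.refl _).zpow_zpow m n) with ⟨N, hN, -, h1, h2⟩ | ⟨N, hN, -, h1, ⟨e⟩⟩ | ⟨⟨e⟩⟩
  · exfalso
    let f := (QuotientGroup.mk' N).comp (φ.codRestrict Y fun a => hK ⟨a, rfl⟩)
    rcases (inferInstance : f.ker.Normal).eq_bot_or_eq_top with h3 | h3
    · have h4 := Nat.card_le_card_of_injective f ((MonoidHom.ker_eq_bot_iff f).1 h3)
      rw [card_A5] at h4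
      rcases h2 with h2 | ⟨⟨e⟩⟩
      · omega
      · rw [Nat.card_congr e.toEquiv, Nat.card_eq_fintype_card] at h4
        revert h4; decide
    · let c : alternatingGroup (Fin 5) := ⟨Equiv.swap 0 1 * Equiv.swap 1 2, by
        rw [Equiv.Perm.mem_alternatingGroup]; decide⟩
      have h4 : (⟨φ c, hK ⟨c, rfl⟩⟩ : Y) ∈ N :=
        (QuotientGroup.eq_one_iff _).1 (show c ∈ f.ker from h3 ▸ mem_top c)
      have h5 := N.orderOf_dvd_natCard h4
      rw [← orderOf_injective Y.subtype Y.subtype_injective, subtype_apply,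
        orderOf_injective φ hφ, orderOf_eq_prime (p := 3) (x := c) (Subtype.ext (by decide))
          (fun h => absurd (congrArg Subtype.val h) (by decide))] at h5
      exact absurd (Nat.eq_one_of_dvd_coprimes h1 h5 dvd_rfl) (by decide)
  · have c3 := N.card_eq_card_quotient_mul_card_subgroup
    rw [Nat.card_congr e.toEquiv, card_A5] at c3
    haveI : Fact (Nat.Prime 2) := ⟨Nat.prime_two⟩
    obtain ⟨n, hn⟩ := IsPGroup.iff_card.1 (show IsPGroup 2 N from fun g =>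
      ⟨1, Subtype.ext (by simpa using h1 g g.2)⟩)
    rcases n with _ | n
    · exact relIndex_eq_one.1 (by omega)
    · rw [pow_succ] at hn; omega
  · have c3 := Nat.card_congr e.toEquiv
    rw [H57.card_L27] at c3
    omega

/-! ### `Z*` modulo a central involution -/

theorem inv_of_fpf [Finite G] (N : Subgroup G) [N.Normal] {p : G} (p2 : p * p = 1)
    (h : ∀ n ∈ N, n * p = p * n → n = 1) {n : G} (hn : n ∈ N) : p * n * p⁻¹ = n⁻¹ := by
  have := MonoidHom.FixedPointFree.coe_eq_inv_of_involutive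
    (φ := (MulAut.conjNormal (H := N) p).toMonoidHom)
    (fun x hx => Subtype.ext (h x x.2 (eq_cj (congrArg Subtype.val hx)).symm)) fun x => Subtype.ext (by
      simp only [MulEquiv.toMonoidHom_eq_coe, MonoidHom.coe_coe, MulAut.conjNormal_apply]
      rw [inv2 p2, ← mul_assoc, ← mul_assoc, p2, one_mul, mul_assoc, p2, mul_one])
  exact congrArg Subtype.val (congrFun this ⟨n, hn⟩)

theorem zq [Finite G] {u t p q : G} {H : Subgroup G} (u2 : u * u = 1) (t2 : t * t = 1)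
    (p2 : p * p = 1) (q2 : q * q = 1) (t1 : t ≠ 1) (tu : t ≠ u) (ct : t * u = u * t)
    (cp : p * u = u * p) (cq : q * u = u * q)
    (iso : ∀ g, g * u = u * g → (t * (g * t * g⁻¹) * t⁻¹ = g * t * g⁻¹ ∨
      t * (g * t * g⁻¹) * t⁻¹ = g * t * g⁻¹ * u) → g * t * g⁻¹ = t ∨ g * t * g⁻¹ = t * u)
    (hp : ∀ n, n * p * n⁻¹ = p ∨ n * p * n⁻¹ = p * u → n ∈ H)
    (hq : ∀ n, n * q * n⁻¹ = q ∨ n * q * n⁻¹ = q * u → n ∈ H)
    (hpq : ∀ n, n * (p * q) * n⁻¹ = p * q ∨ n * (p * q) * n⁻¹ = p * q * u → n ∈ H)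
    (hO : ∀ N : Subgroup G, (∀ g, g * u = u * g → ∀ n ∈ N, g * n * g⁻¹ ∈ N) →
      (∀ n ∈ N, n * u = u * n ∧ ∃ k, n ^ (2 * k + 1) = 1 ∨ n ^ (2 * k + 1) = u) →
      ∀ n ∈ N, n ∈ H → n = 1 ∨ n = u)
    (g : G) (hg : g * u = u * g) : g * t * g⁻¹ = t ∨ g * t * g⁻¹ = t * u := by
  let C := centralizer ({u} : Set G)
  have mC : ∀ {x}, x * u = u * x → x ∈ C := mem_centralizer_singleton_iff.2
  have Cm : ∀ x : C, (x : G) * u = u * x := fun x => mem_centralizer_singleton_iff.1 x.2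
  let U := zpowers (⟨u, mC rfl⟩ : C)
  have mU : ∀ x : C, x ∈ U ↔ (x : G) = 1 ∨ (x : G) = u := fun x => by
    refine ⟨?_, ?_⟩
    · rintro ⟨k, rfl⟩
      have e : u ^ (2 : ℤ) = 1 := by rw [zpow_two, u2]
      show u ^ k = 1 ∨ u ^ k = u
      rcases Int.even_or_odd' k with ⟨m, rfl | rfl⟩
      · left; rw [zpow_mul, e, one_zpow]
      · right; rw [zpow_add, zpow_mul, e, one_zpow, one_mul, zpow_one]
    · rintro (h | h)
      · rw [show x = 1 from Subtype.ext h]; exact U.one_mem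
      · rw [show x = ⟨u, mC rfl⟩ from Subtype.ext h]; exact mem_zpowers _
  haveI : U.Normal := ⟨fun n hn x => by
    rcases (mU n).1 hn with h | h
    · exact (mU _).2 (Or.inl (by simp [h]))
    · exact (mU _).2 (Or.inr (by simpa [h] using cj_eq (Cm x)))⟩
  let π := QuotientGroup.mk' U
  have e1 : ∀ x y : C, π x = π y ↔ (x : G) = y ∨ (x : G) = y * u := fun x y => by
    rw [eq_comm]
    refine QuotientGroup.eq.trans ((mU _).trans ?_)
    simp only [coe_mul, coe_inv, inv_mul_eq_iff_eq_mul, mul_one]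
  have sj : ∀ y, ∃ x, π x = y := QuotientGroup.mk'_surjective U
  let O := pPrimeCore 2 (C ⧸ U)
  haveI : O.Normal := inferInstance
  have h0 : ∀ n : C, π n ∈ O → (n : G) ∈ H → π n = 1 := by
    intro n h1 h2
    rw [← map_one π, e1]
    simp only [coe_one, one_mul]
    refine hO ((O.comap π).map C.subtype) ?_ ?_ n ⟨n, h1, rfl⟩ h2
    · rintro g hg _ ⟨m, hm, rfl⟩
      exact ⟨_, (inferInstance : (O.comap π).Normal).conj_mem m hm ⟨g, mC hg⟩, rfl⟩
    · rintro _ ⟨m, hm, rfl⟩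
      refine ⟨Cm m, ?_⟩
      obtain ⟨k, hk⟩ : Odd (Nat.card O) := Nat.coprime_two_right.1 (H3.pPrimeCore_coprime 2 _)
      have := congrArg Subtype.val (pow_card_eq_one' (G := O) (x := ⟨π m, hm⟩))
      rw [hk, coe_pow, coe_one, ← map_pow, ← map_one π, e1] at this
      exact ⟨k, by simpa using this⟩
  have h1 : ∀ x : C, (∀ n, n * (x : G) * n⁻¹ = x ∨ n * (x : G) * n⁻¹ = x * u → n ∈ H) →
      ∀ n ∈ O, n * π x = π x * n → n = 1 := by
    intro x hx n hn e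
    obtain ⟨n, rfl⟩ := sj n
    have := cj_eq e
    rw [← map_inv, ← map_mul, ← map_mul, e1] at this
    exact h0 n hn (hx n this)
  have sq : ∀ x : C, (x : G) * x = 1 → π x * π x = 1 := fun x hx => by
    rw [← map_mul, show x * x = 1 from Subtype.ext hx, map_one]
  have h2 : ∀ n ∈ O, n = 1 := fun n hn => by
    refine h1 ⟨p * q, C.mul_mem (mC cp) (mC cq)⟩ hpq n hn (eq_cj ?_).symm
    have a := inv_of_fpf O (sq ⟨p, mC cp⟩ p2) (h1 _ hp) (O.inv_mem hn)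
    have b := inv_of_fpf O (sq ⟨q, mC cq⟩ q2) (h1 _ hq) hn
    rw [inv_inv, ← b] at a
    rw [show (⟨p * q, C.mul_mem (mC cp) (mC cq)⟩ : C) = ⟨p, mC cp⟩ * ⟨q, mC cq⟩ from rfl, map_mul]
    conv_rhs => rw [← a]
    group
  have h3 := h2 _ (H6.zstar (C ⧸ U) (u := π ⟨t, mC ct⟩) ⟨orderOf_eq_prime
    (by rw [pow_two]; exact sq _ t2) (by
      rw [← map_one π, Ne, e1]; simp [t1, tu]), fun g hg => by
    obtain ⟨g, rfl⟩ := sj g
    have := cj_eq hg
    rw [← map_inv, ← map_inv, ← map_mul, ← map_mul, ← map_mul, ← map_mul, e1] at this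
    rw [← map_inv, ← map_mul, ← map_mul, e1]
    exact iso g (Cm g) this⟩ (π ⟨g, mC hg⟩))
  have h4 : π ⟨g, mC hg⟩ * π ⟨t, mC ct⟩ * (π ⟨g, mC hg⟩)⁻¹ = π ⟨t, mC ct⟩ := by
    rw [mul_inv_eq_one, mul_inv_eq_iff_eq_mul] at h3
    exact cj_eq h3.symm
  rw [← map_inv, ← map_mul, ← map_mul, e1] at h4
  exact h4

end Cfsg.Agent.H19.S8
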