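import Cfsg.Agent.H19.S8A
import Cfsg.Agent.S3333

/-! The set-up of the 3-local characterisation of `S₈`. -/

set_option autoImplicit false

namespace Cfsg.Agent.H19.S8

open Subgroup Equiv Equiv.Perm

variable {G : Type*} [Group G]

theorem cc (g h x : G) : g * h * x * (g * h)⁻¹ = g * (h * x * h⁻¹) * g⁻¹ := by group

abbrev S3 := Perm (Fin 3)
abbrev S5 := Perm (Fin 5)
abbrev S6 := Perm (Fin 6)

def c3 : S3 := swap 0 1 * swap 1 2
def c5 : S5 := swap 0 1 * swap 1 2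
def Z3 (x : S3) : Prop := x = 1 ∨ x = c3 ∨ x = c3⁻¹
def Z5 (x : S5) : Prop := x = 1 ∨ x = c5 ∨ x = c5⁻¹
instance : DecidablePred Z3 := fun x => by unfold Z3; infer_instance
instance : DecidablePred Z5 := fun x => by unfold Z5; infer_instance

structure Su0 (α : S3 →* G) (ψ : S5 →* G) (D : Subgroup G) : Prop where
  cm : ∀ x y, α x * ψ y = ψ y * α x
  inj1 : ∀ x y, α x * ψ y = 1 → x = 1 ∧ y = 1
  hN : ∀ g, g * α c3 * g⁻¹ = α c3 ∨ g * α c3 * g⁻¹ = α c3⁻¹ → ∃ x y, g = α x * ψ y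
  mem : ∀ w, w ∈ D ↔ ∃ x y, Z3 x ∧ Z5 y ∧ w = α x * ψ y

variable {α : S3 →* G} {ψ : S5 →* G} {D : Subgroup G}

theorem Su0.mul (S : Su0 α ψ D) (x y x' y') :
    α x * ψ y * (α x' * ψ y') = α (x * x') * ψ (y * y') := by
  rw [map_mul, map_mul, mul_assoc, mul_assoc, ← mul_assoc (ψ y), ← S.cm, mul_assoc]

theorem Su0.inv (S : Su0 α ψ D) (x y) : (α x * ψ y)⁻¹ = α x⁻¹ * ψ y⁻¹ := by
  rw [mul_inv_rev, S.cm, map_inv, map_inv]

theorem Su0.cj (S : Su0 α ψ D) (x y x' y') :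
    α x * ψ y * (α x' * ψ y') * (α x * ψ y)⁻¹ = α (x * x' * x⁻¹) * ψ (y * y' * y⁻¹) := by
  rw [S.inv, S.mul, S.mul]

theorem Su0.inj (S : Su0 α ψ D) {x y x' y'} (h : α x * ψ y = α x' * ψ y') : x = x' ∧ y = y' := by
  have := S.inj1 (x * x'⁻¹) (y * y'⁻¹) (by rw [← S.mul, ← S.inv, h, mul_inv_cancel])
  simpa only [mul_inv_eq_one] using this

theorem Su0.injψ (S : Su0 α ψ D) : Function.Injective ψ := fun a b h =>
  (S.inj (x := 1) (x' := 1) (by rw [h])).2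

theorem Su0.injα (S : Su0 α ψ D) : Function.Injective α := fun a b h =>
  (S.inj (y := 1) (y' := 1) (by rw [h])).1

theorem Su0.comm (S : Su0 α ψ D) {x y x' y'}
    (h : α x * ψ y * (α x' * ψ y') = α x' * ψ y' * (α x * ψ y)) :
    x * x' = x' * x ∧ y * y' = y' * y := by
  rw [S.mul, S.mul] at h; exact S.inj h

theorem Su0.commψ (S : Su0 α ψ D) {x y y'} (h : α x * ψ y * ψ y' = ψ y' * (α x * ψ y)) :
    y * y' = y' * y := (S.comm (x := x) (x' := 1) (by simpa using h)).2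

theorem Su0.commα (S : Su0 α ψ D) {x y x'} (h : α x * ψ y * α x' = α x' * (α x * ψ y)) :
    x * x' = x' * x := (S.comm (y := y) (y' := 1) (by simpa using h)).1

theorem Su0.pow (S : Su0 α ψ D) (x y) (n : ℕ) : (α x * ψ y) ^ n = α (x ^ n) * ψ (y ^ n) := by
  rw [Commute.mul_pow (S.cm x y), map_pow, map_pow]

theorem Su0.z_mem (S : Su0 α ψ D) : α c3 ∈ D :=
  (S.mem _).2 ⟨c3, 1, by decide, by decide, by simp⟩

theorem Su0.z'_mem (S : Su0 α ψ D) : ψ c5 ∈ D :=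
  (S.mem _).2 ⟨1, c5, by decide, by decide, by simp⟩

theorem Su0.cube (S : Su0 α ψ D) {w} (h : w ∈ D) : w ^ 3 = 1 := by
  obtain ⟨x, y, h1, h2, rfl⟩ := (S.mem w).1 h
  rw [S.pow, (by decide : ∀ x, Z3 x → x ^ 3 = 1) x h1,
    (by decide +kernel : ∀ x, Z5 x → x ^ 3 = 1) y h2]
  simp

theorem Su0.z1 (S : Su0 α ψ D) : α c3 ≠ 1 := fun h =>
  absurd (S.injα (h.trans (map_one α).symm)) (by decide)

theorem Su0.z'1 (S : Su0 α ψ D) : ψ c5 ≠ 1 := fun h =>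
  absurd (S.injψ (h.trans (map_one ψ).symm)) (by decide)

theorem Su0.cent (S : Su0 α ψ D) {g} (h1 : g * α c3 = α c3 * g) (h2 : g * ψ c5 = ψ c5 * g) {w}
    (h : w ∈ D) : g * w = w * g := by
  obtain ⟨x, y, h3, h4, rfl⟩ := (S.mem w).1 h
  have a : Commute g (α x) := by
    rcases h3 with rfl | rfl | rfl
    · simp
    · exact h1
    · rw [map_inv]; exact Commute.inv_right h1
  have b : Commute g (ψ y) := by
    rcases h4 with rfl | rfl | rfl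
    · simp
    · exact h2
    · rw [map_inv]; exact Commute.inv_right h2
  exact a.mul_right b

theorem Su0.ab (S : Su0 α ψ D) : IsMulCommutative D :=
  ⟨⟨fun a b => Subtype.ext (S.cent (S.cent rfl (S.cm _ _) a.2).symm
    (S.cent (S.cm _ _).symm rfl a.2).symm b.2)⟩⟩

theorem mem_norm [Finite G] {g : G} (h : ∀ w ∈ D, g * w * g⁻¹ ∈ D) :
    g ∈ normalizer (D : Set G) := by
  haveI : Finite (D : Set G) := Subtype.finite
  exact mem_normalizer_fintype h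

theorem norm_mem {g w : G} (h : g ∈ normalizer (D : Set G)) (hw : w ∈ D) : g * w * g⁻¹ ∈ D :=
  (mem_normalizer_iff.1 h w).1 hw

theorem Su0.norm [Finite G] (S : Su0 α ψ D) (x : S3) {y : S5} (h : Z5 (y * c5 * y⁻¹)) :
    α x * ψ y ∈ normalizer (D : Set G) := mem_norm fun w hw => by
  obtain ⟨x', y', h3, h4, rfl⟩ := (S.mem w).1 hw
  rw [S.cj]
  refine (S.mem _).2 ⟨_, _, (by decide : ∀ x x', Z3 x' → Z3 (x * x' * x⁻¹)) _ _ h3, ?_, rfl⟩
  rcases h4 with rfl | rfl | rfl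
  · left; simp
  · exact h
  · rw [← conj_inv]; exact (by decide +kernel : ∀ x, Z5 x → Z5 x⁻¹) _ h

theorem Su0.normα [Finite G] (S : Su0 α ψ D) (x : S3) : α x ∈ normalizer (D : Set G) := by
  simpa using S.norm x (y := 1) (by decide)

theorem Su0.normψ [Finite G] (S : Su0 α ψ D) {y : S5} (h : Z5 (y * c5 * y⁻¹)) :
    ψ y ∈ normalizer (D : Set G) := by
  simpa using S.norm 1 h

theorem Su0.cases (S : Su0 α ψ D) {w} (h : w ∈ D) (h1 : w ≠ 1) :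
    (w = α c3 ∨ w = α c3⁻¹) ∨ (w = ψ c5 ∨ w = ψ c5⁻¹) ∨
      ∃ x y, Z5 (y * c5 * y⁻¹) ∧ α x * ψ y * w * (α x * ψ y)⁻¹ = α c3 * ψ c5 := by
  obtain ⟨x, y, h3, h4, rfl⟩ := (S.mem w).1 h
  by_cases a : x = 1
  · subst a
    rcases h4 with rfl | rfl | rfl <;> simp at h1 ⊢
  by_cases b : y = 1
  · subst b
    rcases h3 with rfl | rfl | rfl <;> simp at h1 ⊢
  obtain ⟨p, hp⟩ := (by decide : ∀ x, Z3 x → x ≠ 1 → ∃ p, p * x * p⁻¹ = c3) x h3 a
  obtain ⟨q, h5, hq⟩ := (by decide +kernel :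
    ∀ x, Z5 x → x ≠ 1 → ∃ p, Z5 (p * c5 * p⁻¹) ∧ p * x * p⁻¹ = c5) y h4 b
  exact Or.inr (Or.inr ⟨p, q, h5, by rw [S.cj, hp, hq]⟩)

theorem Su0.cjα (S : Su0 α ψ D) (x y) : α x * ψ y * (α x)⁻¹ = ψ y := cj_eq (S.cm x y)

theorem Su0.cjψ (S : Su0 α ψ D) (x y) : ψ y * α x * (ψ y)⁻¹ = α x := cj_eq (S.cm x y).symm

theorem hcj {H : Type*} [Group H] (f : H →* G) (x y : H) :
    f x * f y * (f x)⁻¹ = f (x * y * x⁻¹) := by simp

theorem Su0.conj (S : Su0 α ψ D) {h : S5} (hh : h * c5 = c5 * h) :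
    Su0 α (ψ.comp (MulAut.conj h).toMonoidHom) D where
  cm x y := S.cm x _
  inj1 x y e := by simpa using S.inj1 x _ e
  hN g hg := by
    obtain ⟨x, y, rfl⟩ := S.hN g hg
    exact ⟨x, h⁻¹ * y * h, by simp [mul_assoc]⟩
  mem w := by
    have : ∀ y, Z5 y → ψ.comp (MulAut.conj h).toMonoidHom y = ψ y := by
      rintro y (rfl | rfl | rfl)
      · simp
      · exact congrArg ψ (cj_eq hh)
      · exact congrArg ψ (cj_eq (Commute.inv_right hh))
    rw [S.mem]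
    exact ⟨fun ⟨x, y, a, b, c⟩ => ⟨x, y, a, b, by rw [this y b, c]⟩,
      fun ⟨x, y, a, b, c⟩ => ⟨x, y, a, b, by rw [← this y b, c]⟩⟩

theorem mem_zp3 {x w : G} (h : x ^ 3 = 1) (hw : w ∈ zpowers x) : w = 1 ∨ w = x ∨ w = x⁻¹ := by
  obtain ⟨k, rfl⟩ := hw
  have e : x ^ (3 : ℤ) = 1 := by exact_mod_cast h
  obtain ⟨m, rfl | rfl | rfl⟩ : ∃ m, k = 3 * m ∨ k = 3 * m + 1 ∨ k = 3 * m + -1 :=
    ⟨(k + 1) / 3, by omega⟩ <;> simp [zpow_add, zpow_mul, e]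

theorem exists_su0 [Finite G] {y z : G} (hgen : closure {y, z} = D) (hcomm : IsMulCommutative D)
    (hcard : Nat.card D = 9) (hexp : ∀ a ∈ D, a ^ 3 = 1)
    (eL : normalizer (zpowers z : Set G) ≃* S3 × S5) :
    ∃ (α : S3 →* G) (ψ : S5 →* G), Su0 α ψ D ∧ ∃ x, Z3 x ∧ y = α x * ψ c5 := by
  have hy : y ∈ D := hgen ▸ subset_closure (by simp)
  have hz : z ∈ D := hgen ▸ subset_closure (by simp)
  have n3 : ∀ x : G, x ^ 3 = 1 → ¬ D ≤ zpowers x := fun x hx h => by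
    have := card_le_of_le h
    rw [hcard, Nat.card_zpowers] at this
    have := orderOf_le_of_pow_eq_one (by norm_num) hx
    omega
  have z1 : z ≠ 1 := by
    rintro rfl
    exact n3 y (hexp y hy) (hgen ▸ (closure_le _).2 (by
      rintro _ (rfl | rfl); exacts [mem_zpowers _, one_mem _]))
  have yz : y ∉ zpowers z := fun h => n3 z (hexp z hz) (hgen ▸ (closure_le _).2 (by
      rintro _ (rfl | rfl); exacts [h, mem_zpowers _]))
  have z3 := hexp z hz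
  have mL : ∀ g, g * z * g⁻¹ = z ∨ g * z * g⁻¹ = z⁻¹ → g ∈ normalizer (zpowers z : Set G) :=
    fun g hg => mem_norm (by
      rintro _ ⟨k, rfl⟩
      show g * z ^ k * g⁻¹ ∈ _
      rw [← conj_zpow]
      refine zpow_mem ?_ k
      rcases hg with h | h <;> rw [h]
      exacts [mem_zpowers _, inv_mem (mem_zpowers _)])
  obtain ⟨l, li, ls, ln⟩ : ∃ l : S3 × S5 →* G, Function.Injective l ∧
      (∀ g, g * z * g⁻¹ = z ∨ g * z * g⁻¹ = z⁻¹ → ∃ p, l p = g) ∧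
      ∀ p, l p ∈ normalizer (zpowers z : Set G) :=
    ⟨(normalizer (zpowers z : Set G)).subtype.comp eL.symm.toMonoidHom,
      (subtype_injective _).comp eL.symm.injective, fun g hg => ⟨eL ⟨g, mL g hg⟩, by simp⟩,
      fun p => (eL.symm p).2⟩
  clear eL
  obtain ⟨⟨x1, x2⟩, rfl⟩ := ls z (Or.inl (by simp))
  obtain ⟨⟨y1, y2⟩, rfl⟩ := ls y (Or.inl (cj_eq
    (congrArg Subtype.val (hcomm.is_comm.comm ⟨_, hy⟩ ⟨_, hz⟩))))
  have e1 : (x1, x2) ^ 3 = 1 := li (by rw [map_pow, z3, map_one])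
  have e2 : (y1, y2) ^ 3 = 1 := li (by rw [map_pow, hexp _ hy, map_one])
  have e3 : (y1, y2) * (x1, x2) = (x1, x2) * (y1, y2) := li (by
    rw [map_mul, map_mul]; exact congrArg Subtype.val (hcomm.is_comm.comm ⟨_, hy⟩ ⟨_, hz⟩))
  obtain rfl : x2 = 1 := by
    refine (by decide +kernel : ∀ x : S5, x ^ 3 = 1 →
      (∀ g, g * x * g⁻¹ = 1 ∨ g * x * g⁻¹ = x ∨ g * x * g⁻¹ = x⁻¹) → x = 1) x2
      (congrArg Prod.snd e1) fun g => ?_
    have := mem_zp3 z3 (norm_mem (ln (1, g)) (mem_zpowers _))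
    rw [hcj, ← map_one l, ← map_inv] at this
    exact this.imp (fun h => congrArg Prod.snd (li h)) (Or.imp (fun h => congrArg Prod.snd (li h))
      fun h => congrArg Prod.snd (li h))
  obtain ⟨h1, rfl⟩ := (by decide : ∀ x : S3, x ^ 3 = 1 → x ≠ 1 → ∃ h, h * c3 * h⁻¹ = x) x1
    (congrArg Prod.fst e1) (by rintro rfl; exact z1 (map_one l))
  obtain ⟨y1, rfl⟩ : ∃ y, h1 * y * h1⁻¹ = y1 := ⟨h1⁻¹ * y1 * h1, by group⟩
  have e4 : Z3 y1 := (by decide : ∀ x : S3, x * c3 = c3 * x → Z3 x) y1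
    (cj_comm' (congrArg Prod.fst e3))
  obtain ⟨h2, rfl⟩ := (by decide +kernel : ∀ x : S5, x ^ 3 = 1 → x ≠ 1 → ∃ h, h * c5 * h⁻¹ = x) y2
    (congrArg Prod.snd e2) (by
      rintro rfl
      refine yz ?_
      rcases e4 with rfl | rfl | rfl
      · simp only [mul_one, mul_inv_cancel, Prod.mk_one_one, map_one]; exact one_mem _
      · exact mem_zpowers _
      · rw [← conj_inv, ← inv_one (G := S5), ← Prod.inv_mk, map_inv, inv_one]
        exact inv_mem (mem_zpowers _))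
  let α : S3 →* G := (l.comp (MonoidHom.inl _ _)).comp (MulAut.conj h1).toMonoidHom
  let ψ : S5 →* G := (l.comp (MonoidHom.inr _ _)).comp (MulAut.conj h2).toMonoidHom
  have e : ∀ x y, α x * ψ y = l (h1 * x * h1⁻¹, h2 * y * h2⁻¹) := fun x y => by
    simp [α, ψ, ← map_mul]
  have e' : ∀ x y, ψ y * α x = l (h1 * x * h1⁻¹, h2 * y * h2⁻¹) := fun x y => by
    simp [α, ψ, ← map_mul]
  have ez : l (h1 * c3 * h1⁻¹, 1) = α c3 := rfl
  rw [← e] at hy hgen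
  rw [ez] at hz hgen ls
  have mα : ∀ x, Z3 x → α x ∈ D := by
    rintro x (rfl | rfl | rfl)
    · rw [map_one]; exact D.one_mem
    · exact hz
    · rw [map_inv]; exact D.inv_mem hz
  have hz' : ψ c5 ∈ D := by rwa [D.mul_mem_cancel_left (mα _ e4)] at hy
  refine ⟨α, ψ, ⟨fun x y => by rw [e, e'], fun x y h => ?_, fun g hg => ?_, fun w => ⟨fun h => ?_, ?_⟩⟩,
    y1, e4, (e _ _).symm⟩
  · rw [e, ← map_one l] at h
    simpa using li h
  · obtain ⟨⟨p, q⟩, rfl⟩ := ls g (by simpa using hg)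
    exact ⟨h1⁻¹ * p * h1, h2⁻¹ * q * h2, by rw [e]; simp [mul_assoc]⟩
  · rw [← hgen] at h
    induction h using closure_induction with
    | mem x hx =>
      rcases hx with rfl | rfl
      · exact ⟨y1, c5, e4, by decide, rfl⟩
      · exact ⟨c3, 1, by decide, by decide, by simp⟩
    | one => exact ⟨1, 1, by decide, by decide, by simp⟩
    | mul a b _ _ ha hb =>
      obtain ⟨x, y, a1, a2, rfl⟩ := ha
      obtain ⟨x', y', b1, b2, rfl⟩ := hb
      refine ⟨x * x', y * y', (by decide : ∀ x x', Z3 x → Z3 x' → Z3 (x * x')) _ _ a1 b1, ?_, ?_⟩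
      · rcases a2 with rfl | rfl | rfl <;> rcases b2 with rfl | rfl | rfl <;> decide
      · rw [e, e, e, ← map_mul, Prod.mk_mul_mk, cm h1, cm h2]
    | inv a _ ha =>
      obtain ⟨x, y, a1, a2, rfl⟩ := ha
      refine ⟨x⁻¹, y⁻¹, (by decide : ∀ x, Z3 x → Z3 x⁻¹) _ a1,
        (by decide +kernel : ∀ x, Z5 x → Z5 x⁻¹) _ a2, ?_⟩
      rw [e, e, ← map_inv, Prod.inv_mk, conj_inv, conj_inv]
  · rintro ⟨x, y, a, b, rfl⟩
    refine D.mul_mem (mα x a) ?_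
    rcases b with rfl | rfl | rfl
    · rw [map_one]; exact D.one_mem
    · exact hz'
    · rw [map_inv]; exact D.inv_mem hz'

/-- `N(D)/C(D)` is dihedral of order eight -/
def NC (D : Subgroup G) : Prop :=
  ∃ f : normalizer (D : Set G) →* DihedralGroup 4, Function.Surjective f ∧
    ∀ n, f n = 1 ↔ ∀ w ∈ D, (n : G) * w = w * n

structure Su (α : S3 →* G) (ψ : S5 →* G) (D : Subgroup G) (s : G) : Prop extends Su0 α ψ D where
  s2 : s * s = 1
  sz : s * α c3 * s⁻¹ = ψ c5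
  sa : s * α (swap 0 1) * s⁻¹ = ψ (swap 0 1) ∨ s * α (swap 0 1) * s⁻¹ = ψ (swap 0 1 * swap 3 4)
  hy : ∀ g, g * (α c3 * ψ c5) = α c3 * ψ c5 * g → g ∈ normalizer (D : Set G)
  ny : ∀ g, g * α c3 * g⁻¹ ≠ α c3 * ψ c5
  syl : ∃ P : Sylow 3 G, (P : Subgroup G) = D
  nc : NC D
  card : Nat.card D = 9

theorem Su0.swap_norm [Finite G] (S : Su0 α ψ D) {s : G} (h1 : s * α c3 * s⁻¹ = ψ c5)
    (h2 : s * ψ c5 * s⁻¹ = α c3) : s ∈ normalizer (D : Set G) := mem_norm fun w hw => by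
  obtain ⟨x, y, h3, h4, rfl⟩ := (S.mem w).1 hw
  rw [S8.cm]
  refine D.mul_mem ?_ ?_
  · rcases h3 with rfl | rfl | rfl
    · simp
    · rw [h1]; exact S.z'_mem
    · rw [map_inv, ← conj_inv, h1]; exact D.inv_mem S.z'_mem
  · rcases h4 with rfl | rfl | rfl
    · simp
    · rw [h2]; exact S.z_mem
    · rw [map_inv, ← conj_inv, h2]; exact D.inv_mem S.z_mem

theorem Su0.exists_su [Finite G] (S : Su0 α ψ D) {x0 : S3} (hx0 : Z3 x0) (hD : NC D)
    (hP : ∃ P : Sylow 3 G, (P : Subgroup G) = D) (hc : Nat.card D = 9)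
    (hy : ∀ g, g * (α x0 * ψ c5) = α x0 * ψ c5 * g → g ∈ normalizer (D : Set G) ∧ g ^ 2 ∈ D)
    (hNy : ∀ g, g * (α x0 * ψ c5) * g⁻¹ = (α x0 * ψ c5)⁻¹ → g ^ 2 ∈ D) :
    ∃ ψ' s, Su α ψ' D s := by
  obtain ⟨f, f1, f2⟩ := id hD
  have ny0 : ∀ g, g * α c3 * g⁻¹ ≠ α x0 * ψ c5 := fun g e => by
    have h1 := S.cube (hy (g * ψ (swap 0 1 * swap 1 2 * swap 2 3) * g⁻¹)
      (by rw [← e]; exact cj_comm (S.cm _ _).symm)).2
    rw [← pow_mul, conj_pow, ← map_pow] at h1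
    have := S.injψ ((conj_eq_one_iff.1 h1).trans (map_one ψ).symm)
    revert this; decide
  have aN := S.normα (swap 0 1)
  have bN := S.normψ (y := swap 0 1) (by decide)
  have az : α (swap 0 1) * α c3⁻¹ * (α (swap 0 1))⁻¹ = α c3 := by rw [hcj]; congr 1; decide
  have bz : ψ (swap 0 1) * ψ c5⁻¹ * (ψ (swap 0 1))⁻¹ = ψ c5 := by rw [hcj]; congr 1; decide
  obtain ⟨g, gN, hg⟩ : ∃ g ∈ normalizer (D : Set G),
      ¬ (g * α c3 * g⁻¹ = α c3 ∨ g * α c3 * g⁻¹ = α c3⁻¹) := by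
    by_contra h
    push Not at h
    obtain ⟨p, hp⟩ := f1 (DihedralGroup.r 1)
    have : f (p * p) = 1 := by
      obtain ⟨x, y, e⟩ := S.hN p (by by_contra h2; exact (h p p.2).elim (by tauto) (by tauto))
      have h2 := norm_mem p.2 S.z'_mem
      have h3 := h p p.2
      rw [e, ← one_mul (ψ c5), ← map_one α, S.cj] at h2
      obtain ⟨x', y', -, h4, h5⟩ := (S.mem _).1 h2
      rw [← (S.inj h5).2] at h4
      refine (f2 _).2 fun w hw => S.cent ?_ ?_ hw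
      · rw [Subgroup.coe_mul, e, S.mul, ← mul_one (α c3), ← map_one ψ, S.mul, S.mul, mul_one, one_mul,
          (by decide : ∀ x : S3, x * x * c3 = c3 * (x * x))]
      · rw [Subgroup.coe_mul, e, S.mul, ← one_mul (ψ c5), ← map_one α, S.mul, S.mul, mul_one, one_mul,
          (by decide +kernel : ∀ x : S5, Z5 (x * c5 * x⁻¹) → x * x * c5 = c5 * (x * x)) _ h4]
    rw [map_mul, hp] at this
    revert this; decide
  have gD := S.cases (norm_mem gN S.z_mem) (cj_ne S.z1)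
  have x1 : x0 ≠ 1 := by
    rintro rfl
    simp only [map_one, one_mul] at ny0 hy hNy
    have ny1 : ∀ g, g * α c3 * g⁻¹ ≠ ψ c5⁻¹ := fun g e => ny0 (ψ (swap 0 1) * g) (by
      rw [← bz, ← e]; group)
    obtain ⟨x, y, -, e⟩ := (gD.resolve_left hg).resolve_left (not_or.2 ⟨ny0 g, ny1 g⟩)
    obtain ⟨p, hp⟩ := f1 (DihedralGroup.r 1)
    have h2 : (p : G) ^ 2 ∈ D := by
      rcases S.cases (norm_mem p.2 S.z'_mem) (cj_ne S.z'1) with (h | h) | (h | h) | ⟨x', y', -, h⟩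
      · exact absurd (by rw [← h]; group) (ny0 (p : G)⁻¹)
      · exact absurd (by rw [← az, ← h]; group) (ny0 ((p : G)⁻¹ * (α (swap 0 1))⁻¹))
      · exact (hy _ (eq_cj h)).2
      · exact hNy _ (by rw [h, map_inv])
      · refine absurd ?_ (ny0 ((p : G)⁻¹ * (α x' * ψ y')⁻¹ * (α x * ψ y) * g))
        calc _ = (p : G)⁻¹ * (α x' * ψ y')⁻¹ * (α x * ψ y * (g * α c3 * g⁻¹) * (α x * ψ y)⁻¹) *
              (α x' * ψ y') * p := by group
          _ = _ := by rw [e, ← h]; group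
    have := (f2 (p ^ 2)).2 fun w hw => congrArg Subtype.val (S.ab.is_comm.comm ⟨_, h2⟩ ⟨w, hw⟩)
    rw [map_pow, hp] at this
    revert this; decide
  obtain ⟨k, kN, hk⟩ : ∃ k ∈ normalizer (D : Set G), k * (α c3 * ψ c5) * k⁻¹ = α x0 * ψ c5 := by
    rcases hx0 with rfl | rfl | rfl
    · exact absurd rfl x1
    · exact ⟨1, one_mem _, by simp⟩
    · exact ⟨_, aN, by rw [S8.cm, S.cjα, hcj]; congr 2; decide⟩
  have ny : ∀ g, g * α c3 * g⁻¹ ≠ α c3 * ψ c5 := fun g e => ny0 (k * g) (by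
    rw [← hk, ← e]; group)
  have hy' : ∀ g, g * (α c3 * ψ c5) = α c3 * ψ c5 * g → g ∈ normalizer (D : Set G) ∧ g ^ 2 ∈ D :=
    fun g e => by
      obtain ⟨h1, h2⟩ := hy (k * g * k⁻¹) (by rw [← hk]; exact cj_comm e)
      rw [Subgroup.mul_mem_cancel_right _ (inv_mem kN), Subgroup.mul_mem_cancel_left _ kN] at h1
      rw [conj_pow] at h2
      exact ⟨h1, (mem_normalizer_iff.1 kN _).2 h2⟩
  obtain ⟨s1, sN, h1⟩ : ∃ s ∈ normalizer (D : Set G), s * α c3 * s⁻¹ = ψ c5 := by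
    rcases gD.resolve_left hg with (h | h) | ⟨x, y, -, h⟩
    · exact ⟨g, gN, h⟩
    · exact ⟨_, mul_mem bN gN, by rw [← bz, ← h]; group⟩
    · exact absurd (by rw [← h]; group) (ny (α x * ψ y * g))
  obtain ⟨s0, h1, h2⟩ : ∃ s, s * α c3 * s⁻¹ = ψ c5 ∧ s * ψ c5 * s⁻¹ = α c3 := by
    have n1 : ∀ x, α c3 ≠ ψ x := fun x e =>
      absurd (S.inj (x := c3) (y := 1) (x' := 1) (y' := x) (by simpa using e)).1 (by decide)
    rcases S.cases (norm_mem sN S.z'_mem) (cj_ne S.z'1) with (h | h) | (h | h) | ⟨x', y', -, h⟩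
    · exact ⟨s1, h1, h⟩
    · refine ⟨α (swap 0 1) * s1, ?_, by rw [← az, ← h]; group⟩
      rw [← S.cjα (swap 0 1) c5, ← h1]; group
    · exact absurd (by simpa using h1.trans h.symm) (n1 c5)
    · have : s1 * α c3 * s1⁻¹ = s1 * ψ c5⁻¹ * s1⁻¹ := by
        rw [h1, map_inv, ← conj_inv, h, map_inv, inv_inv]
      exact absurd (mul_left_cancel (mul_right_cancel this)) (n1 _)
    · exact absurd (by rw [← h, ← h1]; group) (ny (α x' * ψ y' * s1 * s1))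
  have h3 := (hy' s0 (eq_cj (by rw [S8.cm, h1, h2, S.cm]))).2
  have h4 := S.cube h3
  have c1 := congrArg Subtype.val (S.ab.is_comm.comm ⟨_, h3⟩ ⟨_, S.z_mem⟩)
  have c2 := congrArg Subtype.val (S.ab.is_comm.comm ⟨_, h3⟩ ⟨_, S.z'_mem⟩)
  simp only [Subgroup.coe_mul] at c1 c2
  obtain ⟨s, s2, h1, h2⟩ : ∃ s, s * s = 1 ∧ s * α c3 * s⁻¹ = ψ c5 ∧ s * ψ c5 * s⁻¹ = α c3 :=
    ⟨s0 * s0 ^ 2, by rw [← h4]; group, by rw [cc, cj_eq c1, h1], by rw [cc, cj_eq c2, h2]⟩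
  obtain ⟨x, y, e⟩ := S.hN (s * α (swap 0 1) * s⁻¹) (Or.inl (cj_eq (by
    rw [← h2]; exact cj_comm (S.cm _ _))))
  have e1 := S.commα (x := x) (y := y) (x' := c3) (by rw [← e, ← h2]; exact cj_comm (S.cm _ _))
  have e2 := S.inj1 _ _ ((S.mul x y x y).symm.trans (by
    rw [← e]; exact cj_sq (by rw [← map_mul, swap_mul_self, map_one])))
  obtain rfl := (by decide : ∀ x : S3, x * c3 = c3 * x → x * x = 1 → x = 1) x e1 e2.1
  rw [map_one, one_mul] at e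
  have e3 : y * c5⁻¹ * y⁻¹ = c5 := S.injψ (by
    rw [← hcj, ← e, map_inv, ← h1]
    conv_rhs => rw [← az, map_inv]
    group)
  obtain ⟨h, hh, e4⟩ := (by decide +kernel : ∀ y : S5, y * y = 1 → y * c5⁻¹ * y⁻¹ = c5 →
    ∃ h, h * c5 = c5 * h ∧ (h * swap 0 1 * h⁻¹ = y ∨ h * (swap 0 1 * swap 3 4) * h⁻¹ = y)) y e2.2 e3
  have e5 : ψ.comp (MulAut.conj h).toMonoidHom c5 = ψ c5 := congrArg ψ (cj_eq hh)
  refine ⟨_, s, S.conj hh, s2, by rw [e5, h1], ?_, by rw [e5]; exact fun g hg => (hy' g hg).1,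
    by rw [e5]; exact ny, hP, hD, hc⟩
  rw [e]
  exact e4.imp (fun h => congrArg ψ h.symm) fun h => congrArg ψ h.symm

variable {s : G}

theorem Su.si (S : Su α ψ D s) : s⁻¹ = s := inv2 S.s2

theorem Su.ss (S : Su α ψ D s) (x : G) : s * (s * x * s⁻¹) * s⁻¹ = x := by
  rw [← cc, S.s2]; simp

theorem Su.sz' (S : Su α ψ D s) : s * ψ c5 * s⁻¹ = α c3 := by rw [← S.sz, S.ss]

theorem Su.sN [Finite G] (S : Su α ψ D s) : s ∈ normalizer (D : Set G) := S.swap_norm S.sz S.sz'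

theorem Su0.t2 (_ : Su0 α ψ D) : ψ (swap 3 4) * ψ (swap 3 4) = 1 := by
  rw [← map_mul, swap_mul_self, map_one]

theorem Su0.t1 (S : Su0 α ψ D) : ψ (swap 3 4) ≠ 1 := fun h =>
  absurd (S.injψ (h.trans (map_one ψ).symm)) (by decide)

theorem Su0.a2 (_ : Su0 α ψ D) : α (swap 0 1) * α (swap 0 1) = 1 := by
  rw [← map_mul, swap_mul_self, map_one]

theorem Su0.a1 (S : Su0 α ψ D) : α (swap 0 1) ≠ 1 := fun h =>
  absurd (S.injα (h.trans (map_one α).symm)) (by decide)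

theorem Su0.tz' (_ : Su0 α ψ D) : ψ (swap 3 4) * ψ c5 = ψ c5 * ψ (swap 3 4) := by
  rw [← map_mul, ← map_mul]; congr 1; decide

theorem Su0.tD (S : Su0 α ψ D) {w} (h : w ∈ D) : ψ (swap 3 4) * w = w * ψ (swap 3 4) :=
  S.cent (S.cm _ _).symm S.tz' h

theorem Su0.cz (S : Su0 α ψ D) {g} (h : g * α c3 = α c3 * g) : ∃ x y, Z3 x ∧ g = α x * ψ y := by
  obtain ⟨x, y, rfl⟩ := S.hN g (Or.inl (cj_eq h))
  exact ⟨x, y, (by decide : ∀ x : S3, x * c3 = c3 * x → Z3 x) x (S.commα h), rfl⟩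

theorem Su0.cD (S : Su0 α ψ D) {g} (h1 : g * α c3 = α c3 * g) (h2 : g * ψ c5 = ψ c5 * g) :
    g ∈ D ∨ g * ψ (swap 3 4) ∈ D := by
  obtain ⟨x, y, h3, rfl⟩ := S.cz h1
  rcases (by decide +kernel : ∀ y : S5, y * c5 = c5 * y → Z5 y ∨ Z5 (y * swap 3 4)) y
    (S.commψ h2) with h | h
  · exact Or.inl ((S.mem _).2 ⟨x, y, h3, h, rfl⟩)
  · exact Or.inr ((S.mem _).2 ⟨x, _, h3, h, by rw [map_mul, mul_assoc]⟩)

theorem Su0.cD_inv (S : Su0 α ψ D) {g} (h1 : g * α c3 = α c3 * g) (h2 : g * ψ c5 = ψ c5 * g)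
    (g2 : g * g = 1) (g1 : g ≠ 1) : g = ψ (swap 3 4) := by
  have e : ∀ w ∈ D, w * w = 1 → w = 1 := fun w hw h => by
    have := S.cube hw
    rwa [pow_three, h, mul_one] at this
  rcases S.cD h1 h2 with h | h
  · exact absurd (e g h g2) g1
  · have c : ψ (swap 3 4) * g = g * ψ (swap 3 4) := by
      have := S.tD h; rw [← mul_assoc] at this; exact mul_right_cancel this
    have := e _ h (by rw [mul_assoc, ← mul_assoc (ψ _), c, mul_assoc, S.t2, mul_one, g2])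
    rw [← inv2 S.t2]; exact eq_inv_of_mul_eq_one_left this

theorem Su.st (S : Su α ψ D s) : s * ψ (swap 3 4) = ψ (swap 3 4) * s :=
  eq_cj (S.cD_inv (by rw [← S.sz']; exact cj_comm S.tz')
    (by rw [← S.sz]; exact cj_comm (S.cm _ _).symm) (cj_sq S.t2) (cj_ne S.t1))

theorem Su.nD (S : Su α ψ D s) {g} (h : g ∈ normalizer (D : Set G)) :
    (∃ x y, g = α x * ψ y) ∨ ∃ x y, s * g = α x * ψ y := by
  rcases S.cases (norm_mem h S.z_mem) (cj_ne S.z1) with h | h | ⟨x', y', -, h⟩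
  · exact Or.inl (S.hN g h)
  · refine Or.inr (S.hN _ ?_)
    rw [cc]
    rcases h with h | h <;> rw [h]
    · exact Or.inl S.sz'
    · right; rw [map_inv, ← conj_inv, S.sz', map_inv]
  · exact absurd (by rw [← h]; group) (S.ny (α x' * ψ y' * g))

theorem Su.a3 [Finite G] (S : Su α ψ D s) : A3 G := by
  obtain ⟨P, rfl⟩ := S.syl
  haveI := S.ab
  exact a3_of P

theorem Su.mem3 [Finite G] (S : Su α ψ D s) {w} (h : w ∈ normalizer (D : Set G)) (w3 : w ^ 3 = 1) :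
    w ∈ D := by
  obtain ⟨P, rfl⟩ := S.syl
  have := (pg_zpowers w3).inf_normalizer_sylow P
  exact (this.le (⟨mem_zpowers w, h⟩ : w ∈ zpowers w ⊓ normalizer (P : Set G))).2

theorem Su.cz' (S : Su α ψ D s) {g} (h : g * ψ c5 = ψ c5 * g) :
    ∃ x y, Z3 x ∧ s * g * s⁻¹ = α x * ψ y := S.cz (by rw [← S.sz']; exact cj_comm h)

theorem Su.cw [Finite G] (S : Su α ψ D s) {w g} (hw : w ∈ D) (w1 : w ≠ 1) (h : g * w = w * g) :
    g ∈ normalizer (D : Set G) ∨ (∃ x y, g = α x * ψ y) ∨ ∃ x y, s * g * s⁻¹ = α x * ψ y := by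
  rcases S.cases hw w1 with (rfl | rfl) | (rfl | rfl) | ⟨x', y', h1, h2⟩
  · exact Or.inr (Or.inl (S.hN g (Or.inl (cj_eq h))))
  · rw [map_inv] at h
    exact Or.inr (Or.inl (S.hN g (Or.inl (cj_eq (Commute.inv_right_iff.1 h)))))
  · obtain ⟨x, y, -, e⟩ := S.cz' h
    exact Or.inr (Or.inr ⟨x, y, e⟩)
  · rw [map_inv] at h
    obtain ⟨x, y, -, e⟩ := S.cz' (Commute.inv_right_iff.1 h)
    exact Or.inr (Or.inr ⟨x, y, e⟩)
  · have := S.hy (α x' * ψ y' * g * (α x' * ψ y')⁻¹) (by rw [← h2]; exact cj_comm h)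
    rw [Subgroup.mul_mem_cancel_right _ (inv_mem (S.norm _ h1)),
      Subgroup.mul_mem_cancel_left _ (S.norm _ h1)] at this
    exact Or.inl this

theorem Su.nD_le (S : Su α ψ D s) {H : Subgroup G} (hα : ∀ x, α x ∈ H) (hψ : ∀ x, ψ x ∈ H)
    (hs : s ∈ H) : normalizer (D : Set G) ≤ H := fun g hg => by
  rcases S.nD hg with ⟨x, y, rfl⟩ | ⟨x, y, e⟩
  · exact H.mul_mem (hα x) (hψ y)
  · rw [← H.mul_mem_cancel_left hs, e]; exact H.mul_mem (hα x) (hψ y)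

theorem Su.se [Finite G] (S : Su α ψ D s) {H : Subgroup G} (hα : ∀ x, α x ∈ H) (hψ : ∀ x, ψ x ∈ H)
    (hs : s ∈ H) : SE H := by
  have hN := S.nD_le hα hψ hs
  obtain ⟨P, rfl⟩ := S.syl
  haveI := S.ab
  refine se_of P (le_normalizer.trans hN) hN fun w hw w1 g h => ?_
  rcases S.cw hw w1 h with h | ⟨x, y, rfl⟩ | ⟨x, y, e⟩
  · exact hN h
  · exact H.mul_mem (hα x) (hψ y)
  · rw [← H.mul_mem_cancel_left hs, ← H.mul_mem_cancel_right (H.inv_mem hs), e]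
    exact H.mul_mem (hα x) (hψ y)

theorem Su0.y1 (S : Su0 α ψ D) : α c3 * ψ c5 ≠ 1 := fun h => absurd (S.inj1 _ _ h).1 (by decide)

theorem Su0.ny_z (S : Su0 α ψ D) (ny : ∀ g, g * α c3 * g⁻¹ ≠ α c3 * ψ c5) (g : G) {x : S3}
    (h : Z3 x) : g * (α c3 * ψ c5) * g⁻¹ ≠ α x := fun e => by
  rcases h with rfl | rfl | rfl
  · exact cj_ne S.y1 (e.trans (map_one α))
  · exact ny g⁻¹ (by conv_lhs => rw [← e]
                     group)
  · have az : α (swap 0 1) * α c3 * (α (swap 0 1))⁻¹ = α c3⁻¹ := by rw [hcj]; congr 1; decide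
    exact ny (g⁻¹ * α (swap 0 1)) (by rw [cc, az, ← e]; group)

/-- the involutions interchanging `z` and `z'` are not conjugate to `t` -/
theorem Su.ns_t [Finite G] (S : Su α ψ D s) {v : G} (h1 : v * α c3 * v⁻¹ = ψ c5)
    (h2 : v * ψ c5 * v⁻¹ = α c3) (g : G) : g * v * g⁻¹ ≠ ψ (swap 3 4) := fun e => by
  have vy : v * (α c3 * ψ c5) = α c3 * ψ c5 * v := eq_cj (by rw [S8.cm, h1, h2, S.cm])
  have yD := D.mul_mem S.z_mem S.z'_mem
  obtain ⟨c, hc, h3⟩ := S.a3.conj_comm (H := centralizer {ψ (swap 3 4)})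
    (x := g * (α c3 * ψ c5) * g⁻¹) (y := α c3)
    (mem_centralizer_singleton_iff.2 (by rw [← e]; exact cj_comm vy.symm))
    (mem_centralizer_singleton_iff.2 (S.cm _ _)) (cj_cube (S.cube yD)) (S.cube S.z_mem)
  rw [← cc] at h3
  have e' : c * g * v * (c * g)⁻¹ = ψ (swap 3 4) := by
    rw [cc, e, cj_eq (mem_centralizer_singleton_iff.1 hc)]
  generalize c * g = k at h3 e'
  obtain ⟨x, y, h4, h5⟩ := S.cz h3
  have h6 : Z5 y := (by decide +kernel : ∀ y : S5, y * swap 3 4 = swap 3 4 * y → y ^ 3 = 1 → Z5 y)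
    y (S.commψ (x := x) (by rw [← h5, ← e']; exact cj_comm vy.symm))
    (S.inj1 _ _ (by rw [← S.pow, ← h5]; exact cj_cube (S.cube yD))).2
  have h7 : k * (α c3 * ψ c5) * k⁻¹ ∈ D := (S.mem _).2 ⟨x, y, h4, h6, h5⟩
  have h8 : k * α c3 * k⁻¹ ∈ normalizer (D : Set G) := by
    have c1 : k * α c3 * k⁻¹ * (k * (α c3 * ψ c5) * k⁻¹) =
        k * (α c3 * ψ c5) * k⁻¹ * (k * α c3 * k⁻¹) :=
      cj_comm (by rw [mul_assoc, ← S.cm])
    rcases S.cases h7 (cj_ne S.y1) with (h | h) | (h | h) | ⟨x', y', a1, a2⟩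
    · exact absurd h (S.ny_z S.ny k (by decide))
    · exact absurd h (S.ny_z S.ny k (by decide))
    · exact absurd (by rw [cc, h, S.sz']) (S.ny_z S.ny (s * k) (x := c3) (by decide))
    · exact absurd (by rw [cc, h, map_inv, ← conj_inv, S.sz', map_inv])
        (S.ny_z S.ny (s * k) (x := c3⁻¹) (by decide))
    · have := S.hy (α x' * ψ y' * (k * α c3 * k⁻¹) * (α x' * ψ y')⁻¹)
        (by rw [← a2]; exact cj_comm c1)
      rwa [Subgroup.mul_mem_cancel_right _ (inv_mem (S.norm _ a1)),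
        Subgroup.mul_mem_cancel_left _ (S.norm _ a1)] at this
  have h9 := S.tD (S.mem3 h8 (cj_cube (S.cube S.z_mem)))
  rw [← e'] at h9
  rw [cj_eq (cj_comm' h9)] at h1
  exact absurd (S.inj (x := c3) (y := 1) (x' := 1) (y' := c5) (by simpa using h1)).1 (by decide)

/-- ... nor to `r` -/
theorem Su.ns_r [Finite G] (S : Su α ψ D s) {v : G} (h1 : v * α c3 * v⁻¹ = ψ c5)
    (h2 : v * ψ c5 * v⁻¹ = α c3) (g : G) : g * v * g⁻¹ ≠ ψ (swap 0 1 * swap 3 4) := fun e => by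
  have vy : v * (α c3 * ψ c5) = α c3 * ψ c5 * v := eq_cj (by rw [S8.cm, h1, h2, S.cm])
  have yD := D.mul_mem S.z_mem S.z'_mem
  obtain ⟨c, hc, h3⟩ := S.a3.conj_comm (H := centralizer {ψ (swap 0 1 * swap 3 4)})
    (x := g * (α c3 * ψ c5) * g⁻¹) (y := α c3)
    (mem_centralizer_singleton_iff.2 (by rw [← e]; exact cj_comm vy.symm))
    (mem_centralizer_singleton_iff.2 (S.cm _ _)) (cj_cube (S.cube yD)) (S.cube S.z_mem)
  rw [← cc] at h3
  have e' : c * g * v * (c * g)⁻¹ = ψ (swap 0 1 * swap 3 4) := by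
    rw [cc, e, cj_eq (mem_centralizer_singleton_iff.1 hc)]
  generalize c * g = k at h3 e'
  obtain ⟨x, y, h4, h5⟩ := S.cz h3
  obtain rfl := (by decide +kernel : ∀ y : S5, y * (swap 0 1 * swap 3 4) =
    swap 0 1 * swap 3 4 * y → y ^ 3 = 1 → y = 1)
    y (S.commψ (x := x) (by rw [← h5, ← e']; exact cj_comm vy.symm))
    (S.inj1 _ _ (by rw [← S.pow, ← h5]; exact cj_cube (S.cube yD))).2
  exact S.ny_z S.ny k h4 (by simpa using h5)

end Cfsg.Agent.H19.S8
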