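import Cfsg.Agent.H19.S8B
import Cfsg.Agent.H33.SymSix
import Cfsg.Agent.H78.CoxeterA
import Cfsg.Agent.H19.KdInv

/-! The centraliser of `t`. -/

set_option autoImplicit false

namespace Cfsg.Agent.H19.S8

open Subgroup Equiv Equiv.Perm

variable {G : Type*} [Group G] {α : S3 →* G} {ψ : S5 →* G} {D : Subgroup G} {s : G}

theorem mem_zp2 {x w : G} (h : x * x = 1) : w ∈ zpowers x ↔ w = 1 ∨ w = x := by
  refine ⟨?_, ?_⟩
  · rintro ⟨k, rfl⟩
    have e : x ^ (2 : ℤ) = 1 := by rw [zpow_two, h]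
    show x ^ k = 1 ∨ x ^ k = x
    rcases Int.even_or_odd' k with ⟨m, rfl | rfl⟩
    · left; rw [zpow_mul, e, one_zpow]
    · right; rw [zpow_add, zpow_mul, e, one_zpow, one_mul, zpow_one]
  · rintro (rfl | rfl)
    exacts [one_mem _, mem_zpowers _]

theorem Su.nt (S : Su α ψ D s) {g} (h : g ∈ normalizer (D : Set G)) :
    g * ψ (swap 3 4) = ψ (swap 3 4) * g := by
  have e : ∀ w ∈ D, g * ψ (swap 3 4) * g⁻¹ * w = w * (g * ψ (swap 3 4) * g⁻¹) := fun w hw => by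
    have := cj_comm (g := g) (S.tD (norm_mem (inv_mem h) hw))
    simpa [mul_assoc] using this
  exact eq_cj (S.cD_inv (e _ S.z_mem) (e _ S.z'_mem) (cj_sq S.t2) (cj_ne S.t1))

theorem Su.dich [Finite G] (S : Su α ψ D s) :
    (∀ g, g * ψ (swap 3 4) = ψ (swap 3 4) * g → g ∈ normalizer (D : Set G)) ∨
    ∃ π : centralizer ({ψ (swap 3 4)} : Set G) →* S6, Function.Surjective π ∧
      ∀ g, π g = 1 ↔ (g : G) = 1 ∨ (g : G) = ψ (swap 3 4) := by
  obtain ⟨P, hP⟩ := S.syl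
  set t := ψ (swap 3 4) with ht
  let C := centralizer ({t} : Set G)
  have mC : ∀ {x}, x * t = t * x → x ∈ C := mem_centralizer_singleton_iff.2
  have Cm : ∀ x : C, (x : G) * t = t * x := fun x => mem_centralizer_singleton_iff.1 x.2
  have DC : D ≤ C := fun w hw => mC (S.tD hw).symm
  let U := zpowers (⟨t, mC rfl⟩ : C)
  have mU : ∀ x : C, x ∈ U ↔ (x : G) = 1 ∨ (x : G) = t := fun x => by
    rw [mem_zp2 (Subtype.ext S.t2), Subtype.ext_iff, Subtype.ext_iff]; rfl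
  haveI : U.Normal := ⟨fun n hn x => by
    rcases (mU n).1 hn with h | h
    · exact (mU _).2 (Or.inl (by simp [h]))
    · exact (mU _).2 (Or.inr (by simpa [h] using cj_eq (Cm x)))⟩
  let π := QuotientGroup.mk' U
  have e1 : ∀ x y : C, π x = π y ↔ (x : G) = y ∨ (x : G) = y * t := fun x y => by
    rw [eq_comm]
    refine QuotientGroup.eq.trans ((mU _).trans ?_)
    simp only [Subgroup.coe_mul, Subgroup.coe_inv, inv_mul_eq_iff_eq_mul, mul_one]
  have sj : Function.Surjective π := QuotientGroup.mk'_surjective U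
  let Q : Sylow 3 (C ⧸ U) := (P.subtype (hP ▸ DC)).mapSurjective sj
  have mQ : ∀ y, y ∈ (Q : Subgroup (C ⧸ U)) ↔ ∃ x : C, (x : G) ∈ D ∧ π x = y := fun y => by
    subst hP; rfl
  have n3 : ∀ w ∈ D, (w * t) ^ 3 ≠ 1 := fun w hw h => by
    rw [Commute.mul_pow (S.tD hw).symm, S.cube hw, one_mul, pow_three, S.t2, mul_one] at h
    exact S.t1 h
  have l1 : ∀ x w w' : C, (w : G) ∈ D → (w' : G) ∈ D → π x * π w * (π x)⁻¹ = π w' →
      (x : G) * w * (x : G)⁻¹ = w' := fun x w w' h1 h2 h => by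
    rw [hcj, e1] at h
    exact h.resolve_right fun h => n3 _ h2 (by rw [← h]; exact cj_cube (S.cube h1))
  have l2 : ∀ x : C, π x ∈ normalizer ((Q : Subgroup (C ⧸ U)) : Set (C ⧸ U)) ↔
      (x : G) ∈ normalizer (D : Set G) := fun x => by
    refine ⟨fun h => mem_norm fun w hw => ?_, fun h => mem_norm fun y hy => ?_⟩
    · obtain ⟨w', h1, h2⟩ := (mQ _).1 (norm_mem h ((mQ _).2 ⟨⟨w, DC hw⟩, hw, rfl⟩))
      exact (l1 x ⟨w, DC hw⟩ w' hw h1 h2.symm) ▸ h1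
    · obtain ⟨w, hw, rfl⟩ := (mQ _).1 hy
      exact (mQ _).2 ⟨_, norm_mem h hw, (hcj π x w).symm⟩
  have l3 : ∀ x : C, π x ∈ (Q : Subgroup (C ⧸ U)) ↔ ∀ w ∈ D, (x : G) * w = w * x := fun x => by
    rw [mQ]
    refine ⟨?_, fun h => ?_⟩
    · rintro ⟨y, h1, h2⟩ w hw
      have := congrArg Subtype.val (S.ab.is_comm.comm ⟨_, h1⟩ ⟨_, hw⟩)
      rcases (e1 _ _).1 h2.symm with h | h <;> rw [h]
      · exact this
      · exact Commute.mul_left this (S.tD hw)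
    · rcases S.cD (h _ S.z_mem) (h _ S.z'_mem) with h | h
      · exact ⟨x, h, rfl⟩
      · exact ⟨x * ⟨t, mC rfl⟩, h, (e1 _ _).2 (Or.inr rfl)⟩
  obtain ⟨f, f1, f2⟩ := S.nc
  let θ0 : normalizer (D : Set G) →* normalizer ((Q : Subgroup (C ⧸ U)) : Set (C ⧸ U)) :=
    (π.comp (inclusion fun g hg => mC (S.nt hg))).codRestrict _ fun n => (l2 _).2 n.2
  let θ := (QuotientGroup.mk' ((Q : Subgroup (C ⧸ U)).subgroupOf _)).comp θ0
  have θ1 : Function.Surjective θ := (QuotientGroup.mk'_surjective _).comp fun ⟨y, hy⟩ => by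
    obtain ⟨x, rfl⟩ := sj y
    exact ⟨⟨x, (l2 x).1 hy⟩, rfl⟩
  have θ2 : θ.ker = f.ker := by
    ext n
    rw [MonoidHom.mem_ker, MonoidHom.mem_ker, f2]
    exact (QuotientGroup.eq_one_iff _).trans (mem_subgroupOf.trans (l3 _))
  rcases S3333.result Q Q rfl (by
      rw [← S.card]
      refine (Nat.card_congr (Equiv.ofBijective (fun w : D =>
        (⟨π ⟨w, DC w.2⟩, (mQ _).2 ⟨_, w.2, rfl⟩⟩ : (Q : Subgroup (C ⧸ U)))) ⟨?_, ?_⟩)).symm
      · intro a b h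
        refine Subtype.ext (((e1 _ _).1 (congrArg Subtype.val h)).resolve_right fun h => ?_)
        exact n3 _ b.2 (by rw [← h]; exact S.cube a.2)
      · rintro ⟨y, hy⟩
        obtain ⟨x, h, rfl⟩ := (mQ _).1 hy
        exact ⟨⟨x, h⟩, rfl⟩)
    (by
      ext y
      obtain ⟨x, rfl⟩ := sj y
      rw [l3]
      refine ⟨fun h w hw => eq_cj (l1 x ⟨w, DC hw⟩ ⟨w, DC hw⟩ hw hw
        (cj_eq (h _ ((mQ _).2 ⟨_, hw, rfl⟩)).symm)), fun h y hy => ?_⟩
      obtain ⟨w, hw, rfl⟩ := (mQ _).1 hy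
      rw [← map_mul, ← map_mul]; congr 1; exact Subtype.ext (h _ hw).symm)
    ((QuotientGroup.quotientKerEquivOfSurjective θ θ1).symm.trans
      ((QuotientGroup.quotientMulEquivOfEq θ2).trans
        (QuotientGroup.quotientKerEquivOfSurjective f f1)))
    (fun y hy y1 x hx => by
      obtain ⟨w, hw, rfl⟩ := (mQ _).1 hy
      obtain ⟨x, rfl⟩ := sj x
      have h1 := eq_cj (l1 x w w hw hw (cj_eq (mem_centralizer_singleton_iff.1 hx)))
      have h2 : ∀ x y, α x * ψ y * t = t * (α x * ψ y) → α x * ψ y ∈ normalizer (D : Set G) :=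
        fun x y h => S.norm x ((by decide +kernel : ∀ y : S5, y * swap 3 4 = swap 3 4 * y →
          Z5 (y * c5 * y⁻¹)) y (S.commψ h))
      rw [l2]
      rcases S.cw hw (fun h => y1 (by rw [show w = 1 from Subtype.ext h, map_one])) h1 with
        h | ⟨p, q, h⟩ | ⟨p, q, h⟩
      · exact h
      · rw [h]; exact h2 p q (h ▸ Cm x)
      · have := h2 p q (by rw [← h, ← show s * t * s⁻¹ = t from cj_eq S.st]; exact cj_comm (Cm x))
        rwa [← h, Subgroup.mul_mem_cancel_right _ (inv_mem S.sN),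
          Subgroup.mul_mem_cancel_left _ S.sN] at this) with h | ⟨⟨e⟩⟩
  · exact Or.inl fun g hg => (l2 ⟨g, mC hg⟩).1 (by rw [normalizer_eq_top]; trivial)
  · refine Or.inr ⟨e.toMonoidHom.comp π, e.surjective.comp sj, fun g => ?_⟩
    rw [← mU, ← QuotientGroup.eq_one_iff]
    exact e.map_eq_one_iff

def σ0 : S6 := swap 0 3 * swap 1 4 * swap 2 5

theorem norm6a {x c : S6} (x2 : x * x = 1) (x1 : x ≠ 1) (c3 : c ^ 3 = 1) (c1 : c ≠ 1)
    (h : c * x = x * c) : ∃ e : S6 ≃* S6, e x = swap 0 1 := by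
  have h1 := Kd.two_mul_card_cycleType x2
  have h2 : x.support.card ≤ 6 := by simpa using Finset.card_le_univ x.support
  have h3 : x.support.card ≠ 0 := by simpa using x1
  obtain h4 | h4 | h4 : x.support.card = 2 ∨ x.support.card = 4 ∨ x.support.card = 6 := by omega
  · obtain ⟨ρ, e⟩ := Kd.isConj_invol (τ := swap 0 1) x2 (by decide) (by rw [h4]; decide)
    exact ⟨MulAut.conj ρ, e⟩
  · obtain ⟨ρ, e⟩ := Kd.isConj_invol (τ := swap 0 1 * swap 2 3) x2 (by decide) (by rw [h4]; decide)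
    exact absurd ((by decide +kernel : ∀ x : S6, x * (swap 0 1 * swap 2 3) =
      (swap 0 1 * swap 2 3) * x → x ^ 3 = 1 → x = 1) _ (by rw [← e]; exact cj_comm h) (cj_cube c3))
      (cj_ne c1)
  · obtain ⟨β, hβ⟩ := H33.exists_outer_six (Ω := Fin 6) (by simp)
    obtain ⟨ρ, e⟩ := Kd.isConj_invol (τ := β (swap 0 1)) x2
      (by rw [← map_mul, swap_mul_self, map_one]) (by
        rw [h4, Finset.eq_univ_of_forall fun p =>
          mem_support.2 (hβ _ (swap_isSwap_iff.2 (by decide)) p)]; rfl)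
    exact ⟨(MulAut.conj ρ).trans β.symm, β.symm_apply_eq.2 e⟩

set_option synthInstance.maxSize 4096 in
theorem norm6 {x y c h σ : S6} (x2 : x * x = 1) (x1 : x ≠ 1) (c3 : c ^ 3 = 1) (c1 : c ≠ 1)
    (hc : c * x = x * c) (hy : h * x * h⁻¹ = y) (hxy : x * y ≠ y * x) (σ2 : σ * σ = 1)
    (h1 : σ * x * σ⁻¹ * x = x * (σ * x * σ⁻¹)) (h2 : σ * x * σ⁻¹ * y = y * (σ * x * σ⁻¹))
    (h3 : σ * y * σ⁻¹ * y = y * (σ * y * σ⁻¹)) :
    ∃ e : S6 ≃* S6, e x = swap 0 1 ∧ e y = swap 1 2 ∧ e σ = σ0 := by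
  obtain ⟨e, he⟩ := norm6a x2 x1 c3 c1 hc
  have a1 : e y = swap (e h 0) (e h 1) := by
    rw [← hy, map_mul, map_mul, map_inv, he, Kd.conj_swap]
  obtain ⟨ρ, b1, b2⟩ := (by decide +kernel : ∀ i j : Fin 6, swap 0 1 * swap i j ≠ swap i j * swap 0 1 →
    ∃ ρ : S6, ρ * swap 0 1 * ρ⁻¹ = swap 0 1 ∧ ρ * swap i j * ρ⁻¹ = swap 1 2) (e h 0) (e h 1)
    (by rw [← a1, ← he, ← map_mul, ← map_mul]; exact fun h => hxy (e.injective h))
  let e' := e.trans (MulAut.conj ρ)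
  have d1 : e' x = swap 0 1 := by rw [← b1, ← he]; rfl
  have d2 : e' y = swap 1 2 := by rw [← b2, ← a1]; rfl
  obtain ⟨ρ', b1, b2, b3⟩ := (by decide +kernel : ∀ σ : S6, σ * σ = 1 →
    σ * swap 0 1 * σ⁻¹ * swap 0 1 = swap 0 1 * (σ * swap 0 1 * σ⁻¹) →
    σ * swap 0 1 * σ⁻¹ * swap 1 2 = swap 1 2 * (σ * swap 0 1 * σ⁻¹) →
    σ * swap 1 2 * σ⁻¹ * swap 1 2 = swap 1 2 * (σ * swap 1 2 * σ⁻¹) →
    ∃ ρ : S6, ρ * swap 0 1 * ρ⁻¹ = swap 0 1 ∧ ρ * swap 1 2 * ρ⁻¹ = swap 1 2 ∧ ρ * σ * ρ⁻¹ = σ0)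
    (e' σ) (by rw [← map_mul, σ2, map_one]) (by simpa [d1] using congrArg e' h1)
    (by simpa [d1, d2] using congrArg e' h2) (by simpa [d2] using congrArg e' h3)
  exact ⟨e'.trans (MulAut.conj ρ'), by rw [← b1, ← d1]; rfl, by rw [← b2, ← d2]; rfl, b3⟩

theorem swap_ind {n : ℕ} {H : Subgroup G} (φ : Perm (Fin (n + 1)) →* G)
    (h : ∀ i : Fin n, φ (swap i.castSucc i.succ) ∈ H) (σ : Perm (Fin (n + 1))) : φ σ ∈ H := by
  have : σ ∈ Submonoid.closure (Set.range fun i : Fin n ↦ swap i.castSucc i.succ) := by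
    rw [mclosure_swap_castSucc_succ]; trivial
  induction this using Submonoid.closure_induction with
  | mem x hx => obtain ⟨i, rfl⟩ := hx; exact h i
  | one => rw [map_one]; exact H.one_mem
  | mul a b _ _ ha hb => rw [map_mul]; exact H.mul_mem ha hb

theorem split6 (π : G →* S6) (sj : Function.Surjective π) {t a b s h : G}
    (ker : ∀ g, π g = 1 ↔ g = 1 ∨ g = t) (tc : ∀ g, g * t = t * g) (t2 : t * t = 1)
    (a2 : a * a = 1) (ha : π a = swap 0 1) (hb : π b = swap 1 2) (hs : π s = σ0)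
    (hab : h * a * h⁻¹ = b) (h1 : s * a * s⁻¹ * a = a * (s * a * s⁻¹)) :
    ∃ ξ : S6 →* G, (∀ σ, π (ξ σ) = σ) ∧ ξ (swap 0 1) = a ∧ ξ (swap 1 2) = b ∧
      ξ (swap 3 4) = s * a * s⁻¹ ∧ ξ (swap 4 5) = s * b * s⁻¹ := by
  have e1 : ∀ x y, π x = π y → x = y ∨ x = y * t := fun x y h => by
    have := (ker (y⁻¹ * x)).1 (by simp [h])
    simpa only [inv_mul_eq_iff_eq_mul, mul_one] using this
  let A := (centralizer {a}).map π
  have A1 : ∀ σ ∈ A, ∀ ρ, ρ * swap 0 1 = swap 0 1 * ρ → ρ * σ * ρ⁻¹ ∈ A := by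
    rintro _ ⟨x, hx, rfl⟩ ρ hρ
    obtain ⟨g, rfl⟩ := sj ρ
    refine ⟨g * x * g⁻¹, mem_centralizer_singleton_iff.2 ?_, by simp⟩
    have h3 := cj_comm (g := g) (mem_centralizer_singleton_iff.1 hx)
    rcases e1 (g * a * g⁻¹) a (by rw [← hcj, ha, cj_eq hρ]) with h4 | h4 <;> rw [h4] at h3
    · exact h3
    · rw [← mul_assoc, mul_assoc a, ← tc, ← mul_assoc] at h3
      exact mul_right_cancel h3
  have A2 : swap 3 4 ∈ A := ⟨_, mem_centralizer_singleton_iff.2 h1, by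
    rw [← hcj, hs, ha]; decide⟩
  have A3 : swap 0 1 ∈ A := ⟨_, mem_centralizer_singleton_iff.2 rfl, ha⟩
  let L : List S6 := [1, swap 2 3, swap 2 4, swap 2 5, swap 3 4, swap 3 5, swap 4 5]
  have A4 : ∀ x ∈ L, x ∈ A := fun x hx => by
    rcases (by decide +kernel : ∀ x ∈ L, x = 1 ∨
      ∃ ρ : S6, ρ * swap 0 1 = swap 0 1 * ρ ∧ ρ * swap 3 4 * ρ⁻¹ = x) x hx with rfl | ⟨ρ, h, rfl⟩
    · exact A.one_mem
    · exact A1 _ A2 ρ h
  have B : ∀ g, π g * swap 0 1 = swap 0 1 * π g → g * a = a * g := fun g hg => by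
    obtain ⟨x, hx, y, hy, z, hz, h⟩ := (by decide +kernel : ∀ σ : S6, σ * swap 0 1 = swap 0 1 * σ →
      ∃ x ∈ L, ∃ y ∈ L, ∃ z ∈ L, σ = x * y * z ∨ σ = x * y * z * swap 0 1) _ hg
    have h3 := A.mul_mem (A.mul_mem (A4 x hx) (A4 y hy)) (A4 z hz)
    obtain ⟨k, hk, e⟩ : π g ∈ A := by
      rcases h with h | h <;> rw [h]
      exacts [h3, A.mul_mem h3 A3]
    have hk' : Commute k a := mem_centralizer_singleton_iff.1 hk
    rcases e1 _ _ e.symm with rfl | rfl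
    · exact hk'
    · exact hk'.mul_left (tc a).symm
  have U : ∀ g k, π (g * a * g⁻¹) = π (k * a * k⁻¹) → g * a * g⁻¹ = k * a * k⁻¹ := fun g k h => by
    have := cj_eq (B (k⁻¹ * g) (eq_cj (by
      rw [← ha, hcj, cc, ← hcj, h, hcj]; congr 1; group)))
    conv_rhs => rw [← this]
    group
  have L1 : ∀ σ : S6, ∃ x, (∃ g, x = g * a * g⁻¹) ∧ π x = σ * swap 0 1 * σ⁻¹ := fun σ => by
    obtain ⟨g, rfl⟩ := sj σ
    exact ⟨_, ⟨g, rfl⟩, by rw [← hcj, ha]⟩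
  obtain ⟨k, k1, k2⟩ := L1 (swap 0 2 * swap 1 3)
  let x : Fin 5 → G := ![a, b, k, s * a * s⁻¹, s * b * s⁻¹]
  have x1 : ∀ i, ∃ g, x i = g * a * g⁻¹ := by
    intro i; fin_cases i
    exacts [⟨1, by simp [x]⟩, ⟨h, hab.symm⟩, k1, ⟨s, rfl⟩, ⟨s * h, by rw [cc, hab]; rfl⟩]
  have x2 : ∀ i, π (x i) = swap i.castSucc i.succ := by
    intro i; fin_cases i
    · exact ha
    · exact hb
    · exact k2.trans (by decide)
    · exact (hcj π s a).symm.trans (by rw [hs, ha]; decide)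
    · exact (hcj π s b).symm.trans (by rw [hs, hb]; decide)
  have x3 : ∀ i, x i * x i = 1 := fun i => by obtain ⟨g, e⟩ := x1 i; rw [e]; exact cj_sq a2
  have x4 : ∀ i j g k, π g * π (x i) * (π g)⁻¹ = π k * π (x j) * (π k)⁻¹ →
      g * x i * g⁻¹ = k * x j * k⁻¹ := fun i j g k h => by
    obtain ⟨p, e⟩ := x1 i
    obtain ⟨q, e'⟩ := x1 j
    rw [hcj, hcj] at h
    rw [e, e', ← cc, ← cc] at h ⊢
    exact U _ _ h
  obtain ⟨ξ, hξ⟩ := H78.exists_hom_perm_of_coxeter 5 x x3 (fun i j hij => by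
    have := x4 j i (x i) (x j) (by rw [x2, x2]; revert i j; decide)
    rw [inv2 (x3 i), inv2 (x3 j)] at this
    calc _ = x i * x j * x i * (x j * x i * x j) := by simp only [pow_three, mul_assoc]
      _ = _ := by
        rw [this]; simp only [mul_assoc]
        rw [← mul_assoc (x j) (x j), x3, one_mul, ← mul_assoc (x i), x3, one_mul, x3])
    (fun i j hij => eq_cj (by
      simpa using x4 j j (x i) 1 (by rw [x2, x2, map_one]; revert i j; decide)))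
  refine ⟨ξ, fun σ => ?_, hξ 0, hξ 1, hξ 3, hξ 4⟩
  exact swap_ind (H := (π.comp ξ).eqLocus (MonoidHom.id _)) (MonoidHom.id _)
    (fun i => (congrArg π (hξ i)).trans (x2 i)) σ

/-- a splitting `C(t) = ξ(S₆) × ⟨t⟩` -/
structure Sp (ξ : S6 →* G) (t : G) : Prop where
  inj : Function.Injective ξ
  ne : ∀ σ, ξ σ ≠ t
  cm : ∀ σ, ξ σ * t = t * ξ σ
  all : ∀ g, g * t = t * g → ∃ σ, g = ξ σ ∨ g = ξ σ * t

theorem Su.dich' [Finite G] (S : Su α ψ D s) :
    (∀ g, g * ψ (swap 3 4) = ψ (swap 3 4) * g → g ∈ normalizer (D : Set G)) ∨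
    ∃ ξ : S6 →* G, Sp ξ (ψ (swap 3 4)) ∧ ξ (swap 0 1) = α (swap 0 1) ∧
      ξ (swap 1 2) = α (swap 1 2) ∧ ξ (swap 3 4) = s * α (swap 0 1) * s⁻¹ ∧
      ξ (swap 4 5) = s * α (swap 1 2) * s⁻¹ ∧ (s = ξ σ0 ∨ s = ξ σ0 * ψ (swap 3 4)) := by
  refine S.dich.imp id ?_
  rintro ⟨π, sj, ker⟩
  let C := centralizer ({ψ (swap 3 4)} : Set G)
  have mC : ∀ {x}, x * ψ (swap 3 4) = ψ (swap 3 4) * x → x ∈ C := mem_centralizer_singleton_iff.2
  have Cm : ∀ x : C, (x : G) * ψ (swap 3 4) = ψ (swap 3 4) * x := fun x =>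
    mem_centralizer_singleton_iff.1 x.2
  let A : S3 →* C := α.codRestrict C fun x => mC (S.cm _ _)
  let s' : C := ⟨s, mC S.st⟩
  have n1 : ∀ x, π (A x) = 1 → x = 1 := fun x h => by
    rcases (ker _).1 h with h | h
    · exact S.injα (h.trans (map_one α).symm)
    · exact (S.inj (x := x) (y := 1) (x' := 1) (y' := swap 3 4)
        (by rw [map_one, map_one, mul_one, one_mul]; exact h)).1
  have c1 : ∀ x, s * α (swap 0 1) * s⁻¹ * α x = α x * (s * α (swap 0 1) * s⁻¹) := fun x => by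
    rcases S.sa with h | h <;> rw [h, S.cm]
  have c2 : ∀ x, s * α (swap 1 2) * s⁻¹ * α x = α x * (s * α (swap 1 2) * s⁻¹) := fun x => by
    rw [show (swap 1 2 : S3) = c3 * swap 0 1 * c3⁻¹ by decide, ← hcj, S8.cm, S8.cm, ← conj_inv, S.sz]
    rcases S.sa with h | h <;> rw [h, hcj, S.cm]
  have d1 : ∀ x, s' * A (swap 0 1) * s'⁻¹ * A x = A x * (s' * A (swap 0 1) * s'⁻¹) := fun x =>
    Subtype.ext (c1 x)
  have d2 : ∀ x, s' * A (swap 1 2) * s'⁻¹ * A x = A x * (s' * A (swap 1 2) * s'⁻¹) := fun x =>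
    Subtype.ext (c2 x)
  have d3 : A c3 * A (swap 0 1) * (A c3)⁻¹ = A (swap 1 2) := by rw [hcj]; congr 1; decide
  obtain ⟨e, e1, e2, e3⟩ := norm6 (x := π (A (swap 0 1))) (y := π (A (swap 1 2)))
    (c := π (s' * A c3 * s'⁻¹)) (h := π (A c3)) (σ := π s')
    (by rw [← map_mul, ← map_mul, swap_mul_self, map_one, map_one])
    (fun h => absurd (n1 _ h) (by decide))
    (by rw [← map_pow, cj_cube (by rw [← map_pow, show c3 ^ 3 = 1 by decide, map_one]), map_one])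
    (by rw [← hcj]; exact cj_ne fun h => absurd (n1 _ h) (by decide))
    (by rw [← map_mul, ← map_mul]; congr 1; exact Subtype.ext (by
      show s * α c3 * s⁻¹ * α _ = α _ * (s * α c3 * s⁻¹); rw [S.sz, S.cm]))
    (by rw [hcj, d3]) (fun h => absurd (n1 (swap 0 1 * swap 1 2 * (swap 1 2 * swap 0 1)⁻¹) (by
      simp only [map_mul, map_inv, h, mul_inv_cancel])) (by decide))
    (by rw [← map_mul, show s' * s' = 1 from Subtype.ext S.s2, map_one])
    (by simpa using congrArg π (d1 _)) (by simpa using congrArg π (d1 _))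
    (by simpa using congrArg π (d2 _))
  have ker' : ∀ g, e.toMonoidHom.comp π g = 1 ↔ g = 1 ∨ g = ⟨_, mC rfl⟩ := fun g => by
    rw [Subtype.ext_iff, Subtype.ext_iff]; exact e.map_eq_one_iff.trans (ker g)
  obtain ⟨ξ, f1, f2, f3, f4, f5⟩ := split6 (e.toMonoidHom.comp π) (e.surjective.comp sj) ker'
    (fun g => Subtype.ext (Cm g)) (Subtype.ext S.t2)
    (by rw [← map_mul, swap_mul_self, map_one]) e1 e2 e3 d3 (d1 _)
  have all : ∀ g : C, g = ξ (e (π g)) ∨ g = ξ (e (π g)) * ⟨_, mC rfl⟩ := fun g => by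
    have := (ker' ((ξ (e (π g)))⁻¹ * g)).1 (by rw [map_mul, map_inv, f1]; simp)
    simpa only [inv_mul_eq_iff_eq_mul, mul_one] using this
  refine ⟨C.subtype.comp ξ, ⟨fun a b h => by rw [← f1 a, ← f1 b, Subtype.ext h], fun σ h => ?_,
    fun σ => Cm _, fun g hg => ⟨_, (all ⟨g, mC hg⟩).imp (congrArg Subtype.val)
      (congrArg Subtype.val)⟩⟩, congrArg Subtype.val f2, congrArg Subtype.val f3,
    congrArg Subtype.val f4, congrArg Subtype.val f5, ?_⟩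
  · have := (ker' (ξ σ)).2 (Or.inr (Subtype.ext h))
    rw [f1] at this
    rw [this, map_one] at h
    exact S.t1 h.symm
  · have := all s'
    rw [e3] at this
    exact this.imp (congrArg Subtype.val) (congrArg Subtype.val)

end Cfsg.Agent.H19.S8
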