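import Cfsg.Agent.H19.S8C

/-! The case `G ≅ S₈`. -/

set_option autoImplicit false

namespace Cfsg.Agent.H19.S8

open Subgroup Equiv Equiv.Perm

variable {G : Type*} [Group G] {α : S3 →* G} {ψ : S5 →* G} {D : Subgroup G} {s : G}

abbrev SS := Perm (Fin 8)

theorem Sp.conj {ξ : S6 →* G} {t : G} (h : Sp ξ t) (g : G) :
    Sp ((MulAut.conj g).toMonoidHom.comp ξ) (g * t * g⁻¹) where
  inj := (MulAut.conj g).injective.comp h.inj
  ne σ e := h.ne σ ((MulAut.conj g).injective e)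
  cm σ := cj_comm (h.cm σ)
  all k hk := by
    obtain ⟨σ, e⟩ := h.all (g⁻¹ * k * g) (cj_comm' (g := g) (by simpa [mul_assoc] using hk))
    refine ⟨σ, e.imp (fun e => ?_) fun e => ?_⟩
    · show k = g * ξ σ * g⁻¹
      rw [← e]; group
    · show k = g * ξ σ * g⁻¹ * _
      rw [← S8.cm, ← e]; group

theorem Sp.cj {ξ : S6 →* G} {t : G} (h : Sp ξ t) {g : G} (hg : g * t = t * g) :
    ∃ ρ, ∀ σ, g * ξ σ * g⁻¹ = ξ (ρ * σ * ρ⁻¹) := by
  obtain ⟨ρ, rfl | rfl⟩ := h.all g hg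
  · exact ⟨ρ, fun σ => hcj ξ ρ σ⟩
  · exact ⟨ρ, fun σ => by rw [cc, cj_eq (h.cm σ).symm, hcj]⟩

theorem hcm {H : Type*} [Group H] (f : H →* G) {x y : H} (h : x * y = y * x) :
    f x * f y = f y * f x := by rw [← map_mul, h, map_mul]

theorem hcm' {H : Type*} [Group H] {f : H →* G} (hf : Function.Injective f) {x y : H}
    (h : f x * f y = f y * f x) : x * y = y * x := hf (by rw [map_mul, h, map_mul])

theorem h3 {H : Type*} [Group H] (f : H →* G) {x y : H} (h : (x * y) ^ 3 = 1) :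
    (f x * f y) ^ 3 = 1 := by rw [← map_mul, ← map_pow, h, map_one]

theorem h2 {H : Type*} [Group H] (f : H →* G) {x : H} (h : x * x = 1) :
    f x * f x = 1 := by rw [← map_mul, h, map_one]

theorem Su.exists_S8 [Finite G] (S : Su α ψ D s) (hi : s * α (swap 0 1) * s⁻¹ = ψ (swap 0 1)) :
    ∃ (Ψ : SS →* G) (ξ : S6 →* G), Function.Injective Ψ ∧ SE Ψ.range ∧ Sp ξ (Ψ (swap 6 7)) ∧
      ξ (swap 0 1) = Ψ (swap 0 1) ∧ ξ (swap 2 3) = Ψ (swap 2 3) ∧ ξ (swap 3 4) = Ψ (swap 3 4) ∧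
      ∀ σ, ξ σ ∈ Ψ.range := by
  set g0 := s * ψ (swap 0 3 * swap 1 4) with hg0
  have g1 : g0 * ψ (swap 3 4) * g0⁻¹ = α (swap 0 1) := by
    rw [cc, hcj, show swap 0 3 * swap 1 4 * swap 3 4 * (swap 0 3 * swap 1 4)⁻¹ = (swap 0 1 : S5) by
      decide, ← hi, S.ss]
  have g2 : g0 * ψ (swap 0 1) * g0⁻¹ = ψ (swap 3 4) := by
    rw [cc, hcj, show swap 0 3 * swap 1 4 * swap 0 1 * (swap 0 3 * swap 1 4)⁻¹ = (swap 3 4 : S5) by
      decide, cj_eq S.st]
  have g3 : ∀ x, g0 * α x * g0⁻¹ = s * α x * s⁻¹ := fun x => by rw [cc, S.cjψ]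
  have hj : s * α (swap 1 2) * s⁻¹ = ψ (swap 1 2) := by
    rw [show (swap 1 2 : S3) = c3 * swap 0 1 * c3⁻¹ by decide, ← hcj, S8.cm, S8.cm, ← conj_inv, S.sz,
      hi, hcj]
    congr 1; decide
  rcases S.dich' with h | ⟨ξ, P, e1, e2, e3, e4, e5⟩
  · exfalso
    have m : ∀ x, x ^ 3 = 1 → g0⁻¹ * ψ x * g0⁻¹⁻¹ ∈ D := fun x hx => S.mem3 (h _ (by
      have := cj_comm (g := g0⁻¹) (S.cm (swap 0 1) x).symm
      rwa [← g1, ← cc, inv_mul_cancel, one_mul, inv_one, mul_one] at this))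
      (cj_cube (by rw [← map_pow, hx, map_one]))
    have := hcm' S.injψ (cj_comm' (congrArg Subtype.val (S.ab.is_comm.comm
      ⟨_, m c5 (by decide)⟩ ⟨_, m (swap 1 2 * swap 2 3) (by decide)⟩)))
    revert this; decide
  rw [hi] at e3
  rw [hj] at e4
  have P' := P.conj g0
  rw [g1] at P'
  set ξ' := (MulAut.conj g0).toMonoidHom.comp ξ
  have f1 : ξ' (swap 0 1) = ψ (swap 0 1) := by rw [← hi, ← g3, ← e1]; rfl
  have f2 : ξ' (swap 1 2) = ψ (swap 1 2) := by rw [← hj, ← g3, ← e2]; rfl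
  have f3 : ξ' (swap 3 4) = ψ (swap 3 4) := by rw [← g2, ← e3]; rfl
  have key : Commute (ξ (swap 2 3)) (ψ (swap 2 3)) := by
    obtain ⟨ρ, a1⟩ := P'.cj (g := ψ (swap 1 3)) (S.cm _ _).symm
    obtain ⟨ρ', a2⟩ := P'.cj (g := ξ (swap 2 4)) (by rw [← e1]; exact hcm ξ (by decide))
    have b1 := a1 (swap 1 2)
    have b2 := a2 (swap 0 1)
    rw [f2, hcj, Kd.conj_swap, Kd.conj_swap, show swap (swap 1 3 1) (swap 1 3 2) = (swap 2 3 : S5) by
      decide] at b1
    rw [f1, ← e3, hcj, Kd.conj_swap, Kd.conj_swap,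
      show swap (swap 2 4 3) (swap 2 4 4) = (swap 2 3 : S6) by decide] at b2
    have c1 := (by decide +kernel : ∀ i j : Fin 6, swap i j * swap 0 1 = swap 0 1 * swap i j →
      swap i j * swap 1 2 ≠ swap 1 2 * swap i j → swap i j * swap 3 4 ≠ swap 3 4 * swap i j →
      swap 0 5 * swap i j = swap i j * swap 0 5) (ρ 1) (ρ 2)
      (hcm' P'.inj (by rw [← b1, f1]; exact hcm ψ (by decide)))
      (fun h => by
        have := hcm ξ' h; rw [← b1, f2] at this; exact absurd (hcm' S.injψ this) (by decide))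
      (fun h => by
        have := hcm ξ' h; rw [← b1, f3] at this; exact absurd (hcm' S.injψ this) (by decide))
    have c2 := (by decide +kernel : ∀ i j : Fin 6, swap i j * swap 0 1 ≠ swap 0 1 * swap i j →
      swap i j * swap 1 2 = swap 1 2 * swap i j → swap i j * swap 3 4 = swap 3 4 * swap i j →
      swap i j = swap 1 2 ∨ swap i j = swap 0 5) (ρ' 0) (ρ' 1)
      (fun h => by
        have := hcm ξ' h; rw [← b2, f1, ← e3] at this; exact absurd (hcm' P.inj this) (by decide))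
      (hcm' P'.inj (by rw [← b2, f2, ← e4]; exact hcm ξ (by decide)))
      (hcm' P'.inj (by rw [← b2, f3]; exact P.cm _))
    rcases c2 with c2 | c2
    · rw [c2, f2, ← e4] at b2
      exact absurd (P.inj b2) (by decide)
    · rw [b1, b2, c2]; exact hcm ξ' c1
  let x : Fin 7 → G := ![ξ (swap 0 1), ξ (swap 1 2), ξ (swap 2 3), ξ (swap 3 4), ξ (swap 4 5),
    ψ (swap 2 3), ψ (swap 3 4)]
  obtain ⟨Ψ, hΨ⟩ := H78.exists_hom_perm_of_coxeter 7 x (by
      intro i; fin_cases i <;> exact h2 _ (by decide)) (by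
      intro i j h
      have a1 : (ξ (swap 4 5) * ψ (swap 2 3)) ^ 3 = 1 := by rw [e4]; exact h3 ψ (by decide)
      fin_cases i <;> fin_cases j <;>
        first | exact absurd h (by decide) | exact a1 | exact h3 _ (by decide)) (by
      intro i j h
      have a1 : ∀ y, Commute (ξ (swap 0 1)) (ψ y) := fun y => by rw [e1]; exact S.cm _ _
      have a2 : ∀ y, Commute (ξ (swap 1 2)) (ψ y) := fun y => by rw [e2]; exact S.cm _ _
      have a3 : Commute (ξ (swap 3 4)) (ψ (swap 2 3)) := by rw [e3]; exact hcm ψ (by decide)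
      fin_cases i <;> fin_cases j <;>
        first | exact absurd h (by decide) | exact a1 _ | exact a2 _ | exact a3 | exact key
              | exact P.cm _ | exact hcm ξ (by decide))
  have r : ∀ i, x i ∈ Ψ.range := fun i => ⟨_, hΨ i⟩
  have rξ : ∀ σ, ξ σ ∈ Ψ.range := swap_ind ξ fun i => by
    fin_cases i
    exacts [r 0, r 1, r 2, r 3, r 4]
  have t0 : Ψ (swap 6 7) = ψ (swap 3 4) := hΨ 6
  refine ⟨Ψ, ξ, ?_, S.se (swap_ind α fun i => ?_) (swap_ind ψ fun i => ?_) ?_, t0 ▸ P,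
    (hΨ 0).symm, (hΨ 2).symm, (hΨ 3).symm, rξ⟩
  · by_contra h
    rw [← MonoidHom.ker_eq_bot_iff, ← Ne, ← nontrivial_iff_ne_bot] at h
    have := alternatingGroup_le_of_normal (by simp) h (show swap 0 1 * swap 1 2 ∈ _ by
      rw [mem_alternatingGroup]; decide)
    rw [MonoidHom.mem_ker, map_mul, show Ψ (swap 0 1) = ξ (swap 0 1) from hΨ 0,
      show Ψ (swap 1 2) = ξ (swap 1 2) from hΨ 1, ← map_mul, ← map_one ξ] at this
    exact absurd (P.inj this) (by decide)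
  · fin_cases i
    exacts [e1 ▸ r 0, e2 ▸ r 1]
  · fin_cases i
    exacts [e3 ▸ r 3, e4 ▸ r 4, r 5, r 6]
  · rcases e5 with e5 | e5 <;> rw [e5]
    exacts [rξ _, mul_mem (rξ _) (r 6)]

theorem c3inv {σ : SS} (h : σ * σ = 1) : ∃ c : SS, c ^ 3 = 1 ∧ c ≠ 1 ∧ c * σ = σ * c := by
  have h1 := Kd.two_mul_card_cycleType h
  have h2 : σ.support.card ≤ 8 := by simpa using Finset.card_le_univ σ.support
  have key : ∀ τ c : SS, τ * τ = 1 → τ.support.card = σ.support.card → c ^ 3 = 1 → c ≠ 1 →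
      c * τ = τ * c → ∃ c : SS, c ^ 3 = 1 ∧ c ≠ 1 ∧ c * σ = σ * c := fun τ c a1 a2 a3 a4 a5 => by
    obtain ⟨ρ, rfl⟩ := Kd.isConj_invol a1 h a2
    exact ⟨_, cj_cube a3, cj_ne a4, cj_comm a5⟩
  obtain h4 | h4 | h4 | h4 | h4 : σ.support.card = 0 ∨ σ.support.card = 2 ∨ σ.support.card = 4 ∨
    σ.support.card = 6 ∨ σ.support.card = 8 := by omega
  · exact key 1 (swap 5 6 * swap 6 7) (by decide) (by rw [h4]; decide) (by decide) (by decide)
      (by decide)
  · exact key (swap 0 1) (swap 5 6 * swap 6 7) (by decide) (by rw [h4]; decide) (by decide)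
      (by decide) (by decide)
  · exact key (swap 0 1 * swap 2 3) (swap 5 6 * swap 6 7) (by decide) (by rw [h4]; decide)
      (by decide) (by decide) (by decide)
  · exact key (swap 0 1 * swap 2 3 * swap 4 5) (swap 0 2 * swap 2 4 * (swap 1 3 * swap 3 5))
      (by decide) (by rw [h4]; decide) (by decide) (by decide) (by decide)
  · exact key (swap 0 1 * swap 2 3 * swap 4 5 * swap 6 7)
      (swap 0 2 * swap 2 4 * (swap 1 3 * swap 3 5))
      (by decide) (by rw [h4]; decide) (by decide) (by decide) (by decide)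

set_option synthInstance.maxSize 4096 in
theorem s8_end [Finite G] (hA : A3 G) {Ψ : SS →* G} {ξ : S6 →* G} (inj : Function.Injective Ψ)
    (se : SE Ψ.range) (P : Sp ξ (Ψ (swap 6 7))) (e1 : ξ (swap 0 1) = Ψ (swap 0 1))
    (rξ : ∀ σ, ξ σ ∈ Ψ.range) : Function.Surjective Ψ := by
  have r : ∀ σ, Ψ σ ∈ Ψ.range := fun σ => ⟨σ, rfl⟩
  have n1 : ∀ {σ}, σ ≠ 1 → Ψ σ ≠ 1 := fun h e => h (inj (e.trans (map_one Ψ).symm))
  have q3 : ∀ {σ}, σ ^ 3 = 1 → Ψ σ ^ 3 = 1 := fun h => by rw [← map_pow, h, map_one]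
  have fus : ∀ σ τ g, σ * σ = 1 → g * Ψ σ * g⁻¹ = Ψ τ → ∃ ρ, ρ * σ * ρ⁻¹ = τ := by
    intro σ τ g h e
    obtain ⟨c, a1, a2, a3⟩ := c3inv h
    obtain ⟨d, b1, b2, b3⟩ := c3inv (σ := τ) (inj (by
      rw [map_mul, ← e, map_one]; exact cj_sq (h2 Ψ h)))
    obtain ⟨_, ⟨ρ, rfl⟩, e'⟩ := se.fus hA (u := Ψ σ) (g := g) (r c) (q3 a1) (n1 a2) (hcm Ψ a3) (r d)
      (q3 b1) (n1 b2) (by rw [e]; exact hcm Ψ b3)
    exact ⟨ρ, inj (by rw [← hcj, e', e])⟩
  have uf : ∀ g, g * Ψ (swap 6 7) * g⁻¹ ∈ Ψ.range → g ∈ Ψ.range := by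
    rintro g ⟨τ, e⟩
    obtain ⟨ρ, rfl⟩ := fus _ τ g (by decide) e.symm
    rw [← Subgroup.mul_mem_cancel_left _ (inv_mem (r ρ))]
    obtain ⟨σ, h | h⟩ := P.all ((Ψ ρ)⁻¹ * g) (eq_cj (by rw [cc, ← e, ← hcj]; group)) <;> rw [h]
    exacts [rξ _, mul_mem (rξ _) (r _)]
  have uf' : ∀ ρ g, g * Ψ (ρ * swap 6 7 * ρ⁻¹) * g⁻¹ ∈ Ψ.range → g ∈ Ψ.range := fun ρ g h => by
    rw [← hcj, ← cc] at h
    exact (Subgroup.mul_mem_cancel_right _ (r ρ)).1 (uf _ h)
  set u0 : SS := swap 6 7 * swap 0 1 with hu0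
  have t2 := h2 Ψ (x := swap 6 7) (by decide)
  have sw : ∀ g ∈ Ψ.range, g * Ψ u0 = Ψ u0 * g → g * Ψ (swap 6 7) * g⁻¹ = Ψ (swap 6 7) ∨
      g * Ψ (swap 6 7) * g⁻¹ = Ψ (swap 6 7) * Ψ u0 := by
    rintro _ ⟨ρ, rfl⟩ h
    have h1 : ρ 7 = u0 (ρ 6) := congrFun (congrArg DFunLike.coe (hcm' inj h)) 6
    rw [hcj, Kd.conj_swap, h1, ← map_mul]
    exact ((by decide : ∀ i, u0 i ≠ i → swap i (u0 i) = swap 6 7 ∨ swap i (u0 i) = swap 6 7 * u0)
      _ (by rw [← h1]; exact fun h => absurd (ρ.injective h) (by decide))).imp (congrArg Ψ)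
      (congrArg Ψ)
  have iso : ∀ g, g * Ψ u0 = Ψ u0 * g → g ∈ Ψ.range := fun g hg => by
    refine uf g ?_
    have := zq (H := Ψ.range) (u := Ψ u0) (t := Ψ (swap 6 7)) (p := Ψ (swap 2 3))
      (q := Ψ (swap 3 4)) (h2 Ψ (by decide)) t2 (h2 Ψ (by decide)) (h2 Ψ (by decide))
      (n1 (by decide)) (fun h => absurd (inj h) (by decide)) (hcm Ψ (by decide))
      (hcm Ψ (by decide)) (hcm Ψ (by decide)) (fun g hg h => sw g (uf g (uf _ (by
        have c := cj_sq (g := g) t2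
        have d : g * Ψ (swap 6 7) * g⁻¹ * Ψ u0 = Ψ u0 * (g * Ψ (swap 6 7) * g⁻¹) := by
          rw [← cj_eq hg]; exact cj_comm (hcm Ψ (by decide))
        generalize g * Ψ (swap 6 7) * g⁻¹ = w at h c d ⊢
        rcases h with h | h
        · rw [cj_eq (eq_cj h).symm]; exact r _
        · rw [inv2 t2] at h
          rw [← Subgroup.mul_mem_cancel_left _ (r (swap 6 7)), inv2 c, ← mul_assoc, ← mul_assoc,
            h, d, mul_assoc, c, mul_one]
          exact r _))) hg)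
      (fun n h => uf' (swap 2 6 * swap 3 7) n (by
        rw [show swap 2 6 * swap 3 7 * swap 6 7 * (swap 2 6 * swap 3 7)⁻¹ = (swap 2 3 : SS) by decide]
        rcases h with h | h <;> rw [h]
        exacts [r _, mul_mem (r _) (r _)]))
      (fun n h => uf' (swap 3 6 * swap 4 7) n (by
        rw [show swap 3 6 * swap 4 7 * swap 6 7 * (swap 3 6 * swap 4 7)⁻¹ = (swap 3 4 : SS) by decide]
        rcases h with h | h <;> rw [h]
        exacts [r _, mul_mem (r _) (r _)]))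
      (fun n h => se _ n (mul_mem (r (swap 2 3)) (r (swap 3 4))) (h3 Ψ (by decide))
        (by rw [← map_mul]; exact n1 (by decide)) (by
        rcases h with h | h <;> rw [h]
        exacts [mul_mem (r _) (r _), mul_mem (mul_mem (r _) (r _)) (r _)]))
      (fun N N1 N2 n hn hr => by
        obtain ⟨c1, k, hk⟩ := N2 n hn
        have u2 := h2 Ψ (x := u0) (by decide)
        have ea : Ψ u0 = Ψ (swap 6 7) * ξ (swap 0 1) := by rw [e1, hu0, map_mul]
        have c2 : n * n * Ψ (swap 6 7) = Ψ (swap 6 7) * (n * n) := eq_cj (by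
          rw [cc]
          rcases sw n hr c1 with h | h
          · rw [h, h]
          · rw [h, S8.cm, h, cj_eq c1, mul_assoc, u2, mul_one])
        obtain ⟨σ, hσ⟩ : ∃ σ, n * n * (n * n) = ξ σ := by
          obtain ⟨σ, h | h⟩ := P.all _ c2 <;> refine ⟨σ * σ, ?_⟩ <;> rw [h, map_mul]
          rw [mul_assoc, ← mul_assoc (Ψ _), ← P.cm, mul_assoc, t2, mul_one]
        have c3 : ξ σ * Ψ u0 = Ψ u0 * ξ σ := by
          have : Commute n (Ψ u0) := c1
          rw [← hσ]; exact (this.mul_left this).mul_left (this.mul_left this)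
        rcases (by decide +kernel : ∀ σ : S6, σ * swap 0 1 = swap 0 1 * σ → σ ^ 4 = 1 ∨
          ∃ c, c = σ * (swap 2 3 * swap 4 5 * σ⁻¹ * (swap 2 3 * swap 4 5)⁻¹) ∧ c ≠ 1 ∧ c * c = 1) σ
          (hcm' P.inj (by
            rw [ea, ← mul_assoc, P.cm, mul_assoc, mul_assoc] at c3; exact mul_left_cancel c3))
          with h | ⟨c, h, c4, c5⟩
        · have a1 : n ^ 16 = 1 := by
            rw [← map_one ξ, ← h, map_pow, ← hσ, ← sq, ← sq, ← pow_mul, ← pow_mul]
          have a2 : n ^ (2 * (2 * k + 1)) = 1 := by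
            rw [mul_comm, pow_mul, sq]
            rcases hk with hk | hk <;> rw [hk]
            exacts [one_mul _, u2]
          have a3 : n ^ 2 = 1 := by
            have := pow_gcd_eq_one.2 ⟨a1, a2⟩
            rwa [show 16 = 2 * 8 by rfl, Nat.gcd_mul_left, Nat.Coprime.gcd_eq_one
              ((Nat.coprime_two_left.2 ⟨k, rfl⟩).pow_left 3), mul_one] at this
          rwa [pow_succ, pow_mul, a3, one_pow, one_mul] at hk
        · exfalso
          have a1 : ξ σ ∈ N := hσ ▸ mul_mem (mul_mem hn hn) (mul_mem hn hn)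
          have a2 : ξ c ∈ N := by
            rw [h, map_mul, ← hcj, map_inv]
            refine mul_mem a1 (N1 _ ?_ _ (inv_mem a1))
            rw [ea, ← mul_assoc, P.cm, mul_assoc, mul_assoc, hcm ξ (by decide)]
          obtain ⟨-, k, hk⟩ := N2 _ a2
          rw [pow_succ, pow_mul, sq, h2 ξ c5, one_pow, one_mul] at hk
          rcases hk with hk | hk
          · exact c4 (P.inj (hk.trans (map_one ξ).symm))
          · exact P.ne (c * swap 0 1) (by
              rw [map_mul, hk, ea, mul_assoc, h2 ξ (by decide), mul_one])) g hg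
    rcases this with h | h <;> rw [h]
    exacts [r _, mul_mem (r _) (r _)]
  obtain ⟨K, K1, K2⟩ := tt (Y := ⊤) (M := (alternatingGroup (Fin 8)).map Ψ)
    (odd_relIndex t2 (mem_top _) (r _) uf) (i2_of (x := Ψ (swap 6 7))
      (le_inf (map_le_range _ _) le_top) ⟨r _, trivial⟩ (by
        rintro ⟨σ, h, e⟩
        rw [inj e, SetLike.mem_coe, mem_alternatingGroup] at h; revert h; decide) (by
        rintro _ ⟨⟨σ, rfl⟩, -⟩
        rcases Int.units_eq_one_or (sign σ) with h | h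
        · exact Or.inl ⟨σ, h, rfl⟩
        · exact Or.inr ⟨σ * swap 6 7, by
            rw [SetLike.mem_coe, mem_alternatingGroup, map_mul, h]; decide, map_mul _ _ _⟩))
    (mem_top _) t2 (by
      rintro g - ⟨σ, h, e⟩
      obtain ⟨ρ, rfl⟩ := fus _ σ g (by decide) e.symm
      rw [SetLike.mem_coe, mem_alternatingGroup, Kd.conj_swap,
        sign_swap fun h => absurd (ρ.injective h) (by decide)] at h
      revert h; decide)
  have AK : alternatingGroup (Fin 8) ≤ K.comap Ψ := by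
    rw [← closure_three_cycles_eq_alternating, closure_le]
    intro σ h
    exact K1.odd_mem (mem_top _) (k := 1) (q3 (by rw [← h.orderOf, pow_orderOf_eq_one]))
  let φ : alternatingGroup (Fin 8) →* K := (Ψ.comp (Subgroup.subtype _)).codRestrict K fun σ => AK σ.2
  have sj := Kd.range_eq_top (ψ := φ) (fun a b h => Subtype.ext (inj (congrArg Subtype.val h)))
    (fun σ τ g h e => by
      obtain ⟨ρ, e⟩ := fus σ τ g (congrArg Subtype.val h) (congrArg Subtype.val e)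
      rw [← e, card_support_conj])
    (x := ⟨u0, by rw [mem_alternatingGroup]; decide⟩)
    (w := ⟨swap 0 1 * swap 2 3 * swap 4 5 * swap 6 7, by rw [mem_alternatingGroup]; decide⟩)
    (Subtype.ext (by decide)) (by decide) (fun g hg => by
      obtain ⟨σ, e⟩ := iso g (congrArg Subtype.val hg)
      rcases Int.units_eq_one_or (sign σ) with h | h
      · exact ⟨⟨σ, h⟩, Subtype.ext e⟩
      · have : Ψ (σ * swap 6 7) ∈ K := AK (by rw [mem_alternatingGroup, map_mul, h]; decide)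
        rw [map_mul, e, K.mul_mem_cancel_left g.2] at this
        exact absurd this K2)
    (Subtype.ext (by decide)) (fun h => absurd (congrArg Subtype.val h) (by decide)) (by decide)
  have KR : K ≤ Ψ.range := fun g hg => by
    obtain ⟨σ, e⟩ := sj ⟨g, hg⟩
    exact ⟨σ, congrArg Subtype.val e⟩
  intro g
  by_cases h : g ∈ K
  · exact KR h
  · exact (Subgroup.mul_mem_cancel_right _ (r (swap 6 7))).1
      (KR ((K1.mul_iff (mem_top _) (mem_top _)).2 (iff_of_false h K2)))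

theorem Su.case1 [Finite G] (S : Su α ψ D s) (hi : s * α (swap 0 1) * s⁻¹ = ψ (swap 0 1)) :
    Nonempty (G ≃* SS) := by
  obtain ⟨Ψ, ξ, a1, a2, a3, a4, -, -, a5⟩ := S.exists_S8 hi
  exact ⟨(MulEquiv.ofBijective Ψ ⟨a1, s8_end S.a3 a1 a2 a3 a4 a5⟩).symm⟩

end Cfsg.Agent.H19.S8
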