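import Cfsg.Agent.H19.S8D

/-! The case `F*(G) ≅ A₅ × A₅`: the two components commute. -/

set_option autoImplicit false

namespace Cfsg.Agent.H19.S8

open Subgroup Equiv Equiv.Perm

variable {G : Type*} [Group G] {α : S3 →* G} {ψ : S5 →* G} {D : Subgroup G} {s : G}

def v0 : S5 := swap 0 1 * swap 3 4
def u0 : S5 := swap 0 3 * swap 1 4

theorem ic (g x : G) : IsConj x (g * x * g⁻¹) := isConj_iff.2 ⟨g, rfl⟩

theorem a5_gen {H : Subgroup S5} (hc : c5 ∈ H) (hu : u0 ∈ H) {x : S5} (hx : sign x = 1) :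
    x ∈ H := by
  obtain ⟨i, j, k, l, rfl⟩ := (by decide +kernel : ∀ x : S5, sign x = 1 →
    ∃ (i : Fin 5) (j : Fin 3) (k l : Fin 2), x = (u0 * c5) ^ i.1 * c5 ^ j.1 *
      (u0 * c5 * c5 * u0 * c5 * u0) ^ k.1 * (c5 * (u0 * c5 * c5 * u0 * c5 * u0) * c5⁻¹) ^ l.1) x hx
  have : u0 * c5 * c5 * u0 * c5 * u0 ∈ H :=
    mul_mem (mul_mem (mul_mem (mul_mem (mul_mem hu hc) hc) hu) hc) hu
  exact mul_mem (mul_mem (mul_mem (pow_mem (mul_mem hu hc) _) (pow_mem hc _)) (pow_mem this _))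
    (pow_mem (mul_mem (mul_mem hc this) (inv_mem hc)) _)

theorem Su.ns [Finite G] (S : Su α ψ D s) {v : G} (hv : v = s ∨ v = s * ψ (swap 3 4)) :
    ¬ IsConj v (ψ (swap 3 4)) ∧ ¬ IsConj v (ψ v0) := by
  have h : v * α c3 * v⁻¹ = ψ c5 ∧ v * ψ c5 * v⁻¹ = α c3 := by
    rcases hv with rfl | rfl
    · exact ⟨S.sz, S.sz'⟩
    · exact ⟨by rw [cc, S.cjψ, S.sz], by rw [cc, cj_eq S.tz', S.sz']⟩
  simp only [isConj_iff, not_exists]
  exact ⟨S.ns_t h.1 h.2, S.ns_r h.1 h.2⟩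

set_option synthInstance.maxSize 4096 in
theorem Su.ct2 [Finite G] (S : Su α ψ D s) (hii : s * α (swap 0 1) * s⁻¹ = ψ v0) (g : G)
    (hg : g * ψ (swap 3 4) = ψ (swap 3 4) * g) : g ∈ normalizer (D : Set G) := by
  revert g
  refine S.dich'.resolve_right ?_
  rintro ⟨ξ, P, e1, -, e3, -, e5⟩
  rw [hii] at e3
  set t := ψ (swap 3 4) with ht
  have t2 : t * t = 1 := S.t2
  have ut : ψ u0 * t * (ψ u0)⁻¹ = ξ (swap 3 4) * t := by
    rw [e3, ht, hcj, ← map_mul]; congr 1; decide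
  have ua : ψ u0 * ξ (swap 0 1) * (ψ u0)⁻¹ = ξ (swap 0 1) := by rw [e1, S.cjψ]
  have ur : ψ u0 * ξ (swap 3 4) * (ψ u0)⁻¹ = ξ (swap 3 4) := by rw [e3, hcj]; congr 1; decide
  have uu : ∀ x, ψ u0 * (ψ u0 * x * (ψ u0)⁻¹) * (ψ u0)⁻¹ = x := fun x => by
    rw [← cc, h2 ψ (by decide)]; simp
  have cjt : ∀ ρ σ, IsConj (ξ σ * t) (ξ (ρ * σ * ρ⁻¹) * t) := fun ρ σ =>
    isConj_iff.2 ⟨ξ ρ, by rw [S8.cm, hcj, cj_eq (P.cm ρ)]⟩
  have cj0 : ∀ ρ σ, IsConj (ξ σ) (ξ (ρ * σ * ρ⁻¹)) := fun ρ σ => isConj_iff.2 ⟨ξ ρ, hcj _ _ _⟩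
  let x0 : S6 := swap 2 5 * swap 0 1 * swap 3 4
  have x1 : swap 1 3 * x0 * (swap 1 3)⁻¹ = σ0 := by decide
  have n0 : (¬ IsConj (ξ σ0) t ∧ ¬ IsConj (ξ σ0) (ψ v0)) ∧ ¬ IsConj (ξ σ0 * t) t := by
    rcases e5 with e5 | e5
    · exact ⟨S.ns (Or.inl e5.symm), (S.ns (Or.inr (by rw [e5]))).1⟩
    · exact ⟨S.ns (Or.inr (by rw [e5, mul_assoc, S.t2, mul_one])), (S.ns (Or.inl e5.symm)).1⟩
  rw [← x1, ← e3] at n0
  have n1 : ¬ IsConj (ξ x0) (ξ (swap 3 4)) := fun h => n0.1.2 ((cj0 _ _).symm.trans h)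
  have n2 : ¬ IsConj (ξ x0 * t) t := fun h => n0.2 ((cjt _ _).symm.trans h)
  have T1 : IsConj t (ξ (swap 3 4) * t) := ut ▸ ic _ _
  have T2 : IsConj t (ξ (swap 0 1 * swap 3 4) * t) := by
    have h1 := T1.trans (cjt σ0 _)
    rw [show σ0 * swap 3 4 * σ0⁻¹ = swap 0 1 by decide] at h1
    have h2 := h1.trans (ic (ψ u0) _)
    rwa [S8.cm, ua, ut, ← mul_assoc, ← map_mul] at h2
  have K1 : IsConj (ξ (swap 3 4)) (ξ (swap 2 5)) := by
    have := cj0 (swap 2 3 * swap 4 5) (swap 3 4)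
    rwa [show swap 2 3 * swap 4 5 * swap 3 4 * (swap 2 3 * swap 4 5)⁻¹ = (swap 2 5 : S6) by
      decide] at this
  have c1 : ∀ σ, σ * swap 2 5 = swap 2 5 * σ → ψ u0 * ξ σ * (ψ u0)⁻¹ = ξ σ →
      ψ u0 * ξ (swap 2 5) * (ψ u0)⁻¹ * ξ σ = ξ σ * (ψ u0 * ξ (swap 2 5) * (ψ u0)⁻¹) :=
    fun σ h1 h2 => by rw [← h2]; exact cj_comm (hcm ξ h1.symm)
  obtain ⟨σ, hσ⟩ := P.all (ψ u0 * ξ (swap 2 5) * (ψ u0)⁻¹) (by
    rw [← uu t, ut]
    exact cj_comm (Commute.mul_right (hcm ξ (by decide)) (P.cm _)))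
  have c2 : ∀ τ, ψ u0 * ξ (swap 2 5) * (ψ u0)⁻¹ * ξ τ = ξ τ * (ψ u0 * ξ (swap 2 5) * (ψ u0)⁻¹) →
      σ * τ = τ * σ := fun τ h => hcm' P.inj (by
    rcases hσ with e | e <;> rw [e] at h
    · exact h
    · rw [mul_assoc, ← P.cm, ← mul_assoc, ← mul_assoc] at h; exact mul_right_cancel h)
  have uf : ∀ e : S6, e = 1 ∨ e = swap 0 1 ∨ e = swap 3 4 ∨ e = swap 0 1 * swap 3 4 →
      ψ u0 * ξ e * (ψ u0)⁻¹ = ξ e := by
    rintro e (rfl | rfl | rfl | rfl)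
    · simp
    · exact ua
    · exact ur
    · rw [map_mul, S8.cm, ua, ur]
  obtain ⟨e, he, h⟩ := (by decide +kernel : ∀ σ : S6, σ * swap 0 1 = swap 0 1 * σ →
    σ * swap 3 4 = swap 3 4 * σ → ∃ e, (e = 1 ∨ e = swap 0 1 ∨ e = swap 3 4 ∨
      e = swap 0 1 * swap 3 4) ∧ (σ = e ∨ σ = swap 2 5 * e)) σ (c2 _ (c1 _ (by decide) ua))
    (c2 _ (c1 _ (by decide) ur))
  have k := uu (ξ (swap 2 5))
  have ux : ψ u0 * ξ x0 * (ψ u0)⁻¹ = ψ u0 * ξ (swap 2 5) * (ψ u0)⁻¹ * ξ (swap 0 1 * swap 3 4) := by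
    rw [← uf _ (Or.inr (Or.inr (Or.inr rfl))), ← S8.cm, ← map_mul, ← mul_assoc]
  have X1 := ic (ψ u0) (ξ x0)
  have X2 := ic (ψ u0) (ξ x0 * t)
  rw [S8.cm, ut, ux] at X2
  rw [ux] at X1
  have K2 := ic (ψ u0) (ξ (swap 2 5))
  rcases h with rfl | rfl <;> rcases hσ with hσ | hσ <;> rw [hσ] at k X1 X2 K2
  · rw [uf _ he] at k
    rcases he with rfl | rfl | rfl | rfl <;> exact absurd (P.inj k) (by decide)
  · rw [S8.cm, uf _ he, ut, ← mul_assoc, ← map_mul] at k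
    exact P.ne ((σ * swap 3 4)⁻¹ * swap 2 5) (by rw [map_mul, ← k, map_inv]; group)
  · rw [← map_mul] at X1
    rw [← mul_assoc, ← map_mul, ← map_mul] at X2
    rcases he with rfl | rfl | rfl | rfl
    · refine n2 (X2.trans ((T2.trans ?_).symm))
      convert cjt (swap 2 3 * swap 4 5) _ using 3; decide
    · refine n2 (X2.trans ((T1.trans ?_).symm))
      convert cjt (swap 2 3 * swap 4 5) _ using 3; decide
    · refine n1 (X1.trans ((K1.trans (K2.trans ?_)).symm))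
      convert cj0 σ0 _ using 2; decide
    · refine n1 ((K1.trans (K2.trans ?_)).symm)
      rw [← mul_assoc]
  · rw [S8.cm, map_mul, S8.cm, hσ, uf _ he, ut, mul_assoc (ξ _), ← P.cm, ← mul_assoc, ← mul_assoc,
      mul_assoc _ t, ← P.cm, ← mul_assoc, mul_assoc _ t, t2, mul_one, ← map_mul, ← map_mul] at k
    rcases he with rfl | rfl | rfl | rfl <;> exact absurd (P.inj k) (by decide)

set_option synthInstance.maxSize 4096 in
theorem Su.kk [Finite G] (S : Su α ψ D s) (hii : s * α (swap 0 1) * s⁻¹ = ψ v0) {x y : S5}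
    (hx : sign x = 1) (hy : sign y = 1) : ψ x * (s * ψ y * s⁻¹) = s * ψ y * s⁻¹ * ψ x := by
  set t := ψ (swap 3 4) with ht
  set a := α (swap 0 1) with ha
  set r := ψ v0 with hr
  set u := ψ u0 with hu
  set u' := s * u * s⁻¹ with hu'
  have sr : s * r * s⁻¹ = a := by rw [← hii, S.ss]
  have u2 : u * u = 1 := h2 ψ (by decide)
  have u2' : u' * u' = 1 := cj_sq u2
  have ua : Commute u a := (S.cm _ _).symm
  have ur : Commute u r := hcm ψ (by decide)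
  have ar : Commute a r := S.cm _ _
  have ua' : Commute u' a := by rw [← sr]; exact cj_comm ur
  have ur' : Commute u' r := by rw [← hii]; exact cj_comm ua
  have ut : u * t * u⁻¹ = r * t := by rw [hu, ht, hcj, ← map_mul]; congr 1; decide
  have ut' : u' * t * u'⁻¹ = a * t := by
    have := congrArg (fun x => s * x * s⁻¹) ut
    simp only [S8.cm s, ← conj_inv, sr, show s * t * s⁻¹ = t from cj_eq S.st] at this
    exact this
  have r2 : r * r = 1 := h2 ψ (by decide)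
  have e1 : u * u' * t * (u * u')⁻¹ = a * r * t := by
    rw [cc, ut', S8.cm, ut, cj_eq ua, mul_assoc]
  set w := u * u' * (u * u') with hw
  have wa : Commute w a := (ua.mul_left ua').mul_left (ua.mul_left ua')
  have wr : Commute w r := (ur.mul_left ur').mul_left (ur.mul_left ur')
  have wt : w * t = t * w := eq_cj (by
    rw [cc, e1, S8.cm, S8.cm, e1, cj_eq (ua.mul_left ua'), cj_eq (ur.mul_left ur'), ← mul_assoc,
      ← ar.mul_mul_mul_comm, S.a2, r2, one_mul, one_mul])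
  obtain ⟨p, q, e⟩ : ∃ p q, w = α p * ψ q := by
    refine (S.nD (S.ct2 hii w wt)).resolve_right ?_
    rintro ⟨p, q, e⟩
    have h1 : s * w * a * (s * w)⁻¹ = r := by rw [cc, cj_eq wa, hii]
    rw [e, ha, ← mul_one (α (swap 0 1)), ← map_one ψ, S.cj, ← one_mul r, ← map_one α] at h1
    exact absurd (S.inj h1).2 (by simp only [mul_one, mul_inv_cancel]; decide)
  have p1 := (by decide : ∀ p : S3, p * swap 0 1 = swap 0 1 * p → p * p = 1 ∧ (p = 1 ∨ p = swap 0 1))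
    p (S.commα (e ▸ wa))
  have q1 := S.commψ (e ▸ wr)
  have q2 := S.commψ (e ▸ wt)
  have w2 : w * w = 1 := by
    rw [e, S.mul, p1.1, (by decide +kernel : ∀ q : S5, q * v0 = v0 * q →
      q * swap 3 4 = swap 3 4 * q → q * q = 1) q q1 q2]; simp
  have wi : w = u' * u * (u' * u) := by
    rw [← inv2 w2]; simp only [hw, mul_inv_rev, inv2 u2, inv2 u2']
  have wu : u * w * u⁻¹ = w := by
    conv_lhs => rw [wi, inv2 u2]
    simp only [hw, mul_assoc, u2, mul_one]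
  have ws : s * w * s⁻¹ = w := by
    conv_lhs => rw [wi, S8.cm, S8.cm, hu', S.ss]
  have q3 := (by decide +kernel : ∀ q : S5, q * v0 = v0 * q → q * swap 3 4 = swap 3 4 * q →
    q * u0 = u0 * q → q = 1 ∨ q = v0) q q1 q2 (S.commψ (e ▸ (eq_cj wu).symm))
  have ne : a ≠ r := fun h => absurd (S.inj (x := swap 0 1) (y := 1) (x' := 1) (y' := v0)
    (by simpa using h)).1 (by decide)
  have uz : Commute u' (ψ c5) := by rw [← S.sz]; exact cj_comm (S.cm _ _).symm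
  have w1 : w = 1 := by
    rcases p1.2 with rfl | rfl <;> rcases q3 with rfl | rfl <;>
      try simp only [map_one, mul_one, one_mul] at e
    · exact e
    · rw [e, sr] at ws; exact absurd ws ne
    · rw [e, hii] at ws; exact absurd ws.symm ne
    · exfalso
      have h1 : u' * t * u * (u' * t)⁻¹ = u * a := by
        have : t * u * t⁻¹ = u * r := by rw [hu, ht, hcj, ← map_mul]; congr 1; decide
        rw [cc, this, S8.cm, cj_eq ur', inv2 u2']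
        calc _ = u * w * r := by simp only [hw, ← mul_assoc, u2, one_mul]
          _ = _ := by rw [e, ← mul_assoc, mul_assoc _ r, r2, mul_one]
      have h3 : (u * ψ c5) ^ 5 = 1 := by
        rw [hu, ← map_mul, ← map_pow, show (u0 * c5) ^ 5 = 1 by decide, map_one]
      have h4 : (u' * t * (u * ψ c5) * (u' * t)⁻¹) ^ 5 = 1 := by rw [conj_pow, h3]; simp
      rw [S8.cm, h1, cj_eq (uz.mul_left S.tz'), mul_assoc, S.cm, ← mul_assoc,
        Commute.mul_pow (ua.mul_left (S.cm _ _).symm), h3, one_mul, ← map_pow] at h4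
      exact absurd (S.injα (h4.trans (map_one α).symm)) (by decide)
  have uu : Commute u' u := by
    have := inv2 w1
    rw [mul_inv_rev, inv2 u2, inv2 u2'] at this
    exact this
  have k1 : ψ x ∈ centralizer {u'} := a5_gen (H := (centralizer {u'}).comap ψ)
    (mem_centralizer_singleton_iff.2 uz.symm) (mem_centralizer_singleton_iff.2 uu.symm) hx
  have k2 := a5_gen (H := (centralizer {ψ x}).comap ((MulAut.conj s).toMonoidHom.comp ψ))
    (mem_centralizer_singleton_iff.2 (by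
      show s * ψ c5 * s⁻¹ * _ = _ * (s * ψ c5 * s⁻¹); rw [S.sz', S.cm]))
    (mem_centralizer_singleton_iff.2 (mem_centralizer_singleton_iff.1 k1).symm) hy
  exact (mem_centralizer_singleton_iff.1 k2).symm

/-- data for the case `A₅ × A₅` -/
structure Tw (ψ : S5 →* G) (s : G) : Prop where
  inj : Function.Injective ψ
  s2 : s * s = 1
  st : s * ψ (swap 3 4) = ψ (swap 3 4) * s
  kk : ∀ {x y}, sign x = 1 → sign y = 1 → ψ x * (s * ψ y * s⁻¹) = s * ψ y * s⁻¹ * ψ x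
  a3 : A3 G
  se : ∀ {H : Subgroup G}, (∀ x, ψ x ∈ H) → s ∈ H → SE H
  ct : ∀ {H : Subgroup G}, (∀ x, ψ x ∈ H) → s ∈ H → ∀ g, g * ψ (swap 3 4) = ψ (swap 3 4) * g → g ∈ H
  ns : ∀ {v}, v = s ∨ v = s * ψ (swap 3 4) → ¬ IsConj v (ψ (swap 3 4)) ∧ ¬ IsConj v (ψ v0)

theorem Su.tw [Finite G] (S : Su α ψ D s) (hii : s * α (swap 0 1) * s⁻¹ = ψ v0) : Tw ψ s := by
  have h : ∀ {H : Subgroup G}, (∀ x, ψ x ∈ H) → s ∈ H → ∀ x, α x ∈ H := fun {H} h1 h2 => by
    have a : α (swap 0 1) ∈ H := by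
      rw [← S.ss (α _), hii]; exact mul_mem (mul_mem h2 (h1 _)) (inv_mem h2)
    have z : α c3 ∈ H := by rw [← S.sz']; exact mul_mem (mul_mem h2 (h1 _)) (inv_mem h2)
    refine swap_ind α fun i => ?_
    fin_cases i
    · exact a
    · show α (swap 1 2) ∈ H
      rw [show (swap 1 2 : S3) = c3 * swap 0 1 * c3⁻¹ by decide, ← hcj]
      exact mul_mem (mul_mem z a) (inv_mem z)
  exact ⟨S.injψ, S.s2, S.st, S.kk hii, S.a3, fun h1 h2 => S.se (h h1 h2) h1 h2,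
    fun h1 h2 g hg => S.nD_le (h h1 h2) h1 h2 (S.ct2 hii g hg), S.ns⟩

end Cfsg.Agent.H19.S8
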