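import Cfsg.Agent.H19.S8E
import Cfsg.Agent.H52.FStar

/-! The case `F*(G) ≅ A₅ × A₅`: the end game. -/

set_option autoImplicit false

namespace Cfsg.Agent.H19.S8

open Subgroup Equiv Equiv.Perm

variable {G : Type*} [Group G] {ψ : S5 →* G} {s : G}

/-- the conjugate embedding -/
def ps (ψ : S5 →* G) (s : G) : S5 →* G := (MulAut.conj s).toMonoidHom.comp ψ

theorem ps_def (x : S5) : ps ψ s x = s * ψ x * s⁻¹ := rfl

theorem pow4 (x : G) : x ^ 4 = x * x * (x * x) := by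
  rw [show 4 = 2 * 2 from rfl, pow_mul, pow_two, pow_two]

theorem sg_mul {x y : S5} (hx : sign x = 1) (hy : sign y = 1) : sign (x * y) = 1 := by
  rw [map_mul, hx, hy, mul_one]

theorem sg_inv {x : S5} (hx : sign x = 1) : sign x⁻¹ = 1 := by rw [map_inv, hx, inv_one]

theorem sg_cj (g : S5) {x : S5} (hx : sign x = 1) : sign (g * x * g⁻¹) = 1 := by simp [hx]

namespace Tw

variable (T : Tw ψ s)
include T

theorem cm {x y} (hx : sign x = 1) (hy : sign y = 1) : ψ x * ps ψ s y = ps ψ s y * ψ x := T.kk hx hy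

theorem inj' : Function.Injective (ps ψ s) := (MulAut.conj s).injective.comp T.inj

theorem pt : ps ψ s (swap 3 4) = ψ (swap 3 4) := cj_eq T.st

theorem sp (x) : s * ps ψ s x * s⁻¹ = ψ x := by rw [ps_def, ← cc, T.s2]; simp

theorem t2 : ψ (swap 3 4) * ψ (swap 3 4) = 1 := h2 ψ (by decide)

theorem mul {x y x' y'} (hy : sign y = 1) (hx' : sign x' = 1) :
    ψ x * ps ψ s y * (ψ x' * ps ψ s y') = ψ (x * x') * ps ψ s (y * y') := by
  rw [map_mul, map_mul, mul_assoc, mul_assoc, ← mul_assoc (ps ψ s y), ← T.cm hx' hy, mul_assoc]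

theorem inv {x y} (hx : sign x = 1) (hy : sign y = 1) :
    (ψ x * ps ψ s y)⁻¹ = ψ x⁻¹ * ps ψ s y⁻¹ := by
  rw [mul_inv_rev, T.cm (sg_inv hx) (sg_inv hy), map_inv, map_inv]

theorem inj1 {x y} (hy : sign y = 1) (h : ψ x * ps ψ s y = 1) : x = 1 ∧ y = 1 := by
  have e : ψ x = ps ψ s y⁻¹ := by rw [map_inv]; exact eq_inv_of_mul_eq_one_left h
  obtain rfl := (by decide +kernel : ∀ x : S5, x * c5 = c5 * x → x * u0 = u0 * x → x = 1) x
    (hcm' T.inj (by rw [e, T.cm (by decide) (sg_inv hy)]))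
    (hcm' T.inj (by rw [e, T.cm (by decide) (sg_inv hy)]))
  exact ⟨rfl, T.inj' (by simpa using h)⟩

theorem injN {x y x' y'} (hy : sign y = 1) (hx' : sign x' = 1) (hy' : sign y' = 1)
    (h : ψ x * ps ψ s y = ψ x' * ps ψ s y') : x = x' ∧ y = y' := by
  have := T.inj1 (x := x * x'⁻¹) (sg_mul hy (sg_inv hy')) (by
    rw [← T.mul hy (sg_inv hx'), ← T.inv hx' hy', h, mul_inv_cancel])
  simpa only [mul_inv_eq_one] using this

theorem ne {x y} (hy : sign y = 1) (y1 : y ≠ 1) : ψ x ≠ ps ψ s y := fun h =>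
  y1 (inv_eq_one.1 (T.inj1 (x := x) (sg_inv hy) (by rw [h, map_inv, mul_inv_cancel])).2)

def N0 : Subgroup G where
  carrier := {g | ∃ x y, sign x = 1 ∧ sign y = 1 ∧ g = ψ x * ps ψ s y}
  one_mem' := ⟨1, 1, by simp, by simp, by simp⟩
  mul_mem' := by
    rintro _ _ ⟨x, y, a, b, rfl⟩ ⟨x', y', c, d, rfl⟩
    exact ⟨_, _, sg_mul a c, sg_mul b d, T.mul b c⟩
  inv_mem' := by
    rintro _ ⟨x, y, a, b, rfl⟩
    exact ⟨_, _, sg_inv a, sg_inv b, T.inv a b⟩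

theorem m1 {x} (hx : sign x = 1) : ψ x ∈ T.N0 := ⟨x, 1, hx, by simp, by simp⟩

theorem m2 {x} (hx : sign x = 1) : ps ψ s x ∈ T.N0 := ⟨1, x, by simp, hx, by simp⟩

theorem tp (y) : ψ (swap 3 4) * ps ψ s y * (ψ (swap 3 4))⁻¹ =
    ps ψ s (swap 3 4 * y * (swap 3 4)⁻¹) := by rw [← hcj, T.pt]

theorem tN (n) (h : n ∈ T.N0) : ψ (swap 3 4) * n * (ψ (swap 3 4))⁻¹ ∈ T.N0 := by
  obtain ⟨x, y, a, b, rfl⟩ := h
  exact ⟨_, _, sg_cj _ a, sg_cj _ b, by rw [S8.cm, hcj, T.tp]⟩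

theorem sN (n) (h : n ∈ T.N0) : s * n * s⁻¹ ∈ T.N0 := by
  obtain ⟨x, y, a, b, rfl⟩ := h
  exact ⟨_, _, b, a, by rw [S8.cm, T.sp, T.cm b a]; rfl⟩

theorem n1 {p q x} (hq : sign q = 1) (hx : sign x = 1) :
    ψ p * ps ψ s q * ψ x * (ψ p * ps ψ s q)⁻¹ = ψ (p * x * p⁻¹) := by
  rw [cc, cj_eq (T.cm hx hq).symm, hcj]

theorem n2 {p q x} (hp : sign p = 1) (hq : sign q = 1) (hx : sign x = 1) :
    ψ p * ps ψ s q * ps ψ s x * (ψ p * ps ψ s q)⁻¹ = ps ψ s (q * x * q⁻¹) := by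
  rw [cc, hcj, cj_eq (T.cm hp (sg_cj _ hx))]

def M : Subgroup G := ext2 T.N0 s T.s2 T.sN

theorem tM (n) (h : n ∈ T.M) : ψ (swap 3 4) * n * (ψ (swap 3 4))⁻¹ ∈ T.M :=
  h.imp (T.tN n) fun h => by
    have := T.tN _ h
    rwa [S8.cm, cj_eq T.st.symm] at this

def G1 : Subgroup G := ext2 T.M (ψ (swap 3 4)) T.t2 T.tM

theorem sN0 : s ∉ T.N0 := by
  rintro ⟨p, q, -, b, e⟩
  have := T.n1 (p := p) b (x := c5) (by decide)
  rw [← e] at this
  exact T.ne (by decide) (by decide) this.symm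

theorem tN0 : ψ (swap 3 4) ∉ T.N0 := by
  rintro ⟨p, q, a, b, e⟩
  have h1 := T.n1 (p := p) b (x := c5) (by decide)
  have h2 := T.n1 (p := p) b (x := u0) (by decide)
  rw [← e, hcj] at h1 h2
  exact (by decide +kernel : ∀ p : S5, sign p = 1 → swap 3 4 * c5 * (swap 3 4)⁻¹ = p * c5 * p⁻¹ →
    swap 3 4 * u0 * (swap 3 4)⁻¹ ≠ p * u0 * p⁻¹) p a (T.inj h1) (T.inj h2)

theorem stN0 : s * ψ (swap 3 4) ∉ T.N0 := by
  rintro ⟨p, q, -, b, e⟩
  have := T.n1 (p := p) b (x := c5) (by decide)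
  rw [← e, cc, hcj] at this
  exact T.ne (by decide) (by decide) this.symm

theorem tM0 : ψ (swap 3 4) ∉ T.M := by
  rintro (h | h)
  · exact T.tN0 h
  · exact T.stN0 (T.st ▸ h)

theorem iM : I2 T.N0 T.M := i2_ext2 _ _ T.sN0

theorem iG : I2 T.M T.G1 := i2_ext2 _ _ T.tM0

theorem NG : T.N0 ≤ T.G1 := T.iM.1.trans T.iG.1

theorem sG : s ∈ T.G1 := T.iG.1 (Or.inr (by rw [T.s2]; exact one_mem _))

theorem pG (x) : ψ x ∈ T.G1 := by
  rcases Int.units_eq_one_or (sign x) with h | h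
  · exact T.NG (T.m1 h)
  · exact Or.inr (T.iM.1 (by rw [← map_mul]; exact T.m1 (by rw [map_mul, h]; decide)))

theorem se1 : SE T.G1 := T.se T.pG T.sG

theorem st2 : s * ψ (swap 3 4) * (s * ψ (swap 3 4)) = 1 := by
  rw [mul_assoc, ← mul_assoc (ψ _), ← T.st, mul_assoc, T.t2, mul_one, T.s2]

theorem mem1 {g} (h : g ∈ T.G1) : ∃ n ∈ T.N0, g = n ∨ g = n * ψ (swap 3 4) ∨ g = n * s ∨
    g = n * (s * ψ (swap 3 4)) := by
  rcases h with (h | h) | (h | h) <;> refine ⟨_, h, ?_⟩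
  · exact Or.inl rfl
  · exact Or.inr (Or.inr (Or.inl (by rw [mul_assoc, T.s2, mul_one])))
  · exact Or.inr (Or.inl (by rw [mul_assoc, T.t2, mul_one]))
  · exact Or.inr (Or.inr (Or.inr (by rw [mul_assoc g, ← T.st, mul_assoc, T.st2, mul_one])))

theorem nrm {g n} (h : g ∈ T.G1) (hn : n ∈ T.N0) : g * n * g⁻¹ ∈ T.N0 := by
  obtain ⟨m, hm, rfl | rfl | rfl | rfl⟩ := T.mem1 h
  · exact mul_mem (mul_mem hm hn) (inv_mem hm)
  · rw [cc]; exact mul_mem (mul_mem hm (T.tN _ hn)) (inv_mem hm)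
  · rw [cc]; exact mul_mem (mul_mem hm (T.sN _ hn)) (inv_mem hm)
  · rw [cc, cc]; exact mul_mem (mul_mem hm (T.sN _ (T.tN _ hn))) (inv_mem hm)

theorem sq {g} (h : g ∈ T.G1) : g * g ∈ T.N0 := by
  have key : ∀ m ∈ T.N0, ∀ e ∈ T.G1, e * e = 1 → m * e * (m * e) ∈ T.N0 := fun m hm e he e2 => by
    have := mul_mem hm (T.nrm he hm)
    rwa [inv2 e2, ← mul_assoc, ← mul_assoc, mul_assoc (m * e)] at this
  obtain ⟨m, hm, rfl | rfl | rfl | rfl⟩ := T.mem1 h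
  · exact mul_mem hm hm
  · exact key m hm _ (T.pG _) T.t2
  · exact key m hm _ T.sG T.s2
  · exact key m hm _ (mul_mem T.sG (T.pG _)) T.st2

end Tw

/-- diagonal involutions -/
def TD (ψ : S5 →* G) (s w : G) : Prop := ∃ x y : S5, (sign x = 1 ∧ x * x = 1 ∧ x ≠ 1) ∧
  (sign y = 1 ∧ y * y = 1 ∧ y ≠ 1) ∧ w = ψ x * ps ψ s y

/-- nontrivial elements of the factors -/
def TA (ψ : S5 →* G) (s w : G) : Prop := ∃ x : S5, sign x = 1 ∧ x ≠ 1 ∧ (w = ψ x ∨ w = ps ψ s x)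

theorem ev_inv : ∀ x : S5, sign x = 1 → x * x = 1 → x ≠ 1 →
    ∃ h : S5, sign h = 1 ∧ h * v0 * h⁻¹ = x := by decide +kernel

namespace Tw

variable (T : Tw ψ s)
include T

theorem td {w} (h : TD ψ s w) : ∃ n ∈ T.N0, w = n * (ψ v0 * ps ψ s v0) * n⁻¹ := by
  obtain ⟨x, y, ⟨a1, a2, a3⟩, ⟨b1, b2, b3⟩, rfl⟩ := h
  obtain ⟨p, c1, rfl⟩ := ev_inv x a1 a2 a3
  obtain ⟨q, c2, rfl⟩ := ev_inv y b1 b2 b3
  exact ⟨_, ⟨p, q, c1, c2, rfl⟩, by rw [S8.cm, T.n1 c2 (by decide), T.n2 c1 c2 (by decide)]⟩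

theorem ta2 {x} (a1 : sign x = 1) (a2 : x * x = 1) (a3 : x ≠ 1) :
    ∃ g ∈ T.G1, ps ψ s x = g * ps ψ s v0 * g⁻¹ := by
  obtain ⟨p, c1, rfl⟩ := ev_inv x a1 a2 a3
  exact ⟨_, T.NG (T.m2 c1), (hcj _ _ _).symm⟩

theorem ta1 {x} (a1 : sign x = 1) (a2 : x * x = 1) (a3 : x ≠ 1) :
    ∃ g ∈ T.G1, ψ x = g * ps ψ s v0 * g⁻¹ := by
  obtain ⟨g, h, e⟩ := T.ta2 a1 a2 a3
  exact ⟨_, mul_mem T.sG h, by rw [cc, ← e, T.sp]⟩

theorem ta_cj {g w} (h : g ∈ T.G1) (hw : TA ψ s w) : TA ψ s (g * w * g⁻¹) := by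
  have a : ∀ w, TA ψ s w → TA ψ s (s * w * s⁻¹) := by
    rintro w ⟨x, a, b, rfl | rfl⟩
    exacts [⟨x, a, b, Or.inr rfl⟩, ⟨x, a, b, Or.inl (T.sp x)⟩]
  have b : ∀ w, TA ψ s w → TA ψ s (ψ (swap 3 4) * w * (ψ (swap 3 4))⁻¹) := by
    rintro w ⟨x, a, b, rfl | rfl⟩
    exacts [⟨_, sg_cj _ a, cj_ne b, Or.inl (hcj _ _ _)⟩, ⟨_, sg_cj _ a, cj_ne b, Or.inr (T.tp _)⟩]
  have c : ∀ n ∈ T.N0, ∀ w, TA ψ s w → TA ψ s (n * w * n⁻¹) := by
    rintro n ⟨p, q, hp, hq, rfl⟩ w ⟨x, a, b, rfl | rfl⟩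
    exacts [⟨_, sg_cj _ a, cj_ne b, Or.inl (T.n1 hq a)⟩,
      ⟨_, sg_cj _ a, cj_ne b, Or.inr (T.n2 hp hq a)⟩]
  obtain ⟨m, hm, rfl | rfl | rfl | rfl⟩ := T.mem1 h
  · exact c _ hm _ hw
  · rw [cc]; exact c _ hm _ (b _ hw)
  · rw [cc]; exact c _ hm _ (a _ hw)
  · rw [cc, cc]; exact c _ hm _ (a _ (b _ hw))

theorem swp {n e w} (hn : n ∈ T.N0) (he : e = s ∨ e = s * ψ (swap 3 4)) (hw : TA ψ s w) :
    n * e * w ≠ w * (n * e) := fun h => by
  obtain ⟨p, q, hp, hq, rfl⟩ := hn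
  have := cj_eq h
  rw [cc] at this
  obtain ⟨x, a, b, rfl | rfl⟩ := hw <;> rcases he with rfl | rfl
  · rw [← ps_def, T.n2 hp hq a] at this
    exact T.ne (sg_cj _ a) (cj_ne b) this.symm
  · rw [cc s, hcj, ← ps_def, T.n2 hp hq (sg_cj _ a)] at this
    exact T.ne (sg_cj _ (sg_cj _ a)) (cj_ne (cj_ne b)) this.symm
  · rw [T.sp, T.n1 hq a] at this
    exact T.ne a b this
  · rw [cc s, T.tp, T.sp, T.n1 hq (sg_cj _ a)] at this
    exact T.ne a b this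

theorem cls {w} (h : w ∈ T.G1) (w2 : w * w = 1) : w = 1 ∨ (∃ g ∈ T.G1, w = g * ps ψ s v0 * g⁻¹) ∨
    TD ψ s w ∨ (∃ g ∈ T.G1, w = g * ψ (swap 3 4) * g⁻¹) ∨
    ∃ n ∈ T.N0, ∃ e, (e = s ∨ e = s * ψ (swap 3 4)) ∧ w = n * e * n⁻¹ := by
  have key : ∀ n e : G, e * e = 1 → n * e * (n * e) = 1 → n * (e * n * e⁻¹) = 1 :=
    fun n e e2 h => by rw [inv2 e2, ← h]; simp only [mul_assoc]
  obtain ⟨_, ⟨x, y, a, b, rfl⟩, rfl | rfl | rfl | rfl⟩ := T.mem1 h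
  · rw [T.mul b a] at w2
    obtain ⟨c, d⟩ := T.inj1 (sg_mul b b) w2
    by_cases x1 : x = 1 <;> by_cases y1 : y = 1
    · simp [x1, y1]
    · exact Or.inr (Or.inl (by simpa [x1] using T.ta2 b d y1))
    · exact Or.inr (Or.inl (by simpa [y1] using T.ta1 a c x1))
    · exact Or.inr (Or.inr (Or.inl ⟨x, y, ⟨a, c, x1⟩, ⟨b, d, y1⟩, rfl⟩))
  · have := key _ _ T.t2 w2
    rw [S8.cm, hcj, T.tp, T.mul b (sg_cj _ a)] at this
    obtain ⟨c, d⟩ := T.inj1 (sg_mul b (sg_cj _ b)) this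
    have k : ∀ x : S5, sign x = 1 → x * (swap 3 4 * x * (swap 3 4)⁻¹) = 1 →
        ∃ h : S5, sign h = 1 ∧ x = h * (swap 3 4 * h⁻¹ * (swap 3 4)⁻¹) := by decide +kernel
    obtain ⟨p, c1, rfl⟩ := k x a c
    obtain ⟨q, c2, rfl⟩ := k y b d
    refine Or.inr (Or.inr (Or.inr (Or.inl ⟨_, T.NG ⟨p, q, c1, c2, rfl⟩, ?_⟩)))
    rw [← T.mul c2 (sg_cj _ (sg_inv c1)), ← hcj, ← T.tp, ← S8.cm, ← T.inv c1 c2]; group
  · have := key _ _ T.s2 w2
    rw [S8.cm, T.sp, ← ps_def, ← T.cm b a, T.mul b b] at this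
    obtain rfl := eq_inv_of_mul_eq_one_right (T.inj1 (sg_mul b a) this).1
    refine Or.inr (Or.inr (Or.inr (Or.inr ⟨_, T.m1 a, s, Or.inl rfl, ?_⟩)))
    rw [ps_def, map_inv]; group
  · have := key _ _ T.st2 w2
    rw [cc, S8.cm (ψ _), hcj, T.tp, S8.cm, T.sp, ← ps_def, ← T.cm (sg_cj _ b) (sg_cj _ a),
      T.mul b (sg_cj _ b)] at this
    obtain rfl := eq_inv_of_mul_eq_one_left (T.inj1 (sg_mul b (sg_cj _ a)) this).2
    refine Or.inr (Or.inr (Or.inr (Or.inr ⟨_, T.m1 a, _, Or.inr rfl, ?_⟩)))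
    rw [ps_def, map_inv, ← hcj]; group

theorem z1 : ψ c5 ≠ 1 := fun h => absurd (T.inj (h.trans (map_one ψ).symm)) (by decide)

theorem z3 : ψ c5 ^ 3 = 1 := by rw [← map_pow, show c5 ^ 3 = 1 by decide, map_one]

variable [Finite G]

theorem nta : ¬ IsConj (ψ (swap 3 4)) (ps ψ s v0) := fun h => by
  obtain ⟨g, e⟩ := isConj_iff.1 h
  obtain ⟨k, h1, h2⟩ := T.se1.fus T.a3 (u := ψ (swap 3 4)) (g := g) (T.pG c5) T.z3 T.z1
    (hcm ψ (by decide)) (T.pG c5) T.z3 T.z1 (by rw [e]; exact T.cm (by decide) (by decide))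
  have := T.nrm (inv_mem h1) (T.m2 (x := v0) (by decide))
  rw [← e, ← h2, ← cc] at this
  exact T.tN0 (by simpa using this)

omit [Finite G] in
theorem dsq : ∃ j, j * j = ψ v0 * ps ψ s v0 ∧ j ^ 4 = 1 := by
  let p : S5 := swap 0 3 * swap 3 1 * swap 1 4 * swap 3 4
  have e : ψ p * ps ψ s p * ψ (swap 3 4) * (ψ p * ps ψ s p * ψ (swap 3 4)) =
      ψ v0 * ps ψ s v0 := by
    calc _ = ψ p * ps ψ s p * (ψ (swap 3 4) * (ψ p * ps ψ s p) * (ψ (swap 3 4))⁻¹) := by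
          rw [inv2 T.t2]; simp only [mul_assoc]
      _ = _ := by
          rw [S8.cm, hcj, T.tp, T.mul (by decide) (by decide),
            show p * (swap 3 4 * p * (swap 3 4)⁻¹) = v0 by decide]
  refine ⟨_, e, ?_⟩
  rw [pow4, e, T.mul (by decide) (by decide),
    show v0 * v0 = 1 by decide]
  simp

omit [Finite G] in
theorem ndt : ¬ IsConj (ψ v0 * ps ψ s v0) (ψ (swap 3 4)) := fun h => by
  obtain ⟨g, e⟩ := isConj_iff.1 h
  obtain ⟨j, h1, -⟩ := T.dsq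
  rw [← h1, S8.cm] at e
  exact T.tN0 (e ▸ T.sq (T.ct T.pG T.sG (g * j * g⁻¹) (by rw [← e]; exact (mul_assoc _ _ _).symm)))

theorem uf (g : G) (h : g * ψ (swap 3 4) * g⁻¹ ∈ T.G1) : g ∈ T.G1 := by
  have c := ic g (ψ (swap 3 4))
  rcases T.cls h (cj_sq T.t2) with e | ⟨k, -, e⟩ | e | ⟨k, hk, e⟩ | ⟨k, -, v, hv, e⟩
  · exact absurd (T.inj ((conj_eq_one_iff.1 e).trans (map_one ψ).symm)) (by decide)
  · exact absurd (c.trans (e ▸ (ic _ _).symm)) T.nta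
  · obtain ⟨n, -, e⟩ := T.td e
    exact absurd ((ic _ _).trans (e ▸ c.symm)) T.ndt
  · rw [← Subgroup.mul_mem_cancel_left _ (inv_mem hk)]
    exact T.ct T.pG T.sG _ (eq_cj (by rw [cc, e]; group))
  · exact absurd ((ic _ _).trans (e ▸ c.symm)) (T.ns hv).1

theorem odd {w} (h : ψ (swap 3 4) * w = w * ψ (swap 3 4)) :
    Odd (T.G1.relIndex (centralizer {w})) :=
  odd_relIndex T.t2 (mem_centralizer_singleton_iff.2 h) (T.pG _) T.uf

theorem nds {v} (hv : v = s ∨ v = s * ψ (swap 3 4)) : ¬ IsConj (ψ v0 * ps ψ s v0) v := fun h => by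
  obtain ⟨g, e⟩ := isConj_iff.1 h
  obtain ⟨j, h1, h2⟩ := T.dsq
  rw [← h1, S8.cm] at e
  obtain ⟨k, a, b⟩ := exists_conj_mem (T.odd (w := v) (by
    rcases hv with rfl | rfl
    · exact T.st.symm
    · rw [← mul_assoc, ← T.st])) (x := g * j * g⁻¹)
    (mem_centralizer_singleton_iff.2 (by rw [← e]; exact (mul_assoc _ _ _).symm)) (by rw [conj_pow, h2]; simp)
  have := T.sq b
  rw [← S8.cm, e, cj_eq (mem_centralizer_singleton_iff.1 a)] at this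
  rcases hv with rfl | rfl
  exacts [T.sN0 this, T.stN0 this]

omit [Finite G] in
theorem taa : TA ψ s (ps ψ s v0) := ⟨v0, by decide, by decide, Or.inr rfl⟩

omit [Finite G] in
theorem at_ : ψ (swap 3 4) * ps ψ s v0 = ps ψ s v0 * ψ (swap 3 4) := by
  rw [← T.pt]; exact hcm _ (by decide)

theorem nda : ¬ IsConj (ψ v0 * ps ψ s v0) (ps ψ s v0) := fun h => by
  obtain ⟨g, e⟩ := isConj_iff.1 h
  have sd : s * (ψ v0 * ps ψ s v0) = ψ v0 * ps ψ s v0 * s := eq_cj (by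
    rw [S8.cm, T.sp, ← ps_def, T.cm (by decide) (by decide)])
  have c0 : g * s * g⁻¹ ∈ centralizer {ps ψ s v0} :=
    mem_centralizer_singleton_iff.2 (by rw [← e]; exact cj_comm sd)
  obtain ⟨k, a, b⟩ := exists_conj_mem (T.odd T.at_) c0
    (by rw [pow4, cj_sq T.s2, one_mul])
  have c1 := mem_centralizer_singleton_iff.1 (mul_mem (mul_mem a c0) (inv_mem a))
  have c := (ic g s).trans (ic k _)
  rcases T.cls b (cj_sq (cj_sq T.s2)) with e | ⟨k, -, e⟩ | e | ⟨k, hk, e⟩ | ⟨k, hk, v, hv, e⟩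
  · exact T.sN0 ((congrArg (· ∈ T.N0) (conj_eq_one_iff.1 (conj_eq_one_iff.1 e))).mpr (one_mem _))
  · exact (T.ns (Or.inl rfl)).2 ((c.trans (e ▸ (ic _ _).symm)).trans (ic s _).symm)
  · obtain ⟨n, -, e⟩ := T.td e
    exact T.nds (Or.inl rfl) ((ic _ _).trans (e ▸ c.symm))
  · exact (T.ns (Or.inl rfl)).1 (c.trans (e ▸ (ic _ _).symm))
  · rw [e] at c1
    refine T.swp (one_mem _) hv (T.ta_cj (inv_mem (T.NG hk)) T.taa) (cj_comm' (g := k) ?_)
    simpa [mul_assoc] using c1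

theorem nda' {x y z} (hx : sign x = 1 ∧ x * x = 1 ∧ x ≠ 1) (hy : sign y = 1 ∧ y * y = 1 ∧ y ≠ 1)
    (hz : sign z = 1 ∧ z * z = 1 ∧ z ≠ 1) : ¬ IsConj (ps ψ s z) (ψ x * ps ψ s y) := fun h => by
  obtain ⟨n, -, e⟩ := T.td ⟨x, y, hx, hy, rfl⟩
  obtain ⟨g, -, e'⟩ := T.ta2 hz.1 hz.2.1 hz.2.2
  rw [e, e'] at h
  exact T.nda ((ic _ _).trans (h.symm.trans (ic _ _).symm))

omit T [Finite G] in
theorem mK {g : G} : g ∈ (ψ.comp (alternatingGroup (Fin 5)).subtype).range ↔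
    ∃ x, sign x = 1 ∧ g = ψ x :=
  ⟨fun ⟨x, e⟩ => ⟨x, x.2, e.symm⟩, fun ⟨x, h, e⟩ => ⟨⟨x, h⟩, e.symm⟩⟩

omit T [Finite G] in
theorem K_le {A B : Subgroup G} (h : I2 A B) (hB : ∀ x, sign x = 1 → ψ x ∈ B) {x : S5}
    (hx : sign x = 1) : ψ x ∈ A := by
  have a := h.odd_mem (hB c5 (by decide)) (k := 1) (by
    rw [← map_pow, show c5 ^ (2 * 1 + 1) = 1 by decide, map_one])
  have b := h.odd_mem (hB (u0 * c5) (by decide)) (k := 2) (by
    rw [← map_pow, show (u0 * c5) ^ (2 * 2 + 1) = 1 by decide, map_one])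
  rw [map_mul, A.mul_mem_cancel_right a] at b
  exact a5_gen (H := A.comap ψ) a b hx

theorem ca : centralizer {ps ψ s v0} ≤ T.G1 := by
  obtain ⟨G2, i2, t2⟩ := tt (Y := ⊤) (M := T.M) (odd_relIndex T.t2 (mem_top _) (T.pG _) T.uf)
    (by rw [inf_top_eq]; exact T.iG) (mem_top _) T.t2 fun g _ h => T.tM0 (by
      have := T.iG.conj (inv_mem (T.uf g (T.iG.1 h))) h
      rwa [← cc, inv_mul_cancel, one_mul, inv_one, mul_one] at this)
  have k1 : ∀ x, sign x = 1 → ψ x ∈ G2 := fun x => K_le i2 fun _ _ => mem_top _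
  have k2 : ∀ x, sign x = 1 → ps ψ s x ∈ G2 := fun x h => i2.conj (mem_top s) (k1 x h)
  set C := centralizer {ps ψ s v0}
  set K := (ψ.comp (alternatingGroup (Fin 5)).subtype).range
  have kC : ∀ x, sign x = 1 → ψ x ∈ C := fun x h =>
    mem_centralizer_singleton_iff.2 (T.cm h (by decide))
  have tC : ψ (swap 3 4) ∈ C := mem_centralizer_singleton_iff.2 T.at_
  have i0 : I2 (C ⊓ G2) C := i2_of inf_le_left tC (fun h => t2 h.2) fun g hg => by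
    by_cases h : g ∈ G2
    · exact Or.inl ⟨hg, h⟩
    · exact Or.inr ⟨mul_mem hg tC, (i2.mul_iff (mem_top _) (mem_top _)).2 (iff_of_false h t2)⟩
  have o0 := i0.odd (T.odd T.at_)
  have kH : ∀ x, sign x = 1 → ψ x ∈ C ⊓ G2 := fun x h => ⟨kC x h, k1 x h⟩
  have pH : ∀ y, y = u0 ∨ y = v0 → ps ψ s y ∈ C ⊓ G2 := by
    rintro y (rfl | rfl) <;>
      exact ⟨mem_centralizer_singleton_iff.2 (hcm _ (by decide)), k2 _ (by decide)⟩
  have el : ∀ g ∈ T.G1, g ∈ C ⊓ G2 → ∃ x y, sign x = 1 ∧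
      (y = 1 ∨ y = v0 ∨ y = u0 ∨ y = u0 * v0) ∧ g = ψ x * ps ψ s y := fun g h1 h2 => by
    have c := mem_centralizer_singleton_iff.1 h2.1
    obtain ⟨n, hn, rfl | rfl | rfl | rfl⟩ := T.mem1 h1
    · obtain ⟨x, y, a, b, rfl⟩ := hn
      have := cj_eq c
      rw [T.n2 a b (by decide)] at this
      exact ⟨x, y, a, (by decide +kernel : ∀ y : S5, sign y = 1 → y * v0 * y⁻¹ = v0 →
        y = 1 ∨ y = v0 ∨ y = u0 ∨ y = u0 * v0) y b (T.inj' this), rfl⟩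
    · obtain ⟨x, y, a, b, rfl⟩ := hn
      exact absurd ((G2.mul_mem_cancel_left (mul_mem (k1 x a) (k2 y b))).1 h2.2) t2
    · exact absurd c (T.swp hn (Or.inl rfl) T.taa)
    · exact absurd c (T.swp hn (Or.inr rfl) T.taa)
  have a2 : ps ψ s v0 * ps ψ s v0 = 1 := h2 _ (by decide)
  have u2 : ps ψ s u0 * ps ψ s u0 = 1 := h2 _ (by decide)
  have iv : ∀ {x y : S5} {g : G}, sign x = 1 → sign y = 1 → y * y = 1 →
      g * ps ψ s y * g⁻¹ = ψ x → x * x = 1 := fun _ _ h e =>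
    T.inj (by rw [map_mul, ← e, map_one]; exact cj_sq (h2 _ h))
  have nf : ∀ g ∈ C, ∀ x, sign x = 1 → ∀ y, y = u0 ∨ y = u0 * v0 → g * ps ψ s y * g⁻¹ ≠ ψ x := by
    intro g hg x hx y hy e
    have y1 : sign y = 1 ∧ y * y = 1 ∧ y ≠ 1 := by rcases hy with rfl | rfl <;> decide
    refine T.nda' (x := x) (y := v0) (z := y * v0) ⟨hx, iv hx y1.1 y1.2.1 e, ?_⟩ (by decide)
      (by rcases hy with rfl | rfl <;> decide) (isConj_iff.2 ⟨g, ?_⟩)
    · rintro rfl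
      rw [map_one, conj_eq_one_iff, ← map_one (ps ψ s)] at e
      exact y1.2.2 (T.inj' e)
    · rw [map_mul, S8.cm, e, cj_eq (mem_centralizer_singleton_iff.1 hg)]
  let M1 := ext2 K (ps ψ s v0) a2 fun n hn => by
    obtain ⟨x, h, rfl⟩ := mK.1 hn
    rw [cj_eq (T.cm h (by decide)).symm]; exact hn
  obtain ⟨H3, i3, t3⟩ := tt (M := M1) o0 (i2_of (x := ps ψ s u0) (by
      rintro g (h | h) <;> obtain ⟨x, a, e⟩ := mK.1 h
      · exact e ▸ ⟨T.pG x, kH x a⟩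
      · rw [← Subgroup.mul_mem_cancel_right _ (show ps ψ s v0 ∈ T.G1 ⊓ (C ⊓ G2) from
          ⟨T.NG (T.m2 (by decide)), pH _ (Or.inr rfl)⟩), e]
        exact ⟨T.pG x, kH x a⟩)
      ⟨T.NG (T.m2 (by decide)), pH _ (Or.inl rfl)⟩ (by
        rintro (h | h) <;> obtain ⟨x, a, e⟩ := mK.1 h
        · exact T.ne (by decide) (by decide) e.symm
        · rw [← map_mul] at e; exact T.ne (by decide) (by decide) e.symm) (by
        rintro g ⟨h1, h2⟩
        obtain ⟨x, y, a, rfl | rfl | rfl | rfl, rfl⟩ := el g h1 h2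
        · exact Or.inl (Or.inl (mK.2 ⟨x, a, by simp⟩))
        · exact Or.inl (Or.inr (mK.2 ⟨x, a, by rw [mul_assoc, a2, mul_one]⟩))
        · exact Or.inr (Or.inl (mK.2 ⟨x, a, by rw [mul_assoc, u2, mul_one]⟩))
        · exact Or.inr (Or.inr (mK.2 ⟨x, a, by
            rw [mul_assoc, mul_assoc, ← map_mul, ← map_mul,
              show u0 * v0 * (u0 * v0) = 1 by decide, map_one, mul_one]⟩))))
    (pH _ (Or.inl rfl)) u2 (by
      rintro g hg (h | h) <;> obtain ⟨x, a, e⟩ := mK.1 h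
      · exact nf g hg.1 x a _ (Or.inl rfl) e
      · exact nf g hg.1 x a _ (Or.inr rfl) (by
          rw [map_mul, S8.cm, cj_eq (mem_centralizer_singleton_iff.1 hg.1), e]))
  have o3 := i3.odd o0
  have k3 : ∀ x, sign x = 1 → ψ x ∈ H3 := fun x => K_le i3 kH
  obtain ⟨y0, y1, y2, y3⟩ : ∃ y, (y = v0 ∨ y = u0 * v0) ∧ ps ψ s y ∈ H3 ∧ ps ψ s (u0 * y) ∉ H3 := by
    by_cases h : ps ψ s v0 ∈ H3
    · exact ⟨v0, Or.inl rfl, h, by rwa [map_mul, H3.mul_mem_cancel_right h]⟩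
    · exact ⟨_, Or.inr rfl, by
        rw [map_mul]; exact (i3.mul_iff (pH _ (Or.inl rfl)) (pH _ (Or.inr rfl))).2 (iff_of_false t3 h),
        by rwa [show u0 * (u0 * v0) = v0 by decide]⟩
  have y4 : sign y0 = 1 ∧ y0 * y0 = 1 ∧ y0 ≠ 1 := by rcases y1 with rfl | rfl <;> decide
  have el3 : ∀ g ∈ T.G1, g ∈ H3 → g ∈ K ∨ g * ps ψ s y0 ∈ K := fun g h1 h2 => by
    obtain ⟨x, y, a, b, rfl⟩ := el g h1 (i3.1 h2)
    rw [H3.mul_mem_cancel_left (k3 x a)] at h2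
    obtain rfl | rfl | rfl | rfl : y = 1 ∨ y = y0 ∨ y = u0 ∨ y = u0 * y0 := by
      rcases y1 with rfl | rfl <;> rcases b with rfl | rfl | rfl | rfl <;> decide
    · exact Or.inl (mK.2 ⟨x, a, by simp⟩)
    · exact Or.inr (mK.2 ⟨x, a, by rw [mul_assoc, S8.h2 _ y4.2.1, mul_one]⟩)
    · exact absurd h2 t3
    · exact absurd h2 y3
  obtain ⟨H4, i4, t4⟩ := tt (M := K) o3 (i2_of (x := ps ψ s y0) (fun g h => by
      obtain ⟨x, a, rfl⟩ := mK.1 h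
      exact ⟨T.pG x, k3 x a⟩) ⟨T.NG (T.m2 y4.1), y2⟩ (fun h => by
      obtain ⟨x, a, e⟩ := mK.1 h
      exact T.ne y4.1 y4.2.2 e.symm) fun g h => el3 g h.1 h.2) y2 (h2 _ y4.2.1) fun g hg h => by
    obtain ⟨x, a, e⟩ := mK.1 h
    rcases y1 with rfl | rfl
    · rw [cj_eq (mem_centralizer_singleton_iff.1 (i3.1 hg).1)] at e
      exact T.ne y4.1 y4.2.2 e.symm
    · exact nf g (i3.1 hg).1 x a _ (Or.inr rfl) e
  have k4 : ∀ x, sign x = 1 → ψ x ∈ H4 := fun x => K_le i4 k3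
  have K4 : K ≤ H4 := fun g h => by obtain ⟨x, a, rfl⟩ := mK.1 h; exact k4 x a
  have KG : K ≤ T.G1 := fun g h => by obtain ⟨x, a, rfl⟩ := mK.1 h; exact T.pG x
  have e4 : T.G1 ⊓ H4 = K := le_antisymm (fun g h => (el3 g h.1 (i4.1 h.2)).resolve_right fun h' =>
    t4 ((H4.mul_mem_cancel_left h.2).1 (K4 h'))) (le_inf KG K4)
  have f := f3 (Y := H4) (ψ.comp (alternatingGroup (Fin 5)).subtype)
    (T.inj.comp (subtype_injective _)) K4 (by
      have := i4.odd o3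
      rwa [← inf_relIndex_right, e4] at this) (k4 c5 (by decide)) T.z3 T.z1 fun g hg c => by
      obtain ⟨x, a, rfl⟩ := mK.1 (e4.le ⟨T.se1.cent (T.pG c5) T.z3 T.z1 c, hg⟩)
      rcases (by decide +kernel : ∀ x : S5, sign x = 1 → x * c5 = c5 * x → Z5 x) x a
        (hcm' T.inj c) with rfl | rfl | rfl
      · rw [map_one]; exact one_mem _
      · exact mem_zpowers _
      · rw [map_inv]; exact inv_mem (mem_zpowers _)
  exact T.se1.up i0 (T.se1.up i3 (T.se1.up i4 (f.trans KG) (k4 c5 (by decide)) T.z3 T.z1)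
    (k3 c5 (by decide)) T.z3 T.z1) (kH c5 (by decide)) T.z3 T.z1

theorem ca' {k g} (hk : k ∈ T.G1) (h : g * (k * ps ψ s v0 * k⁻¹) = k * ps ψ s v0 * k⁻¹ * g) :
    g ∈ T.G1 := by
  have := T.ca (mem_centralizer_singleton_iff.2 (cj_comm' (g := k) (x := k⁻¹ * g * k)
    (by simpa [mul_assoc] using h)))
  rwa [Subgroup.mul_mem_cancel_right _ hk, Subgroup.mul_mem_cancel_left _ (inv_mem hk)] at this

theorem td_of {w} (h : w ∈ T.G1) (c : IsConj (ψ v0 * ps ψ s v0) w) : TD ψ s w := by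
  obtain ⟨g, rfl⟩ := isConj_iff.1 c
  have d2 : ψ v0 * ps ψ s v0 * (ψ v0 * ps ψ s v0) = 1 := by
    rw [T.mul (by decide) (by decide), show v0 * v0 = 1 by decide]; simp
  rcases T.cls h (cj_sq d2) with e | ⟨k, -, e⟩ | e | ⟨k, hk, e⟩ | ⟨k, hk, v, hv, e⟩
  · exact absurd (T.inj1 (by decide) (conj_eq_one_iff.1 e)).1 (by decide)
  · exact absurd (c.trans (e ▸ (ic _ _).symm)) T.nda
  · exact e
  · exact absurd (c.trans (e ▸ (ic _ _).symm)) T.ndt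
  · exact absurd (c.trans (e ▸ (ic _ _).symm)) (T.nds hv)

/-- an involution of `G1` centralising an involution of a factor and an outside element is
diagonal -/
theorem td_of' {w g b} (w2 : w * w = 1) (w1 : w ≠ 1) (hg : g ∉ T.G1) (c : w * g = g * w)
    (hb : ∃ k ∈ T.G1, b = k * ps ψ s v0 * k⁻¹) (c' : w * b = b * w) : TD ψ s w := by
  obtain ⟨k, hk, rfl⟩ := hb
  rcases T.cls (T.ca' hk c') w2 with e | ⟨k, hk, e⟩ | e | ⟨k, hk, e⟩ | ⟨n, hn, v, hv, e⟩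
  · exact absurd e w1
  · exact absurd (T.ca' hk (e ▸ c.symm)) hg
  · exact e
  · refine absurd ?_ hg
    have := T.ct T.pG T.sG (k⁻¹ * g * k) (cj_comm' (g := k) (by
      rw [← e]; simpa [mul_assoc] using c.symm))
    rwa [Subgroup.mul_mem_cancel_right _ hk, Subgroup.mul_mem_cancel_left _ (inv_mem hk)] at this
  · rw [e] at c'
    refine absurd (cj_comm' (g := n) ?_)
      (T.swp (one_mem _) hv (T.ta_cj (inv_mem (T.NG hn)) (T.ta_cj hk T.taa)))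
    simpa [mul_assoc] using c'

set_option synthInstance.maxSize 4096 in
theorem top (g : G) : g ∈ T.G1 := by
  by_contra h0
  have nc : ∀ g k b : G, IsConj (ps ψ s v0) b → k * (g * ψ (swap 3 4) * g⁻¹) * k⁻¹ ≠ b :=
    fun g k b c e => T.nta (((ic _ _).trans (ic _ _)).trans (e ▸ c.symm))
  obtain ⟨w, w2, w1, c1, c2, -, -⟩ := dihedral (cj_sq (g := g) T.t2) (h2 (ps ψ s) (x := v0)
    (by decide)) fun k => nc g k _ (IsConj.refl _)
  obtain ⟨n, hn, rfl⟩ := T.td (T.td_of' w2 w1 (fun h => h0 (T.uf g h)) c1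
    ⟨1, one_mem _, by simp⟩ c2)
  have h1 : n⁻¹ * g ∉ T.G1 := by rwa [Subgroup.mul_mem_cancel_left _ (inv_mem (T.NG hn))]
  have c3 : ψ v0 * ps ψ s v0 * (n⁻¹ * g * ψ (swap 3 4) * (n⁻¹ * g)⁻¹) =
      n⁻¹ * g * ψ (swap 3 4) * (n⁻¹ * g)⁻¹ * (ψ v0 * ps ψ s v0) :=
    cj_comm' (g := n) (by simpa [mul_assoc] using c1)
  clear c1 c2 w1 w2 h0
  generalize n⁻¹ * g = g at h1 c3
  have h3 : g * ψ (swap 3 4) * g⁻¹ ∉ T.G1 := fun h => h1 (T.uf g h)
  have ua := T.ta2 (x := u0) (by decide) (by decide) (by decide)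
  have ua' : IsConj (ps ψ s v0) (ps ψ s u0) := by obtain ⟨k, -, e⟩ := ua; rw [e]; exact ic _ _
  obtain ⟨w, w2, w1, c1, c2, c4, k, c5⟩ := dihedral (cj_sq (g := g) T.t2) (h2 (ps ψ s) (x := u0)
    (by decide)) fun k => nc g k _ ua'
  have c6 := c4 _ c3 (by
    rw [mul_assoc, hcm _ (show v0 * u0 = u0 * v0 by decide), ← mul_assoc,
      T.cm (by decide) (by decide), mul_assoc])
  have tw := T.td_of' w2 w1 h3 c1 ua c2
  obtain ⟨x, y, hx, hy, rfl⟩ := id tw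
  obtain rfl : y = u0 := by
    by_contra ne
    have c7 : y * u0 = u0 * y := by
      rw [mul_assoc, ← mul_assoc (ps ψ s u0), ← T.cm hx.1 (by decide), mul_assoc] at c2
      exact hcm' T.inj' (mul_left_cancel c2)
    have h4 : sign (y * u0) = 1 ∧ y * u0 * (y * u0) = 1 ∧ y * u0 ≠ 1 :=
      ⟨sg_mul hy.1 (by decide), by
        rw [mul_assoc, ← mul_assoc u0, ← c7, mul_assoc, show u0 * u0 = 1 by decide, mul_one, hy.2.1],
        fun h => ne ((eq_inv_of_mul_eq_one_left h).trans (by decide))⟩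
    rw [mul_assoc (ψ x), ← map_mul] at c5
    rcases c5 with c5 | c5
    · exact T.nda' hx h4 (z := u0) (by decide) (c5 ▸ ic _ _)
    · obtain ⟨m, -, e⟩ := T.td ⟨x, _, hx, h4, rfl⟩
      exact T.ndt ((ic _ _).trans ((e ▸ c5) ▸ ((ic _ _).trans (ic _ _)).symm))
  have c7 : v0 * x = x * v0 := by
    rw [T.mul (by decide) hx.1, T.mul (by decide) (by decide)] at c6
    exact (T.injN (by decide) (sg_mul hx.1 (by decide)) (by decide) c6).1
  have c8 : Commute (ψ v0 * ps ψ s v0 * (ψ x * ps ψ s u0)) (g * ψ (swap 3 4) * g⁻¹) :=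
    Commute.mul_left c3 c1
  by_cases hx0 : x = v0
  · obtain ⟨k, hk, e⟩ := T.ta2 (x := v0 * u0) (by decide) (by decide) (by decide)
    rw [T.mul (by decide) hx.1, hx0, show v0 * v0 = 1 by decide, map_one, one_mul, e] at c8
    exact h3 (T.ca' hk c8.symm)
  have tw' : TD ψ s (ψ v0 * ps ψ s v0 * (ψ x * ps ψ s u0)) :=
    ⟨v0 * x, v0 * u0, ⟨sg_mul (by decide) hx.1, by
      rw [mul_assoc, ← mul_assoc x, ← c7, mul_assoc, hx.2.1, mul_one]; decide,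
      fun h => hx0 ((eq_inv_of_mul_eq_one_right h).trans (by decide))⟩, by decide,
      T.mul (by decide) hx.1⟩
  have key : ∀ w, TD ψ s w → w * (g * ψ (swap 3 4) * g⁻¹) = g * ψ (swap 3 4) * g⁻¹ * w →
      ∃ x y : S5, (sign x = 1 ∧ x * x = 1 ∧ x ≠ 1) ∧ sign y = 1 ∧
        x * swap 3 4 = swap 3 4 * x ∧ g⁻¹ * w * g⁻¹⁻¹ = ψ x * ps ψ s y := fun w hw c => by
    have c' : g⁻¹ * w * g⁻¹⁻¹ * ψ (swap 3 4) = ψ (swap 3 4) * (g⁻¹ * w * g⁻¹⁻¹) :=
      cj_comm' (g := g) (by simpa [mul_assoc] using c)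
    obtain ⟨n, -, e⟩ := T.td hw
    obtain ⟨x, y, a, b, e'⟩ := T.td_of (T.ct T.pG T.sG _ c') ((e ▸ ic _ _ : IsConj _ w).trans (ic _ _))
    refine ⟨x, y, a, b.1, ?_, e'⟩
    have := cj_eq c'.symm
    rw [e', S8.cm, hcj, T.tp] at this
    exact (eq_cj (T.injN (sg_cj _ b.1) a.1 b.1 this).1).symm
  obtain ⟨p, p', a1, a2, a3, a4⟩ := key _ ⟨v0, v0, by decide, by decide, rfl⟩ c3
  obtain ⟨q, q', b1, b2, b3, b4⟩ := key _ tw c1
  obtain ⟨r, r', d1, d2, d3, d4⟩ := key _ tw' c8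
  rw [S8.cm g⁻¹ (ψ v0 * ps ψ s v0), a4, b4, T.mul a2 b1.1] at d4
  obtain rfl := (T.injN (sg_mul a2 b2) d1.1 d2 d4).1
  revert a1 b1 a3 b3 d1
  clear * -
  revert p q
  decide +kernel

omit [Finite G] in
theorem cent {g} (h : g ∈ T.G1) (c : ∀ n ∈ T.N0, g * n = n * g) : g = 1 := by
  have k : ∀ x : S5, x * c5 = c5 * x → x * u0 = u0 * x → x = 1 := by decide +kernel
  obtain ⟨n, hn, rfl | rfl | rfl | rfl⟩ := T.mem1 h
  · obtain ⟨x, y, a, b, rfl⟩ := hn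
    have h1 : ∀ z, sign z = 1 → x * z = z * x := fun z hz =>
      eq_cj (T.inj ((T.n1 b hz).symm.trans (cj_eq (c _ (T.m1 hz)))))
    have h2 : ∀ z, sign z = 1 → y * z = z * y := fun z hz =>
      eq_cj (T.inj' ((T.n2 a b hz).symm.trans (cj_eq (c _ (T.m2 hz)))))
    rw [k x (h1 _ (by decide)) (h1 _ (by decide)), k y (h2 _ (by decide)) (h2 _ (by decide))]; simp
  · obtain ⟨x, y, a, b, rfl⟩ := hn
    have h1 : ∀ z, sign z = 1 → x * swap 3 4 * z = z * (x * swap 3 4) := fun z hz => by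
      have := cj_eq (c _ (T.m1 hz))
      rw [cc, hcj, T.n1 b (sg_cj _ hz), ← cc] at this
      exact eq_cj (T.inj this)
    have := congrArg sign (k _ (h1 _ (by decide)) (h1 _ (by decide)))
    rw [map_mul, a] at this
    exact absurd this (by decide)
  · exact absurd (c _ (T.m2 (by decide))) (T.swp hn (Or.inl rfl) T.taa)
  · exact absurd (c _ (T.m2 (by decide))) (T.swp hn (Or.inr rfl) T.taa)

omit [Finite G] in
theorem minimal (K : Subgroup G) (hK : K.Normal) (h : K ≤ T.N0) : K = ⊥ ∨ K = T.N0 := by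
  refine or_iff_not_imp_left.2 fun h1 => le_antisymm h ?_
  have key : ∀ x y, sign x = 1 → sign y = 1 → x ≠ 1 → ψ x * ps ψ s y ∈ K → T.N0 ≤ K := by
    intro x y a b x1 m
    have h2 : ∀ z, sign z = 1 → ψ z ∈ K := by
      rcases (hK.comap (ψ.comp (alternatingGroup (Fin 5)).subtype)).eq_bot_or_eq_top with e | e
      · have h3 : ∀ z, sign z = 1 → x * z = z * x := fun z hz => by
          have h4 := mul_mem m (hK.conj_mem _ (inv_mem m) (ψ z))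
          rw [← mul_assoc, ← mul_assoc, T.n1 b hz, ← map_inv, ← map_mul] at h4
          have := congrArg Subtype.val (mem_bot.1 (e.le (show (⟨x * z * x⁻¹ * z⁻¹,
            sg_mul (sg_cj _ hz) (sg_inv hz)⟩ : alternatingGroup (Fin 5)) ∈ _ from h4)))
          exact eq_cj (mul_inv_eq_one.1 this)
        exact absurd ((by decide +kernel : ∀ x : S5, x * c5 = c5 * x → x * u0 = u0 * x → x = 1) x
          (h3 _ (by decide)) (h3 _ (by decide))) x1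
      · exact fun z hz => e.ge (mem_top (⟨z, hz⟩ : alternatingGroup (Fin 5)))
    rintro _ ⟨p, q, c, d, rfl⟩
    exact mul_mem (h2 p c) (hK.conj_mem _ (h2 q d) s)
  obtain ⟨⟨n, hn⟩, n1⟩ := ne_bot_iff_exists_ne_one.1 h1
  obtain ⟨x, y, a, b, rfl⟩ := h hn
  by_cases x1 : x = 1
  · refine key y x b a (fun y1 => n1 (Subtype.ext (by simp [x1, y1]))) ?_
    have := hK.conj_mem _ hn s
    rwa [S8.cm, T.sp, ← ps_def, ← T.cm b a] at this
  · exact key x y a b x1 hn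

theorem main : ∃ N : Subgroup G, N.Normal ∧ generalizedFittingSubgroup G = N ∧
    Nonempty (N ≃* alternatingGroup (Fin 5) × alternatingGroup (Fin 5)) ∧
    (∀ K : Subgroup G, K.Normal → K ≤ N → K = ⊥ ∨ K = N) ∧ N.index = 4 ∧ ∀ g : G, g ^ 2 ∈ N := by
  have hN : T.N0.Normal := ⟨fun n hn g => T.nrm (T.top g) hn⟩
  have hc : ∀ K : Subgroup G, K.Normal → K ⊓ T.N0 = ⊥ → K = ⊥ := fun K hK h =>
    eq_bot_iff.2 fun g hg => T.cent (T.top g) fun n hn =>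
      commute_of_normal_of_disjoint K T.N0 hK hN (disjoint_iff.2 h) g n hg hn
  let f : alternatingGroup (Fin 5) × alternatingGroup (Fin 5) →* T.N0 :=
    MonoidHom.mk' (fun p => ⟨ψ p.1 * ps ψ s p.2, p.1, p.2, p.1.2, p.2.2, rfl⟩) fun p q =>
      Subtype.ext (T.mul p.2.2 q.1.2).symm
  have f1 : Function.Bijective f := ⟨fun p q h => by
      have := T.injN p.2.2 q.1.2 q.2.2 (congrArg Subtype.val h)
      exact Prod.ext (Subtype.ext this.1) (Subtype.ext this.2), by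
    rintro ⟨_, x, y, a, b, rfl⟩
    exact ⟨(⟨x, a⟩, ⟨y, b⟩), rfl⟩⟩
  refine ⟨T.N0, hN, le_antisymm (sup_le (sSup_le fun L hL => ?_) ?_) ?_,
    ⟨(MulEquiv.ofBijective f f1).symm⟩, T.minimal, ?_, fun g => by rw [pow_two]; exact T.sq (T.top g)⟩
  · rw [← H52.IsComponent.commutator_self hL, commutator_le]
    intro a _ b _
    rw [commutatorElement_def,
      show a * b * a⁻¹ * b⁻¹ = a * a * (a⁻¹ * b * (a⁻¹ * b)) * (b⁻¹ * b⁻¹) by group]
    exact mul_mem (mul_mem (T.sq (T.top _)) (T.sq (T.top _))) (T.sq (T.top _))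
  · haveI := H52.fitting_normal (G := G)
    rcases T.minimal (fittingSubgroup G ⊓ T.N0) inferInstance inf_le_right with h | h
    · rw [hc _ inferInstance h]; exact bot_le
    · haveI := H52.fitting_isSolvable (G := G)
      have := IsSimpleGroup.comm_iff_isSolvable.2 (Group.isSolvable_of_isSolvable_injective
        (f := (ψ.comp (alternatingGroup (Fin 5)).subtype).codRestrict (fittingSubgroup G)
          fun x => (h.ge (T.m1 x.2)).1) fun a b e => Subtype.ext (T.inj (congrArg Subtype.val e)))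
      exact absurd (congrArg Subtype.val (this ⟨c5, show sign c5 = 1 by decide⟩
        ⟨u0, show sign u0 = 1 by decide⟩)) (by decide)
  · haveI := H52.fstar_normal (G := G)
    rcases T.minimal (generalizedFittingSubgroup G ⊓ T.N0) inferInstance inf_le_right with h | h
    · have h1 := H52.centralizer_fstar_le (G := G)
      rw [hc _ inferInstance h] at h1
      exact absurd (mem_bot.1 (h1 fun x hx => by rw [mem_bot.1 hx]; simp)) T.z1
    · exact h.ge.trans inf_le_left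
  · rw [← relIndex_top_right, ← show T.G1 = ⊤ from eq_top_iff.2 fun g _ => T.top g,
      ← relIndex_mul_relIndex _ _ _ T.iM.1 T.iG.1, T.iM.2, T.iG.2]

end Tw

end Cfsg.Agent.H19.S8
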