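import Cfsg.Agent.H46.SKit

/-!
# Standard subgroups which are odd central covers: definitions and the statements of the pieces

`Γ` is the simple group, `p : Δ →* Γ` an odd central cover, `φ : Δ →* G` embeds `Δ` onto the
standard subgroup.
-/

set_option autoImplicit false
open scoped Pointwise commutatorElement
open Subgroup

namespace Cfsg.Agent.H19.S93Q
open Cfsg.Agent.H8 Cfsg.Agent.H46.S95

universe u

local notation "C[" A "]" => Subgroup.centralizer (SetLike.coe A)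
local notation "N[" A "]" => Subgroup.normalizer (SetLike.coe A)

section Group
variable {Γ Δ : Type} [Group Γ] [Group Δ] {G : Type u} [Group G]

/-- a perfect central cover with kernel of odd order -/
structure Cv (p : Δ →* Γ) : Prop where
  base : Base Γ
  fin : Finite Δ
  surj : Function.Surjective p
  cen : ∀ a, p a = 1 → ∀ x, a * x = x * a
  odd : Odd (Nat.card p.ker)
  perf : ⁅(⊤ : Subgroup Δ), (⊤ : Subgroup Δ)⁆ = ⊤

/-- the quotient `H = N(W) / W`, in which the image of `φ` is the simple group -/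
structure Qt (p : Δ →* Γ) (φ : Δ →* G) (W : Subgroup G) {H : Type u} [Group H] (π : N[W] →* H)
    (ψ : Γ →* H) : Prop where
  cv : Cv p
  finj : Function.Injective φ
  WC : W ≤ C[φ.range]
  odd : Odd (Nat.card W)
  surj : Function.Surjective π
  ker : ∀ x, π x = 1 ↔ (x : G) ∈ W
  mem : ∀ a, φ a ∈ N[W]
  eq : ∀ a (x : N[W]), (x : G) = φ a → π x = ψ (p a)
  inj : Function.Injective ψ
  cent : ∀ x : N[W], π x ∈ C[ψ.range] ↔ (x : G) ∈ C[φ.range]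
  norm : ∀ x : N[W], π x ∈ N[ψ.range] ↔ (x : G) ∈ N[φ.range]

/-- the structure of the base group (`S95.EK` with another field `eq`) -/
structure EKQ (p : Δ →* Γ) (φ : Δ →* G) (t : G) (B : Subgroup G) (d : B →* Γ) : Prop where
  eq : ∃ e : B →* Δ, (∀ b : B, φ (e b) = b * (t * b * t)) ∧ ∀ b, p (e b) = d b
  surj : Function.Surjective d
  odd : Odd (Nat.card d.ker)
  cen : ∀ b : B, d b = 1 ↔ (b : G) ∈ C[B]
  perf : ⁅B, B⁆ = B
  inter : ∀ b : B, (b : G) ∈ MulAut.conj t • B → d b = 1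
  codd : Odd (Nat.card C[XX t B])
  swap : ∀ h ∈ N[XX t B], h ∈ H0 t B ∨ h * t ∈ H0 t B
  tH : t ∉ N[B]
  aut : ∀ h ∈ N[B], ∃ α, Ind d h α
  inn : ∀ h ∈ N[B], Ind d h 1 → h ∈ C[B]
  lift : ∀ h ∈ N[B], ∀ α, Ind d h α → ∀ P : Subgroup Γ, IsPGroup 2 P → (∀ x ∈ P, α x = x) →
    ∃ ι : P →* B, (∀ x, d (ι x) = x) ∧ ∀ x, h * ι x = ι x * h
  dec : ∀ x ∈ XX t B, ∃ b ∈ B, ∃ c ∈ B, x = b * (t * c * t)
  pi : ∃ π : XX t B →* Γ × Γ, Odd (Nat.card π.ker) ∧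
    ∀ (b c : B) (x : XX t B), (x : G) = b * (t * c * t) → π x = (d b, d c)

end Group

/-- A statement about all configurations. -/
def All (q : ∀ {Γ Δ : Type} [Group Γ] [Group Δ] {G : Type u} [Group G],
    (Δ →* Γ) → (Δ →* G) → Prop) : Prop :=
  ∀ (Γ Δ : Type) [Group Γ] [Group Δ] (G : Type u) [Group G] [Finite G] (p : Δ →* Γ) (φ : Δ →* G),
    Cv p → q p φ

/-! ### The pieces -/

def QuoStmt : Prop := All.{u} fun {Γ _ _ _ G _} p φ => Function.Injective φ → ∀ W : Subgroup G,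
  W ≤ C[φ.range] → Odd (Nat.card W) → (∀ a, p a = 1 → φ a ∈ W) →
  ∃ (H : Type u) (_ : Group H) (_ : Finite H) (π : N[W] →* H) (ψ : Γ →* H), Qt p φ W π ψ

def StdStmt : Prop := All.{u} fun {Γ _ _ _ G _} p φ => ∀ (W : Subgroup G) (H : Type u) [Group H]
  [Finite H] (π : N[W] →* H) (ψ : Γ →* H), Qt p φ W π ψ → IsStandardSubgroup φ.range →
  C[φ.range] ≤ N[W] → IsStandardSubgroup ψ.range

def Red1Stmt : Prop := All.{u} fun {Γ _ _ _ _ _} p φ => Function.Injective φ →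
  IsStandardSubgroup φ.range → ∀ (z b : Γ) Λ Z, RD z b Λ Z → ∀ g ∉ N[φ.range],
  4 ∣ Nat.card (JJ φ g) →
  ∃ a, a * a = 1 ∧ a ≠ 1 ∧ IsConj b (p a) ∧ φ a ∈ MulAut.conj g • C[φ.range]

/-- odd automorphisms centralising the component of an involution centraliser are trivial -/
def OddStmt : Prop := All.{u} fun {Γ _ _ _ G _} p φ => Function.Injective φ →
  ∀ (z b : Γ) Λ Z, RC z b Λ Z → IsPGroup 2 Z → ∀ a, a * a = 1 → IsConj b (p a) →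
  ∀ U : Subgroup G, Odd (Nat.card U) → U ≤ N[φ.range] → (∀ x ∈ U, x * φ a = φ a * x) →
  (∀ l ∈ ⁅Cz a, Cz a⁆, φ l ∈ N[U]) → U ≤ C[φ.range]

def RedAStmt : Prop := All.{u} fun {Γ _ _ _ _ _} _ φ => RF Γ → Function.Injective φ →
  IsStandardSubgroup φ.range → ∀ g ∉ N[φ.range], ¬ 4 ∣ Nat.card (JJ φ g)

def OutStmt : Prop := ∀ (Γ Δ : Type) [Group Γ] [Group Δ] (p : Δ →* Γ), Cv p → OutF Γ → OutF Δ

def RedCStmt : Prop := All.{u} fun {_ Δ _ _ G _} _ φ => ∀ F : Subgroup G, OutF Δ →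
  Function.Injective φ → IsStandardSubgroup φ.range → AS F →
  (∀ g ∉ N[φ.range], ¬ 4 ∣ Nat.card (JJ φ g)) → ∃ t O, Cx φ t O

def StartStmt : Prop := All.{u} fun {_ Δ _ _ G _} _ φ => ∀ (F : Subgroup G) t O, OutF Δ → AS F →
  Cx φ t O → φ.range ≤ F ∧ ∃ a, a * a = 1 ∧ a ≠ 1 ∧ IsConj t (t * φ a)

def MidStmt : Prop := All.{u} fun {Γ _ _ _ _ _} p φ => ∀ t O (H : Type u) [Group H] [Finite H]
  (π : N[O] →* H) (ψ : Γ →* H), RF Γ → Cx φ t O → Qt p φ O π ψ → ∀ s : N[O], s = t →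
  Cx ψ (π s) ⊥ ∧
    ∀ a, a * a = 1 → a ≠ 1 → IsConj t (t * φ a) → IsConj (π s) (π s * ψ (p a))

def LiftStmt : Prop := All.{u} fun {Γ _ _ _ _ _} p φ => ∀ t O (H : Type u) [Group H] [Finite H]
  (π : N[O] →* H) (ψ : Γ →* H), Cx φ t O → Qt p φ O π ψ → ∀ s : N[O], s = t →
  ∀ B, Wr ψ (π s) B → ⁅B, B⁆ = B → ∃ B', Wr φ t B'

def EKStmt : Prop := All.{u} fun p φ => ∀ t O B, Cx φ t O → Wr φ t B → ∃ d, EKQ p φ t B d

def E3Stmt : Prop := All.{u} fun {Γ _ _ _ _ _} p φ => ∀ t O B d (n mi mo mu : ℕ),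
  EF Γ n mi mo mu → Cx φ t O → Wr φ t B → EKQ p φ t B d → ∀ g, g * t * g⁻¹ ∉ H0 t B

def E4Stmt : Prop := All.{u} fun p φ => ∀ t O B d, Cx φ t O → Wr φ t B → EKQ p φ t B d →
  ∀ g, g * t * g⁻¹ ∈ N[XX t B] → g * t * g⁻¹ ∉ H0 t B → g ∈ N[XX t B]

def E5Stmt : Prop := All.{u} fun {Γ _ _ _ _ _} p φ => ∀ t F O B d (n : ℕ), SylF Γ n → AS F →
  Cx φ t O → Wr φ t B → EKQ p φ t B d → B ≤ F → t ∉ F →
  (∀ g, g * t * g⁻¹ ∈ N[XX t B] → g ∈ N[XX t B]) → ¬ N[XX t B] ⊓ F ≤ XX t B ⊔ C[XX t B]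

def E6Stmt : Prop := All.{u} fun {Γ _ _ _ _ _} p φ => ∀ t F O B d (mu : ℕ), OiF Γ mu → AS F →
  Cx φ t O → Wr φ t B → EKQ p φ t B d → B ≤ F → t ∉ F → ¬ N[XX t B] ⊓ F ≤ XX t B ⊔ C[XX t B] →
  ∃ h ∈ H0 t B, h * h = 1 ∧ h * t = t * h ∧ (h ∈ F ∨ h * t ∈ F) ∧ ∃ α, Ind d h α ∧ ¬ Inn α ∧
    ∀ P : Subgroup Γ, (∀ x ∈ P, α x = x) → IsPGroup 2 P → Nat.card P ≤ mu

def E7Stmt : Prop := All.{u} fun {Γ _ _ _ _ _} p φ => ∀ t F O B d (n mi mo mu : ℕ) h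
  (α : MulAut Γ), EF Γ n mi mo mu → AS F → Cx φ t O → Wr φ t B → EKQ p φ t B d → B ≤ F → t ∉ F →
  (∀ g, g * t * g⁻¹ ∈ N[XX t B] → g ∈ N[XX t B]) → N[XX t B] ⊓ F ≤ H0 t B →
  h ∈ H0 t B ⊓ F → h * h = 1 → h * t = t * h → Ind d h α →
  (∀ P : Subgroup Γ, (∀ x ∈ P, α x = x) → IsPGroup 2 P → Nat.card P ≤ mu) →
  ∀ g ∈ F, ∀ β γ, g * h * g⁻¹ ∈ H0 t B → Ind d (g * h * g⁻¹) β →
    Ind d (t * (g * h * g⁻¹) * t) γ → (Inn β ↔ Inn γ)

def EndStmt : Prop := All.{u} fun {Γ _ _ _ _ _} _ φ => ∀ t F O B (n mi mo mu : ℕ),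
  EF Γ n mi mo mu → AS F → Cx φ t O → Wr φ t B → φ.range ≤ F → False

theorem eqns_s93defs : True := by
  have := @All.eq_1.{0}
  have := @QuoStmt.eq_1.{0}
  have := @StdStmt.eq_1.{0}
  have := @Red1Stmt.eq_1.{0}
  have := @OddStmt.eq_1.{0}
  have := @RedAStmt.eq_1.{0}
  have := @OutStmt.eq_1
  have := @RedCStmt.eq_1.{0}
  have := @StartStmt.eq_1.{0}
  have := @MidStmt.eq_1.{0}
  have := @LiftStmt.eq_1.{0}
  have := @EKStmt.eq_1.{0}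
  have := @E3Stmt.eq_1.{0}
  have := @E4Stmt.eq_1.{0}
  have := @E5Stmt.eq_1.{0}
  have := @E6Stmt.eq_1.{0}
  have := @E7Stmt.eq_1.{0}
  have := @EndStmt.eq_1.{0}
  trivial

end Cfsg.Agent.H19.S93Q
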