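import Cfsg.Agent.H19.S93Kit

/-!
# Odd central covers: no conjugate of `t` normalises both factors
-/

set_option autoImplicit false
open scoped Pointwise commutatorElement
open Subgroup

namespace Cfsg.Agent.H19.S93E3
open Cfsg.Agent.H8 Cfsg.Agent.H46.S95 Cfsg.Agent.H19.S93Q

universe u

local notation "C[" A "]" => Subgroup.centralizer (SetLike.coe A)
local notation "N[" A "]" => Subgroup.normalizer (SetLike.coe A)

variable {Γ Δ : Type} [Group Γ] [Group Δ] {p : Δ →* Γ} {G : Type u} [Group G] {φ : Δ →* G} {t : G} {B : Subgroup G}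
  {d : B →* Γ}

theorem ind_sq (k : EKQ p φ t B d) {s : G} (hs : s ∈ N[B]) (s2 : s * s = 1) {α : MulAut Γ}
    (h : Ind d s α) : α * α = 1 := MulEquiv.ext fun x => by
  obtain ⟨b, rfl⟩ := k.surj x
  have h1 := h b ⟨_, (mem_normalizer_iff.1 hs b).1 b.2⟩ rfl
  have h2 := h ⟨_, (mem_normalizer_iff.1 hs b).1 b.2⟩ b (by
    change (b : G) = s * (s * b * s⁻¹) * s⁻¹
    calc (b : G) = s * s * b * (s * s)⁻¹ := by rw [s2]; group
      _ = _ := by group)
  rw [MulAut.mul_apply, ← h1, ← h2]; rfl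

theorem ind_inn (k : EKQ p φ t B d) {s c : G} {b : B} (e : s = b * c) (hc : ∀ x ∈ B, x * c = c * x)
    {α : MulAut Γ} (h : Ind d s α) : Inn α := ⟨d b, MulEquiv.ext fun x => by
  obtain ⟨y, rfl⟩ := k.surj x
  rw [← h y (b * y * b⁻¹) (by
    rw [e, mul_assoc (b : G) c, ← hc y y.2]; simp [mul_assoc])]
  simp⟩

theorem exists_j (tt : t * t = 1) (w : Wr φ t B) (k : EKQ p φ t B d) {s : G} (h1 : s ∈ N[B])
    (h2 : t * s * t ∈ N[B]) {α β : MulAut Γ} (ha : Ind d s α) (hb : Ind d (t * s * t) β)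
    {P R : Subgroup Γ} (hP : IsPGroup 2 P) (hR : IsPGroup 2 R) (fP : ∀ x ∈ P, α x = x)
    (fR : ∀ x ∈ R, β x = x) : ∃ j : P × R →* G, Function.Injective j ∧ (∀ x, j x * s = s * j x) ∧
      ∀ x, j x = s → Inn α ∧ Inn β := by
  obtain ⟨ι, i1, i2⟩ := k.lift s h1 α ha P hP fP
  obtain ⟨κ, k1, k2⟩ := k.lift _ h2 β hb R hR fR
  have ti : t⁻¹ = t := inv_eq_of_mul_eq_one_right tt
  have tt' : ∀ x, t * (t * x) = x := fun x => by rw [← mul_assoc, tt, one_mul]
  let j : P × R →* G := MonoidHom.noncommCoprod (B.subtype.comp ι)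
    ((MulAut.conj t).toMonoidHom.comp (B.subtype.comp κ)) fun x y => by
      change ι x * (t * κ y * t⁻¹) = t * κ y * t⁻¹ * ι x
      rw [ti]; exact w.comm _ (ι x).2 _ (κ y).2
  have hj : ∀ x, j x = ι x.1 * (t * κ x.2 * t) := fun x => by
    change ι x.1 * (t * κ x.2 * t⁻¹) = _
    rw [ti]
  refine ⟨j, (injective_iff_map_eq_one j).2 fun x hx => ?_, fun x => ?_, fun x hx => ⟨?_, ?_⟩⟩
  · rw [hj] at hx
    have h3 : x.1 = 1 := Subtype.ext (by
      rw [← i1]
      refine k.inter _ (mem_conj_smul.2 ?_)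
      rw [eq_inv_of_mul_eq_one_left hx, ti]
      simp [mul_assoc, ti, tt', tt])
    rw [h3, map_one, coe_one, one_mul] at hx
    have h4 : κ x.2 = 1 := Subtype.ext (by
      have := congrArg (fun y => t * y * t) hx
      simpa [mul_assoc, tt', tt] using this)
    exact Prod.ext h3 (Subtype.ext (by rw [← k1, h4, map_one]; rfl))
  · have h3 : s * (t * κ x.2 * t) = t * κ x.2 * t * s := by
      have := congrArg (fun y => t * y * t) (k2 x.2)
      simpa [mul_assoc, tt', tt] using this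
    rw [hj, mul_assoc, ← h3, ← mul_assoc, ← i2, mul_assoc]
  · exact ind_inn k (hx.symm.trans (hj x)) (fun y hy => w.comm y hy _ (κ x.2).2) ha
  · refine ind_inn k (b := κ x.2) (c := t * ι x.1 * t) ?_ (fun y hy => w.comm y hy _ (ι x.1).2) hb
    rw [w.comm _ (κ x.2).2 _ (ι x.1).2, ← hx, hj]
    simp [mul_assoc, tt', tt]

theorem inn_fix (hb : Base Γ) {mi : ℕ} (h : InnF Γ mi) {α : MulAut Γ} (i : Inn α) (e : α * α = 1) :
    ∃ P : Subgroup Γ, (∀ x ∈ P, α x = x) ∧ IsPGroup 2 P ∧ mi ≤ Nat.card P := by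
  obtain ⟨a, rfl⟩ := i
  obtain ⟨P, h1, h2, h3⟩ := h a (hb.conj_inj (by rw [map_mul, e, map_one]))
  exact ⟨P, fun x hx => by
    rw [MulAut.conj_apply, ← mem_Cz.1 (h1 hx), mul_inv_cancel_right], h2, h3⟩

theorem prod2 {P R : Type*} [Group P] [Group R] (hP : IsPGroup 2 P) (hR : IsPGroup 2 R) :
    IsPGroup 2 (P × R) := fun x => by
  obtain ⟨a, ha⟩ := hP x.1
  obtain ⟨b, hb⟩ := hR x.2
  exact ⟨a + b, Prod.ext (by rw [Prod.pow_fst, pow_add, pow_mul, ha, one_pow]; rfl)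
    (by rw [Prod.pow_snd, pow_add, mul_comm, pow_mul, hb, one_pow]; rfl)⟩

theorem e3 : S93Q.E3Stmt.{u} := by
  intro Γ Δ _ _ G _ _ p φ hv t O B d n mi mo mu ef cx w k g hs
  have hb := hv.base
  have cs := cx.conj g
  generalize g * t * g⁻¹ = s at hs cs
  generalize (MulAut.conj g).toMonoidHom.comp φ = ψ at cs
  have h2 : t * s * t ∈ N[B] := by
    have := (mem_inf.1 hs).2
    rw [normalizer_conj_smul, mem_conj_smul, cx.tinv] at this
    exact this
  obtain ⟨α, ha⟩ := k.aut s hs.1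
  obtain ⟨β, hβ⟩ := k.aut _ h2
  have a2 := ind_sq k hs.1 cs.tt ha
  have b2 := ind_sq k h2 (by
    calc t * s * t * (t * s * t) = t * (s * (t * t) * s) * t := by group
      _ = 1 := by rw [cx.tt, mul_one, cs.tt, mul_one, cx.tt]) hβ
  have key : ∀ P R : Subgroup Γ, IsPGroup 2 P → IsPGroup 2 R → (∀ x ∈ P, α x = x) →
      (∀ x ∈ R, β x = x) → Nat.card P * Nat.card R ≤ 4 * n ∧
        (¬ (Inn α ∧ Inn β) → Nat.card P * Nat.card R ≤ 2 * n) := fun P R hP hR fP fR => by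
    obtain ⟨j, j1, j2, j3⟩ := exists_j cx.tt w k hs.1 h2 ha hβ hP hR fP fR
    have c1 : Nat.card j.range = Nat.card P * Nat.card R := by
      rw [← Nat.card_prod]; exact (Nat.card_congr (MonoidHom.ofInjective j1).toEquiv).symm
    have c2 : IsPGroup 2 j.range := (prod2 hP hR).of_surjective _ j.rangeRestrict_surjective
    have c3 : j.range ≤ centralizer {s} := by
      rintro _ ⟨x, rfl⟩
      exact mem_centralizer_singleton_iff.2 (j2 x)
    refine ⟨c1 ▸ cs.card_twoQ hv ef.syl c2 c3, fun hn => ?_⟩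
    have c4 : IsPGroup 2 (zpowers s ⊔ j.range : Subgroup G) :=
      (isPGroup_zpowers_of_pow_eq_one (p := 2) (k := 1) (by rw [pow_one, pow_two, cs.tt])).to_sup_of_normal_right' c2
        (zpowers_le.2 (centralizer_le_normalizer _ (by rintro _ ⟨x, rfl⟩; exact j2 x)))
    have c5 := cs.card_twoQ hv ef.syl c4
      (sup_le (zpowers_le.2 (mem_centralizer_singleton_iff.2 rfl)) c3)
    obtain ⟨m, hm⟩ := card_dvd_of_le (le_sup_right : j.range ≤ zpowers s ⊔ j.range)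
    have c6 : m ≠ 1 := by
      rintro rfl
      have := eq_of_le_of_card_ge (le_sup_right : j.range ≤ zpowers s ⊔ j.range) (by omega)
      obtain ⟨x, hx⟩ : s ∈ j.range := this ▸ mem_sup_left (mem_zpowers s)
      exact hn (j3 x hx)
    have c7 : m ≠ 0 := by
      rintro rfl
      exact Nat.card_pos.ne' hm
    rw [hm, c1] at c5
    have := Nat.mul_le_mul_left (Nat.card P * Nat.card R) (show 2 ≤ m by omega)
    omega
  by_cases i1 : Inn α <;> by_cases i2 : Inn β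
  · obtain ⟨P, p1, p2, p3⟩ := inn_fix hb ef.inn i1 a2
    obtain ⟨R, r1, r2, r3⟩ := inn_fix hb ef.inn i2 b2
    exact (((Nat.mul_le_mul p3 r3).trans (key P R p2 r2 p1 r1).1).trans_lt ef.n1).false
  · obtain ⟨P, p1, p2, p3⟩ := inn_fix hb ef.inn i1 a2
    obtain ⟨R, r1, r2, r3⟩ := ef.out β b2 i2
    exact (((Nat.mul_le_mul p3 r3).trans ((key P R p2 r2 p1 r1).2 fun e => i2 e.2)).trans_lt
      ef.n2).false
  · obtain ⟨P, p1, p2, p3⟩ := ef.out α a2 i1
    obtain ⟨R, r1, r2, r3⟩ := inn_fix hb ef.inn i2 b2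
    exact ((((Nat.mul_comm _ _).le.trans (Nat.mul_le_mul p3 r3)).trans
      ((key P R p2 r2 p1 r1).2 fun e => i1 e.1)).trans_lt ef.n2).false
  · obtain ⟨P, R, p1, r1, p2, r2, h⟩ := ef.oo α β a2 i1 b2 i2
    obtain ⟨j, j1, j2, j3⟩ := exists_j cx.tt w k hs.1 h2 ha hβ p2 r2 p1 r1
    obtain ⟨θ, -, hθ⟩ := hv.exists_autHom cs.inj
    refine h (θ.comp (j.codRestrict _ fun x => cs.NJ _ (j2 x)))
      ((injective_iff_map_eq_one _).2 fun x hx => ?_)
    obtain ⟨m, hm⟩ := prod2 p2 r2 x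
    have h3 : j x ∈ C[ψ.range] := (hθ ⟨j x, cs.NJ _ (j2 x)⟩).1 hx
    rcases cs.two_cent (j2 x) h3 (n := m) (by rw [← map_pow, hm, map_one]) with e | e
    · exact j1 (e.trans (map_one j).symm)
    · exact (i1 (j3 x e).1).elim

end Cfsg.Agent.H19.S93E3
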