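import Cfsg.Agent.H19.S93Kit
import Cfsg.Agent.H91.S95E4

/-!
# Odd central covers: a conjugate of `t` swapping the two factors comes from the normaliser
-/

set_option autoImplicit false
set_option linter.unusedSectionVars false
open scoped Pointwise commutatorElement
open Subgroup

namespace Cfsg.Agent.H19.S93E4
open Cfsg.Agent.H46.S95 Cfsg.Agent.H23.D2 Cfsg.Agent.H19.S93Q
open Cfsg.Agent.H91.S95E4 (perf_top)

universe u

variable {Γ Δ : Type} [Group Γ] [Group Δ] {p : Δ →* Γ} {G : Type u} [Group G] {φ : Δ →* G} {t : G}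
  {O B : Subgroup G} {d : B →* Γ}

/-- the base group is generated by `A` and `A ^ b` -/
theorem gen (hb : Base Γ) (h : Cx φ t O) (w : Wr φ t B) (k : EKQ p φ t B d) {b : B} (hd : d b ≠ 1)
    {Y : Subgroup G} (h1 : ∀ a, φ a ∈ Y) (h2 : ∀ a, b * φ a * (b : G)⁻¹ ∈ Y) : XX t B ≤ Y := by
  have := hb.simple
  obtain ⟨ε, hε, -⟩ := k.eq
  have cj : ∀ c x : B, φ (ε c) * x * (φ (ε c))⁻¹ = c * x * (c : G)⁻¹ := fun c x => by
    rw [hε, mul_assoc (c : G), ← w.comm x x.2 c c.2]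
    group
  have nM : (Y.subgroupOf B).Normal := ⟨fun x hx c => by
    have := mul_mem (mul_mem (h1 (ε c)) hx) (inv_mem (h1 (ε c)))
    exact (cj c x).subst (motive := fun y => y ∈ Y) this⟩
  have cM : ∀ c : B, b * c * b⁻¹ * c⁻¹ ∈ Y.subgroupOf B := fun c => by
    have := mul_mem (h2 (ε c)) (inv_mem (h1 (ε c)))
    rw [hε, show (b : G) * (c * (t * c * t)) * (b : G)⁻¹ * (c * (t * c * t))⁻¹ =
      b * c * (t * c * t * (b : G)⁻¹) * (c * (t * c * t))⁻¹ by group,
      ← w.comm _ (inv_mem b.2) c c.2, show (b : G) * c * ((b : G)⁻¹ * (t * c * t)) *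
        (c * (t * c * t))⁻¹ = b * c * (b : G)⁻¹ * (c : G)⁻¹ by group] at this
    exact this
  have top : (Y.subgroupOf B).map d = ⊤ :=
    (nM.map d k.surj).eq_bot_or_eq_top.resolve_left fun e => hd (hb.eq_one fun x => by
      obtain ⟨c, rfl⟩ := k.surj x
      have := mem_map_of_mem d (cM c)
      rw [e, mem_bot, map_mul, map_mul, map_mul, map_inv, map_inv, mul_inv_eq_one,
        mul_inv_eq_iff_eq_mul] at this
      exact this)
  have dec : ∀ x ∈ B, ∃ m ∈ B, m ∈ Y ∧ ∃ z ∈ B, (∀ v ∈ B, v * z = z * v) ∧ x = m * z := fun x hx => by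
    obtain ⟨m, hm, e⟩ := top.ge (mem_top (d ⟨x, hx⟩))
    refine ⟨m, m.2, hm, (m⁻¹ * ⟨x, hx⟩ : B), SetLike.coe_mem _, mem_C.1 ((k.cen _).1 ?_), by simp⟩
    rw [map_mul, map_inv, e, inv_mul_cancel]
  have BY : B ≤ Y := by
    rw [← k.perf, commutator_le]
    intro x hx y hy
    obtain ⟨m, mB, hm, z, zB, hz, rfl⟩ := dec x hx
    obtain ⟨n, nB, hn, v, vB, hv, rfl⟩ := dec y hy
    have e : ⁅m * z, n * v⁆ = m * n * m⁻¹ * n⁻¹ := by
      rw [commutatorElement_def, show m * z * (n * v) * (m * z)⁻¹ * (n * v)⁻¹ =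
        m * (z * (n * v)) * z⁻¹ * m⁻¹ * v⁻¹ * n⁻¹ by group, ← hz _ hy,
        show m * (n * v * z) * z⁻¹ * m⁻¹ * v⁻¹ * n⁻¹ = m * n * (v * m⁻¹) * v⁻¹ * n⁻¹ by group,
        ← hv _ (inv_mem mB)]
      group
    rw [e]
    exact mul_mem (mul_mem (mul_mem hm hn) (inv_mem hm)) (inv_mem hn)
  refine sup_le BY fun x hx => ?_
  have := mul_mem (inv_mem (BY (mem_conj.1 hx))) (h1 (ε ⟨_, mem_conj.1 hx⟩))
  rw [hε, inv_mul_cancel_left, show t * (t⁻¹ * x * t) * t = x * (t * t) by group, h.tt,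
    mul_one] at this
  exact this

theorem e4 : S93Q.E4Stmt.{u} := by
  intro Γ Δ _ _ G _ _ p φ hv t O B d h w k g h1 h2
  have hb := hv.base
  obtain ⟨ε, hε, -⟩ := k.eq
  have := hb.fin
  have h' := h.conj g
  generalize hs : g * t * g⁻¹ = s at h1 h2 h'
  have ss : s * s = 1 := h'.tt
  have hst : s * t ∈ H0 t B := (k.swap s h1).resolve_left h2
  have tB : ∀ c ∈ B, t * c * t ∈ MulAut.conj t • B := fun c hc => mem_conj.2 (by
    rwa [show t⁻¹ * (t * c * t) * t = c * (t * t) by group, h.tt, mul_one])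
  have sB : ∀ c ∈ B, s * c * s ∈ MulAut.conj t • B := fun c hc => by
    have := norm_conj hst.2 (tB c hc)
    rwa [show s * t * (t * c * t) * (s * t)⁻¹ = s * (t * t) * c * s⁻¹ by group, h.tt, mul_one,
      h'.tinv] at this
  have cm : ∀ b ∈ B, ∀ c ∈ B, b * (s * c * s) = s * c * s * b := fun b hb c hc => by
    have := w.comm b hb _ (mem_conj.1 (sB c hc))
    rwa [show t * (t⁻¹ * (s * c * s) * t) * t = s * c * s * (t * t) by group, h.tt, mul_one] at this
  let δ : B →* G := MonoidHom.mk' (fun b => b * (s * b * s)) fun b c => by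
    rw [Subgroup.coe_mul, mul_assoc (b : G) (s * b * s), ← mul_assoc (s * b * s), ← cm c c.2 b b.2,
      show (b : G) * (c * (s * b * s) * (s * c * s)) = b * c * (s * (b * (s * s) * c) * s) by group,
      ss, mul_one]
  have hδ : ∀ b : B, δ b = b * (s * b * s) := fun _ => rfl
  have δC : δ.range ≤ centralizer {s} := by
    rintro _ ⟨b, rfl⟩
    rw [mem_centralizer_singleton_iff, hδ]
    conv_lhs => rw [cm b b.2 b b.2]
    group
  have δD : δ.range ≤ ((MulAut.conj g).toMonoidHom.comp φ).range ⊔ MulAut.conj g • O := by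
    refine le_trans ?_ ((commutator_mono δC δC).trans (h'.derQ hv))
    rw [MonoidHom.range_eq_map, ← map_commutator, perf_top k.perf]
  have δA : δ.range ≤ ((MulAut.conj g).toMonoidHom.comp φ).range := by
    have : closure {b | b ∈ B ∧ b * b = 1} ≤
        (((MulAut.conj g).toMonoidHom.comp φ).range.comap δ).map B.subtype := by
      rw [closure_le]
      rintro b ⟨hb', bb⟩
      refine ⟨⟨b, hb'⟩, h'.inv_memQ hv (δD ⟨_, rfl⟩) ?_, rfl⟩
      rw [← map_mul, show (⟨b, hb'⟩ * ⟨b, hb'⟩ : B) = 1 from Subtype.ext bb, map_one]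
    rintro _ ⟨b, rfl⟩
    obtain ⟨c, hc, e⟩ := this (w.gen b.2)
    obtain rfl : c = b := Subtype.ext e
    exact hc
  have ker : δ.ker ≤ d.ker := fun b e => k.inter b (by
    rw [eq_inv_of_mul_eq_one_left (show (b : G) * (s * b * s) = 1 from e)]
    exact inv_mem (sB b b.2))
  have δE : δ.range = ((MulAut.conj g).toMonoidHom.comp φ).range := by
    choose f hf using fun b : B => δA ⟨b, rfl⟩
    let f' : B →* Δ := MonoidHom.mk' f fun b c => h'.inj (by rw [map_mul, hf, hf, hf, map_mul])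
    have k1 : (p.comp f').ker ≤ d.ker := fun b e => hb.eq_one fun x => by
      obtain ⟨c, rfl⟩ := k.surj x
      have e1 : δ ⁅b, c⁆ = 1 := by
        rw [map_commutatorElement, ← hf, ← hf, ← map_commutatorElement,
          commutatorElement_eq_one_iff_mul_comm.2 (hv.cen (f b) e _), map_one]
      have := ker e1
      rwa [MonoidHom.mem_ker, map_commutatorElement, commutatorElement_eq_one_iff_mul_comm] at this
    have k2 : (p.comp f').range = ⊤ := by
      refine eq_of_le_of_card_ge le_top ?_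
      rw [← MonoidHom.range_eq_top.2 k.surj, ← index_ker, ← index_ker]
      exact Nat.le_of_dvd (Nat.pos_of_ne_zero index_ne_zero_of_finite) (index_dvd_of_le k1)
    have k3 : f'.range = ⊤ := hv.top_of_map (by rw [← MonoidHom.range_comp, k2])
    refine le_antisymm δA ?_
    rintro _ ⟨a, rfl⟩
    obtain ⟨b, rfl⟩ := k3.ge (mem_top a)
    exact ⟨b, (hf b).symm⟩
  have δX : δ.range ≤ XX t B := by
    rintro _ ⟨b, rfl⟩
    exact mul_mem_sup b.2 (sB b b.2)
  -- an involution of `B` outside the kernel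
  obtain ⟨b, bb, hd⟩ : ∃ b : B, b * b = 1 ∧ d b ≠ 1 := by
    by_contra! H
    have : closure {b | b ∈ B ∧ b * b = 1} ≤ d.ker.map B.subtype := by
      rw [closure_le]
      rintro b ⟨hb', bb⟩
      exact ⟨⟨b, hb'⟩, H _ (Subtype.ext bb), rfl⟩
    have e : ∀ x : Γ, x = 1 := fun x => by
      obtain ⟨b, rfl⟩ := k.surj x
      obtain ⟨c, hc, e⟩ := this (w.gen b.2)
      obtain rfl : c = b := Subtype.ext e
      exact hc
    exact hb.nc ⟨⟨fun x y => by rw [e x, e y]⟩⟩
  obtain ⟨c0, e0⟩ := δE.ge ⟨ε b, rfl⟩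
  have a2 : δ c0 * δ c0 = 1 := by rw [e0, ← map_mul, ← map_mul, bb, map_one, map_one]
  obtain ⟨j, hj⟩ : Odd (orderOf (c0 * c0)) :=
    k.odd.of_dvd_nat (by
      simpa using orderOf_dvd_natCard (⟨c0 * c0, ker (by rw [MonoidHom.mem_ker, map_mul, a2])⟩ : d.ker))
  have cc : c0 ^ (2 * j + 1) * c0 ^ (2 * j + 1) = 1 := by
    rw [← Commute.mul_pow (Commute.refl c0), ← hj, pow_orderOf_eq_one]
  have ec : δ (c0 ^ (2 * j + 1)) = g * φ (ε b) * g⁻¹ := by
    rw [map_pow, pow_succ, pow_mul, pow_two, a2, one_pow, one_mul, e0]; rfl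
  generalize c0 ^ (2 * j + 1) = c at cc ec
  have bi : (b : G)⁻¹ = b := inv_eq_of_mul_eq_one_right (congrArg Subtype.val bb)
  have ci : (c : G)⁻¹ = c := inv_eq_of_mul_eq_one_right (congrArg Subtype.val cc)
  have e1 : (b : G) * t * b = t * φ (ε b) := by
    rw [hε, w.comm b b.2 b b.2, show t * (t * b * t * b) = t * t * (b * t * b) by group, h.tt,
      one_mul]
  have e2 : (c : G) * s * c = s * (g * φ (ε b) * g⁻¹) := by
    rw [← ec, hδ, cm c c.2 c c.2, show s * (s * c * s * c) = s * s * (c * s * c) by group, ss,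
      one_mul]
  have e3 : (c : G)⁻¹ * (g * b * g⁻¹) * s = s * ((c : G)⁻¹ * (g * b * g⁻¹)) := by
    have : g * b * g⁻¹ * s * (g * b * g⁻¹)⁻¹ = c * s * (c : G)⁻¹ := by
      rw [ci, e2, ← hs, show g * b * g⁻¹ * (g * t * g⁻¹) * (g * b * g⁻¹)⁻¹ =
        g * (b * t * (b : G)⁻¹) * g⁻¹ by group, bi, e1]
      group
    calc (c : G)⁻¹ * (g * b * g⁻¹) * s
        = (c : G)⁻¹ * (g * b * g⁻¹ * s * (g * b * g⁻¹)⁻¹) * (g * b * g⁻¹) := by group
      _ = _ := by rw [this]; group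
  refine mem_N_of fun x hx => ?_
  refine gen hb h w k hd (Y := (XX t B).comap (MulAut.conj g).toMonoidHom) (fun a => ?_)
    (fun a => ?_) hx
  · exact δX (δE.ge ⟨a, rfl⟩)
  · have m := δX (δE.ge (norm_conj (h'.NJ _ e3) ⟨a, rfl⟩))
    have cX : (c : G) ∈ XX t B := mem_sup_left c.2
    have := mul_mem (mul_mem cX m) (inv_mem cX)
    change g * (b * φ a * (b : G)⁻¹) * g⁻¹ ∈ XX t B
    convert this using 1
    change _ = c * ((c : G)⁻¹ * (g * b * g⁻¹) * (g * φ a * g⁻¹) * ((c : G)⁻¹ * (g * b * g⁻¹))⁻¹) *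
      (c : G)⁻¹
    group

end Cfsg.Agent.H19.S93E4
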