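import Cfsg.Agent.H19.S93Kit

/-!
# Odd central covers: the end of the proof
-/

set_option autoImplicit false
open scoped Pointwise commutatorElement
open Subgroup

namespace Cfsg.Agent.H19.S93End
open Cfsg.Agent.H8 Cfsg.Agent.H23.D2 Cfsg.Agent.H46.S95 Cfsg.Agent.H19.S93Q

universe u

local notation "C[" A "]" => Subgroup.centralizer (SetLike.coe A)
local notation "N[" A "]" => Subgroup.normalizer (SetLike.coe A)

variable {Γ Δ : Type} [Group Γ] [Group Δ] {p : Δ →* Γ} {G : Type u} [Group G] {φ : Δ →* G} {t : G} {O B F : Subgroup G}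
  {d : B →* Γ}

theorem ind_one : Ind d 1 1 := fun b c e => by
  rw [show c = b from Subtype.ext (by simpa using e)]; rfl

theorem ind_mul {h k : G} {α β : MulAut Γ} (hk : k ∈ N[B]) (a : Ind d h α) (b : Ind d k β) :
    Ind d (h * k) (α * β) := fun x y e => by
  rw [MulAut.mul_apply, ← b x ⟨_, norm_conj hk x.2⟩ rfl]
  exact a _ y (by rw [e]; group)

theorem ind_uniq (hs : Function.Surjective d) {h : G} (hh : h ∈ N[B]) {α β : MulAut Γ}
    (a : Ind d h α) (b : Ind d h β) : α = β := MulEquiv.ext fun x => by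
  obtain ⟨x, rfl⟩ := hs x
  rw [← a x ⟨_, norm_conj hh x.2⟩ rfl, ← b x ⟨_, norm_conj hh x.2⟩ rfl]

theorem ind_mem (b : B) : Ind d b (MulAut.conj (d b)) := fun x y e => by
  rw [show y = b * x * b⁻¹ from Subtype.ext e]; simp

open Classical in
/-- The sign of the automorphism induced by `h`. -/
noncomputable def eps (d : B →* Γ) (h : G) : ℤˣ := if ∃ α, Ind d h α ∧ Inn α then 1 else -1

theorem eps_one : eps d 1 = 1 := if_pos ⟨1, ind_one, Inn.one⟩

theorem eps_iff (e : EKQ p φ t B d) {h : G} (hh : h ∈ N[B]) {α : MulAut Γ} (a : Ind d h α) :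
    eps d h = 1 ↔ Inn α := by
  unfold eps
  split_ifs with k
  · obtain ⟨β, b, k⟩ := k
    exact iff_of_true rfl (ind_uniq e.surj hh a b ▸ k)
  · exact iff_of_false (by decide) fun i => k ⟨α, a, i⟩

theorem eps_mul (hb : Base Γ) (e : EKQ p φ t B d) {h k : G} (hh : h ∈ N[B]) (hk : k ∈ N[B]) :
    eps d (h * k) = eps d h * eps d k := by
  obtain ⟨α, a⟩ := e.aut h hh
  obtain ⟨β, b⟩ := e.aut k hk
  have h1 := eps_iff e hh a
  have h2 := eps_iff e hk b
  have h3 := eps_iff e (mul_mem hh hk) (ind_mul hk a b)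
  have k1 : Inn α → Inn β → Inn (α * β) := Inn.mul
  have k2 : Inn α → Inn (α * β) → Inn β := Inn.of_mul_left
  have k3 : Inn β → Inn (α * β) → Inn α := Inn.of_mul_right
  have k4 := hb.out α β
  rw [← h1, ← h2, ← h3] at k1 k2 k3 k4
  generalize eps d (h * k) = x at *
  generalize eps d h = y at *
  generalize eps d k = z at *
  revert k1 k2 k3 k4
  rcases Int.units_eq_one_or x with rfl | rfl <;> rcases Int.units_eq_one_or y with rfl | rfl <;>
    rcases Int.units_eq_one_or z with rfl | rfl <;> decide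

theorem eps_inv (hb : Base Γ) (e : EKQ p φ t B d) {h : G} (hh : h ∈ N[B]) : eps d h⁻¹ = eps d h := by
  have := eps_mul hb e (inv_mem hh) hh
  rw [inv_mul_cancel, eps_one] at this
  rw [eq_inv_of_mul_eq_one_left this.symm, Int.units_inv_eq_self]

theorem tB (tt : t * t = 1) : MulAut.conj t • MulAut.conj t • B = B := by
  rw [← mul_smul, ← map_mul, tt, map_one, one_smul]

theorem t_mem (tt : t * t = 1) : t ∈ N[XX t B] := by
  rw [mem_N_iff, smul_sup, tB tt, sup_comm]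

theorem H0_le : H0 t B ≤ N[XX t B] := fun h hh => by
  rw [mem_N_iff, smul_sup, mem_N_iff.1 hh.1, mem_N_iff.1 hh.2]

theorem conj_H0 (tt : t * t = 1) {h : G} (hh : h ∈ H0 t B) : t * h * t ∈ H0 t B := by
  refine ⟨mem_N_iff.2 ?_, mem_N_iff.2 ?_⟩
  · rw [map_mul, map_mul, mul_smul, mul_smul, mem_N_iff.1 hh.2, tB tt]
  · rw [map_mul, map_mul, mul_smul, mul_smul, tB tt, mem_N_iff.1 hh.1]

/-- An element of type (inner, inner) lies in `X C(X)`. -/
theorem dec_inn (tt : t * t = 1) (e : EKQ p φ t B d) (w : Wr φ t B) {k : G} (hk : k ∈ H0 t B)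
    (h1 : eps d k = 1) (h2 : eps d (t * k * t) = 1) :
    ∃ b ∈ B, ∃ c ∈ B, ∃ z ∈ C[XX t B], k = b * (t * c * t) * z := by
  have ti : t⁻¹ = t := inv_eq_of_mul_eq_one_right tt
  have key : ∀ k ∈ N[B], eps d k = 1 → ∃ b ∈ B, b⁻¹ * k ∈ C[B] := fun k hk h => by
    obtain ⟨α, a⟩ := e.aut k hk
    obtain ⟨x, rfl⟩ := (eps_iff e hk a).1 h
    obtain ⟨b, rfl⟩ := e.surj x
    refine ⟨b, b.2, e.inn _ (mul_mem (inv_mem (le_normalizer b.2)) hk) ?_⟩
    simpa using ind_mul hk (ind_mem (d := d) b⁻¹) a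
  obtain ⟨b, hb, k1⟩ := key k hk.1 h1
  obtain ⟨c, hc, k2⟩ := key _ (conj_H0 tt hk).1 h2
  have k3 : ∀ x ∈ B, t * x * t ∈ C[B] := fun x hx => mem_C.2 fun y hy => w.comm y hy x hx
  refine ⟨b, hb, c, hc, (t * c * t)⁻¹ * (b⁻¹ * k), ?_, by group⟩
  have k4 : (t * c * t)⁻¹ * (b⁻¹ * k) ∈ C[B] := mul_mem (inv_mem (k3 c hc)) k1
  have k5 : (t * c * t)⁻¹ * (b⁻¹ * k) ∈ C[(MulAut.conj t • B : Subgroup G)] := by
    rw [mem_C_conj, ti]
    have : t * ((t * c * t)⁻¹ * (b⁻¹ * k)) * t = t * b⁻¹ * t * (c⁻¹ * (t * k * t)) := by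
      have := w.comm c⁻¹ (inv_mem hc) b⁻¹ (inv_mem hb)
      calc _ = (t * t⁻¹) * (c⁻¹ * (t⁻¹ * b⁻¹ * t)) * (t⁻¹ * k * t) := by group
        _ = _ := by rw [mul_inv_cancel, ti, this]; group
    rw [this]
    exact mul_mem (k3 _ (inv_mem hb)) k2
  have : XX t B ≤ centralizer {(t * c * t)⁻¹ * (b⁻¹ * k)} :=
    sup_le (fun x hx => mem_centralizer_singleton_iff.2 (mem_C.1 k4 x hx))
      (fun x hx => mem_centralizer_singleton_iff.2 (mem_C.1 k5 x hx))
  exact mem_C.2 fun x hx => mem_centralizer_singleton_iff.1 (this hx)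

theorem B_le [F.Normal] (tt : t * t = 1) (e : EKQ p φ t B d) (w : Wr φ t B) (hA : φ.range ≤ F) :
    B ≤ F := by
  rw [← e.perf, commutator_le]
  intro b hb c hc
  rw [← QuotientGroup.eq_one_iff, ← QuotientGroup.mk'_apply, map_commutatorElement,
    commutatorElement_eq_one_iff_commute]
  have h1 : QuotientGroup.mk' F (t * c * t) = (QuotientGroup.mk' F c)⁻¹ := by
    refine eq_inv_of_mul_eq_one_right ?_
    rw [← map_mul, QuotientGroup.mk'_apply, QuotientGroup.eq_one_iff]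
    exact hA (w.into c hc)
  have h2 : Commute (QuotientGroup.mk' F b) (QuotientGroup.mk' F (t * c * t)) :=
    (show Commute b (t * c * t) from w.comm b hb c hc).map _
  rw [h1] at h2
  simpa using h2.inv_right

/-- `TT` for a subgroup containing the commutators. -/
theorem tt_sub [Finite G] (hT : TTStmt.{u}) {H K : Subgroup G} {y : G} (hF : F.Normal)
    (hp : ⁅F, F⁆ = F) (tt : t * t = 1) (ht : t ∈ H) (hH : ∀ g, g * t * g⁻¹ ∈ H → g ∈ H)
    (hK : ∀ a ∈ H ⊓ F, ∀ b ∈ H ⊓ F, a * b * a⁻¹ * b⁻¹ ∈ K) (hy : y ∈ H ⊓ F) (y2 : y * y = 1)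
    (yt : y * t = t * y)
    (h : ∀ g ∈ F, g * y * g⁻¹ ∈ H → (g * y * g⁻¹)⁻¹ * (t * (g * y * g⁻¹) * t) ∈ K) : y ∈ K := by
  haveI n : (K.subgroupOf (H ⊓ F)).Normal := ⟨fun k hk a => by
    have := mul_mem (hK a a.2 k k.2) (mem_subgroupOf.1 hk)
    rw [inv_mul_cancel_right] at this
    exact mem_subgroupOf.2 this⟩
  letI : CommGroup (↥(H ⊓ F) ⧸ K.subgroupOf (H ⊓ F)) :=
    { (inferInstance : Group (↥(H ⊓ F) ⧸ K.subgroupOf (H ⊓ F))) with
      mul_comm := fun a b => by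
        obtain ⟨a, rfl⟩ := QuotientGroup.mk_surjective a
        obtain ⟨b, rfl⟩ := QuotientGroup.mk_surjective b
        rw [← QuotientGroup.mk_mul, ← QuotientGroup.mk_mul, QuotientGroup.eq, mem_subgroupOf]
        simpa [mul_assoc] using hK b⁻¹ (inv_mem b.2) a⁻¹ (inv_mem a.2) }
  have := hT G F H t y _ (QuotientGroup.mk' (K.subgroupOf (H ⊓ F))) hF hp tt ht hH hy y2 yt
    (fun g hg u v e1 e2 => by
      rw [QuotientGroup.mk'_apply, QuotientGroup.mk'_apply, QuotientGroup.eq, mem_subgroupOf]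
      have := h g hg (e1 ▸ u.2.1)
      rw [← e1, ← e2] at this
      exact this)
  rw [QuotientGroup.mk'_apply, QuotientGroup.eq_one_iff, mem_subgroupOf] at this
  exact this

theorem comm_H0 (tt : t * t = 1) (e : EKQ p φ t B d) {a b : G} (ha : a ∈ N[XX t B])
    (hb : b ∈ N[XX t B]) : a * b * a⁻¹ * b⁻¹ ∈ H0 t B := by
  have ti : t⁻¹ = t := inv_eq_of_mul_eq_one_right tt
  rcases e.swap a ha with h | h <;> rcases e.swap b hb with k | k
  · exact mul_mem (mul_mem (mul_mem h k) (inv_mem h)) (inv_mem k)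
  · have := mul_mem (mul_mem (mul_mem h k) (conj_H0 tt (inv_mem h))) (inv_mem k)
    rwa [show a * (b * t) * (t * a⁻¹ * t) * (b * t)⁻¹ = a * b * (t * t) * a⁻¹ * b⁻¹ by group, tt,
      mul_one] at this
  · have := mul_mem (mul_mem (mul_mem h (conj_H0 tt k)) (inv_mem h)) (inv_mem k)
    rwa [show a * t * (t * b * t) * (a * t)⁻¹ * b⁻¹ = a * (t * t) * b * a⁻¹ * b⁻¹ by group, tt,
      mul_one] at this
  · have := mul_mem (mul_mem h (conj_H0 tt (mul_mem k (inv_mem h)))) (inv_mem k)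
    rwa [show a * t * (t * (b * t * (a * t)⁻¹) * t) * (b * t)⁻¹ = a * (t * t) * b * a⁻¹ * b⁻¹ by group,
      tt, mul_one] at this

/-- The elements of `H0` of sign one. -/
def KK (hb : Base Γ) (e : EKQ p φ t B d) : Subgroup G where
  carrier := {k | k ∈ H0 t B ∧ eps d k = 1}
  one_mem' := ⟨one_mem _, eps_one⟩
  mul_mem' := fun ha hb' => ⟨mul_mem ha.1 hb'.1, by rw [eps_mul hb e ha.1.1 hb'.1.1, ha.2, hb'.2, one_mul]⟩
  inv_mem' := fun ha => ⟨inv_mem ha.1, by rw [eps_inv hb e ha.1.1, ha.2]⟩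

theorem not_inn [Finite G] [F.Normal] (tt : t * t = 1) (e : EKQ p φ t B d) (w : Wr φ t B) (hB : B ≤ F)
    (ht : t ∉ F) {f : G} (hf : f ∈ F) (hk : f * t ∈ H0 t B) (h1 : eps d (f * t) = 1)
    (h2 : eps d (t * (f * t) * t) = 1) : False := by
  have ti : t⁻¹ = t := inv_eq_of_mul_eq_one_right tt
  obtain ⟨b, hb, c, hc, z, hz, k⟩ := dec_inn tt e w hk h1 h2
  have k1 : t * c * t ∈ F := by
    have := ‹F.Normal›.conj_mem c (hB hc) t
    rwa [ti] at this
  have k2 : QuotientGroup.mk' F t = QuotientGroup.mk' F z := by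
    have := congrArg (QuotientGroup.mk' F) k
    rwa [map_mul, map_mul (QuotientGroup.mk' F) (b * _), QuotientGroup.mk'_apply F f,
      QuotientGroup.mk'_apply F (b * _), (QuotientGroup.eq_one_iff f).2 hf,
      (QuotientGroup.eq_one_iff _).2 (mul_mem (hB hb) k1), one_mul, one_mul] at this
  obtain ⟨m, hm⟩ := e.codd
  have k3 : z ^ (2 * m + 1) = 1 := by
    have := pow_card_eq_one' (x := (⟨z, hz⟩ : C[XX t B]))
    rw [hm] at this
    exact congrArg Subtype.val this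
  have k4 := congrArg (QuotientGroup.mk' F) k3
  rw [map_pow, ← k2, ← map_pow, pow_succ, pow_mul, pow_two, tt, one_pow, one_mul, map_one,
    QuotientGroup.mk'_apply, QuotientGroup.eq_one_iff] at k4
  exact ht k4

theorem endS (hK : S93Q.EKStmt.{u}) (h3 : S93Q.E3Stmt.{u}) (h4 : S93Q.E4Stmt.{u}) (hT : TTStmt.{u})
    (h5 : S93Q.E5Stmt.{u}) (h6 : S93Q.E6Stmt.{u}) (h7 : S93Q.E7Stmt.{u}) : S93Q.EndStmt.{u} := by
  intro Γ Δ _ _ G _ _ p φ hv t F O B n mi mo mu ef as cx w hA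
  have hb := hv.base
  obtain ⟨d, e⟩ := hK Γ Δ G p φ hv t O B cx w
  haveI := as.normal
  have tt := cx.tt
  have ti := cx.tinv
  have hH : ∀ g, g * t * g⁻¹ ∈ N[XX t B] → g ∈ N[XX t B] := fun g hg =>
    h4 Γ Δ G p φ hv t O B d cx w e g hg (h3 Γ Δ G p φ hv t O B d n mi mo mu ef cx w e g)
  have hB := B_le tt e w hA
  have hp : ⁅F, F⁆ = F := by
    haveI := as.simple
    have h : ⁅(⊤ : Subgroup F), ⊤⁆ = ⊤ := (Normal.eq_bot_or_eq_top inferInstance).resolve_left fun h =>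
      as.nc ⟨⟨fun a b => commutatorElement_eq_one_iff_mul_comm.1
        (mem_bot.1 (h ▸ commutator_mem_commutator (mem_top a) (mem_top b)))⟩⟩
    have := congrArg (Subgroup.map F.subtype) h
    rwa [map_commutator, ← MonoidHom.range_eq_map, range_subtype] at this
  have s1 : ∀ y ∈ N[XX t B] ⊓ F, y * y = 1 → y * t = t * y → y ∈ H0 t B := fun y hy y2 yt =>
    tt_sub hT as.normal hp tt (t_mem tt) hH (fun a ha b hb => comm_H0 tt e ha.1 hb.1) hy y2 yt
      fun g _ hu => by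
        have := comm_H0 tt e (inv_mem hu) (t_mem tt)
        rwa [inv_inv, ti, mul_assoc, mul_assoc, ← mul_assoc t] at this
  have ht : t ∉ F := fun h => e.tH (s1 t ⟨t_mem tt, h⟩ tt rfl).1
  obtain ⟨h, h0, hh, hc, hF, α, a, na, hm⟩ := h6 Γ Δ G p φ hv t F O B d mu ef.oi as cx w e hB ht
    (h5 Γ Δ G p φ hv t F O B d n ef.syl as cx w e hB ht hH)
  have th : t * h * t = h := by rw [← hc, mul_assoc, tt, mul_one]
  rcases hF with hF | hF
  swap
  · have := s1 _ ⟨mul_mem (H0_le h0) (t_mem tt), hF⟩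
      (by rw [← mul_assoc, mul_assoc h, mul_assoc h, th, hh]) (by rw [← mul_assoc, ← hc])
    exact e.tH (by simpa using mul_mem (inv_mem (mem_inf.1 h0).1) (mem_inf.1 this).1)
  have eh : eps d h = -1 := (Int.units_eq_one_or _).resolve_left fun k => na ((eps_iff e h0.1 a).1 k)
  have mu := @eps_mul _ _ _ _ _ _ _ _ _ _ _ hb e
  have iv := @eps_inv _ _ _ _ _ _ _ _ _ _ _ hb e
  have tm : ∀ x y : G, t * (x * y) * t = t * x * t * (t * y * t) := fun x y => by
    rw [show t * x * t * (t * y * t) = t * x * (t * t) * y * t by group, tt]; group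
  have tv : ∀ x : G, t * x⁻¹ * t = (t * x * t)⁻¹ := fun x => by
    rw [mul_inv_rev, mul_inv_rev, ti, mul_assoc]
  have fin : (∀ a ∈ N[XX t B] ⊓ F, ∀ b ∈ N[XX t B] ⊓ F, eps d (a * b * a⁻¹ * b⁻¹) = 1) →
      (∀ g ∈ F, g * h * g⁻¹ ∈ N[XX t B] → g * h * g⁻¹ ∈ H0 t B ∧
        eps d (t * (g * h * g⁻¹) * t) = eps d (g * h * g⁻¹)) → False := fun k1 k2 => by
    have := tt_sub hT (K := KK hb e) as.normal hp tt (t_mem tt) hH
      (fun a ha b hb => ⟨comm_H0 tt e ha.1 hb.1, k1 a ha b hb⟩) ⟨H0_le h0, hF⟩ hh hc fun g hg hu => by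
        obtain ⟨k3, k4⟩ := k2 g hg hu
        exact ⟨mul_mem (inv_mem k3) (conj_H0 tt k3), by
          rw [mu (inv_mem k3.1) (conj_H0 tt k3).1, iv k3.1, k4, Int.units_mul_self]⟩
    rw [this.2] at eh
    exact absurd eh (by decide)
  have c0 : ∀ a ∈ H0 t B, ∀ b ∈ H0 t B, eps d (a * b * a⁻¹ * b⁻¹) = 1 := fun a ha b hb => by
    rw [mu (mul_mem (mul_mem ha.1 hb.1) (inv_mem ha.1)) (inv_mem hb.1),
      mu (mul_mem ha.1 hb.1) (inv_mem ha.1), mu ha.1 hb.1, iv ha.1, iv hb.1, mul_right_comm (eps d a),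
      Int.units_mul_self, one_mul, Int.units_mul_self]
  by_cases hle : N[XX t B] ⊓ F ≤ H0 t B
  · refine fin (fun a ha b hb => c0 a (hle ha) b (hle hb)) fun g hg hu => ?_
    have k := hle ⟨hu, as.normal.conj_mem h hF g⟩
    obtain ⟨β, b⟩ := e.aut _ k.1
    obtain ⟨γ, c⟩ := e.aut _ (conj_H0 tt k).1
    have := h7 Γ Δ G p φ hv t F O B d n mi mo _ h α ef as cx w e hB ht hH hle ⟨h0, hF⟩ hh hc a hm g hg β γ k b c
    rw [← eps_iff e k.1 b, ← eps_iff e (conj_H0 tt k).1 c] at this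
    refine ⟨k, ?_⟩
    generalize eps d (t * (g * h * g⁻¹) * t) = x at *
    generalize eps d (g * h * g⁻¹) = y at *
    revert this
    rcases Int.units_eq_one_or x with rfl | rfl <;> rcases Int.units_eq_one_or y with rfl | rfl <;> decide
  obtain ⟨f, hf, nf⟩ := SetLike.not_le_iff_exists.1 hle
  have f0 := (e.swap f hf.1).resolve_left nf
  have p1 : ∀ f ∈ F, f * t ∈ H0 t B → eps d (t * (f * t) * t) = -eps d (f * t) := fun f hf k => by
    have k1 := not_inn tt e w hB ht hf k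
    have k2 := not_inn tt e w hB ht (mul_mem hF hf) (mul_assoc h f t ▸ mul_mem h0 k)
    rw [mul_assoc h, tm h, th, mu h0.1 k.1, mu h0.1 (conj_H0 tt k).1, eh] at k2
    generalize eps d (t * (f * t) * t) = x at *
    generalize eps d (f * t) = y at *
    revert k1 k2
    rcases Int.units_eq_one_or x with rfl | rfl <;> rcases Int.units_eq_one_or y with rfl | rfl <;> decide
  have p2 : ∀ k ∈ F, k ∈ H0 t B → eps d (t * k * t) = eps d k := fun k hk k0 => by
    have k1 := p1 _ (mul_mem hk hf.2) (mul_assoc k f t ▸ mul_mem k0 f0)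
    rw [mul_assoc k, tm k, mu k0.1 f0.1, mu (conj_H0 tt k0).1 (conj_H0 tt f0).1, p1 f hf.2 f0, mul_neg,
      neg_inj] at k1
    exact mul_right_cancel k1
  refine fin (fun a ha b hb => ?_) fun g hg hu => ?_
  · rcases e.swap a ha.1 with h | h <;> rcases e.swap b hb.1 with k | k
    · exact c0 a h b k
    · have e1 : a * b * a⁻¹ * b⁻¹ = a * (b * t) * (t * a⁻¹ * t) * (b * t)⁻¹ := by
        rw [show a * (b * t) * (t * a⁻¹ * t) * (b * t)⁻¹ = a * b * (t * t) * a⁻¹ * b⁻¹ by group, tt, mul_one]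
      rw [e1, mu (mul_mem (mul_mem h.1 k.1) (conj_H0 tt (inv_mem h)).1) (inv_mem k.1),
        mu (mul_mem h.1 k.1) (conj_H0 tt (inv_mem h)).1, mu h.1 k.1, p2 _ (inv_mem ha.2) (inv_mem h),
        iv h.1, iv k.1, mul_right_comm (eps d a), Int.units_mul_self, one_mul, Int.units_mul_self]
    · have e1 : a * b * a⁻¹ * b⁻¹ = a * t * (t * b * t) * (a * t)⁻¹ * b⁻¹ := by
        rw [show a * t * (t * b * t) * (a * t)⁻¹ * b⁻¹ = a * (t * t) * b * a⁻¹ * b⁻¹ by group, tt, mul_one]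
      rw [e1, mu (mul_mem (mul_mem h.1 (conj_H0 tt k).1) (inv_mem h.1)) (inv_mem k.1),
        mu (mul_mem h.1 (conj_H0 tt k).1) (inv_mem h.1), mu h.1 (conj_H0 tt k).1, p2 _ hb.2 k,
        iv h.1, iv k.1, mul_right_comm (eps d (a * t)), Int.units_mul_self, one_mul, Int.units_mul_self]
    · have e1 : a * b * a⁻¹ * b⁻¹ = a * t * (t * (b * t) * t) * (t * (a * t) * t)⁻¹ * (b * t)⁻¹ := by
        rw [show a * t * (t * (b * t) * t) * (t * (a * t) * t)⁻¹ * (b * t)⁻¹ =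
          a * (t * t) * b * a⁻¹ * (t * t)⁻¹ * b⁻¹ by group, tt]
        group
      rw [e1, mu (mul_mem (mul_mem h.1 (conj_H0 tt k).1) (inv_mem (conj_H0 tt h).1)) (inv_mem k.1),
        mu (mul_mem h.1 (conj_H0 tt k).1) (inv_mem (conj_H0 tt h).1), mu h.1 (conj_H0 tt k).1,
        iv (conj_H0 tt h).1, iv k.1, p1 _ ha.2 h, p1 _ hb.2 k]
      rcases Int.units_eq_one_or (eps d (a * t)) with e2 | e2 <;>
        rcases Int.units_eq_one_or (eps d (b * t)) with e3 | e3 <;> rw [e2, e3] <;> decide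
  · have uF := as.normal.conj_mem h hF g
    have u2 : g * h * g⁻¹ * (g * h * g⁻¹) = 1 := by
      rw [show g * h * g⁻¹ * (g * h * g⁻¹) = g * (h * h) * g⁻¹ by group, hh]; group
    generalize g * h * g⁻¹ = u at *
    have k : u ∈ H0 t B := (e.swap u hu).resolve_right fun k => by
      have k1 := mu k.1 (conj_H0 tt k).1
      rw [show u * t * (t * (u * t) * t) = u * (t * t) * u * (t * t) by group, tt, mul_one, mul_one, u2,
        eps_one, p1 u uF k, mul_neg, Int.units_mul_self] at k1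
      exact absurd k1 (by decide)
    exact ⟨k, p2 u uF k⟩

theorem eqns_s93end : True := by
  have := @eps.eq_1.{0}
  have := @KK.eq_1.{0}
  trivial

end Cfsg.Agent.H19.S93End
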