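import Cfsg.Agent.H19.S93Defs

/-!
# Basic facts about odd central covers and the context `Cx`
-/

set_option autoImplicit false
open scoped Pointwise commutatorElement
open Subgroup

namespace Cfsg.Agent.H19.S93Q
open Cfsg.Agent.H8 Cfsg.Agent.H23.D2 Cfsg.Agent.H46.S95

universe u

local notation "C[" A "]" => Subgroup.centralizer (SetLike.coe A)
local notation "N[" A "]" => Subgroup.normalizer (SetLike.coe A)

variable {Γ Δ : Type} [Group Γ] [Group Δ] {G : Type u} [Group G] {p : Δ →* Γ} {φ : Δ →* G} {t : G}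
  {O : Subgroup G}

theorem pow_odd_of_sq {K : Type*} [Group K] {x : K} (h : x * x = 1) {m : ℕ} (hm : Odd m) :
    x ^ m = x := by
  obtain ⟨k, rfl⟩ := hm
  rw [pow_succ, pow_mul, pow_two, h, one_pow, one_mul]

namespace Cv
variable (hv : Cv p)
include hv

theorem ker_iff {a : Δ} : p a = 1 ↔ ∀ x, a * x = x * a :=
  ⟨hv.cen a, fun h => hv.base.eq_one fun y => by
    obtain ⟨x, rfl⟩ := hv.surj y
    rw [← map_mul, h, map_mul]⟩

theorem ker_odd {a : Δ} (h : p a = 1) : Odd (orderOf a) :=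
  hv.odd.of_dvd_nat (p.ker.orderOf_dvd_natCard h)

theorem two_one {a : Δ} (h : p a = 1) {n : ℕ} (e : a ^ 2 ^ n = 1) : a = 1 :=
  eq_one_of_odd_two (hv.ker_odd h) e

theorem sq_one {a : Δ} (h : p a = 1) (e : a * a = 1) : a = 1 :=
  hv.two_one h (n := 1) (by rw [pow_one, pow_two, e])

/-- an odd power of a lift of an involution is an involution -/
theorem odd_pow {a : Δ} (h : p a * p a = 1) :
    ∃ m, Odd m ∧ a ^ m * a ^ m = 1 ∧ p (a ^ m) = p a := by
  have o := hv.ker_odd (a := a * a) (by rw [map_mul, h])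
  refine ⟨_, o, ?_, by rw [map_pow, pow_odd_of_sq h o]⟩
  rw [← (Commute.refl a).mul_pow, pow_orderOf_eq_one]

theorem lift_inv {c : Γ} (h : c * c = 1) : ∃ a, a * a = 1 ∧ p a = c := by
  obtain ⟨a, rfl⟩ := hv.surj c
  obtain ⟨m, -, h1, h2⟩ := hv.odd_pow h
  exact ⟨_, h1, h2⟩

theorem inv_eq {a b : Δ} (ha : a * a = 1) (hb : b * b = 1) (e : p a = p b) : a = b := by
  have h1 : p (a⁻¹ * b) = 1 := by rw [map_mul, map_inv, e, inv_mul_cancel]
  have h2 := hv.cen _ h1 a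
  have h3 : a⁻¹ * b = 1 := hv.sq_one h1 (by
    rw [inv_eq_of_mul_eq_one_right ha] at h2 ⊢
    rw [← mul_assoc, h2, ← mul_assoc, ha, one_mul, hb])
  exact inv_mul_eq_one.1 h3

theorem comm_of {a l : Δ} (ha : a * a = 1) (h : p l * p a = p a * p l) : l * a = a * l :=
  mul_inv_eq_iff_eq_mul.1 (hv.inv_eq (by rw [conj_mul, ha]; simp) ha (by
    rw [map_mul, map_mul, h, map_inv, mul_inv_cancel_right]))

theorem map_Cz {a : Δ} (ha : a * a = 1) : (Cz a).map p = Cz (p a) := by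
  refine le_antisymm ?_ fun c hc => ?_
  · rintro _ ⟨l, hl, rfl⟩
    exact mem_Cz.2 (by rw [← map_mul, mem_Cz.1 hl, map_mul])
  · obtain ⟨l, rfl⟩ := hv.surj c
    exact ⟨l, mem_Cz.2 (hv.comm_of ha (mem_Cz.1 hc)), rfl⟩

theorem br {a b z w : Δ} (hz : p z = 1) (hw : p w = 1) : ⁅a * z, b * w⁆ = ⁅a, b⁆ := by
  have h1 := hv.cen z hz
  have h2 := hv.cen w⁻¹ (by rw [map_inv, hw, inv_one])
  rw [commutatorElement_def, commutatorElement_def]
  calc a * z * (b * w) * (a * z)⁻¹ * (b * w)⁻¹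
      = a * (z * (b * w)) * z⁻¹ * a⁻¹ * w⁻¹ * b⁻¹ := by group
    _ = a * b * (w * (a⁻¹ * w⁻¹)) * b⁻¹ := by rw [h1]; group
    _ = _ := by rw [← h2]; group

theorem top_of_map {H : Subgroup Δ} (h : H.map p = ⊤) : H = ⊤ := by
  have k : ∀ a, ∃ x ∈ H, ∃ z, p z = 1 ∧ a = x * z := fun a => by
    obtain ⟨x, hx, e⟩ := h.ge (mem_top (p a))
    exact ⟨x, hx, x⁻¹ * a, by rw [map_mul, map_inv, e, inv_mul_cancel], by group⟩
  rw [eq_top_iff, ← hv.perf, commutator_le]
  intro a _ b _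
  obtain ⟨x, hx, z, hz, rfl⟩ := k a
  obtain ⟨y, hy, w, hw, rfl⟩ := k b
  rw [hv.br hz hw, commutatorElement_def]
  exact mul_mem (mul_mem (mul_mem hx hy) (inv_mem hx)) (inv_mem hy)

theorem normal_cases (M : Subgroup Δ) [hM : M.Normal] : (∀ a ∈ M, p a = 1) ∨ M = ⊤ := by
  have := hv.base.simple
  exact (hM.map p hv.surj).eq_bot_or_eq_top.imp
    (fun e a ha => mem_bot.1 (e.le (mem_map_of_mem p ha))) hv.top_of_map

theorem aut_one {α : MulAut Δ} (h : ∀ a, p (α a) = p a) : α = 1 := by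
  have : (⊤ : Subgroup Δ) ≤ α.toMonoidHom.eqLocus (MonoidHom.id Δ) := by
    rw [← hv.perf, commutator_le]
    intro a _ b _
    change α ⁅a, b⁆ = ⁅a, b⁆
    rw [map_commutatorElement, ← mul_inv_cancel_left a (α a), ← mul_inv_cancel_left b (α b)]
    exact hv.br (by rw [map_mul, map_inv, h, inv_mul_cancel]) (by rw [map_mul, map_inv, h, inv_mul_cancel])
  exact MulEquiv.ext fun a => this (mem_top a)

theorem ker_aut (α : MulAut Δ) {a : Δ} (h : p a = 1) : p (α a) = 1 :=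
  hv.ker_iff.2 fun x => by
    obtain ⟨y, rfl⟩ := α.surjective x
    rw [← map_mul, hv.cen a h, map_mul]

theorem exists_ind (α : MulAut Δ) : ∃ β : MulAut Γ, ∀ a, β (p a) = p (α a) := by
  have := hv.base.fin
  let f : Γ →* Γ := p.liftOfSurjective hv.surj ⟨p.comp α.toMonoidHom, fun _ e => hv.ker_aut α e⟩
  have hf : ∀ a, f (p a) = p (α a) := fun a => p.liftOfRightInverse_comp_apply _ _ _ a
  have sf : Function.Surjective f := fun y => by
    obtain ⟨a, rfl⟩ := hv.surj y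
    exact ⟨p (α.symm a), by rw [hf, MulEquiv.apply_symm_apply]⟩
  exact ⟨MulEquiv.ofBijective f ⟨Finite.injective_iff_surjective.2 sf, sf⟩, hf⟩

/-- the induced automorphisms -/
theorem exists_indHom : ∃ θ : MulAut Δ →* MulAut Γ, Function.Injective θ ∧
    (∀ α a, θ α (p a) = p (α a)) ∧ ∀ α, Inn (θ α) ↔ Inn α := by
  choose f hf using hv.exists_ind
  let θ : MulAut Δ →* MulAut Γ := MonoidHom.mk' f fun α β => MulEquiv.ext fun y => by
    obtain ⟨a, rfl⟩ := hv.surj y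
    rw [MulAut.mul_apply, hf, hf, hf, MulAut.mul_apply]
  have hi : Function.Injective θ := (injective_iff_map_eq_one θ).2 fun α e =>
    hv.aut_one fun a => by rw [← hf]; exact DFunLike.congr_fun e (p a)
  have hc : ∀ c, θ (MulAut.conj c) = MulAut.conj (p c) := fun c => MulEquiv.ext fun y => by
    obtain ⟨a, rfl⟩ := hv.surj y
    exact (hf _ a).trans (by simp)
  refine ⟨θ, hi, hf, fun α => ⟨fun ⟨c, e⟩ => ?_, fun ⟨c, e⟩ => ⟨p c, e ▸ hc c⟩⟩⟩
  obtain ⟨c, rfl⟩ := hv.surj c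
  exact ⟨c, hi (e.trans (hc c).symm)⟩

theorem out (α β : MulAut Δ) : Inn α ∨ Inn β ∨ Inn (α * β) := by
  obtain ⟨θ, -, -, h⟩ := hv.exists_indHom
  rw [← h, ← h, ← h, map_mul]
  exact hv.base.out _ _

theorem sq (α : MulAut Δ) : Inn (α * α) := by
  rcases hv.out α α with h | h | h
  exacts [h.mul h, h.mul h, h]

theorem comm (α β : MulAut Δ) : Inn (α * β * α⁻¹ * β⁻¹) := by
  obtain ⟨θ, -, -, h⟩ := hv.exists_indHom
  rw [← h]
  simpa only [map_mul, map_inv] using hv.base.comm (θ α) (θ β)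

theorem cm (a : Δ) (ha : a * a = 1) : a ∈ ⁅Cz a, Cz a⁆ := by
  have h1 := hv.base.cm (p a) (by rw [← map_mul, ha, map_one])
  rw [← hv.map_Cz ha, ← map_commutator] at h1
  obtain ⟨x, hx, e⟩ := h1
  obtain ⟨m, -, h2, h3⟩ := hv.odd_pow (a := x) (by rw [e, ← map_mul, ha, map_one])
  exact hv.inv_eq h2 ha (h3.trans e) ▸ pow_mem hx m

theorem nc : ¬ IsMulCommutative Δ := fun h => hv.base.nc ⟨⟨fun x y => by
  obtain ⟨a, rfl⟩ := hv.surj x
  obtain ⟨b, rfl⟩ := hv.surj y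
  rw [← map_mul, h.is_comm.comm, map_mul]⟩⟩

theorem syl_le {n : ℕ} (hs : SylF Γ n) (P : Subgroup Δ) (hP : IsPGroup 2 P) : Nat.card P ≤ n := by
  have := hv.base.fin
  refine le_trans ?_ (hs.le _ (hP.map p))
  refine Nat.card_le_card_of_injective (p.subgroupMap P) ((injective_iff_map_eq_one _).2 fun x e => ?_)
  obtain ⟨k, hk⟩ := hP x
  exact Subtype.ext (hv.two_one (congrArg Subtype.val e) (congrArg Subtype.val hk))

/-- the automorphisms of the simple group induced by the normaliser -/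
theorem exists_autHom (hi : Function.Injective φ) : ∃ θ : N[φ.range] →* MulAut Γ,
    (∀ (h : N[φ.range]) a b, φ b = h * φ a * (h : G)⁻¹ → θ h (p a) = p b) ∧
    ∀ h, θ h = 1 ↔ (h : G) ∈ C[φ.range] := by
  obtain ⟨η, hη⟩ := H46.S95.exists_autHom hi
  obtain ⟨θ, h1, h2, -⟩ := hv.exists_indHom
  refine ⟨θ.comp η, fun h a b e => ?_, fun h => ?_⟩
  · rw [MonoidHom.comp_apply, h2, hi ((hη h a).trans e.symm)]
  · rw [MonoidHom.comp_apply, map_eq_one_iff θ h1, mem_C_range]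
    refine ⟨fun e a => ?_, fun e => MulEquiv.ext fun a => hi ?_⟩
    · have := hη h a
      rw [e] at this
      exact eq_mul_inv_iff_mul_eq.1 this
    · rw [hη, ← e, mul_inv_cancel_right, MulAut.one_apply]

theorem of_C (hi : Function.Injective φ) {a : Δ} (h : φ a ∈ C[φ.range]) : p a = 1 :=
  hv.ker_iff.2 fun x => hi (by rw [map_mul, map_mul, mem_C_range.1 h x])

theorem to_C {a : Δ} (h : p a = 1) : φ a ∈ C[φ.range] :=
  mem_C_range.2 fun x => by rw [← map_mul, ← hv.cen a h, map_mul]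

/-- an element acting trivially modulo the centre centralises -/
theorem C_of (hi : Function.Injective φ) {x : G} {α : MulAut Δ} (hα : ∀ a, φ (α a) = x * φ a * x⁻¹)
    (h : ∀ a, p (α a) = p a) : x ∈ C[φ.range] := mem_C_range.2 fun a => by
  have := hα a
  rw [hv.aut_one h] at this
  exact eq_mul_inv_iff_mul_eq.1 this

end Cv

end Cfsg.Agent.H19.S93Q

namespace Cfsg.Agent.H46.S95.Cx
open Cfsg.Agent.H8 Cfsg.Agent.H23.D2 Cfsg.Agent.H19.S93Q

universe u

local notation "C[" A "]" => Subgroup.centralizer (SetLike.coe A)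

variable {Γ Δ : Type} [Group Γ] [Group Δ] {G : Type u} [Group G] {p : Δ →* Γ} {φ : Δ →* G} {t : G}
  {O : Subgroup G} (h : Cx φ t O)
include h

theorem odd_centQ {x : G} (hc : x * t = t * x) (hx : x ∈ C[φ.range]) (o : Odd (orderOf x)) :
    x ∈ O := by
  refine (h.tr x hc hx).elim id fun m => ?_
  have e : (x * t) ^ orderOf x = t := by
    rw [Commute.mul_pow hc, pow_orderOf_eq_one, one_mul, pow_odd_of_sq h.tt o]
  exact absurd (e ▸ pow_mem m _) h.tO

theorem AOQ (hv : Cv p) {a : Δ} : φ a ∈ O ↔ p a = 1 :=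
  ⟨fun ha => hv.of_C h.inj (h.OC ha), fun ha => h.odd_centQ (h.AC a) (hv.to_C ha)
    (by rw [orderOf_injective φ h.inj]; exact hv.ker_odd ha)⟩

theorem tAQ (hv : Cv p) (a : Δ) : φ a ≠ t := fun e =>
  h.tO (e ▸ (h.AOQ hv).2 (hv.of_C h.inj (e ▸ h.tC)))

theorem two_memQ (_ : Cv p) {x : G} (hx : x ∈ φ.range ⊔ O) {n : ℕ} (e : x ^ 2 ^ n = 1) :
    x ∈ φ.range := by
  obtain ⟨a, o, ho, rfl⟩ := h.mem_sup.1 hx
  refine mul_mem ⟨a, rfl⟩ ?_
  have c : Commute (φ a) o := h.oA ho a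
  have k : o ^ 2 ^ n ∈ φ.range := by
    rw [c.mul_pow] at e
    rw [eq_inv_of_mul_eq_one_right e]
    exact Subgroup.inv_mem _ (pow_mem (MonoidHom.mem_range.2 ⟨a, rfl⟩) _)
  have : (2 ^ n).Coprime (orderOf o) :=
    Nat.Coprime.pow_left n (Nat.coprime_two_left.2 (h.odd_ord ho))
  obtain ⟨m, hm⟩ := exists_pow_eq_self_of_coprime this
  exact hm ▸ pow_mem k m

theorem inv_memQ (hv : Cv p) {x : G} (hx : x ∈ φ.range ⊔ O) (e : x * x = 1) : x ∈ φ.range :=
  h.two_memQ hv hx (n := 1) (by rw [pow_one, pow_two, e])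

theorem t_nmQ (hv : Cv p) : t ∉ φ.range ⊔ O := fun m => by
  obtain ⟨a, e⟩ := h.inv_memQ hv m h.tt
  exact h.tAQ hv a e

theorem derQ (hv : Cv p) : ⁅centralizer {t}, centralizer {t}⁆ ≤ φ.range ⊔ O := by
  refine commutator_le.2 fun c hc d hd => ?_
  rw [mem_centralizer_singleton_iff] at hc hd
  obtain ⟨α, hα⟩ := h.aut hc
  obtain ⟨β, hβ⟩ := h.aut hd
  rw [commutatorElement_def]
  rcases hv.out α β with i | i | i
  · exact h.br_mem hd (h.inn_mem hc hα i)
  · have := Subgroup.inv_mem _ (h.br_mem hc (h.inn_mem hd hβ i))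
    simpa [mul_assoc] using this
  · have hcd : c * d * t = t * (c * d) := by rw [mul_assoc, hd, ← mul_assoc, hc, mul_assoc]
    have := h.br_mem hd (h.inn_mem hcd (α := α * β)
      (fun a => by rw [MulAut.mul_apply, hα, hβ]; group) i)
    simpa [mul_assoc] using this

theorem mem_conj_rangeQ (hv : Cv p) {g : G} {a : Δ} (ha : a * a = 1)
    (hc : ∀ x, x * a = a * x → φ x * (g * t * g⁻¹) = g * t * g⁻¹ * φ x) :
    ∃ b, φ a = g * φ b * g⁻¹ := by
  have k := h.conj g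
  have m : φ a ∈ ⁅centralizer {g * t * g⁻¹}, centralizer {g * t * g⁻¹}⁆ := by
    have l : (Cz a).map φ ≤ centralizer {g * t * g⁻¹} := by
      rintro _ ⟨x, hx, rfl⟩
      exact mem_centralizer_singleton_iff.2 (hc x (mem_Cz.1 hx))
    refine commutator_mono l l ?_
    rw [← map_commutator]
    exact mem_map_of_mem _ (hv.cm a ha)
  obtain ⟨b, e⟩ := k.inv_memQ hv (k.derQ hv m) (by rw [← map_mul, ha, map_one])
  exact ⟨b, e.symm⟩

theorem not_conjQ (hv : Cv p) (g : G) (a : Δ) : g * t * g⁻¹ ≠ φ a := fun e => by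
  have ha : a * a = 1 := h.inj (by rw [map_mul, ← e, (h.conj g).tt, map_one])
  obtain ⟨b, k⟩ := h.mem_conj_rangeQ hv (g := g) ha fun x hx => by
    rw [e, ← map_mul, ← map_mul, hx]
  exact h.tAQ hv b (by simpa using (e.trans k).symm)

theorem swapQ (hv : Cv p) {z : Δ} (hz : z * z = 1) (i : IsConj t (t * φ z)) :
    ∃ g a, g * t * g⁻¹ = t * φ z ∧ g * φ a * g⁻¹ = φ z ∧ g * (t * φ a) * g⁻¹ = t := by
  obtain ⟨g, e⟩ := isConj_iff.1 i
  obtain ⟨a, k⟩ := h.mem_conj_rangeQ hv (g := g) hz fun x hx => by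
    rw [e, ← mul_assoc, h.AC, mul_assoc, mul_assoc, ← map_mul, ← map_mul, hx]
  refine ⟨g, a, e, k.symm, ?_⟩
  calc g * (t * φ a) * g⁻¹ = g * t * g⁻¹ * (g * φ a * g⁻¹) := by group
    _ = t := by rw [e, ← k, mul_assoc, ← map_mul, hz, map_one, mul_one]

theorem card_twoQ [Finite G] (hv : Cv p) {n : ℕ} (hs : SylF Γ n) {P : Subgroup G}
    (hP : IsPGroup 2 P) (hc : P ≤ centralizer {t}) : Nat.card P ≤ 4 * n := by
  classical
  have := hv.fin
  have c : ∀ x ∈ P, x * t = t * x := fun x hx => mem_centralizer_singleton_iff.1 (hc hx)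
  let P0 := P ⊓ φ.range
  have h0 : Nat.card P0 ≤ n := by
    have e : (P0.comap φ).map φ = P0 := map_comap_eq_self inf_le_right
    rw [← e, card_map_of_injective h.inj]
    exact hv.syl_le hs _ ((hP.to_le inf_le_left).comap_of_injective φ h.inj)
  let S : Subgroup G :=
    { carrier := {x | x ∈ P ∧ (x ∈ φ.range ⊔ O ∨ x * t ∈ φ.range ⊔ O)}
      one_mem' := ⟨P.one_mem, Or.inl (one_mem _)⟩
      mul_mem' := by
        rintro x y ⟨hx, a | a⟩ ⟨hy, b | b⟩ <;> refine ⟨P.mul_mem hx hy, ?_⟩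
        · exact Or.inl (mul_mem a b)
        · exact Or.inr (by simpa [mul_assoc] using mul_mem a b)
        · refine Or.inr ?_
          have := mul_mem a b
          rwa [mul_assoc, ← c y hy, ← mul_assoc] at this
        · refine Or.inl ?_
          have := mul_mem a b
          rwa [mul_assoc, c y hy, ← mul_assoc t t, h.tt, one_mul] at this
      inv_mem' := by
        rintro x ⟨hx, a | a⟩ <;> refine ⟨P.inv_mem hx, ?_⟩
        · exact Or.inl (Subgroup.inv_mem _ a)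
        · refine Or.inr ?_
          have := Subgroup.inv_mem _ a
          rwa [c x hx, mul_inv_rev, h.tinv] at this }
  have two : ∀ {H K : Subgroup G}, H ≤ K → (∀ x ∈ K, ∀ y ∈ K, x ∉ H → y ∉ H → x * y ∈ H) →
      Nat.card K ≤ 2 * Nat.card H := fun {H K} l k => by
    by_cases e : K ≤ H
    · have := card_le_of_le e
      omega
    · obtain ⟨a, ha, na⟩ := SetLike.not_le_iff_exists.1 e
      have i : (H.subgroupOf K).index = 2 := index_eq_two_iff.2 ⟨⟨a, ha⟩, fun b => by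
        by_cases m : (b : G) ∈ H
        · refine Or.inr ⟨m, fun w => na ?_⟩
          exact (H.mul_mem_cancel_left m).1 w
        · exact Or.inl ⟨k _ b.2 _ ha m na, m⟩⟩
      have := (H.subgroupOf K).index_mul_card
      rw [i, Nat.card_congr (subgroupOfEquivOfLe l).toEquiv] at this
      omega
  have two' : ∀ x ∈ P, ∃ k, x ^ 2 ^ k = 1 := fun x hx => by
    obtain ⟨k, e⟩ := hP ⟨x, hx⟩
    exact ⟨k, by simpa using congrArg Subtype.val e⟩
  have h1 : Nat.card P ≤ 2 * Nat.card S := two (fun x hx => hx.1) fun x hx y hy nx ny => by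
    obtain ⟨α, hα⟩ := h.aut (c x hx)
    obtain ⟨β, hβ⟩ := h.aut (c y hy)
    rcases hv.out α β with i | i | i
    · exact absurd ⟨hx, h.inn_mem (c x hx) hα i⟩ nx
    · exact absurd ⟨hy, h.inn_mem (c y hy) hβ i⟩ ny
    · exact ⟨P.mul_mem hx hy, h.inn_mem (c _ (P.mul_mem hx hy)) (α := α * β)
        (fun a => by rw [MulAut.mul_apply, hα, hβ]; group) i⟩
  have mem : ∀ x ∈ P, x ∈ φ.range ⊔ O → x ∈ P0 := fun x hx m => by
    obtain ⟨k, e⟩ := two' x hx
    exact ⟨hx, h.two_memQ hv m e⟩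
  have h2 : Nat.card S ≤ 2 * Nat.card P0 :=
    two (fun x hx => ⟨hx.1, Or.inl (mem_sup_left hx.2)⟩) fun x hx y hy nx ny => by
      have a := hx.2.resolve_left fun m => nx (mem x hx.1 m)
      have b := hy.2.resolve_left fun m => ny (mem y hy.1 m)
      refine mem _ (P.mul_mem hx.1 hy.1) ?_
      have := mul_mem a b
      rwa [mul_assoc, c y hy.1, ← mul_assoc t t, h.tt, one_mul] at this
  omega

end Cfsg.Agent.H46.S95.Cx
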