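import Cfsg.Agent.H19.S93Kit
import Cfsg.Agent.H36.S95RedC
import Cfsg.Agent.H45.SStart

/-!
# Odd central covers: the pieces REDC and START
-/

set_option autoImplicit false
set_option linter.unusedSectionVars false
open scoped Pointwise commutatorElement
open Subgroup

namespace Cfsg.Agent.H19.S93R
open Cfsg.Agent.H8 Cfsg.Agent.H23.D2 Cfsg.Agent.H10.Std Cfsg.Agent.H46.S95 Cfsg.Agent.H19.S93Q
open Cfsg.Agent.H36.S95C (core_bot not_normal inner mem_of_inn exists_compl)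
open Cfsg.Agent.H45.SSt (exists_u)

universe u

local notation "C[" A "]" => Subgroup.centralizer (SetLike.coe A)
local notation "N[" A "]" => Subgroup.normalizer (SetLike.coe A)

variable {Γ Δ : Type} [Group Γ] [Group Δ] {G : Type u} [Group G] [Finite G] {p : Δ →* Γ} {φ : Δ →* G}
  {t : G} {F O : Subgroup G}

theorem two (hb : Cv p) (hi : Function.Injective φ) {c d : G} (hc : c ∈ N[φ.range])
    (hd : d ∈ N[φ.range]) : c ∈ φ.range ⊔ C[φ.range] ∨ d ∈ φ.range ⊔ C[φ.range] ∨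
      c * d ∈ φ.range ⊔ C[φ.range] := by
  obtain ⟨θ, hθ⟩ := exists_autHom hi
  exact (hb.out (θ ⟨c, hc⟩) (θ ⟨d, hd⟩)).imp (mem_of_inn (hθ ⟨c, hc⟩)) (Or.imp (mem_of_inn (hθ ⟨d, hd⟩))
    fun e => mem_of_inn (hθ (⟨c, hc⟩ * ⟨d, hd⟩)) (map_mul θ _ _ ▸ e))

theorem der (hb : Cv p) (hi : Function.Injective φ) :
    ⁅N[φ.range], N[φ.range]⁆ ≤ φ.range ⊔ C[φ.range] := commutator_le.2 fun c hc d hd => by
  obtain ⟨θ, hθ⟩ := exists_autHom hi
  refine mem_of_inn (hθ (⟨c, hc⟩ * ⟨d, hd⟩ * ⟨c, hc⟩⁻¹ * ⟨d, hd⟩⁻¹)) ?_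
  simpa only [map_mul, map_inv] using hb.comm (θ ⟨c, hc⟩) (θ ⟨d, hd⟩)

theorem not_four (hb : Cv p) (ho : OutF Δ) (hi : Function.Injective φ)
    (hA : IsStandardSubgroup φ.range) (hF : AS F)
    (h4 : ∀ g ∉ N[φ.range], ¬ 4 ∣ Nat.card (JJ φ g)) : ¬ 4 ∣ Nat.card C[φ.range] := by
  obtain ⟨g, hg, u, hu, ou⟩ := exists_even hA (core_bot hF) (not_normal hF hA)
  obtain ⟨α, hα⟩ := exists_aut hi hu.2
  by_cases hin : H46.S95.Inn α
  · exact red_two hA hg ou hu (h4 g hg) (inner (mem_of_inn hα hin))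
  have uu := sq_of_ord ou
  obtain ⟨E, hE, hc⟩ := ho α (MulEquiv.ext fun a => hi (by
    rw [MulAut.mul_apply, hα, hα, MulAut.one_apply, ← mul_assoc, ← mul_assoc, uu, mul_assoc,
      mul_assoc, ← mul_inv_rev, uu]; simp)) hin
  have hi' : Function.Injective ((MulAut.conj g).toMonoidHom.comp φ) :=
    (MulAut.conj g).injective.comp hi
  have t2 := @two _ _ _ _ _ _ _ _ _ hb hi'
  have d2 := der hb hi'
  rw [range_conj] at t2 d2
  set A := φ.range
  have uK : u ∈ C[(MulAut.conj g • A : Subgroup G)] := by rw [centralizer_conj_smul]; exact hu.1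
  have cN : ∀ x, x * u = u * x → x ∈ N[(MulAut.conj g • A : Subgroup G)] := fun x e =>
    cent_le_norm (std_conj hA g) ou uK (mem_cent1.2 e)
  have cu : ∀ x, α x = x → φ x * u = u * φ x := fun x e => by
    rw [mul_inv_eq_iff_eq_mul.1 (hα x).symm, e]
  obtain ⟨e, he, e1, zi⟩ : ∃ e ∈ E, e ≠ 1 ∧
      φ e ∈ MulAut.conj g • A ⊔ C[(MulAut.conj g • A : Subgroup G)] := by
    rcases hc with hc | ⟨hc, X, h1, h2⟩
    · have := hb.fin
      obtain ⟨a, b, a1, b1, ab⟩ : ∃ a b : E, a ≠ 1 ∧ b ≠ 1 ∧ a ≠ b := by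
        have := Fintype.ofFinite E
        obtain ⟨a, b, c, h1, h2, h3⟩ := Fintype.two_lt_card_iff.1
          (show 2 < Fintype.card E by rw [← Nat.card_eq_fintype_card]; omega)
        by_cases ha : a = 1
        · exact ⟨b, c, ha ▸ h1.symm, ha ▸ h2.symm, h3⟩
        by_cases hb : b = 1
        exacts [⟨a, c, ha, hb ▸ h3.symm, h2⟩, ⟨a, b, ha, hb, h1⟩]
      rcases t2 (cN _ (cu _ (hE a a.2).2.1)) (cN _ (cu _ (hE b b.2).2.1)) with h | h | h
      · exact ⟨a, a.2, by simpa using a1, h⟩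
      · exact ⟨b, b.2, by simpa using b1, h⟩
      · refine ⟨a * b, mul_mem a.2 b.2, fun e => ab (Subtype.ext ?_), map_mul φ _ _ ▸ h⟩
        exact mul_right_cancel (e.trans (hE b b.2).1.symm)
    · obtain ⟨⟨e, he⟩, e1⟩ := ne_bot_iff_exists_ne_one.1 hc
      refine ⟨e, he, by simpa using e1, d2 ?_⟩
      have h3 : X.map φ ≤ N[(MulAut.conj g • A : Subgroup G)] := by
        rintro _ ⟨x, hx, rfl⟩
        exact cN _ (cu x (h1 x hx))
      exact commutator_mono h3 h3 (map_commutator X X φ ▸ mem_map_of_mem φ (h2 he))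
  obtain ⟨-, h2, w, hw⟩ := hE e he
  have zu := cu e h2
  have ew : (φ w)⁻¹ * u * (φ w)⁻¹⁻¹ = u * φ e := by
    rw [hw, map_mul, map_inv, hα, ← inv_eq_of_mul_eq_one_right uu]
    simp only [inv_eq_of_mul_eq_one_right uu, mul_inv_rev, inv_inv, ← mul_assoc, uu, one_mul]
  have hz : φ e ∈ A := ⟨e, rfl⟩
  have z1 : φ e ≠ 1 := fun h => e1 (hi (h.trans (map_one φ).symm))
  generalize (φ w)⁻¹ = w at ew
  generalize φ e = z at ew hz z1 zu zi
  have ouz : orderOf (u * z) = 2 := by rw [← ew, ← ou]; exact (MulAut.conj w).orderOf_eq u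
  have wn : w ∉ N[(MulAut.conj g • A : Subgroup G)] := fun e => by
    have a : u * z ∈ MulAut.conj g • C[A] := by
      rw [← centralizer_conj_smul, ← ew]; exact C_conj e uK
    rcases two_K (h4 g hg) ou hu ⟨a, mul_mem hu.2 (le_normalizer hz)⟩
      ⟨1, by rw [pow_one, pow_two, sq_of_ord ouz]⟩ (by rw [mul_assoc, zu]) with b | b
    · exact ne_of_ord ouz b
    · exact z1 (mul_eq_left.1 b)
  have hg' : g⁻¹ * w * g ∉ N[A] := fun e => wn (by rw [normalizer_conj_smul, mem_conj]; exact e)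
  refine red_two hA hg' (u := g⁻¹ * (u * z) * g) ?_ ⟨?_, ?_⟩ (h4 _ hg') ?_
  · rw [← ouz]; simpa using (MulAut.conj g⁻¹).orderOf_eq (u * z)
  · refine mem_conj.2 ?_
    rw [← ew]
    simpa [mul_assoc] using mem_conj.1 hu.1
  · have := cN (u * z) (by rw [mul_assoc, zu])
    rwa [normalizer_conj_smul, mem_conj] at this
  · have := (inner (mul_mem (mem_sup_right uK) zi)).conj g⁻¹
    rwa [conj_inv_smul_conj_smul, inv_inv] at this

/-- **REDC** -/
theorem redC : S93Q.RedCStmt.{u} := by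
  intro Γ Δ _ _ G _ _ p φ hb F ho hi hA hF h4
  obtain ⟨t, hK, ht⟩ := exists_invol hA
  obtain ⟨O, h1, h2, h3⟩ := exists_compl (D := C[φ.range] ⊓ centralizer {t})
    (fun e => not_four hb ho hi hA hF h4 (e.trans (card_dvd_of_le inf_le_left))) ht
    ⟨hK, mem_centralizer_singleton_iff.2 rfl⟩ fun d hd => mem_centralizer_singleton_iff.1 hd.2
  have hN : ∀ c, c * t = t * c → c ∈ N[φ.range] := fun c e => cent_le_norm hA ht hK (mem_cent1.2 e)
  refine ⟨t, O, hi, sq_of_ord ht, ne_of_ord ht, mem_C_range.1 hK, hN, fun c e hc =>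
    h3 c ⟨hc, mem_centralizer_singleton_iff.2 e⟩, h2, h1.trans inf_le_left,
    fun o ho => mem_centralizer_singleton_iff.1 (h1 ho).2, fun c e => mem_N_of fun o ho => ?_⟩
  have h5 : Commute (c * o * c⁻¹) t := by
    have hc : Commute c t := e
    exact (hc.mul_left (mem_centralizer_singleton_iff.1 (h1 ho).2)).mul_left hc.inv_left
  refine odd_mem_of_sq ?_ ?_
  · rw [show orderOf (c * o * c⁻¹) = orderOf o from (MulAut.conj c).orderOf_eq o]
    exact h2.of_dvd_nat (orderOf_dvd_natCard O ho)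
  rcases h3 _ ⟨C_conj (hN c e) (h1 ho).1, mem_centralizer_singleton_iff.2 h5⟩ with h | h
  · exact mul_mem h h
  · have := mul_mem h h
    rwa [h5.symm.mul_mul_mul_comm, sq_of_ord ht, mul_one] at this

theorem le_F (hb : Cv p) (hF : AS F) (h : Cx φ t O) : φ.range ≤ F := by
  have := hF.normal
  have : Fact (Nat.Prime 2) := ⟨Nat.prime_two⟩
  rcases hb.normal_cases (F.comap φ) with e | e
  swap
  · rintro _ ⟨a, rfl⟩
    exact (e.ge (mem_top a) : a ∈ F.comap φ)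
  exfalso
  have key : ∀ x ∈ F, x * t = t * x → x * x = 1 → x ≠ 1 → x = t := fun x hx h1 h2 h3 => by
    obtain ⟨α, hα⟩ := h.aut h1
    refine (h.two_cent h1 (hb.C_of h.inj hα fun a => ?_) (n := 1)
      (by rw [pow_one, pow_two, h2])).resolve_left h3
    have k : a * (α a)⁻¹ ∈ F.comap φ := by
      rw [mem_comap, map_mul, map_inv, hα]
      have := F.mul_mem (Normal.conj_mem inferInstance x hx (φ a)) (F.inv_mem hx)
      simpa [mul_assoc] using this
    have := e _ k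
    rw [map_mul, map_inv, mul_inv_eq_one] at this
    exact this.symm
  obtain ⟨S, hS, hS'⟩ := exists_isSylowIn_ge (p := 2) (Q := zpowers t) (H := ⊤)
    (H10.isPGroup_zpowers_of_pow (k := 1) (by rw [pow_one, pow_two, h.tt])) le_top
  have ev : Even (Nat.card F) := Nat.not_odd_iff_even.1 fun ho => by
    have := hF.simple
    exact hF.nc ⟨⟨IsSimpleGroup.comm_iff_isSolvable.2 (S0205.result ho)⟩⟩
  obtain ⟨z, -, z1, z2, z3⟩ := FsA.exists_central_inv' hS le_top le_normalizer_of_normal ev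
  have z4 : z = t := key z z1 (mem_centralizer_singleton_iff.1 (z3 (hS' (mem_zpowers t)))).symm
    (by rw [← pow_two, ← z2, pow_orderOf_eq_one]) (by rintro rfl; simp at z2)
  obtain ⟨g, g1, g2⟩ := exists_u hF h
  exact g2 (key _ (Normal.conj_mem inferInstance t (z4 ▸ z1) g) g1 (h.conj g).tt (h.conj g).t1)

theorem start : S93Q.StartStmt.{u} := by
  intro Γ Δ _ _ G _ _ p φ hb F t O ho hF h
  refine ⟨le_F hb hF h, ?_⟩
  obtain ⟨g, g1, g2⟩ := exists_u hF h
  have k := h.conj g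
  obtain ⟨α, hα⟩ := h.aut g1
  by_cases hi : H46.S95.Inn α
  · rcases h.inn_mem g1 hα hi with m | m
    · obtain ⟨a, e⟩ := h.inv_memQ hb m k.tt
      exact absurd e.symm (h.not_conjQ hb g a)
    · have e1 : g * t * g⁻¹ * t * (g * t * g⁻¹ * t) = 1 := by
        rw [← pow_two, g1.mul_pow, pow_two, pow_two, k.tt, h.tt, one_mul]
      obtain ⟨a, e⟩ := h.inv_memQ hb m e1
      refine ⟨a, h.inj (by rw [map_mul, e, e1, map_one]), fun e2 => g2 ?_, isConj_iff.2 ⟨g, ?_⟩⟩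
      · rw [e2, map_one] at e
        rw [eq_inv_of_mul_eq_one_left e.symm, h.tinv]
      · rw [e, g1.eq, ← mul_assoc, h.tt, one_mul]
  have hu := k.tinv
  obtain ⟨E, h1, h2⟩ := ho α (by
    ext a
    refine h.inj ?_
    rw [MulAut.mul_apply, hα, hα, hu, MulAut.one_apply]
    calc _ = g * t * g⁻¹ * (g * t * g⁻¹) * φ a * (g * t * g⁻¹ * (g * t * g⁻¹)) := by group
      _ = _ := by rw [k.tt, one_mul, mul_one]) hi
  have hc : ∀ x, α x = x → φ x * (g * t * g⁻¹) = g * t * g⁻¹ * φ x := fun x hx => by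
    rw [mul_inv_eq_iff_eq_mul.1 (hα x).symm, hx]
  obtain ⟨e, he, e1, m⟩ : ∃ e ∈ E, e ≠ 1 ∧
      (φ e ∈ ((MulAut.conj g).toMonoidHom.comp φ).range ⊔ MulAut.conj g • O ∨
        φ e * (g * t * g⁻¹) ∈ ((MulAut.conj g).toMonoidHom.comp φ).range ⊔ MulAut.conj g • O) := by
    rcases h2 with h2 | ⟨h2, X, h3, h4⟩
    · have : Finite E := Nat.finite_of_card_ne_zero (by omega)
      have := Fintype.ofFinite E
      obtain ⟨a, b, c, ab, ac, bc⟩ := Fintype.two_lt_card_iff.1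
        (show 2 < Fintype.card E by rw [← Nat.card_eq_fintype_card]; omega)
      obtain ⟨a, b, a1, b1, ab⟩ : ∃ a b : E, a ≠ 1 ∧ b ≠ 1 ∧ a ≠ b := by
        by_cases k1 : a = 1
        · exact ⟨b, c, k1 ▸ ab.symm, k1 ▸ ac.symm, bc⟩
        by_cases k2 : b = 1
        · exact ⟨a, c, k1, k2 ▸ bc.symm, ac⟩
        · exact ⟨a, b, k1, k2, ab⟩
      have ca := hc a (h1 a a.2).2.1
      have cb := hc b (h1 b b.2).2.1
      obtain ⟨β, hβ⟩ := k.aut ca
      obtain ⟨γ, hγ⟩ := k.aut cb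
      rcases hb.out β γ with i | i | i
      · exact ⟨a, a.2, fun e => a1 (Subtype.ext e), k.inn_mem ca hβ i⟩
      · exact ⟨b, b.2, fun e => b1 (Subtype.ext e), k.inn_mem cb hγ i⟩
      · refine ⟨a * b, mul_mem a.2 b.2, fun e => ab (Subtype.ext ?_),
          k.inn_mem (hc _ (h1 _ (mul_mem a.2 b.2)).2.1) (α := β * γ) (fun x => ?_) i⟩
        · rw [eq_inv_of_mul_eq_one_left e, inv_eq_of_mul_eq_one_right (h1 b b.2).1]
        · rw [MulAut.mul_apply, hβ, hγ, map_mul]; group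
    · obtain ⟨⟨e, he⟩, e1⟩ := ne_bot_iff_exists_ne_one.1 h2
      refine ⟨e, he, fun k => e1 (Subtype.ext k), .inl (k.derQ hb ?_)⟩
      have l : X.map φ ≤ centralizer {g * t * g⁻¹} := by
        rintro _ ⟨x, hx, rfl⟩
        exact mem_centralizer_singleton_iff.2 (hc x (h3 x hx))
      refine commutator_mono l l ?_
      rw [← map_commutator]
      exact mem_map_of_mem _ (h4 he)
  obtain ⟨ee, e2, w, hw⟩ := h1 e he
  have e3 : g * t * g⁻¹ * φ e = (φ w)⁻¹ * (g * t * g⁻¹) * (φ w)⁻¹⁻¹ := by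
    rw [hw, map_mul, map_inv, hα, hu]
    conv_rhs => rw [← hu]
    group
  have e4 : φ e * φ e = 1 := by rw [← map_mul, ee, map_one]
  rcases m with m | m
  · obtain ⟨a, ha⟩ := k.inv_memQ hb m e4
    have ha' : g * φ a * g⁻¹ = φ e := ha
    refine ⟨a, k.inj (by rw [map_mul, ha, e4, map_one]), fun k1 => e1 (h.inj ?_),
      isConj_iff.2 ⟨g⁻¹ * (φ w)⁻¹ * g, ?_⟩⟩
    · rw [← ha, k1, map_one, map_one]
    · calc _ = g⁻¹ * ((φ w)⁻¹ * (g * t * g⁻¹) * (φ w)⁻¹⁻¹) * g := by group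
        _ = _ := by rw [← e3, ← ha']; group
  · rw [hc e e2, e3] at m
    obtain ⟨a, ha⟩ := k.inv_memQ hb m (k.conj (φ w)⁻¹).tt
    exact absurd ha.symm (k.not_conjQ hb _ a)

end Cfsg.Agent.H19.S93R
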