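import Cfsg.Agent.H46.J1Defs
import Cfsg.Agent.H82.UT5
import Cfsg.Agent.H85.ModMore
import Cfsg.Agent.H72.NG0a

/-! The piece `JN2c` of the project on standard subgroups of type `J₁`. -/

set_option autoImplicit false
open scoped Pointwise commutatorElement
open Subgroup

namespace Cfsg.Agent.H19.S94J
open Cfsg.Agent.H46.S94 Cfsg.Agent.H8

universe u

local notation "C[" A "]" => Subgroup.centralizer (SetLike.coe A)
local notation "N[" A "]" => Subgroup.normalizer (SetLike.coe A)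

section Kit
variable {G : Type u} [Group G] {Y : Subgroup G} {X : Type u} [Group X] {π : Y →* X}

theorem nrm_mem {H : Subgroup G} {g x : G} (hg : g ∈ N[H]) (hx : x ∈ H) : g * x * g⁻¹ ∈ H :=
  (mem_normalizer_iff.1 hg x).1 hx

theorem mem_pre {H : Subgroup X} {y : Y} : (y : G) ∈ pre π H ↔ π y ∈ H :=
  ⟨fun ⟨y', h, e⟩ => by obtain rfl : y' = y := Subtype.ext e; exact h, fun h => ⟨y, h, rfl⟩⟩

theorem pre_le (H : Subgroup X) : pre π H ≤ Y := map_subtype_le _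

theorem mem_im {H : Subgroup G} {a : X} : a ∈ im π H ↔ ∃ y : Y, (y : G) ∈ H ∧ π y = a := Iff.rfl

theorem im_mem {H : Subgroup G} {y : Y} (h : (y : G) ∈ H) : π y ∈ im π H := ⟨y, h, rfl⟩

theorem l34_inv {P : Subgroup X} (h : L34 P) : ∃ i ∈ P, i * i = 1 ∧ i ∉ C[P] := by
  obtain ⟨F, _, _, hF, S, ⟨e⟩⟩ := h
  have : CharP F 2 := charP_of_card_eq_prime_pow (p := 2) (f := 2) (by rw [hF]; norm_num)
  obtain ⟨y, k, rfl⟩ := H82.exists_co_of_psl S e
  have m : ∀ a b c, y a b c ∈ k.sub ⊤ ⊤ := fun a b c => k.mem_sub.2 ⟨trivial, trivial⟩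
  refine ⟨y 1 0 0, m _ _ _, ?_, fun h => ?_⟩
  · rw [k.mul, ← k.zero, CharTwo.add_self_eq_zero]; simp
  · have f := h _ (m 0 1 0)
    rw [k.mul, k.mul, k.eq_iff] at f
    simpa using f.2.2

theorem a5_perf {Γ : Type} [Group Γ] {L : Subgroup Γ}
    (h : Nonempty (L ≃* alternatingGroup (Fin 5))) : ⁅L, L⁆ = L := by
  obtain ⟨ι⟩ := h
  refine H52.IsQuasisimple.commutator_self (H52.IsQuasisimple.of_mulEquiv
    (H52.isQuasisimple_of_isSimpleGroup fun hc => ?_) ι.symm)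
  have := congrArg Subtype.val (hc.1.1
    ⟨Equiv.swap 0 1 * Equiv.swap 1 2, Equiv.Perm.mem_alternatingGroup.2 (by decide)⟩
    ⟨Equiv.swap 1 2 * Equiv.swap 2 3, Equiv.Perm.mem_alternatingGroup.2 (by decide)⟩)
  simp only [coe_mul] at this
  revert this
  decide

theorem zp2 {z w : G} (zz : z * z = 1) (h : w ∈ zpowers z) : w = 1 ∨ w = z := by
  obtain ⟨n, rfl⟩ := h
  have e2 : z ^ (2 : ℤ) = 1 := by rw [zpow_two, zz]
  simp only
  rw [zpow_eq_zpow_emod n e2]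
  rcases Int.emod_two_eq_zero_or_one n with h | h <;> simp [h]

/-- a perfect central extension of a quasisimple group -/
theorem qs_lift {M : Subgroup G} {Mb : Subgroup X} (MY : M ≤ Y) (hp : ⁅M, M⁆ = M)
    (h1 : ∀ y : Y, (y : G) ∈ M → π y ∈ Mb) (h2 : ∀ a ∈ Mb, ∃ y : Y, (y : G) ∈ M ∧ π y = a)
    (h3 : ∀ y : Y, π y ∈ C[Mb] → (y : G) ∈ C[M]) :
    Nonempty ((M ⧸ center M) ≃* (Mb ⧸ center Mb)) := by
  let f : M →* Mb := (π.comp (inclusion MY)).codRestrict Mb fun m => h1 ⟨m, MY m.2⟩ m.2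
  have fs : Function.Surjective f := fun a => by
    obtain ⟨y, hy, e⟩ := h2 a a.2
    exact ⟨⟨y, hy⟩, Subtype.ext e⟩
  let g := (QuotientGroup.mk' (center Mb)).comp f
  have gs : Function.Surjective g := (QuotientGroup.mk'_surjective _).comp fs
  have k : center M = g.ker := by
    ext m
    rw [MonoidHom.mem_ker, MonoidHom.comp_apply, QuotientGroup.mk'_apply,
      QuotientGroup.eq_one_iff, mem_center_iff, mem_center_iff]
    constructor
    · intro h a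
      obtain ⟨x, rfl⟩ := fs a
      rw [← map_mul, h, map_mul]
    · intro h x
      exact Subtype.ext (h3 ⟨m, MY m.2⟩ (fun a ha => congrArg Subtype.val (h ⟨a, ha⟩)) x x.2)
  exact ⟨(QuotientGroup.quotientMulEquivOfEq k).trans
    (QuotientGroup.quotientKerEquivOfSurjective g gs)⟩

end Kit

theorem jn2c : JN2cStmt.{u} := by
  intro Γ _ G _ _ φ F t ζ O T z σ ρ V L X _ t' ρ' π P X0 c2 n1 qx ph uq l34 tr ms
  haveI : Finite X := Finite.of_surjective π qx.surj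
  haveI : Fact (Nat.Prime 2) := ⟨Nat.prime_two⟩
  haveI := c2.as.normal
  haveI := ms.nM
  have jf := c2.jf
  have tt := c2.cx.tt
  have eR := ph.eR
  have ker : ∀ y, π y = 1 ↔ (y : G) ∈ zpowers ζ := fun y => (qx.ker y).trans (eR ▸ Iff.rfl)
  have ζT : ζ ∈ T := c2.ab.mem
  have RT : zpowers ζ ≤ T := (zpowers_le (G := G)).2 ζT
  have zz : φ z * φ z = 1 := by rw [← map_mul, jf.el z jf.zV, map_one]
  have zV : φ z ∈ V.map φ := ⟨z, jf.zV, rfl⟩
  have zR : zpowers (φ z) ≤ zpowers ζ := (zpowers_le (G := G)).2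
    (c2.ab.sq ▸ mul_mem (mem_zpowers ζ) (mem_zpowers ζ))
  have VT := c2.tf.VT
  have ab := c2.tf.ab
  have cR : ∀ x, x * ζ = ζ * x → ∀ r ∈ zpowers ζ, r * x = x * r := fun x hx r hr => by
    obtain ⟨n, rfl⟩ := hr
    exact (Commute.zpow_right hx n).symm
  set C0 := F ⊓ centralizer ({ζ} : Set G) with hC0
  have mC : ∀ {x}, x ∈ C0 ↔ x ∈ F ∧ x * ζ = ζ * x :=
    mem_inf.trans (and_congr_right fun _ => mem_centralizer_singleton_iff)
  have CY : C0 ≤ YY F (T1 T (φ ρ)) t := fun x hx => mem_sup_left ⟨(mC.1 hx).1, fun r hr =>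
    cR x (mC.1 hx).2 r (eR ▸ hr)⟩
  obtain ⟨ty, ety, et'⟩ := qx.et
  set Ph := pre π P with hPh
  set M := Ph ⊔ L.map φ with hM
  set Mb := P ⊔ im π (L.map φ) with hMb
  have PC : Ph ≤ C0 := fun p hp =>
    mC.2 ⟨(ph.le hp).2, c2.ab.a p (ph.le hp) (ph.pz p hp)⟩
  have LC : L.map φ ≤ C0 := fun l hl =>
    mC.2 ⟨c2.AF (map_le_range φ L hl), (n1.cL hl ζ (eR ▸ mem_zpowers ζ)).symm⟩
  have MC : M ≤ C0 := sup_le PC LC
  have MY := MC.trans CY
  have TM : T ≤ M := ph.TP.trans le_sup_left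
  have up : ∀ {H : Subgroup G}, zpowers ζ ≤ H → ∀ y, π y ∈ im π H → (y : G) ∈ H :=
    fun {H} hH y ⟨y', h, e⟩ => by
      have : ((y'⁻¹ * y : YY F (T1 T (φ ρ)) t) : G) ∈ zpowers ζ :=
        (ker _).1 (by rw [map_mul, map_inv, e, inv_mul_cancel])
      exact (mul_mem_cancel_left (inv_mem h)).1 (hH this)
  have Pim : ∀ a ∈ P, ∃ y : YY F (T1 T (φ ρ)) t, (y : G) ∈ Ph ∧ π y = a := fun a ha => by
    obtain ⟨y, rfl⟩ := qx.surj a
    exact ⟨y, mem_pre.2 ha, rfl⟩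
  have h2 : ∀ a ∈ Mb, ∃ y : YY F (T1 T (φ ρ)) t, (y : G) ∈ M ∧ π y = a := by
    have : Mb ≤ im π M := sup_le (fun a ha => by
      obtain ⟨y, hy, e⟩ := Pim a ha
      exact ⟨y, mem_sup_left hy, e⟩) fun a ⟨y, hy, e⟩ => ⟨y, mem_sup_right hy, e⟩
    exact fun a ha => this ha
  have h1 : ∀ y : YY F (T1 T (φ ρ)) t, (y : G) ∈ M → π y ∈ Mb := by
    have : M ≤ pre π Mb := sup_le (map_mono (comap_mono le_sup_left)) fun l hl =>
      (mem_pre (y := ⟨l, CY (LC hl)⟩)).2 (mem_sup_right (im_mem hl))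
    exact fun y hy => mem_pre.1 (this hy)
  have h1' : ∀ y : YY F (T1 T (φ ρ)) t, π y ∈ Mb → (y : G) ∈ M := fun y hy =>
    up (RT.trans TM) y (h2 _ hy)
  have p2 : IsPGroup 2 Ph := IsPGroup.of_card (n := 8) ph.card
  have PV : Ph ⊓ C[V.map φ] ≤ T := by
    refine (c2.lt.sylV.eq_of_le p2.to_inf_left (inf_le_inf_right _ (ph.le.trans inf_le_right))
      (le_inf ph.TP fun x hx v hv => ab v (VT hv) x hx)).le
  obtain ⟨j, jP, jT⟩ : ∃ j ∈ Ph, j ∉ T := by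
    by_contra hn
    push Not at hn
    have := card_le_of_le (show Ph ≤ T from hn)
    rw [ph.card, ph.cT] at this
    omega
  have jV : j ∉ C[V.map φ] := fun h => jT (PV ⟨jP, h⟩)
  have LK : L.map φ ≤ ⁅M, M⁆ := by
    rw [← a5_perf jf.iso, map_commutator]
    exact commutator_mono le_sup_right le_sup_right
  have ζK : ζ ∈ ⁅M, M⁆ := by
    obtain ⟨v, hv, e⟩ : ∃ v ∈ V.map φ, v * j ≠ j * v := by
      by_contra hn
      push Not at hn
      exact jV hn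
    have e1 : j * v * j⁻¹ * v⁻¹ = φ z := (zp2 zz (ph.pz j jP v hv)).resolve_left fun h =>
      e (mul_inv_eq_iff_eq_mul.1 (mul_inv_eq_one.1 h)).symm
    obtain ⟨b, hb, rfl⟩ := c2.ls.sq v hv
    have b1 : j * b * j⁻¹ ∈ T := nrm_mem (c2.lt.nT (ph.le jP).1) hb
    have cT : j * b * j⁻¹ * b⁻¹ ∈ T := mul_mem b1 (inv_mem hb)
    have cK : j * b * j⁻¹ * b⁻¹ ∈ ⁅M, M⁆ := commutator_mem_commutator (mem_sup_left jP) (TM hb)
    have e2 : j * b * j⁻¹ * b⁻¹ * (j * b * j⁻¹ * b⁻¹) = φ z := by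
      rw [← e1, ← conj_mul, mul_assoc _ b⁻¹, ← mul_assoc b⁻¹, ab _ (inv_mem hb) _ b1]
      simp [mul_assoc]
    generalize j * b * j⁻¹ * b⁻¹ = c at cT cK e2
    have zK : φ z ∈ ⁅M, M⁆ := e2 ▸ mul_mem cK cK
    have m : c * ζ⁻¹ ∈ V.map φ := c2.ls.om _ (mul_mem cT (inv_mem ζT)) (by
      rw [mul_assoc, ← mul_assoc ζ⁻¹, ab _ (inv_mem ζT) _ cT, mul_assoc, ← mul_assoc c, e2,
        ← mul_inv_rev, c2.ab.sq, mul_inv_cancel])
    have VK : V.map φ ≤ ⁅M, M⁆ := by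
      rintro _ ⟨v, hv, rfl⟩
      rcases jf.cz v (mem_Cz.2 (H72.inv_eq_of_sq (jf.el _ (mul_mem hv jf.zV)) ▸ by
        rw [mul_inv_rev, H72.inv_eq_of_sq (jf.el _ hv), H72.inv_eq_of_sq (jf.el _ jf.zV)]))
        with h | h
      · exact LK ⟨v, h, rfl⟩
      · exact (mul_mem_cancel_right zK).1 (map_mul φ v z ▸ LK ⟨_, h, rfl⟩)
    exact inv_mem_iff.1 ((mul_mem_cancel_left cK).1 (VK m))
  have perf : ⁅M, M⁆ = M := by
    refine le_antisymm (commutator_le_self M) fun x hx => ?_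
    refine up ((zpowers_le (G := G)).2 ζK) ⟨x, MY hx⟩ ?_
    have : Mb ≤ im π ⁅M, M⁆ := by
      nth_rewrite 1 [← H52.IsQuasisimple.commutator_self ms.qs]
      refine commutator_le.2 fun a ha b hb => ?_
      obtain ⟨a, ha', rfl⟩ := h2 a ha
      obtain ⟨b, hb', rfl⟩ := h2 b hb
      exact ⟨⁅a, b⁆, commutator_mem_commutator ha' hb', map_commutatorElement π a b⟩
    exact this (h1 ⟨x, MY hx⟩ hx)
  have h3 : ∀ y : YY F (T1 T (φ ρ)) t, π y ∈ C[Mb] → (y : G) ∈ C[M] := by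
    have k1 : ⁅pre π C[Mb], M⁆ ≤ zpowers ζ := commutator_le.2 fun a ha b hb => by
      have e := (mem_pre (y := ⟨a, pre_le _ ha⟩)).1 ha _ (h1 ⟨b, MY hb⟩ hb)
      refine (ker ⁅(⟨a, pre_le _ ha⟩ : YY F (T1 T (φ ρ)) t), ⟨b, MY hb⟩⁆).1 ?_
      rw [map_commutatorElement, commutatorElement_eq_one_iff_mul_comm, e]
    have k2 : ⁅zpowers ζ, M⁆ = ⊥ := commutator_eq_bot_iff_le_centralizer.2 fun r hr x hx =>
      (cR x (mC.1 (MC hx)).2 r hr).symm
    have k3 := H52.commutator_eq_bot_of_perfect perf (H52.commutator_eq_bot_mono k2 k1 le_rfl)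
    exact fun y hy => commutator_eq_bot_iff_le_centralizer.1 k3 (mem_pre.2 hy)
  obtain ⟨ι⟩ := qs_lift MY perf h1 h2 h3
  haveI := ms.qs.2
  have qs : IsQuasisimple M := ⟨Subgroup.isPerfect_iff.2 perf, ι.isSimpleGroup⟩
  have top : Mb ⊔ C[Mb] = X0 := by
    refine ms.top.resolve_right ?_
    rintro ⟨δ, h, h'⟩
    obtain ⟨d, rfl⟩ := qx.surj δ
    apply h'
    have e : MulAut.conj (d : G) • T = T := by
      refine uq _ (fun x hx => ?_) (fun x hx y hy => ?_) (by rw [card_conj_smul, ph.cT])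
      · have m := mem_conj_smul.1 hx
        have m1 := (mem_pre (y := ⟨_, pre_le _ (ph.TP m)⟩)).1 (ph.TP m)
        have m2 := nrm_mem h m1
        rw [← map_inv, ← map_mul, ← map_mul, ← mem_pre] at m2
        have e : (d : G) * ((d : G)⁻¹ * x * d) * (d : G)⁻¹ = x := by group
        rw [← e]
        exact m2
      · have := ab _ (mem_conj_smul.1 hx) _ (mem_conj_smul.1 hy)
        calc x * y = d * ((d : G)⁻¹ * x * d * ((d : G)⁻¹ * y * d)) * (d : G)⁻¹ := by group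
          _ = y * x := by rw [this]; group
    refine H72.mem_norm ?_
    rintro _ ⟨y, hy, rfl⟩
    rw [← map_inv, ← map_mul, ← map_mul]
    exact im_mem (nrm_mem (mem_normalizer_iff_conj_smul_eq.2 e) hy)
  have dec : ∀ a ∈ X0, ∃ y : YY F (T1 T (φ ρ)) t, (y : G) ∈ M ∧ (π y)⁻¹ * a ∈ C[Mb] :=
    fun a ha => by
      rw [← top] at ha
      obtain ⟨m, hm, k, hk, rfl⟩ := mem_sup_of_normal_left.1 ha
      obtain ⟨y, hy, rfl⟩ := h2 m hm
      exact ⟨y, hy, by simpa using hk⟩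
  have oddC : ∀ k ∈ C[Mb], Odd (orderOf k) := fun k hk =>
    ms.oC.of_dvd_nat (Subgroup.orderOf_dvd_natCard _ hk)
  have XC : ∀ y : YY F (T1 T (φ ρ)) t, (y : G) ∈ F → π y ∈ X0 := fun y hy => by
    by_contra hn
    have m : π y * t' ∈ X0 := (mul_mem_iff_of_index_two tr.idx).2 (iff_of_false hn tr.tX)
    obtain ⟨m0, hm0, k⟩ := dec _ m
    rw [← et', ← map_inv, ← map_mul, ← map_mul] at k
    obtain ⟨n, hn⟩ := oddC _ k
    have k1 : (((m0⁻¹ * (y * ty)) ^ (2 * n + 1) : YY F (T1 T (φ ρ)) t) : G) ∈ F :=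
      c2.lt.le (RT ((ker _).1 (by rw [map_pow, ← hn, pow_orderOf_eq_one])))
    have q1 := (QuotientGroup.eq_one_iff (N := F) _).2 k1
    have q2 := (QuotientGroup.eq_one_iff (N := F) _).2 hy
    have q3 := (QuotientGroup.eq_one_iff (N := F) _).2 (mC.1 (MC hm0)).1
    simp only [coe_pow, coe_mul, coe_inv, ety, QuotientGroup.mk_pow, QuotientGroup.mk_mul,
      QuotientGroup.mk_inv, q2, q3, inv_one, one_mul] at q1
    rw [pow_succ, pow_mul, ← QuotientGroup.mk_pow, pow_two, tt] at q1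
    exact c2.lt.tF ((QuotientGroup.eq_one_iff (N := F) _).1 (by simpa using q1))
  have tw : ∀ y : YY F (T1 T (φ ρ)) t, Tw (y : G) → Tw (π y) := fun y ⟨n, hn⟩ =>
    ⟨n, by rw [← map_pow, show y ^ 2 ^ n = 1 from Subtype.ext hn, map_one]⟩
  have twP : ∀ p ∈ Ph, Tw p := fun p hp => by
    obtain ⟨n, hn⟩ := p2 ⟨p, hp⟩
    exact ⟨n, congrArg Subtype.val hn⟩
  have twoM : ∀ x ∈ C0, Tw x → x ∈ M := fun x hx h =>
    h1' ⟨x, CY hx⟩ (ms.two _ (XC _ (mC.1 hx).1) (tw _ h))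
  have nM : C0 ≤ N[M] := fun c hc => H72.mem_norm fun x hx => by
    have := h1' (⟨c, CY hc⟩ * ⟨x, MY hx⟩ * ⟨c, CY hc⟩⁻¹) (by
      rw [map_mul, map_mul, map_inv]; exact ms.nM.conj_mem _ (h1 _ hx) _)
    exact this
  have inv : ∀ x ∈ M, x * x ∈ zpowers ζ →
      ∃ m ∈ M, m * x * m⁻¹ ∈ (V ⊓ L).map φ ⊔ zpowers ζ := fun x hx h => by
    obtain ⟨m, hm, e⟩ := ms.inv _ (h1 ⟨x, MY hx⟩ hx) (by rw [← map_mul]; exact (ker _).2 h)
    obtain ⟨m, hm', rfl⟩ := h2 m hm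
    rw [← map_inv, ← map_mul, ← map_mul] at e
    obtain ⟨u0, hu, e⟩ := e
    exact ⟨m, hm', up le_sup_right _ ⟨u0, mem_sup_left hu, e⟩⟩
  refine ⟨le_sup_left, MC, qs, ?_, fun c hc => ?_, fun x hx h => ?_, twoM, fun n hn => ?_, inv,
    fun x hx ho hT => ?_, ?_, ?_⟩
  · obtain ⟨K, _, _, hK, ⟨e⟩⟩ := ms.iso
    exact ⟨K, _, _, hK, ⟨ι.trans e⟩⟩
  · obtain ⟨m, hm, k⟩ := dec _ (XC ⟨c, CY hc⟩ (mC.1 hc).1)
    rw [← map_inv, ← map_mul] at k
    have e : c = m * ((m : G)⁻¹ * c) := by group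
    rw [e]
    exact mul_mem_sup hm ⟨F.mul_mem (F.inv_mem (mC.1 (MC hm)).1) (mC.1 hc).1, h3 _ k⟩
  · have xC : x ∈ C0 := mC.2 ⟨hx.1, (hx.2 ζ (TM ζT)).symm⟩
    have k : π ⟨x, CY xC⟩ ∈ C[Mb] := fun a ha => by
      obtain ⟨m, hm, rfl⟩ := h2 a ha
      rw [← map_mul, ← map_mul]
      exact congrArg π (Subtype.ext (hx.2 _ hm))
    obtain ⟨n, hn⟩ := tw ⟨x, CY xC⟩ h
    exact (ker ⟨x, CY xC⟩).1 (orderOf_eq_one_iff.1 (Nat.Coprime.eq_one_of_dvd
      ((Nat.coprime_two_right.2 (oddC _ k)).pow_right n) (orderOf_dvd_of_pow_eq_one hn)))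
  · have nC : ∀ n ∈ F ⊓ N[zpowers ζ], ∀ c ∈ C0, n * c * n⁻¹ ∈ C0 := fun n hn c hc => by
      refine mC.2 ⟨F.mul_mem (F.mul_mem hn.1 (mC.1 hc).1) (F.inv_mem hn.1), ?_⟩
      have := cR c (mC.1 hc).2 _ (nrm_mem (inv_mem hn.2) (mem_zpowers ζ))
      calc n * c * n⁻¹ * ζ = n * (c * (n⁻¹ * ζ * n⁻¹⁻¹)) * n⁻¹ := by group
        _ = ζ * (n * c * n⁻¹) := by rw [← this]; group
    have le : M ≤ MulAut.conj n⁻¹ • M := by
      refine H85.qs_le_of_mem qs (fun m hm => ?_) (mem_sup_left jP) ?_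
        fun h => jV (centralizer_le (VT.trans TM) h)
      · rw [normalizer_conj_smul, mem_conj_smul, inv_inv]
        exact nM (nC n hn m (MC hm))
      · rw [mem_conj_smul, inv_inv]
        obtain ⟨k, hk⟩ := twP j jP
        exact twoM _ (nC n hn j (PC jP)) ⟨k, by rw [conj_pow, hk]; simp⟩
    exact H72.mem_norm fun x hx => by simpa using mem_conj_smul.1 (le hx)
  · have xC : x ∈ C0 := mC.2 ⟨hx, (hT ζ ζT).symm⟩
    refine h3 ⟨x, CY xC⟩ (ms.odd _ (ho.of_dvd_nat ((orderOf_map_dvd π _).trans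
      (by rw [← Subgroup.orderOf_coe]))) ?_)
    rintro _ ⟨y, hy, rfl⟩
    rw [← map_mul, ← map_mul]
    exact congrArg π (Subtype.ext (hT _ hy))
  · have tV : ∀ v ∈ V.map φ, v * t = t * v := by
      rintro _ ⟨v, -, rfl⟩
      exact c2.cx.AC v
    have tN : t' ∈ N[P] := H72.mem_norm fun a ha => by
      obtain ⟨y, hy, rfl⟩ := Pim a ha
      rw [← et', ← map_inv, ← map_mul, ← map_mul, ← mem_pre]
      simp only [coe_mul, coe_inv, ety]
      have tS : t ∈ N[St1 T t] := le_normalizer (mem_sup_right (mem_zpowers t))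
      obtain ⟨k, hk⟩ := twP y hy
      refine ph.all _ ⟨Subgroup.mul_mem _ (mul_mem tS (ph.le hy).1) (inv_mem tS),
        c2.as.normal.conj_mem _ (ph.le hy).2 t⟩ ⟨k, by rw [conj_pow, hk]; simp⟩ fun v hv => ?_
      have m := ph.pz y hy v hv
      have e1 := tV _ ((zpowers_le (G := G)).2 zV m)
      have e2 := tV v hv
      have : t * y * t⁻¹ * v * (t * y * t⁻¹)⁻¹ * v⁻¹ = y * v * (y : G)⁻¹ * v⁻¹ := by
        calc t * y * t⁻¹ * v * (t * y * t⁻¹)⁻¹ * v⁻¹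
            = t * y * t⁻¹ * (v * t) * (y : G)⁻¹ * (v * t)⁻¹ := by group
          _ = t * (y * v * (y : G)⁻¹ * v⁻¹) * t⁻¹ := by rw [e2]; group
          _ = _ := by rw [← e1]; group
      rw [this]; exact m
    have SP : (P ⊔ zpowers t') ⊓ X0 ≤ P := fun a ha => by
      have h := ha.1
      rw [sup_comm] at h
      obtain ⟨s, hs, p, hp, rfl⟩ :=
        (H52.mem_sup_of_le_normalizer ((zpowers_le (G := X)).2 tN)).1 h
      have t2 : t' * t' = 1 := by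
        rw [← et', ← map_mul, show ty * ty = 1 from Subtype.ext (by simp [ety, tt]), map_one]
      rcases zp2 t2 hs with rfl | rfl
      · simpa using hp
      · exact absurd ((mul_mem_cancel_right (tr.PX hp)).1 ha.2) tr.tX
    haveI := tr.n0
    have sy := tr.syl.inf_of_le_normalizer (N := X0) (by rw [normalizer_eq_top])
    refine isSylowIn_of_maximal PC p2 fun Q hQ QC PQ x hx => ?_
    have q2 : IsPGroup 2 (im π Q) := (hQ.comap_subtype (K := YY F (T1 T (φ ρ)) t)).map π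
    have e := sy.eq_of_le q2 (by
      rintro _ ⟨y, hy, rfl⟩
      exact ⟨trivial, XC y (mC.1 (QC hy)).1⟩) fun a ha => by
        obtain ⟨y, hy, rfl⟩ := Pim a (SP ha)
        exact im_mem (PQ hy)
    exact (mem_pre (y := ⟨x, CY (QC hx)⟩)).2 (SP (e ▸ im_mem hx))
  · obtain ⟨i, iP, ii, iC⟩ := l34_inv l34
    obtain ⟨y, hy, rfl⟩ := Pim i iP
    have VC : ∀ w : YY F (T1 T (φ ρ)) t, (w : G) ∈ V.map φ → π w ∈ C[P] := fun w hw a ha => by
      obtain ⟨p, hp, rfl⟩ := Pim a ha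
      have := (ker (p * w * p⁻¹ * w⁻¹)).2 (zR (ph.pz p hp w hw))
      rw [map_mul, map_mul, map_mul, map_inv, map_inv] at this
      exact mul_inv_eq_iff_eq_mul.1 (mul_inv_eq_one.1 this)
    obtain ⟨m, hm, e⟩ := inv y (mem_sup_left hy) ((ker (y * y)).1 (by rw [map_mul, ii]))
    have UT : (V ⊓ L).map φ ≤ T := (map_mono inf_le_left).trans VT
    obtain ⟨u0, hu, r, hr, e1⟩ := (H52.mem_sup_of_le_normalizer (fun a ha =>
      centralizer_le_normalizer _ fun b hb => ab b (RT hb) a (UT ha))).1 e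
    have uu : u0 * u0 = 1 := by
      obtain ⟨u1, h, rfl⟩ := hu
      rw [← map_mul, jf.el u1 h.1, map_one]
    have rr : r * r ∈ zpowers (φ z) := by
      obtain ⟨n, rfl⟩ := hr
      exact ⟨n, by simp only; rw [← c2.ab.sq, (Commute.refl ζ).mul_zpow]⟩
    have e2 : m * (y * y) * m⁻¹ = r * r := by
      rw [← conj_mul, ← e1, mul_assoc, ← mul_assoc r, ab r (RT hr) u0 (UT hu), mul_assoc,
        ← mul_assoc u0, uu, one_mul]
    have e3 : (y : G) * y = r * r := by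
      have := cR m (mC.1 (MC hm)).2 _ (mul_mem hr hr)
      rw [mul_inv_eq_iff_eq_mul, this] at e2
      exact mul_left_cancel e2
    rcases zp2 zz rr with h | h
    · exact ⟨y, hy, e3.trans h, fun yT => iC (VC y (c2.ls.om _ yT (e3.trans h)))⟩
    · have yζ := (mC.1 (PC hy)).2
      have e4 : (y : G) * ζ * (y * ζ) = 1 := by
        rw [mul_assoc, ← mul_assoc ζ, ← yζ, mul_assoc, ← mul_assoc (y : G), e3, h, c2.ab.sq, zz]
      refine ⟨y * ζ, mul_mem hy (ph.TP ζT), e4, fun yT => iC ?_⟩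
      have k := VC (y * ⟨ζ, MY (TM ζT)⟩) (c2.ls.om _ yT e4)
      rwa [map_mul, (ker ⟨ζ, MY (TM ζT)⟩).2 (mem_zpowers ζ), mul_one] at k

end Cfsg.Agent.H19.S94J
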