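import Cfsg.Agent.H46.J2Defs
import Cfsg.Agent.H40.F6Cz
import Cfsg.Agent.H89.Cj
import Cfsg.Agent.H85.ModMore
import Cfsg.Agent.H69.SlRed
import Cfsg.Agent.H72.NG0a

/-! The piece `ZS` of the project on standard subgroups of type `J₂`. -/

set_option autoImplicit false
open scoped Pointwise commutatorElement
open Subgroup

namespace Cfsg.Agent.H19.S94Z
open Cfsg.Agent.H46.S94 Cfsg.Agent.H40.F6

universe u

local notation "C[" A "]" => Subgroup.centralizer (SetLike.coe A)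
local notation "N[" A "]" => Subgroup.normalizer (SetLike.coe A)

section Gen
variable {G : Type u} [Group G] [Finite G]

/-- the dihedral argument -/
theorem dih {O : Subgroup G} (hO : Odd (Nat.card O)) {a b v o : G} (aa : a * a = 1)
    (bb : b * b = 1) (ho : o ∈ O) (vv : v * v = 1) (vo : v * o = o * v)
    (h : a * b * (a * b) = v * o) :
    ∃ w ∈ O, w * b * w⁻¹ * a * (w * b * w⁻¹)⁻¹ = a * v := by
  have ai : a⁻¹ = a := inv_eq_of_mul_eq_one_right aa
  have bi : b⁻¹ = b := inv_eq_of_mul_eq_one_right bb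
  set u := a * b with hu
  have hb : b = a * u := by rw [hu, ← mul_assoc, aa, one_mul]
  have iu : a * u * a⁻¹ = u⁻¹ := by
    rw [hu, mul_inv_rev, ai, bi, ← mul_assoc, aa, one_mul]
  have inv : ∀ x ∈ zpowers u, x * a = a * x⁻¹ := by
    rintro _ ⟨n, rfl⟩
    have e1 : a * u ^ (-n) * a⁻¹ = u ^ n := by
      rw [← conj_zpow, iu]; simp
    simp only
    rw [← zpow_neg]
    exact (mul_inv_eq_iff_eq_mul.1 e1).symm
  have od : Odd (orderOf o) := hO.of_dvd_nat (O.orderOf_dvd_natCard ho)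
  obtain ⟨j, hj⟩ := exists_pow_eq_self_of_coprime (x := o) (n := 8)
    ((Nat.coprime_two_left.2 od).pow_left 3)
  have u4 : u ^ 4 = o ^ 2 := by
    have : u ^ 4 = u * u * (u * u) := by simp [pow_succ, mul_assoc]
    rw [this, h, pow_two, mul_assoc, ← mul_assoc o v, ← vo, mul_assoc, ← mul_assoc, vv, one_mul]
  set W := (o ^ 2) ^ j with hW
  have Wu : W ∈ zpowers u := by
    rw [hW, ← u4]; exact pow_mem (pow_mem (mem_zpowers u) 4) j
  have W4 : W ^ 4 = o := by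
    rw [hW, ← pow_mul, ← pow_mul, show 2 * (j * 4) = 8 * j by ring, pow_mul, hj]
  have cW : Commute W u := by
    rw [hW, ← u4]; exact ((Commute.refl u).pow_left 4).pow_left j
  refine ⟨W, pow_mem (pow_mem ho 2) j, ?_⟩
  have e1 : W * b * W⁻¹ = a * (W⁻¹ * u * W⁻¹) := by
    rw [hb, ← mul_assoc, inv W Wu]; simp [mul_assoc]
  have m : W⁻¹ * u * W⁻¹ ∈ zpowers u :=
    mul_mem (mul_mem (inv_mem Wu) (mem_zpowers u)) (inv_mem Wu)
  have e2 : (W⁻¹ * u * W⁻¹) * (W⁻¹ * u * W⁻¹) = v := by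
    have c1 : W⁻¹ * u = u * W⁻¹ := cW.inv_left.eq
    have : (W⁻¹ * u * W⁻¹) * (W⁻¹ * u * W⁻¹) = u * u * (W ^ 4)⁻¹ := by
      rw [c1, mul_assoc u W⁻¹ W⁻¹, ← mul_assoc _ u, mul_assoc u _ u, mul_assoc W⁻¹ W⁻¹ u, c1,
        ← mul_assoc W⁻¹ u, c1]
      simp [pow_succ, mul_assoc]
    rw [this, W4, h, mul_inv_cancel_right]
  rw [e1, ← e2]
  generalize W⁻¹ * u * W⁻¹ = x at m
  rw [mul_inv_rev, mul_assoc, mul_assoc, ← mul_assoc a x⁻¹, ← inv x m]
  simp [mul_assoc]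

/-- the theorem on isolated involutions in `C(e)/⟨e⟩` -/
theorem zstar {e f : G} (ee : e * e = 1) (ff : f * f = 1) (fe : f * e = e * f)
    (H : ∀ c, c * e = e * c → (c * f * c⁻¹ * f * (c * f * c⁻¹)⁻¹ = f ∨
      c * f * c⁻¹ * f * (c * f * c⁻¹)⁻¹ = f * e) → c * f * c⁻¹ = f ∨ c * f * c⁻¹ = f * e)
    {c : G} (hc : c * e = e * c) :
    ∃ o ∈ Oc (centralizer {e}), o * c * f * (o * c)⁻¹ = f ∨ o * c * f * (o * c)⁻¹ = f * e := by
  set X := centralizer ({e} : Set G) with hX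
  have mX : ∀ {x}, x ∈ X ↔ x * e = e * x := mem_centralizer_singleton_iff
  have eX : e ∈ X := mX.2 rfl
  have ZX : zpowers e ≤ X := (zpowers_le (G := G)).2 eX
  have ze : ∀ v ∈ zpowers e, v = 1 ∨ v = e := fun v hv => by
    obtain ⟨n, rfl⟩ := hv
    have e2 : e ^ (2 : ℤ) = 1 := by rw [zpow_two, ee]
    simp only
    rw [zpow_eq_zpow_emod n e2]
    rcases Int.emod_two_eq_zero_or_one n with h | h <;> simp [h]
  have cz : ∀ x ∈ X, ∀ v ∈ zpowers e, x * v = v * x := fun x hx v hv => by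
    rcases ze v hv with rfl | rfl
    · simp
    · exact mX.1 hx
  haveI nZ : ((zpowers e).subgroupOf X).Normal := ⟨fun v hv g => by
    rw [mem_subgroupOf] at hv ⊢
    simp only [coe_mul, coe_inv]
    rw [cz g g.2 v hv, mul_inv_cancel_right]; exact hv⟩
  have pZ : IsPGroup 2 (zpowers e) :=
    H10.isPGroup_zpowers_of_pow (k := 1) (by rw [pow_one, pow_two, ee])
  set p1 := QuotientGroup.mk' ((zpowers e).subgroupOf X) with hp1
  set π := (QuotientGroup.mk' (oddCore (X ⧸ (zpowers e).subgroupOf X))).comp p1 with hπ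
  have sj : Function.Surjective π :=
    (QuotientGroup.mk'_surjective _).comp (QuotientGroup.mk'_surjective _)
  have ker : ∀ k : X, π k = 1 → ∃ v ∈ zpowers e, ∃ o ∈ Oc X, (k : G) = v * o := fun k hk =>
    split ZX pZ cz ((QuotientGroup.eq_one_iff _).1 hk)
  have πO : ∀ k : X, (k : G) ∈ Oc X → π k = 1 := fun k hk => by
    obtain ⟨k', hk', e1⟩ := hk
    obtain rfl : k' = k := Subtype.ext e1
    exact (QuotientGroup.eq_one_iff _).2
      (H52.map_pPrimeCore_le_of_surjective (QuotientGroup.mk'_surjective _) ⟨k', hk', rfl⟩)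
  have πe : π ⟨e, eX⟩ = 1 := by
    have : p1 ⟨e, eX⟩ = 1 := (QuotientGroup.eq_one_iff _).2 (mem_zpowers e)
    rw [hπ, MonoidHom.comp_apply, this, map_one]
  set F : X := ⟨f, mX.2 fe⟩ with hF
  have FF : F * F = 1 := Subtype.ext ff
  have ss : π F * π F = 1 := by rw [← map_mul, FF, map_one]
  have key : ∀ c : X, Commute (π c * π F * (π c)⁻¹) (π F) →
      ∃ o ∈ Oc X, o * c * f * (o * c)⁻¹ = f ∨ o * c * f * (o * c)⁻¹ = f * e := fun c hc => by
    have b2 : (c : G) * f * (c : G)⁻¹ * ((c : G) * f * (c : G)⁻¹) = 1 := by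
      rw [conj_mul, ff]; simp
    have k1 : π (F * (c * F * c⁻¹) * (F * (c * F * c⁻¹))) = 1 := by
      simp only [map_mul, map_inv]
      rw [mul_assoc, ← mul_assoc _ (π F), hc.eq, mul_assoc, conj_mul, ss]
      simp [ss]
    obtain ⟨v, hv, o, ho, e1⟩ := ker _ k1
    have vv : v * v = 1 := by rcases ze v hv with rfl | rfl <;> simp [ee]
    obtain ⟨w, hw, e2⟩ := dih (odd_Oc X) ff b2 ho vv (cz o (Oc_le X ho) v hv).symm e1
    have e3 : w * ((c : G) * f * (c : G)⁻¹) * w⁻¹ = w * c * f * (w * c)⁻¹ := by group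
    rw [e3] at e2
    refine ⟨w, hw, H _ (mX.1 (mul_mem (Oc_le X hw) c.2)) ?_⟩
    rcases ze v hv with rfl | rfl
    · exact Or.inl (by rw [e2, mul_one])
    · exact Or.inr e2
  have cen : ∀ g, π F * g = g * π F := by
    by_contra hz
    have s1 : π F ≠ 1 := fun e1 => hz fun g => by simp [e1]
    obtain ⟨g, g1, g2⟩ := H69.SlRed.iso (fun N hN hodd => le_bot_iff.1 (by
        rw [← H52.pPrimeCore_quotient_pPrimeCore (p := 2)]
        exact H52.le_pPrimeCore (Nat.coprime_two_right.2 hodd)))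
      (orderOf_eq_prime (by rw [pow_two, ss]) s1) hz
    obtain ⟨c, rfl⟩ := sj g
    obtain ⟨o, ho, e1⟩ := key c g1
    apply g2
    have o1 := πO ⟨o, Oc_le X ho⟩ ho
    rcases e1 with e1 | e1
    · have : (⟨o, Oc_le X ho⟩ * c * F * (⟨o, Oc_le X ho⟩ * c)⁻¹ : X) = F := Subtype.ext e1
      have := congrArg π this
      simpa [o1] using this
    · have : (⟨o, Oc_le X ho⟩ * c * F * (⟨o, Oc_le X ho⟩ * c)⁻¹ : X) = F * ⟨e, eX⟩ :=
        Subtype.ext e1
      have := congrArg π this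
      simpa [o1, πe] using this
  exact key ⟨c, mX.2 hc⟩ (cen _).symm

end Gen

section Main
variable {Γ : Type} [Group Γ] {G : Type u} [Group G] [Finite G] {φ : Γ →* G} {t : G}
  {O : Subgroup G} {z y σ τ : Γ} {E Λ : Subgroup Γ}

omit [Finite G] in
theorem nrm_mem {Y : Subgroup G} {g x : G} (hg : g ∈ N[Y]) (hx : x ∈ Y) : g * x * g⁻¹ ∈ Y :=
  (mem_normalizer_iff.1 hg x).1 hx

/-- odd subgroups normalised by `Λ`: the fixed points of `t` centralise `z` -/
theorem fix_t (ja : JA z y σ τ E Λ) (cx : Cx φ t O) {e : Γ} (he : e ∈ E) (e1 : e ≠ 1)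
    {Q : Subgroup G} (hQ : Odd (Nat.card Q)) (Qe : ∀ x ∈ Q, x * φ e = φ e * x)
    (nQ : ∀ l ∈ Λ, φ l ∈ N[Q]) {x : G} (hx : x ∈ Q) (xt : x * t = t * x) :
    x * φ z = φ z * x := by
  have zz : z * z = 1 := ja.wf.el z (ja.wf.ZW ja.wf.zZ)
  obtain ⟨ι⟩ := ja.jf.iso
  haveI : IsSimpleGroup Λ := ι.isSimpleGroup
  have nR : ((Q.comap φ).subgroupOf Λ).Normal := ⟨fun v hv g => by
    rw [mem_subgroupOf, mem_comap] at hv ⊢
    simp only [coe_mul, coe_inv, map_mul, map_inv]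
    exact nrm_mem (nQ g g.2) hv⟩
  have odd : ∀ q ∈ Q, Odd (orderOf q) := fun q hq => hQ.of_dvd_nat (Q.orderOf_dvd_natCard hq)
  have R : ∀ l ∈ Λ, φ l ∈ Q → l = 1 := by
    rcases nR.eq_bot_or_eq_top with h | h
    · intro l hl hq
      have : (⟨l, hl⟩ : Λ) ∈ (Q.comap φ).subgroupOf Λ := hq
      rw [h, mem_bot] at this
      exact congrArg Subtype.val this
    · have : (⟨z, ja.jf.zL⟩ : Λ) ∈ (Q.comap φ).subgroupOf Λ := by rw [h]; trivial
      have h1 := odd (φ z) this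
      rw [orderOf_injective φ cx.inj, orderOf_eq_prime (p := 2) (by rw [pow_two, zz]) ja.wf.z1] at h1
      exact absurd h1 (by decide)
  obtain ⟨α, hα⟩ := cx.aut xt
  have pw : ∀ n : ℕ, ∀ a, φ ((α ^ n) a) = x ^ n * φ a * (x ^ n)⁻¹ := fun n => by
    induction n with
    | zero => simp
    | succ n ih => intro a; rw [pow_succ', MulAut.mul_apply, hα, ih, pow_succ']; group
  obtain ⟨k, hk⟩ := odd x hx
  have a1 : α ^ (2 * k + 1) = 1 := by
    ext a
    apply cx.inj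
    rw [pw, ← hk, pow_orderOf_eq_one]; simp
  have inn : H46.S94.Inn α := by
    have h2 : ∀ n : ℕ, H46.S94.Inn ((α * α) ^ n) := fun n => by
      induction n with
      | zero => exact H46.S94.Inn.one
      | succ n ih => rw [pow_succ]; exact ih.mul (ja.base.sq α)
    refine H46.S94.Inn.of_mul_left (h2 k) ?_
    rw [← pow_two, ← pow_mul, ← pow_succ, a1]; exact H46.S94.Inn.one
  obtain ⟨a, ha⟩ := inn
  have ae : a * e * a⁻¹ = e := by
    apply cx.inj
    rw [← MulAut.conj_apply, ← ha, hα, Qe x hx, mul_inv_cancel_right]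
  have aN : a ∈ N[Λ] := sup_le (ja.jf.EC.trans (centralizer_le_normalizer _)) le_normalizer
    (ja.jf.cze e he e1 (mem_Cz.2 (mul_inv_eq_iff_eq_mul.1 ae)))
  have m1 : a * z * a⁻¹ * z⁻¹ ∈ Λ :=
    mul_mem ((mem_normalizer_iff.1 aN z).1 ja.jf.zL) (inv_mem ja.jf.zL)
  have e2 : φ (a * z * a⁻¹ * z⁻¹) = x * φ z * x⁻¹ * (φ z)⁻¹ := by
    rw [map_mul, ← MulAut.conj_apply, ← ha, hα, map_inv]
  have m2 : φ (a * z * a⁻¹ * z⁻¹) ∈ Q := by
    rw [e2, mul_assoc, mul_assoc, ← mul_assoc (φ z)]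
    exact mul_mem hx (nrm_mem (nQ z ja.jf.zL) (inv_mem hx))
  rw [R _ m1 m2, map_one] at e2
  exact mul_inv_eq_iff_eq_mul.1 (mul_inv_eq_one.1 e2.symm)

end Main

theorem zs : ZSStmt.{u} := by
  intro Γ _ G _ _ φ t O D P M f z y σ τ E Λ ja cx ds pj ys e he e1 H c hc
  obtain ⟨e0, he0, rfl⟩ := he
  have e01 : e0 ≠ 1 := fun h => e1 (by rw [h, map_one])
  have zz : z * z = 1 := ja.wf.el z (ja.wf.ZW ja.wf.zZ)
  have zz' : φ z * φ z = 1 := by rw [← map_mul, zz, map_one]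
  have z1' : φ z ≠ 1 := fun h => ja.wf.z1 (cx.inj (by rw [h, map_one]))
  have elE : ∀ a ∈ E.map φ, a * a = 1 := by
    rintro _ ⟨a, ha, rfl⟩
    rw [← map_mul, ja.wf.el a (mem_sup_left ha), map_one]
  have eE : φ e0 ∈ E.map φ := ⟨e0, he0, rfl⟩
  set X := centralizer ({φ e0} : Set G) with hX
  have mX : ∀ {x}, x ∈ X ↔ x * φ e0 = φ e0 * x := mem_centralizer_singleton_iff
  have CX : C[E.map φ] ≤ X := fun x hx => mX.2 (hx _ eE).symm
  have LX : ∀ l ∈ Λ, φ l ∈ X := fun l hl =>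
    mX.2 (by rw [← map_mul, ← map_mul, ja.jf.EC he0 l hl])
  have tX : t ∈ X := mX.2 (cx.AC e0).symm
  have zZ : φ z ∈ (Z2 z y).map φ := ⟨z, ja.wf.zZ, rfl⟩
  have ft : ∀ x ∈ Oc X, x * t = t * x → x * φ z = φ z * x := fun x hx xt =>
    fix_t ja cx he0 e01 (odd_Oc X) (fun x hx => mX.1 (Oc_le X hx))
      (fun l hl => le_norm_Oc X (LX l hl)) hx xt
  have zO : Oc X ≤ centralizer {φ z} := by
    refine H89.Rec.four_gen zz' cx.tt (cx.AC z) z1' cx.t1 (cx.tA ja.base z) (odd_Oc X)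
      (le_norm_Oc X (LX z ja.jf.zL)) (le_norm_Oc X tX)
      (fun x _ h => mem_centralizer_singleton_iff.2 h)
      (fun x hx h => mem_centralizer_singleton_iff.2 (ft x hx h)) fun x hx h => ?_
    obtain ⟨p, hp, ep⟩ := ys.tD _ (ds.d4.ZD zZ)
    have pz : p * φ z = φ z * p := pj.sp.ZC zZ p hp
    have m : p⁻¹ * x * p⁻¹⁻¹ ∈ Oc X := nrm_mem (le_norm_Oc X (inv_mem (CX (pj.cE hp)))) hx
    have k := ft _ m (by
      have h' : x * (p * t * p⁻¹) = p * t * p⁻¹ * x := by rw [ep]; exact h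
      calc p⁻¹ * x * p⁻¹⁻¹ * t = p⁻¹ * (x * (p * t * p⁻¹)) * p := by group
        _ = t * (p⁻¹ * x * p⁻¹⁻¹) := by rw [h']; group)
    refine mem_centralizer_singleton_iff.2 ?_
    calc x * φ z = p * (p⁻¹ * x * p⁻¹⁻¹ * φ z) * p⁻¹ := by
          rw [inv_inv, mul_assoc _ p, pz]; group
      _ = φ z * x := by rw [k, ← mul_assoc, pz]; group
  have MX : M ≤ X := (le_centralizer_iff.1 ys.EM).trans CX
  have PM : P ≤ M := ys.PM ▸ inf_le_right
  have zM : φ z ∈ M := PM (pj.iv.ZP zZ)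
  have MO : M ≤ C[Oc X] := by
    refine H85.qs_le_of_mem ys.qs
      (MX.trans ((le_norm_Oc X).trans (H83.normalizer_le_normalizer_centralizer _))) zM
      (fun x hx => mem_centralizer_singleton_iff.1 (zO hx)) fun hz => ?_
    have m : (⟨φ z, zM⟩ : M) ∈ center M :=
      mem_center_iff.2 fun g => Subtype.ext (hz g g.2)
    have h1 := ys.oZ.of_dvd_nat ((center M).orderOf_dvd_natCard m)
    rw [orderOf_eq_prime (p := 2) (by rw [pow_two]; exact Subtype.ext zz')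
      (fun h => z1' (congrArg Subtype.val h))] at h1
    exact absurd h1 (by decide)
  have c4 : Nat.card (E.map φ) = 4 := by
    rw [← ja.jf.cE4]; exact card_map_of_injective cx.inj
  have ee := elE _ eE
  obtain ⟨g, gE, g1, ge⟩ : ∃ g ∈ E.map φ, g ≠ 1 ∧ g ≠ φ e0 := by
    by_contra hn
    push Not at hn
    have le : E.map φ ≤ zpowers (φ e0) := fun g hg => by
      by_cases g1 : g = 1
      · rw [g1]; exact one_mem _
      · rw [hn g hg g1]; exact mem_zpowers _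
    have := card_le_of_le le
    rw [c4, Nat.card_zpowers, H72.ord2 ee e1] at this
    omega
  have ge' : g * φ e0 = φ e0 * g :=
    H89.Rec.commute_of_sq (elE _ gE) ee (elE _ (mul_mem gE eE))
  have i2 : H72.Inv2 g (φ e0) := ⟨elE _ gE, ee, g1, e1, ge, ge'⟩
  have E4 : H72.four g (φ e0) = E.map φ :=
    eq_of_le_of_card_ge (H72.four_le gE eE) (by rw [c4, i2.card])
  have nE : ∀ k, k * φ e0 = φ e0 * k → (k * g * k⁻¹ = g ∨ k * g * k⁻¹ = g * φ e0) →
      k ∈ N[E.map φ] := fun k k1 k2 => by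
    refine H8.mem_normalizer_of_conj_smul_le ?_
    nth_rewrite 1 [← E4]
    rw [H72.conj_four, k1, mul_inv_cancel_right]
    refine H72.four_le ?_ eE
    rcases k2 with h | h <;> rw [h]
    exacts [gE, mul_mem gE eE]
  obtain ⟨o, ho, h⟩ := zstar ee (elE _ gE) ge' (fun k k1 k2 => by
    have kX := mX.2 k1
    have m := H k k1 (by
      nth_rewrite 1 [← E4]
      rw [H72.conj_four, k1, mul_inv_cancel_right]
      exact H72.four_le (nE _ (mX.1 (mul_mem (mul_mem kX (mX.2 ge')) (inv_mem kX))) k2)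
        (le_normalizer eE))
    have m2 := nrm_mem m gE
    rw [← E4, i2.mem_iff] at m2
    rcases m2 with h | h | h | h
    · exact absurd (conj_eq_one_iff.1 h) g1
    · exact Or.inl h
    · exact absurd (mul_left_cancel ((mul_inv_eq_iff_eq_mul.1 h).trans k1.symm)) ge
    · exact Or.inr h) hc
  have oM : o ∈ N[M] := centralizer_le_normalizer _ (le_centralizer_iff.1 MO ho)
  exact (mul_mem_cancel_left oM).1
    (ys.nE (nE _ (mX.1 (mul_mem (Oc_le X ho) (mX.2 hc))) h))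

end Cfsg.Agent.H19.S94Z
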