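import Cfsg.Agent.H56.SpDefs
import Cfsg.Agent.H60.OddInv

/-! Project CY, chapter SP: the Brauer-Wielandt count. -/

set_option autoImplicit false

namespace Cfsg.Agent.H19.SpBw

open Subgroup MulAction Cfsg.Agent.H11.Cy Cfsg.Agent.H56.Sp
open Cfsg.Agent.H45.Iv (Fx)

variable {G : Type} [Group G] [Finite G] {Ω : Type} [MulAction G Ω]

theorem orb (C : Subgroup G) (y : Ω) (S : Set Ω) (hS : ∀ w, w ∈ S ↔ ∃ c ∈ C, c • y = w) :
    Nat.card C = S.ncard * Nat.card (C ⊓ stabilizer G y : Subgroup G) := by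
  have e1 : orbit C y = S := Set.ext fun w => by
    rw [hS]
    exact ⟨fun ⟨c, hc⟩ => ⟨c.1, c.2, hc⟩, fun ⟨c, hc, e⟩ => ⟨⟨c, hc⟩, e⟩⟩
  have e2 : stabilizer C y = (C ⊓ stabilizer G y).subgroupOf C :=
    Subgroup.ext fun c => ⟨fun h => ⟨c.2, h⟩, fun h => h.2⟩
  rw [← (stabilizer C y).index_mul_card, index_stabilizer, e1, e2,
    Nat.card_congr (subgroupOfEquivOfLe inf_le_left).toEquiv]

theorem lift {H : Subgroup G} (hH : Odd (Nat.card H)) {v : G} (hv : v * v = 1)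
    (hn : ∀ h ∈ H, v * h * v ∈ H) {y y' : Ω} (hy : v • y = y) (hy' : v • y' = y') {o : G}
    (ho : o ∈ H) (e : o • y = y') : ∃ o' ∈ H ⊓ centralizer ({v} : Set G), o' • y = y' := by
  have hc : o⁻¹ * (v * o * v) ∈ H := mul_mem (inv_mem ho) (hn o ho)
  have hcy : o⁻¹ * (v * o * v) ∈ stabilizer G y := by
    rw [mem_stabilizer_iff, mul_smul, mul_smul, mul_smul, hy, e, hy', ← e, inv_smul_smul]
  have hvi : v⁻¹ = v := inv_eq_of_mul_eq_one_right hv
  have hi : v * (o⁻¹ * (v * o * v)) * v⁻¹ = (o⁻¹ * (v * o * v))⁻¹ := by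
    calc _ = v * o⁻¹ * v * o * (v * v⁻¹) := by group
      _ = v⁻¹ * o⁻¹ * v⁻¹ * o := by rw [mul_inv_cancel, mul_one, hvi]
      _ = _ := by group
  have h0 : v * o * v⁻¹ = o * (o⁻¹ * (v * o * v)) := by rw [hvi]; group
  obtain ⟨m, hm⟩ := hH
  have h1 : (o⁻¹ * (v * o * v)) ^ (2 * m + 1) = 1 := by
    have := pow_card_eq_one' (x := (⟨_, hc⟩ : H))
    rw [hm] at this
    exact congrArg Subtype.val this
  generalize o⁻¹ * (v * o * v) = c at hc hcy hi h0 h1
  refine ⟨o * c ^ (m + 1), ⟨mul_mem ho (pow_mem hc _), mem_centralizer_singleton_iff.2 ?_⟩, ?_⟩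
  · symm
    rw [← mul_inv_eq_iff_eq_mul]
    calc _ = (v * o * v⁻¹) * (v * c * v⁻¹) ^ (m + 1) := by rw [conj_pow]; group
      _ = o * c ^ (m + 1) * (c ^ (2 * m + 1))⁻¹ := by rw [h0, hi]; group
      _ = _ := by rw [h1, inv_one, mul_one]
  · rw [mul_smul, mem_stabilizer_iff.1 (pow_mem hcy _), e]

theorem cnt {O : Subgroup G} (hO : Odd (Nat.card O)) {x y : Ω} (hxy : x ≠ y)
    (hx : O ≤ stabilizer G x) (tr : ∀ y y', y ≠ x → y' ≠ x → ∃ o ∈ O, o • y = y') {v : G}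
    (hv : v * v = 1) (hn : ∀ h ∈ O, v * h * v ∈ O) (hy : v • y = y) (w : Ω) :
    w ∈ Fx Ω v \ {x} ↔ ∃ c ∈ O ⊓ centralizer ({v} : Set G), c • y = w := by
  constructor
  · rintro ⟨h1, h2⟩
    obtain ⟨o, ho, e⟩ := tr y w hxy.symm h2
    exact lift hO hv hn hy h1 ho e
  · rintro ⟨c, hc, rfl⟩
    refine ⟨?_, fun e => hxy (MulAction.injective c ((hx hc.1).trans (Eq.symm e)))⟩
    show v • c • y = c • y
    rw [← mul_smul, ← mem_centralizer_singleton_iff.1 hc.2, mul_smul, hy]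

theorem bw : BwStmt := by
  intro G _ _ Ω _ _ p A h hy ot x y hxy z hz t ht tt _ _
  obtain ⟨O, hO, hx, hN, tr⟩ := ot x
  have l := hy.lf x y hxy
  have kz := (hy.mc.ep.kfix x y hxy z).1 (l.cen z hz)
  have kt := (hy.mc.ep.kfix x y hxy t).1 ht
  have zz := hz.2.2
  have tz : t * z = z * t := (ht z hz.1).symm
  have tz2 : t * z * (t * z) = 1 := by
    calc _ = t * (z * t) * z := by group
      _ = t * t * (z * z) := by rw [← tz]; group
      _ = 1 := by rw [tt, zz, one_mul]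
  have nO : ∀ v : G, v * v = 1 → v • x = x → ∀ k ∈ O, v * k * v ∈ O := fun v hv hvx k hk => by
    have := (mem_normalizer_iff.1 (hN hvx) k).1 hk
    rwa [inv_eq_of_mul_eq_one_right hv] at this
  have nOy : ∀ v : G, v * v = 1 → v • x = x → v • y = y → ∀ k ∈ O ⊓ stabilizer G y,
      v * k * v ∈ O ⊓ stabilizer G y := fun v hv hvx hvy k hk =>
    ⟨nO v hv hvx k hk.1, mul_mem (mul_mem hvy hk.2) hvy⟩
  have tx := kt x l.mem.1
  have ty := kt y l.mem.2
  have zx := kz x l.mem.1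
  have zy := kz y l.mem.2
  have tzx : (t * z) • x = x := by rw [mul_smul, zx, tx]
  have tzy : (t * z) • y = y := by rw [mul_smul, zy, ty]
  have hOy : Odd (Nat.card (O ⊓ stabilizer G y : Subgroup G)) :=
    hO.of_dvd_nat (card_dvd_of_le inf_le_left)
  have b1 := H60.brauer_wielandt hO tt zz tz (nO t tt tx) (nO z zz zx)
  have b2 := H60.brauer_wielandt hOy tt zz tz (nOy t tt tx ty) (nOy z zz zx zy)
  have c0 := orb O y (Set.univ \ {x}) fun w =>
    ⟨fun hw => tr y w hxy.symm hw.2, by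
      rintro ⟨c, hc, rfl⟩
      exact ⟨trivial, fun e => hxy (MulAction.injective c ((hx hc).trans (Eq.symm e)))⟩⟩
  have c1 := orb _ y _ (cnt hO hxy hx tr tt (nO t tt tx) ty)
  have c2' := cnt hO hxy hx tr zz (nO z zz zx) zy
  have c2 := orb _ y _ c2'
  have c3 := orb _ y _ (cnt hO hxy hx tr tz2 (nO _ tz2 tzx) tzy)
  have c4 := orb (O ⊓ centralizer ({t, z} : Set G)) y (Fx Ω z \ {x}) fun w => by
    constructor
    · intro hw
      obtain ⟨o, ho, e⟩ := (c2' w).1 hw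
      obtain ⟨o', ho', e'⟩ := lift (hO.of_dvd_nat (card_dvd_of_le
        (inf_le_left : O ⊓ centralizer ({z} : Set G) ≤ O))) tt (fun k hk => ⟨nO t tt tx k hk.1, by
          have m : t ∈ centralizer ({z} : Set G) := mem_centralizer_singleton_iff.2 tz
          exact mul_mem (mul_mem m hk.2) m⟩) ty (kt w (hy.fz x y hxy z hz ▸ hw.1)) ho e
      refine ⟨o', ⟨ho'.1.1, ?_⟩, e'⟩
      rintro g (rfl | rfl)
      · exact ho'.2 _ rfl
      · exact ho'.1.2 _ rfl
    · rintro ⟨c, hc, rfl⟩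
      exact (c2' _).2 ⟨c, ⟨hc.1, fun g hg => hc.2 g (Or.inr hg)⟩, rfl⟩
  have e1 : (Fx Ω z \ {x}).ncard = p := by
    rw [Set.ncard_diff_singleton_of_mem (show x ∈ Fx Ω z from zx), hy.fz x y hxy z hz, l.ln,
      Nat.add_sub_cancel]
  rw [e1] at c2 c4
  rw [Set.ncard_diff_singleton_of_mem (Set.mem_univ x), Set.ncard_univ] at c0
  rw [Set.ncard_diff_singleton_of_mem (show x ∈ Fx Ω t from tx)] at c1
  rw [Set.ncard_diff_singleton_of_mem (show x ∈ Fx Ω (t * z) from tzx)] at c3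
  rw [inf_right_comm] at c1 c2 c3 c4
  rw [c0, c1, c2, c3, c4] at b1
  have hp : 0 < p * (Nat.card (O ⊓ stabilizer G y : Subgroup G) *
      Nat.card (O ⊓ stabilizer G y ⊓ centralizer ({t, z} : Set G) : Subgroup G) ^ 2) :=
    Nat.mul_pos h.pp.pos (Nat.mul_pos Nat.card_pos (pow_pos Nat.card_pos _))
  refine Nat.eq_of_mul_eq_mul_right hp ?_
  calc _ = (Nat.card Ω - 1) * Nat.card (O ⊓ stabilizer G y : Subgroup G) *
        (p * Nat.card (O ⊓ stabilizer G y ⊓ centralizer ({t, z} : Set G) : Subgroup G)) ^ 2 := by ring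
    _ = _ := by rw [b1, b2]; ring

end Cfsg.Agent.H19.SpBw
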