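import Mathlib
import Cfsg.Agent.H19.SymAlt
import Cfsg.Agent.H14.Clifford

/-!
The Sylow `p`-subgroups of the symmetric and alternating groups have irreducible characters
of degree `p` as soon as they are not commutative.
-/

set_option autoImplicit false
set_option linter.unusedSectionVars false

namespace Cfsg.Agent.H19

open Finset Function Equiv Cfsg Cfsg.Agent.H11 Cfsg.Agent.H18
open scoped IsMulCommutative commutatorElement

variable {p : ℕ}

theorem exists_irr_deg_prime {G Q : Type*} [Group G] [Finite G] [Group Q] (hp : p.Prime)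
    (f : G →* Q) {K₁ K₂ : Subgroup Q} [K₁.Normal] (h1 : K₁.index = p)
    (hc : ∀ a ∈ K₁, ∀ b ∈ K₁, ⁅a, b⁆ ∈ K₂) {g q : G} (hg1 : f g ∈ K₁) (hg2 : f g ∉ K₂)
    (hq : f q * f g * (f q)⁻¹ ∈ K₂) : ∃ φ : IrrCharacter G, charDegree φ.1 = p := by
  classical
  have := Fintype.ofFinite G
  let A := K₁.comap f
  have := Fintype.ofFinite A
  let K := (K₂.comap f).subgroupOf A
  have hK : commutator A ≤ K := by
    rw [commutator_def, Subgroup.commutator_le]
    intro a _ b _
    change f ((⁅a, b⁆ : A) : G) ∈ K₂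
    have : ((⁅a, b⁆ : A) : G) = ⁅(a : G), (b : G)⁆ := rfl
    rw [this, map_commutatorElement]
    exact hc _ a.2 _ b.2
  have hn : K.Normal := Subgroup.Normal.of_commutator_le _ hK
  have hcomm : IsMulCommutative (A ⧸ K) :=
    Subgroup.Normal.quotient_commutative_iff_commutator_le.2 hK
  have h2 : (QuotientGroup.mk (⟨g, hg1⟩ : A) : A ⧸ K) ≠ 1 := fun h =>
    hg2 ((QuotientGroup.eq_one_iff (N := K) _).1 h)
  have : NeZero (Monoid.exponent (A ⧸ K)) := ⟨Monoid.exponent_ne_zero_of_finite⟩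
  obtain ⟨l, hl⟩ := CommGroup.exists_apply_ne_one_of_hasEnoughRootsOfUnity (A ⧸ K) ℂ h2
  let lam : A →* ℂˣ := l.comp (QuotientGroup.mk' K)
  have hirr := isIrrCharacter_monoidHom lam
  have hq' : q ∉ H14.inertia A fun a => (lam a : ℂ) := by
    rw [H14.mem_inertia']
    intro h
    have h3 := h ⟨g, hg1⟩
    have h4 : lam ⟨q * g * q⁻¹, (inferInstance : A.Normal).conj_mem _ hg1 q⟩ = 1 := by
      change l (QuotientGroup.mk _) = 1
      rw [(QuotientGroup.eq_one_iff _).2, map_one]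
      change f (q * g * q⁻¹) ∈ K₂
      simpa using hq
    simp only [h4, Units.val_one] at h3
    exact hl (Units.ext h3.symm)
  have hle := H14.le_inertia A (isClassFunction_of_irr hirr)
  have h5 : A.index ∣ p := by
    rw [Subgroup.index_comap, ← h1]
    exact Subgroup.relIndex_dvd_index_of_normal _ _
  have h6 := Subgroup.relIndex_mul_index hle
  have h7 : (H14.inertia A fun a => (lam a : ℂ)).index ≠ 1 := fun h =>
    hq' (Subgroup.index_eq_one.1 h ▸ Subgroup.mem_top q)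
  have h8 : (H14.inertia A fun a => (lam a : ℂ)).index = p :=
    ((Nat.dvd_prime hp).1 ((Dvd.intro_left _ h6).trans h5)).resolve_left h7
  have h9 : A.index = p := Nat.dvd_antisymm h5 (h8 ▸ Dvd.intro_left _ h6)
  rw [h8, h9] at h6
  have h10 := Subgroup.relIndex_eq_one.1
    (Nat.eq_of_mul_eq_mul_right hp.pos (h6.trans (one_mul p).symm))
  refine ⟨⟨_, (H14.isIrr_indFun_iff_inertia_le A hirr).2 h10⟩, H21.charDegree_eq ?_⟩
  change indFun A _ 1 = _
  rw [H14.indFun_one, h9, map_one, Units.val_one, mul_one]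

theorem exists_chain {Q : Type*} [Group Q] [Finite Q] [Fact p.Prime] (hQ : IsPGroup p Q)
    (S : Subgroup Q) (h : p ^ 2 ≤ S.index) : ∃ K₁ K₂ : Subgroup Q, S ≤ K₂ ∧ K₂ ≤ K₁ ∧
      K₁.Normal ∧ K₁.index = p ∧ K₂.index = p ^ 2 ∧ ∀ a ∈ K₁, ∀ b ∈ K₁, ⁅a, b⁆ ∈ K₂ := by
  have hp : p.Prime := Fact.out
  obtain ⟨a, ha⟩ := IsPGroup.iff_card.1 hQ
  obtain ⟨b, hb⟩ := IsPGroup.iff_card.1 (hQ.to_subgroup S)
  have h1 := S.index_mul_card
  have h2 : b + 2 ≤ a := by
    rw [← Nat.pow_le_pow_iff_right hp.one_lt, ← ha, ← h1, hb, pow_add, mul_comm]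
    exact Nat.mul_le_mul_right _ h
  obtain ⟨m, rfl⟩ : ∃ m, a = m + 2 := ⟨a - 2, by omega⟩
  obtain ⟨K₂, hK₂, hS⟩ := Sylow.exists_subgroup_card_pow_prime_le p (m := m)
    (ha ▸ pow_dvd_pow p (by omega)) S hb (by omega)
  obtain ⟨K₁, hK₁, h21⟩ := Sylow.exists_subgroup_card_pow_prime_le p (m := m + 1)
    (ha ▸ pow_dvd_pow p (by omega)) K₂ hK₂ (by omega)
  have hi1 : K₁.index = p := by
    have := K₁.index_mul_card
    rw [ha, hK₁, pow_succ' p (m + 1)] at this
    exact Nat.eq_of_mul_eq_mul_right (pow_pos hp.pos _) this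
  have hi2 : K₂.index = p ^ 2 := by
    have := K₂.index_mul_card
    rw [ha, hK₂, add_comm, pow_add] at this
    exact Nat.eq_of_mul_eq_mul_right (pow_pos hp.pos _) this
  have hi3 : (K₂.subgroupOf K₁).index = p := by
    have := Subgroup.relIndex_mul_index h21
    rw [hi1, hi2, sq] at this
    exact Nat.eq_of_mul_eq_mul_right hp.pos this
  have hn : (K₂.subgroupOf K₁).Normal := Subgroup.normal_of_index_eq_minFac_card (by
    rw [hi3, hK₁, hp.pow_minFac (by omega)])
  refine ⟨K₁, K₂, hS, h21, Subgroup.normal_of_index_eq_minFac_card (by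
    rw [hi1, ha, hp.pow_minFac (by omega)]), hi1, hi2, fun x hx y hy => ?_⟩
  have h3 : commutator K₁ ≤ K₂.subgroupOf K₁ :=
    Subgroup.Normal.quotient_commutative_iff_commutator_le.1
      (isCyclic_of_prime_card (p := p) hi3).isMulCommutative
  exact h3 (Subgroup.commutator_mem_commutator (Subgroup.mem_top (⟨x, hx⟩ : K₁))
    (Subgroup.mem_top ⟨y, hy⟩))

variable {Ω : Type*} [Fintype Ω] [DecidableEq Ω]

/-- The permutations which act on every orbit of `K` as an element of `K`. -/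
def orbitwise (K : Subgroup (Perm Ω)) : Subgroup (Perm Ω) where
  carrier := {σ | ∀ y, ∃ k ∈ K, ∀ l ∈ K, σ (l y) = k (l y)}
  one_mem' := fun _ => ⟨1, one_mem _, fun _ _ => rfl⟩
  mul_mem' := fun {σ τ} hσ hτ y => by
    obtain ⟨k, hk, h⟩ := hσ y
    obtain ⟨k', hk', h'⟩ := hτ y
    refine ⟨k * k', mul_mem hk hk', fun l hl => ?_⟩
    rw [Perm.mul_apply, h' l hl]
    exact h (k' * l) (mul_mem hk' hl)
  inv_mem' := fun {σ} hσ y => by
    obtain ⟨k, hk, h⟩ := hσ y
    refine ⟨k⁻¹, inv_mem hk, fun l hl => ?_⟩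
    rw [Perm.inv_eq_iff_eq]
    have := h (k⁻¹ * l) (mul_mem (inv_mem hk) hl)
    simpa using this.symm

theorem isPGroup_orbitwise [Fact p.Prime] {K : Subgroup (Perm Ω)} (hK : IsPGroup p K) :
    IsPGroup p (orbitwise K) := by
  obtain ⟨a, ha⟩ := IsPGroup.iff_card.1 hK
  intro σ
  refine ⟨a, Subtype.ext (Equiv.ext fun y => ?_)⟩
  obtain ⟨k, hk, h⟩ := σ.2 y
  have h1 : ∀ m : ℕ, (σ.1 ^ m) y = (k ^ m) y := by
    intro m
    induction m with
    | zero => rfl
    | succ m ih => rw [pow_succ', pow_succ', Perm.mul_apply, ih, h _ (pow_mem hk m), Perm.mul_apply]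
  have h2 : k ^ p ^ a = 1 := by
    have := pow_card_eq_one' (x := (⟨k, hk⟩ : K))
    rw [ha] at this
    exact congrArg Subtype.val this
  rw [Subgroup.coe_pow, h1, h2]
  rfl

theorem orbitwise_le [Fact p.Prime] (Q : Sylow p (Perm Ω)) {K : Subgroup (Perm Ω)} (hK : K ≤ Q)
    (hn : ∀ q ∈ (Q : Subgroup (Perm Ω)), ∀ k ∈ K, q * k * q⁻¹ ∈ K) : orbitwise K ≤ Q := by
  have h1 : ∀ q ∈ (Q : Subgroup (Perm Ω)), ∀ σ ∈ orbitwise K, q * σ * q⁻¹ ∈ orbitwise K := by
    intro q hq σ hσ y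
    obtain ⟨k, hk, h⟩ := hσ (q⁻¹ y)
    refine ⟨q * k * q⁻¹, hn q hq k hk, fun l hl => ?_⟩
    have := h (q⁻¹ * l * q⁻¹⁻¹) (hn _ (inv_mem hq) l hl)
    simpa using this
  have h2 : (Q : Subgroup (Perm Ω)) ≤ Nz (orbitwise K) := by
    intro q hq
    rw [Subgroup.mem_normalizer_iff]
    refine fun σ => ⟨h1 q hq σ, fun h => ?_⟩
    have := h1 _ (inv_mem hq) _ h
    simpa [mul_assoc] using this
  have h3 := isPGroup_sup_of_le_Nz (isPGroup_orbitwise (Q.isPGroup'.to_le hK)) Q.isPGroup' h2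
  exact le_sup_right.trans (Q.is_maximal' h3 le_sup_left).le

theorem exists_good [Fact p.Prime] (Q : Sylow p (Perm Ω)) (x : Ω) {K₁ K₂ : Subgroup Q}
    (hS : ∀ g : Q, g.1 x = x → g ∈ K₂) (h21 : K₂ ≤ K₁) [hn : K₁.Normal] (hne : ¬ K₁ ≤ K₂) :
    ∃ g ∈ K₁, g ∉ K₂ ∧ ∀ q ∉ K₁, q * g * q⁻¹ ∈ K₂ := by
  classical
  obtain ⟨g, hg1, hg2⟩ := SetLike.not_le_iff_exists.1 hne
  let O : Ω → Prop := fun z => ∃ k ∈ K₁, k.1 x = z
  have hO : ∀ k ∈ K₁, ∀ z, O (k.1 z) ↔ O z := by
    intro k hk z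
    constructor
    · rintro ⟨l, hl, h⟩
      exact ⟨k⁻¹ * l, mul_mem (inv_mem hk) hl, by simp [h]⟩
    · rintro ⟨l, hl, h⟩
      exact ⟨k * l, mul_mem hk hl, by simp [h]⟩
  let g' : Perm Ω := Perm.ofSubtype (g.1.subtypePerm (hO g hg1))
  have h1 : ∀ z, O z → g' z = g.1 z := fun z hz => Perm.ofSubtype_subtypePerm_of_mem _ hz
  have h2 : ∀ z, ¬ O z → g' z = z := fun z hz => Perm.ofSubtype_subtypePerm_of_not_mem _ hz
  have hx : O x := ⟨1, one_mem _, rfl⟩
  have h3 : g' ∈ (Q : Subgroup (Perm Ω)) := by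
    refine orbitwise_le Q (K := K₁.map (Q : Subgroup (Perm Ω)).subtype)
      (Subgroup.map_subtype_le _) ?_ fun y => ?_
    · rintro q hq _ ⟨k, hk, rfl⟩
      exact ⟨_, hn.conj_mem k hk ⟨q, hq⟩, rfl⟩
    · by_cases hy : O y
      · refine ⟨g.1, ⟨g, hg1, rfl⟩, ?_⟩
        rintro _ ⟨l, hl, rfl⟩
        exact h1 _ ((hO l hl y).2 hy)
      · refine ⟨1, one_mem _, ?_⟩
        rintro _ ⟨l, hl, rfl⟩
        exact h2 _ fun h => hy ((hO l hl y).1 h)
  have h4 : g⁻¹ * ⟨g', h3⟩ ∈ K₂ := hS _ (by simp [h1 x hx])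
  refine ⟨⟨g', h3⟩, ?_, fun h => hg2 ?_, fun q hq => hS _ ?_⟩
  · simpa using mul_mem hg1 (h21 h4)
  · simpa using mul_mem h (inv_mem h4)
  · have h5 : ¬ O (q.1⁻¹ x) := by
      rintro ⟨k, hk, h⟩
      have h6 : q * k ∈ K₂ := hS _ (by simp [h])
      exact hq (by simpa using mul_mem (h21 h6) (inv_mem hk))
    change q.1 (g' (q.1⁻¹ x)) = x
    rw [h2 _ h5]
    simp

theorem card_support_le_index [Fact p.Prime] (Q : Sylow p (Perm Ω)) {c : Perm Ω}
    (hc : c.IsCycle) (hcQ : c ∈ (Q : Subgroup (Perm Ω))) {x : Ω} (hx : c x ≠ x) :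
    (c.support : Set Ω) ⊆ MulAction.orbit (Q : Subgroup (Perm Ω)) x := by
  intro y hy
  obtain ⟨i, hi⟩ := hc.exists_pow_eq hx (Perm.mem_support.1 hy)
  exact ⟨⟨c ^ i, pow_mem hcQ i⟩, hi⟩

theorem exists_deg_prime_alt [Fact p.Prime] (Q : Sylow p (Perm Ω)) (h : p ^ 2 ≤ Fintype.card Ω)
    (h2 : p = 2 → 6 ≤ Fintype.card Ω) :
    ∃ φ : IrrCharacter ((Q : Subgroup (Perm Ω)) ⊓ alternatingGroup Ω : Subgroup (Perm Ω)),
      charDegree φ.1 = p := by
  classical
  have hp : p.Prime := Fact.out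
  have hp4 : 2 ≤ p ^ 2 := hp.two_le.trans (Nat.le_self_pow two_ne_zero p)
  -- a cycle of length `p ^ 2` and (for `p = 2`) a disjoint transposition in `Q`
  obtain ⟨c, t, hcQ, htQ, hc, hcs, hd, ht⟩ : ∃ c t : Perm Ω, c ∈ (Q : Subgroup (Perm Ω)) ∧
      t ∈ (Q : Subgroup (Perm Ω)) ∧ c.IsCycle ∧ #c.support = p ^ 2 ∧ c.Disjoint t ∧
      (p = 2 → t.IsSwap) := by
    obtain ⟨u, hu⟩ := (Perm.exists_with_cycleType_iff Ω
      (m := p ^ 2 ::ₘ if p = 2 then {2} else 0)).2 ⟨by
        split_ifs with h3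
        · have := h2 h3
          subst h3
          simpa using this
        · simpa using h, by
        intro a ha
        rcases Multiset.mem_cons.1 ha with rfl | ha
        · exact hp4
        · split_ifs at ha <;> simp_all⟩
    obtain ⟨c, t, rfl, hd, hc, hcs⟩ := Perm.mem_cycleType_iff.1
      (hu ▸ Multiset.mem_cons_self _ _ : p ^ 2 ∈ u.cycleType)
    rw [hd.cycleType_mul, hc.cycleType, hcs, Multiset.singleton_add, Multiset.cons_inj_right] at hu
    have hto : t ^ p = 1 := by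
      rw [Perm.pow_prime_eq_one_iff, hu]
      split_ifs <;> simp_all
    have hc1 : IsPGroup p (Subgroup.zpowers c) := H20.isPGroup_zpowers ⟨2, hc.orderOf.trans hcs⟩
    have ht1 : IsPGroup p (Subgroup.zpowers t) := by
      rintro ⟨_, k, rfl⟩
      refine ⟨1, Subtype.ext ?_⟩
      simp only [pow_one, Subgroup.coe_pow, Subgroup.coe_one]
      rw [← zpow_natCast, ← zpow_mul, mul_comm, zpow_mul, zpow_natCast, hto, one_zpow]
    have h3 := isPGroup_sup_of_le_Nz hc1 ht1 (by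
      refine le_trans ?_ (Cz_le_Nz _)
      rw [Subgroup.zpowers_le]
      exact (H20.centralizer_zpowers c).ge (H17.mem_Cg.2 hd.commute.symm.eq))
    obtain ⟨g, -, hg⟩ := (isSyl_top_iff.2 ⟨Q, rfl⟩).exists_cs_le le_top h3
    refine ⟨g * c * g⁻¹, g * t * g⁻¹,
      hg ⟨c, Subgroup.mem_sup_right (Subgroup.mem_zpowers _), rfl⟩,
      hg ⟨t, Subgroup.mem_sup_left (Subgroup.mem_zpowers _), rfl⟩, hc.conj,
      Perm.card_support_conj.trans hcs, hd.conj g, fun h4 => ?_⟩
    rw [Perm.isSwap_iff_cycleType, Perm.cycleType_conj, hu, if_pos h4]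
  obtain ⟨x, hx, -⟩ := id hc
  have horb := card_support_le_index Q hc hcQ hx
  have hidx := MulAction.index_stabilizer (Q : Subgroup (Perm Ω)) x
  have h3 : p ^ 2 ≤ (MulAction.stabilizer (Q : Subgroup (Perm Ω)) x).index := by
    rw [hidx, ← hcs, ← Set.ncard_coe_finset]
    exact Set.ncard_le_ncard horb
  obtain ⟨K₁, K₂, hS, h21, hn, hi1, hi2, hcm⟩ := exists_chain Q.isPGroup' _ h3
  have hS' : ∀ g : Q, g.1 x = x → g ∈ K₂ := fun g hg => hS hg
  have hne : ¬ K₁ ≤ K₂ := fun h4 => by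
    rw [le_antisymm h4 h21, hi2, sq] at hi1
    exact hp.one_lt.ne' (Nat.eq_of_mul_eq_mul_left hp.pos (hi1.trans (mul_one p).symm))
  obtain ⟨g, hg1, hg2, hg3⟩ := exists_good Q x hS' h21 hne
  obtain ⟨q, hq⟩ : ∃ q, q ∉ K₁ := by
    by_contra h4
    push Not at h4
    rw [Subgroup.index_eq_one.2 ((Subgroup.eq_top_iff' _).2 h4)] at hi1
    exact hp.one_lt.ne hi1
  -- replace `g` and `q` by even permutations
  obtain ⟨g, q, hg1, hg2, hq, hgA, hqA⟩ : ∃ g q : Q, g ∈ K₁ ∧ g ∉ K₂ ∧ q * g * q⁻¹ ∈ K₂ ∧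
      g.1 ∈ alternatingGroup Ω ∧ q.1 ∈ alternatingGroup Ω := by
    by_cases hp2 : p = 2
    swap
    · exact ⟨g, q, hg1, hg2, hg3 q hq, le_alt_of_odd hp2 Q.isPGroup' g.2,
        le_alt_of_odd hp2 Q.isPGroup' q.2⟩
    have hts := ht hp2
    have key : ∀ q : Q, q * ⟨t, htQ⟩ * q⁻¹ ∈ K₂ := by
      intro q
      by_contra h4
      set s : Q := q * ⟨t, htQ⟩ * q⁻¹ with hs
      have h5 : ∀ k ∈ K₂, ∀ l ∈ K₂, s.1 (k.1 x) ≠ l.1 x := by
        intro k hk l hl h6
        have h7 : l⁻¹ * s * k ∈ K₂ := hS' _ (by simp [h6])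
        exact h4 (by simpa [mul_assoc] using mul_mem (mul_mem hl h7) (inv_mem hk))
      by_cases h6 : ∃ k ∈ K₂, k.1 x ≠ x
      · obtain ⟨k, hk, h7⟩ := h6
        have h8 : #s.1.support = 2 :=
          Perm.card_support_conj.trans (Perm.card_support_eq_two.2 hts)
        have e1 : s.1 x ≠ x := h5 1 (one_mem _) 1 (one_mem _)
        have e2 : s.1 x ≠ k.1 x := h5 1 (one_mem _) k hk
        have e3 : s.1 (k.1 x) ≠ k.1 x := h5 k hk k hk
        have h9 : ({x, k.1 x, s.1 x} : Finset Ω) ⊆ s.1.support := by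
          intro y hy
          simp only [mem_insert, mem_singleton] at hy
          rcases hy with rfl | rfl | rfl
          · exact Perm.mem_support.2 e1
          · exact Perm.mem_support.2 e3
          · exact Perm.apply_mem_support.2 (Perm.mem_support.2 e1)
        have h10 := card_le_card h9
        rw [h8, card_eq_three.2 ⟨_, _, _, h7.symm, e1.symm, e2.symm, rfl⟩] at h10
        omega
      · push Not at h6
        have h7 : K₂ ≤ MulAction.stabilizer (Q : Subgroup (Perm Ω)) x := h6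
        have h8 := Nat.le_of_dvd (hi2 ▸ pow_pos hp.pos 2) (Subgroup.index_dvd_of_le h7)
        rw [hi2, hidx, ← hcs, ← Set.ncard_coe_finset] at h8
        have h9 := Set.eq_of_subset_of_ncard_le horb h8
        have h10 : q.1⁻¹ x ∈ (c.support : Set Ω) := h9 ▸ ⟨q⁻¹, rfl⟩
        have h11 : t (q.1⁻¹ x) = q.1⁻¹ x :=
          (hd _).resolve_left (Perm.mem_support.1 h10)
        refine h4 (hS' _ ?_)
        change q.1 (t (q.1⁻¹ x)) = x
        rw [h11]
        simp
    have ht2 : (⟨t, htQ⟩ : Q) ∈ K₂ := by simpa using key 1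
    have hodd : ∀ σ : Perm Ω, σ ∉ alternatingGroup Ω → σ * t ∈ alternatingGroup Ω := by
      intro σ hσ
      rw [Perm.mem_alternatingGroup] at hσ ⊢
      rw [Perm.sign_mul, hts.sign_eq, (Int.units_eq_one_or _).resolve_left hσ]
      decide
    obtain ⟨q, hq, hqA⟩ : ∃ q : Q, q ∉ K₁ ∧ q.1 ∈ alternatingGroup Ω := by
      by_cases h4 : q.1 ∈ alternatingGroup Ω
      · exact ⟨q, hq, h4⟩
      · exact ⟨q * ⟨t, htQ⟩, fun h5 => hq ((K₁.mul_mem_cancel_right (h21 ht2)).1 h5), hodd _ h4⟩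
    by_cases h4 : g.1 ∈ alternatingGroup Ω
    · exact ⟨g, q, hg1, hg2, hg3 q hq, h4, hqA⟩
    · refine ⟨g * ⟨t, htQ⟩, q, mul_mem hg1 (h21 ht2),
        fun h5 => hg2 ((K₂.mul_mem_cancel_right ht2).1 h5), ?_, hodd _ h4, hqA⟩
      simpa [mul_assoc] using mul_mem (hg3 q hq) (key q)
  exact exists_irr_deg_prime hp (Subgroup.inclusion (inf_le_left :
    (Q : Subgroup (Perm Ω)) ⊓ alternatingGroup Ω ≤ Q)) hi1 hcm (g := ⟨g.1, g.2, hgA⟩)
    (q := ⟨q.1, q.2, hqA⟩) hg1 hg2 hq

/-! ### Heights -/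

theorem fact_mul_add [Fact p.Prime] (m : ℕ) {r : ℕ} (hr : r < p) :
    (p * m + r).factorial.factorization p = m.factorial.factorization p + m := by
  have hp : p.Prime := Fact.out
  rw [Nat.factorization_def _ hp, Nat.factorization_def _ hp, padicValNat_factorial_mul_add m hr,
    padicValNat_factorial_mul]

theorem fact_of_lt [Fact p.Prime] {r : ℕ} (hr : r < p) : r.factorial.factorization p = 0 := by
  simpa using fact_mul_add (p := p) 0 hr

theorem exists_three_rows [Fact p.Prime] {w : ℕ} (hw : p ≤ w) : ∃ a b c, a + b + c = w ∧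
    w.factorial.factorization p = a.factorial.factorization p + b.factorial.factorization p +
      c.factorial.factorization p + 1 := by
  have hp : p.Prime := Fact.out
  induction w using Nat.strong_induction_on with
  | _ w ih =>
    have hr := Nat.mod_lt w hp.pos
    have h0 := Nat.div_add_mod w p
    have hm : 1 ≤ w / p := (Nat.le_div_iff_mul_le hp.pos).2 (by omega)
    have h1 := fact_mul_add (p := p) (w / p) hr
    rw [h0] at h1
    by_cases h : p ≤ w / p
    · obtain ⟨a, b, c, h2, h3⟩ := ih _ (Nat.div_lt_self (by omega) hp.one_lt) h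
      refine ⟨p * a + w % p, p * b + 0, p * c + 0, ?_, ?_⟩
      · rw [← h0, ← h2, Nat.mul_add_mod, Nat.mod_mod]; ring
      · rw [h1, fact_mul_add a hr, fact_mul_add b hp.pos, fact_mul_add c hp.pos]
        omega
    · obtain ⟨m, hm'⟩ : ∃ m, w / p = m + 1 := ⟨w / p - 1, by omega⟩
      have := hp.two_le
      refine ⟨p * m + w % p, 1, p - 1, ?_, ?_⟩
      · rw [hm', mul_add] at h0
        omega
      · rw [h1, fact_mul_add m hr, fact_of_lt (r := w / p) (by omega),
          fact_of_lt (r := m) (by omega), fact_of_lt (r := 1) (by omega),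
          fact_of_lt (r := p - 1) (by omega)]
        omega

theorem exists_two_rows {w : ℕ} (hw : 2 ≤ w) (h4 : w % 4 ≠ 3) : ∃ a b, a + b = w ∧
    w.factorial.factorization 2 = a.factorial.factorization 2 + b.factorial.factorization 2 + 1 := by
  induction w using Nat.strong_induction_on with
  | _ w ih =>
    have hr : w % 2 < 2 := Nat.mod_lt w two_pos
    have h0 := Nat.div_add_mod w 2
    have h1 := fact_mul_add (p := 2) (w / 2) hr
    rw [h0] at h1
    by_cases h : w % 4 = 2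
    · refine ⟨1, 2 * (w / 2 - 1) + 1, by omega, ?_⟩
      have h2 := fact_mul_add (p := 2) (w / 4) (r := 1) one_lt_two
      have h3 := fact_mul_add (p := 2) (w / 4) (r := 0) two_pos
      rw [show 2 * (w / 4) + 1 = w / 2 by omega] at h2
      rw [show 2 * (w / 4) + 0 = w / 2 - 1 by omega] at h3
      rw [h1, fact_mul_add _ one_lt_two, fact_of_lt one_lt_two]
      omega
    · obtain ⟨a, b, h2, h3⟩ := ih (w / 2) (by omega) (by omega) (by omega)
      refine ⟨2 * a + w % 2, 2 * b + 0, by omega, ?_⟩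
      rw [h1, fact_mul_add a hr, fact_mul_add b two_pos]
      omega

variable {N : ℕ}

theorem nu_glue_rows (hp : p.Prime) {c : Fin p → ℕ} {f w : ℕ} (hc1 : ∑ j, c j = N)
    (hc2 : baseS c = N.choose 2 + f) (hw : ∀ j, 1 ≤ c j) {v : Fin p → ℕ} (hv : ∑ j, v j = w) :
    glue (fun j => rowS (c j - 1) (v j)) ∈ XS N (f + p * w) c ∧
      (degS N (glue fun j => rowS (c j - 1) (v j)) (f + p * w)).factorization p + w +
        ∑ j, (v j).factorial.factorization p = (f + p * w).factorial.factorization p := by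
  have h1 : ∀ j, #(rowS (c j - 1) (v j)) = c j ∧ wtS (rowS (c j - 1) (v j)) = v j := fun j => by
    have := mem_Lam'.1 (rowS_mem (c j - 1) (v j))
    rwa [Nat.sub_add_cancel (hw j)] at this
  have h2 : glue (fun j => rowS (c j - 1) (v j)) ∈ XS N (f + p * w) c :=
    glue_mem_XS hp.pos hc1 hc2 (mem_MP.2 ⟨fun j => (h1 j).1, by simp only [(h1 _).2, hv]⟩)
  refine ⟨h2, ?_⟩
  have h3 := factorization_degS hp (mem_XS.1 h2).1
  have h4 : ∀ j, degS (c j) (rowS (c j - 1) (v j)) (v j) = 1 := fun j => by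
    have := degS_rowS (c j - 1) (v j)
    rwa [Nat.sub_add_cancel (hw j)] at this
  simpa only [((mem_XS_iff hp.pos hc1 hc2).1 h2).2, (mem_XS.1 h2).2, run_glue, (h1 _).2, h4,
    Nat.factorization_one, Finsupp.coe_zero, Pi.zero_apply, sum_const_zero, add_zero] using h3

theorem exists_height_one_odd [Fact p.Prime] (hp2 : p ≠ 2) {c : Fin p → ℕ} {f w : ℕ}
    (hc1 : ∑ j, c j = N) (hc2 : baseS c = N.choose 2 + f) (hw : ∀ j, w ≤ c j) (hpw : p ≤ w) :
    ∃ S ∈ XS N (f + p * w) c, (degS N S (f + p * w)).factorization p + w +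
      w.factorial.factorization p = (f + p * w).factorial.factorization p + 1 := by
  have hp : p.Prime := Fact.out
  obtain ⟨a, b, d, h1, h2⟩ := exists_three_rows hpw
  obtain ⟨q, rfl⟩ : ∃ q, p = q + 3 := ⟨p - 3, by have := hp.two_le; omega⟩
  obtain ⟨h3, h4⟩ := nu_glue_rows hp hc1 hc2 (fun j => by have := hw j; omega)
    (v := Fin.cons a (Fin.cons b (Fin.cons d 0))) (w := w) (by simp [Fin.sum_univ_succ]; omega)
  refine ⟨_, h3, ?_⟩
  simp only [Fin.sum_univ_succ, Fin.cons_zero, Fin.cons_succ, Pi.zero_apply, Nat.factorial_zero,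
    Nat.factorization_one, Finsupp.coe_zero, sum_const_zero] at h4
  omega

theorem run_zero_of_selfConj {S : Finset ℕ} (h : cjS (2 * N) S = S) :
    run 2 0 S = cjS N (run 2 1 S) := by
  have := run_cjS (p := 2) (L := N) S 0
  rw [h] at this
  exact this

theorem exists_height_one_two {c : Fin 2 → ℕ} {f w : ℕ} (hc1 : ∑ j, c j = N)
    (hc2 : baseS c = N.choose 2 + f) (hw : ∀ j, w ≤ c j) (hn : f + 2 * w ≤ N) (h3 : 3 ≤ w) :
    ∃ S ∈ XS N (f + 2 * w) c, cjS (2 * N) S ≠ S ∧ (degS N S (f + 2 * w)).factorization 2 + w +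
      w.factorial.factorization 2 = (f + 2 * w).factorial.factorization 2 + 1 := by
  have hw0 := hw 0
  have hw1 := hw 1
  have hwt : ∀ S ∈ XS N (f + 2 * w) c, cjS (2 * N) S = S → wtS (run 2 0 S) = wtS (run 2 1 S) := by
    intro S hS h
    rw [run_zero_of_selfConj h]
    exact wtS_cjS (run_subset_range (p := 2) (h ▸ cjS_subset _ _) 1)
  by_cases h4 : w % 4 = 3
  · obtain ⟨m, rfl⟩ : ∃ m, w = m + 2 := ⟨w - 2, by omega⟩
    let T : Fin 2 → Finset ℕ := ![hookS (c 0 - 2) m, range (c 1)]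
    have h1 := mem_Lam'.1 (hookS_mem (c 0 - 2) m)
    have h2 := degS_hookS (c 0 - 2) m
    rw [Nat.sub_add_cancel (by omega)] at h1 h2
    have h5 : glue T ∈ XS N (f + 2 * (m + 2)) c :=
      glue_mem_XS two_pos hc1 hc2 (mem_MP.2 ⟨by simp [Fin.forall_fin_two, T, h1.1],
        by simp [T, h1.2, wtS_range]⟩)
    have e0 : run 2 0 (glue T) = hookS (c 0 - 2) m := run_glue T 0
    have e1 : run 2 1 (glue T) = range (c 1) := run_glue T 1
    refine ⟨_, h5, fun h => ?_, ?_⟩
    · have := hwt _ h5 h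
      rw [e0, e1, h1.2, wtS_range] at this
      omega
    · have h6 := factorization_degS Nat.prime_two (mem_XS.1 h5).1
      have h7 : degS (c 1) (range (c 1)) 0 = 1 := by
        have := degS_rowS (c 1 - 1) 0
        rwa [rowS, add_zero, ← range_add_one, Nat.sub_add_cancel (by omega)] at this
      have h8 : (m + 1).factorization 2 = 1 := by
        rw [show m + 1 = 2 * ((m + 1) / 2) by omega, Nat.factorization_mul two_ne_zero (by omega),
          Finsupp.add_apply, Nat.prime_two.factorization_self,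
          Nat.factorization_eq_zero_of_not_dvd (by omega)]
      simp only [((mem_XS_iff two_pos hc1 hc2).1 h5).2, (mem_XS.1 h5).2, Fin.sum_univ_two,
        Fin.val_zero, Fin.val_one, e0, e1, h1.2, h2, wtS_range, h7, h8, Nat.factorial_zero,
        Nat.factorization_one, Finsupp.coe_zero, Pi.zero_apply] at h6
      omega
  · obtain ⟨a, b, h1, h2⟩ := exists_two_rows (w := w) (by omega) h4
    obtain ⟨h5, h6⟩ := nu_glue_rows Nat.prime_two hc1 hc2 (fun j => by have := hw j; omega)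
      (v := ![a, b]) (w := w) (by simp [h1])
    have e0 : run 2 0 (glue fun j => rowS (c j - 1) (![a, b] j)) = rowS (c 0 - 1) a :=
      run_glue (fun j => rowS (c j - 1) (![a, b] j)) 0
    have e1 : run 2 1 (glue fun j => rowS (c j - 1) (![a, b] j)) = rowS (c 1 - 1) b :=
      run_glue (fun j => rowS (c j - 1) (![a, b] j)) 1
    refine ⟨_, h5, fun h => ?_, ?_⟩
    · have h7 := hwt _ h5 h
      have h8 := run_zero_of_selfConj h
      rw [e0, e1, (mem_Lam'.1 (rowS_mem _ _)).2, (mem_Lam'.1 (rowS_mem _ _)).2] at h7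
      rw [e0, e1] at h8
      rw [Fin.sum_univ_two] at hc1
      exact cjS_rowS_ne (by omega) (by omega) (by omega) h8.symm
    · simp only [Fin.sum_univ_two, Matrix.cons_val_zero, Matrix.cons_val_one] at h6
      omega

theorem nu_degS_of_lt [Fact p.Prime] {c : Fin p → ℕ} {f w : ℕ} (hc1 : ∑ j, c j = N)
    (hc2 : baseS c = N.choose 2 + f) (hw : ∀ j, w ≤ c j) (hwp : w < p) {S : Finset ℕ}
    (hS : S ∈ XS N (f + p * w) c) :
    (degS N S (f + p * w)).factorization p + w = (f + p * w).factorial.factorization p := by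
  have hp : p.Prime := Fact.out
  have h1 := factorization_degS hp (mem_XS.1 hS).1
  have h2 := ((mem_XS_iff hp.pos hc1 hc2).1 hS).2
  have h3 : ∀ j : Fin p, wtS (run p j S) ≤ w := fun j =>
    h2 ▸ single_le_sum (f := fun j : Fin p => wtS (run p j S)) (fun _ _ => Nat.zero_le _)
      (mem_univ j)
  have h4 : ∀ j : Fin p,
      (degS (cnt p S j) (run p j S) (wtS (run p j S))).factorization p = 0 := by
    intro j
    have h5 : run p j S ∈ Lam (cnt p S j) (wtS (run p j S)) := mem_Lam'.2 ⟨rfl, rfl⟩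
    have h6 : Fintype.card (Fin (wtS (run p j S))) ≤ cnt p S j := by
      rw [(mem_XS.1 hS).2, Fintype.card_fin]
      exact (h3 j).trans (hw j)
    have h7 := H17.deg_dvd_card (G := Perm (Fin (wtS (run p j S))))
      ⟨_, isIrr_symChi h6 (by rwa [Fintype.card_fin])⟩
    rw [charDegree_symChi (by rwa [Fintype.card_fin]), Nat.card_perm, Nat.card_eq_fintype_card,
      Fintype.card_fin] at h7
    refine Nat.factorization_eq_zero_of_not_dvd fun h => ?_
    have := hp.dvd_factorial.1 (h.trans h7)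
    have := h3 j
    omega
  rw [h2, sum_eq_zero fun j _ => fact_of_lt ((h3 j).trans_lt hwp), sum_eq_zero fun j _ => h4 j]
    at h1
  omega

end Cfsg.Agent.H19
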