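import Cfsg.Agent.H97.U5Defs
import Cfsg.Agent.H8.SylowIn
import Cfsg.Agent.H83.Base

/-!
# Project U5F, piece W1: images of the point are opposite to it
-/

set_option autoImplicit false
set_option linter.unusedSectionVars false

namespace Cfsg.Agent.H19.U5W1

open Cfsg.Agent.H97.U5 Subgroup
open scoped Pointwise

universe u

variable {K : Type u} [Field K] [Finite K] {T : Hm K} {p : ℕ} [Fact p.Prime] [CharP K p]
  {Γ : Subgroup (Equiv.Perm (W K))} (h : WG T p Γ)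
include h

/-- `p`-elements of the normalizer lie in `A`. -/
theorem pn {k : Equiv.Perm (W K)} (hk : k ∈ Γ) (hn : k ∈ normalizer (AW T : Set (Equiv.Perm (W K))))
    {n : ℕ} (e : k ^ p ^ n = 1) : k ∈ AW T :=
  h.syl (zpowers k ⊔ AW T) (sup_le (zpowers_le.2 hk) h.le)
    (H83.isPGroup_sup (H83.isPGroup_zpowers e) (isPGroup_AW T p) (zpowers_le.2 hn)) le_sup_right
    (mem_sup_left (mem_zpowers k))

theorem pn' {g u : Equiv.Perm (W K)} (hg : g ∈ Γ) (hu : u ∈ AW T) (u1 : u ≠ 1)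
    (hn : g * u * g⁻¹ ∈ normalizer (AW T : Set (Equiv.Perm (W K)))) :
    g ∈ normalizer (AW T : Set (Equiv.Perm (W K))) := by
  obtain ⟨n, e⟩ := H83.isPGroup_iff.1 (isPGroup_AW T p) u hu
  exact h.ti g hg u hu u1 (pn h (mul_mem (mul_mem hg (h.le hu)) (inv_mem hg)) hn (n := n)
    (by rw [conj_pow, e, mul_one, mul_inv_cancel]))

omit h in
theorem z_mem : uW T 0 T.ep ∈ AW T := ⟨0, T.ep, by simp, rfl⟩

omit h in
theorem z_ne : uW T 0 T.ep ≠ 1 := fun e => T.ep_ne ((uW_eq_one T).1 e).2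

omit h in
theorem z_app (w : W K) : uW T 0 T.ep w = w + (0, 0, -T.ep * w.1) := by
  ext <;> simp [uW_apply]

theorem s0 {g : Equiv.Perm (W K)} (hg : g ∈ Γ) (e : ∀ x, (g (0, 0, x)).1 = 0) :
    g ∈ normalizer (AW T : Set (Equiv.Perm (W K))) := by
  have hz : g * uW T 0 T.ep * g⁻¹ ∈ Γ := mul_mem (mul_mem hg (h.le z_mem)) (inv_mem hg)
  have k1 : ∀ w, (g * uW T 0 T.ep * g⁻¹) w = w + g (0, 0, -T.ep * (g⁻¹ w).1) := fun w => by
    rw [Equiv.Perm.mul_apply, Equiv.Perm.mul_apply, z_app, h.add g hg]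
    simp
  have k2 : ∀ y, (g⁻¹ (0, 0, y)).1 = 0 := fun y => perp_P.1 fun x => by
    simpa using h.perp _ (inv_mem hg) _ _ (perp_P.2 (e x) y).symm
  have k0 : g (0, 0, 0) = 0 := by
    have := h.add g hg 0 0
    rw [add_zero] at this
    exact left_eq_add.1 this
  refine pn' h hg z_mem z_ne (h.ti _ hz _ z_mem z_ne ?_)
  rw [show g * uW T 0 T.ep * g⁻¹ * uW T 0 T.ep = uW T 0 T.ep * (g * uW T 0 T.ep * g⁻¹) from
    Equiv.ext fun w => ?_, mul_inv_cancel_right]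
  · exact z_mem
  rw [Equiv.Perm.mul_apply _ (uW T 0 T.ep), Equiv.Perm.mul_apply (uW T 0 T.ep), z_app, z_app,
    h.add _ hz, k1 (0, 0, _), k2, mul_zero, k0, add_zero, k1 w, Prod.fst_add, e, add_zero]

theorem t1 {g u : Equiv.Perm (W K)} (hg : g ∈ Γ) (hu : u ∈ AW T) (u1 : u ≠ 1) {x : K}
    (e : u (g (0, 0, x)) = g (0, 0, x)) : (g (0, 0, x)).1 = 0 ∧ (g (0, 0, x)).2.1 = 0 := by
  set H := Γ ⊓ MulAction.stabilizer (Equiv.Perm (W K)) (g (0, 0, x)) with hH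
  have h1 : MulAut.conj g • AW T ≤ H := fun v hv => by
    have h2 := H8.mem_conj_smul.1 hv
    refine ⟨by simpa [mul_assoc] using mul_mem (mul_mem hg (h.le h2)) (inv_mem hg), ?_⟩
    have h3 := (fix_AW T (w := (0, 0, x))).2 ⟨rfl, rfl⟩ _ h2
    simpa using congrArg g h3
  have hS : H8.IsSylowIn p (MulAut.conj g • AW T) H :=
    H8.isSylowIn_of_maximal h1 (H8.isPGroup_conj_smul (isPGroup_AW T p) g) fun Q h2 h3 h4 v hv => by
      refine H8.mem_conj_smul.2 (h.syl (MulAut.conj g⁻¹ • Q) (fun a ha => ?_)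
        (H8.isPGroup_conj_smul h2 _) (fun a ha => ?_) (H8.mem_conj_smul.2 (by simpa [mul_assoc] using hv)))
      · have := (h3 (H8.mem_conj_smul.1 ha)).1
        simpa [mul_assoc] using mul_mem (mul_mem (inv_mem hg) this) hg
      · exact H8.mem_conj_smul.2 (h4 (H8.mem_conj_smul.2 (by simpa [mul_assoc] using ha)))
  obtain ⟨k, hk, h2⟩ := hS.exists_conj_le (Q := zpowers u)
    ((isPGroup_AW T p).to_le (zpowers_le.2 hu)) (zpowers_le.2 ⟨h.le hu, e⟩)
  have h3 := H8.mem_conj_smul.1 (h2 (H8.conj_mem_conj_smul.2 (mem_zpowers u)))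
  have h4 := h.ti (g⁻¹ * k) (mul_mem (inv_mem hg) hk.1) u hu u1 (by simpa [mul_assoc] using h3)
  refine (fix_AW T).1 fun v hv => ?_
  have h5 := h1 (H8.conj_mem_conj_smul (g := g) |>.2 ((mem_normalizer_iff.1 h4 v).1 hv))
  have h6 : v ∈ H := by simpa [mul_assoc] using mul_mem (mul_mem (inv_mem hk) h5) hk
  exact h6.2

theorem fin {g u : Equiv.Perm (W K)} (hg : g ∈ Γ) (hu : u ∈ AW T) (u1 : u ≠ 1)
    (e : ∀ x y, Perp T (u (g (0, 0, x))) (g (0, 0, y))) :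
    g ∈ normalizer (AW T : Set (Equiv.Perm (W K))) := by
  refine inv_mem_iff.1 (pn' h (inv_mem hg) hu u1 (s0 h
    (mul_mem (mul_mem (inv_mem hg) (h.le hu)) (inv_mem (inv_mem hg))) fun x =>
      (perp_P (T := T)).1 fun y => ?_))
  simpa using h.perp _ (inv_mem hg) _ _ (e x y)

theorem mem_gP {g : Equiv.Perm (W K)} (hg : g ∈ Γ) {w : W K} :
    (∃ x, w = g (0, 0, x)) ↔ ∀ x y, Perp T w (g (0, y, x)) := by
  refine ⟨?_, fun e => ?_⟩
  · rintro ⟨z, rfl⟩ x y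
    exact h.perp g hg _ _ (perp_perp_P.2 ⟨rfl, rfl⟩ x y)
  · obtain ⟨h1, h2⟩ := (perp_perp_P (w := g⁻¹ w)).1 fun x y => by
      simpa using h.perp _ (inv_mem hg) _ _ (e x y)
    exact ⟨(g⁻¹ w).2.2, by
      rw [show ((0, 0, (g⁻¹ w).2.2) : W K) = g⁻¹ w from Prod.ext h1.symm (Prod.ext h2.symm rfl)]; simp⟩

omit h in
/-- **U5F-W1** -/
theorem w1 : W1Stmt T p := by
  intro Γ h g hg hn x0 hx0 e0
  refine hn ?_
  have t0 : ∀ x, (g (0, 0, x)).1 = 0 → (g (0, 0, x)).2.1 = 0 := fun x e =>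
    (t1 h hg z_mem z_ne (by rw [z_app, e]; simp)).2
  have pp : ∀ x y, Perp T (g (0, 0, x)) (g (0, 0, y)) := fun x y =>
    h.perp g hg _ _ (perp_P.2 rfl y)
  have l0 : (g (0, 0, x0)).2.2 ≠ 0 := fun e => by
    have h1 : g (0, 0, x0) = 0 := Prod.ext e0 (Prod.ext (t0 x0 e0) e)
    have h2 := h.add g hg (0, 0, x0) (0, 0, x0)
    rw [h1, add_zero, ← h1] at h2
    exact hx0 (by simpa using g.injective h2)
  have fl : ∀ x, ∃ l, T.σ l = l ∧ (g (0, 0, x)).1 = l * (g (0, 0, x0)).2.2 := fun x =>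
    T.exists_fix l0 (by
      have := pp x x0
      simp only [Perp, hm, e0, t0 x0 e0, map_zero] at this
      linear_combination this)
  by_cases h2 : (2 : K) = 0
  · refine fin h hg (u := uW T 0 1) ⟨0, 1, by simp; linear_combination h2, rfl⟩
      (fun e => one_ne_zero ((uW_eq_one T).1 e).2) fun x y => ?_
    obtain ⟨l, h3, h4⟩ := fl x
    obtain ⟨m, h5, h6⟩ := fl y
    have := pp x y
    simp only [Perp, hm, uW_apply, map_add, map_sub, map_mul, map_zero, map_one, h4, h6, h3, h5]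
      at this ⊢
    linear_combination this
  by_contra hn
  obtain ⟨x1, h1⟩ : ∃ x1, (g (0, 0, x1)).1 ≠ 0 := by
    by_contra! k
    exact hn (s0 h hg k)
  obtain ⟨⟨γ, β, α⟩, hy⟩ : ∃ y, y = g (0, 0, x1) := ⟨_, rfl⟩
  rw [← hy] at h1
  have h1' : γ ≠ 0 := h1
  have h1'' := T.σ_ne_zero h1'
  have dec : ∀ x, ∃ l m, T.σ l = l ∧ T.σ m = m ∧ g (0, 0, x) = (l * γ, l * β, l * α + m * γ) := by
    intro x
    obtain ⟨l1, h3, h4⟩ := fl x
    obtain ⟨l2, h5, h6⟩ := fl x1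
    rw [← hy] at h6
    have h7 : γ = l2 * (g (0, 0, x0)).2.2 := h6
    have l2' : l2 ≠ 0 := fun e => h1' (by rw [h7, e, zero_mul])
    have h8 : T.σ (-(l1 / l2)) = -(l1 / l2) := by rw [map_neg, map_div₀, h3, h5]
    obtain ⟨z, hz⟩ := (mem_gP h hg (w := g (0, 0, x) + (-(l1 / l2)) • ((γ, β, α) : W K))).2 fun a b =>
      ((mem_gP h hg).1 ⟨x, rfl⟩ a b).add (((mem_gP h hg).1 ⟨x1, hy⟩ a b).smul h8)
    have h9 : (g (0, 0, z)).1 = 0 := by
      rw [← hz, Prod.fst_add, h4, Prod.smul_fst, smul_eq_mul, h7]; field_simp; ring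
    have h10 := t0 z h9
    obtain ⟨m, h11, h12⟩ : ∃ m, T.σ m = m ∧ (g (0, 0, z)).2.2 = m * γ := T.exists_fix h1' (by
      have := pp z x1
      rw [← hy] at this
      simp only [Perp, hm, h9, h10, map_zero] at this
      linear_combination this)
    rw [← hz] at h9 h10 h12
    simp only [Prod.fst_add, Prod.snd_add, Prod.smul_fst, Prod.smul_snd, smul_eq_mul] at h9 h10 h12
    refine ⟨l1 / l2, m, by rw [map_div₀, h3, h5], h11, Prod.ext ?_ (Prod.ext ?_ ?_)⟩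
    · linear_combination h9
    · linear_combination h10
    · linear_combination h12
  obtain ⟨b, hb, hb'⟩ : ∃ b, b + T.σ b + 1 * T.σ 1 = 0 ∧
      (b - T.σ b) * (γ * T.σ γ) = 2 * (β * T.σ γ - γ * T.σ β) :=
    ⟨-1 / 2 + (β * T.σ γ - γ * T.σ β) / (γ * T.σ γ), by
      simp only [map_add, map_div₀, map_neg, map_one, map_ofNat, map_sub, map_mul, T.inv]
      field_simp; ring, by
      simp only [map_add, map_div₀, map_neg, map_one, map_ofNat, map_sub, map_mul, T.inv]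
      field_simp; ring⟩
  refine hn (fin h hg (u := uW T 1 b) ⟨1, b, hb, rfl⟩
    (fun e => one_ne_zero ((uW_eq_one T).1 e).1) fun x y => ?_)
  obtain ⟨l, m, h3, h4, h5⟩ := dec x
  obtain ⟨l', m', h6, h7, h8⟩ := dec y
  simp only [h5, h8, Perp, hm, uW_apply, map_add, map_sub, map_mul, map_one, h3, h4, h6, h7, T.inv]
  linear_combination (-(l * l')) * hb'

end Cfsg.Agent.H19.U5W1
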