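import Cfsg.Agent.H96.VbDefs
import Cfsg.Agent.H92.UL2

/-! Automorphisms of the subgroup `E` of the unipotent group of the large Ree group. -/

set_option autoImplicit false
set_option linter.unusedSimpArgs false
set_option linter.unnecessarySeqFocus false

namespace Cfsg.Agent.H19.VB

open Cfsg.Agent.H39 Cfsg.Agent.H15.O8 Cfsg.Agent.H97 Cfsg.Agent.H96.VB Cfsg.Agent.H92.UL Subgroup
open scoped commutatorElement

universe u

section general

variable {G : Type u} [Group G] {P X Y : Subgroup G}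

theorem chain_step [Finite G] (hG : IsPGroup 2 G) (α : MulAut P) (hX : Ch P X) (hY : Ch P Y)
    (h : ∀ x ∈ X, x⁻¹ * ext α x ∈ Y) (hk : ∃ k, ∀ y ∈ Y, ext (α ^ 2 ^ k) y = y) :
    ∃ k, ∀ x ∈ X, ext (α ^ 2 ^ k) x = x := by
  obtain ⟨k, hk⟩ := hk
  obtain ⟨m, hm⟩ := hG.exists_card_eq
  have h1 : ∀ n : ℕ, ∀ x ∈ X, x⁻¹ * ext (α ^ n) x ∈ Y := fun n => by
    induction n with
    | zero => intro x _; simp
    | succ n ih =>
      intro x hx
      have := mul_mem (h x hx) (hY.2 α _ (hY.1 (ih x hx)) (ih x hx))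
      rw [ext_map_mul α (inv_mem (hX.1 hx)) (ext_mem _ (hX.1 hx)), ext_map_inv α (hX.1 hx)] at this
      rw [pow_succ', ext_mul]
      simpa [mul_assoc] using this
  refine ⟨k + m, fun x hx => ?_⟩
  obtain ⟨y, hy, e⟩ : ∃ y ∈ Y, ext (α ^ 2 ^ k) x = x * y := ⟨_, h1 _ x hx, (mul_inv_cancel_left _ _).symm⟩
  have h2 : ∀ n : ℕ, ext ((α ^ 2 ^ k) ^ n) x = x * y ^ n := fun n => by
    induction n with
    | zero => simp
    | succ n ih =>
      rw [pow_succ', ext_mul, ih, ext_map_mul _ (hX.1 hx) (hY.1 (pow_mem hy n)), e,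
        hk _ (pow_mem hy n), pow_succ', mul_assoc]
  rw [pow_add, pow_mul, h2, ← hm, pow_card_eq_one', mul_one]

theorem chain_end {α : MulAut P} (h : ∃ k, ∀ x ∈ P, ext (α ^ 2 ^ k) x = x) : ∃ k, α ^ 2 ^ k = 1 :=
  h.imp fun _ hk => MulEquiv.ext fun x => Subtype.ext ((ext_coe _ x).symm.trans (hk _ x.2))

end general

variable {K : Type u} [Field K] {T : Tits K}

theorem commER {e r : U T} (he : e ∈ E T) (hr : r ∈ R T) :
    ⁅e, r⁆ = x4 T (e.b2 * r.a5) * x6 T (e.b8 * r.a5) := by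
  obtain ⟨h1, h2, h3, h4, h5, h6, h7, h8, h9⟩ := hr
  rw [mem_E] at he
  rw [commutatorElement_def, mul_inv_eq_iff_eq_mul, mul_inv_eq_iff_eq_mul]
  ext <;> o8s <;> (try simp only [he, h1, h2, h3, h4, h5, h6, h7, h8, h9]) <;> o8ring T

theorem commYE {g p : U T} (hg : g ∈ Y T) (hp : p ∈ E T) :
    ⁅g, p⁆.a5 = g.a3 * T.θ p.b8 + g.a7 * T.θ p.b2 := by
  obtain ⟨h1, h2, h3, h4, h5, h6, h7⟩ := hg
  rw [mem_E] at hp
  o8s; simp only [hp, h1, h2, h3, h4, h5, h6, h7]; o8ring T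

theorem commJE {g p : U T} (hg : g ∈ O T) (hp : p ∈ E T) : ⁅g, p⁆ ∈ Y T ∧
    ⁅g, p⁆.a3 = g.a2 * p.b8 + g.b4 * p.b2 ∧ ⁅g, p⁆.a7 = g.b6 * p.b8 + g.a8 * p.b2 := by
  obtain ⟨h1, h2, h3⟩ := hg
  rw [mem_E] at hp
  o8s; simp only [hp, h1, h2, h3]
  refine ⟨⟨?_, ?_, ?_, ?_, ?_, ?_, ?_⟩, ?_, ?_⟩ <;> o8ring T

theorem commJJ {g p : U T} (hg : g ∈ O T) (hp : p ∈ O T) :
    ⁅g, p⁆.a5 = g.a2 * p.a8 + g.a8 * p.a2 + g.b4 * p.b6 + g.b6 * p.b4 := by
  obtain ⟨h1, h2, h3⟩ := hg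
  obtain ⟨k1, k2, k3⟩ := hp
  o8s; simp only [h1, h2, h3, k1, k2, k3]; o8ring T

theorem sqE {e : U T} (he : e ∈ E T) : e * e ∈ O T ∧ (e * e).a2 = e.b2 * T.θ e.b2 ∧
    (e * e).b4 = T.θ e.b2 * e.b8 ∧ (e * e).b6 = e.b2 * T.θ e.b8 ∧ (e * e).a8 = e.b8 * T.θ e.b8 := by
  rw [mem_E] at he
  o8s; simp only [he]
  refine ⟨⟨?_, ?_, ?_⟩, ?_, ?_, ?_, ?_⟩ <;> o8ring T

theorem x46 {a b c d : K} (h : x4 T a * x6 T b = x4 T c * x6 T d) : a = c ∧ b = d := by
  have := coords h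
  o8s at this
  exact this

theorem chW : Ch (E T) (W T) := Ch.of_iff Ch.bot.ivs.commP fun g =>
  ⟨fun h => ⟨h.1, (charW g h.1).1 h⟩, fun h => (charW g h.1).2 h.2⟩

theorem chR : Ch (E T) (R T) := Ch.of_iff chW.ivs.commP fun g =>
  ⟨fun h => ⟨h.1, (charR g h.1).1 h⟩, fun h => (charR g h.1).2 h.2⟩

theorem chY : Ch (E T) (Y T) := Ch.of_iff chR.ivs.commP fun g =>
  ⟨fun h => ⟨h.1, (charY g h.1).1 h⟩, fun h => (charY g h.1).2 h.2⟩

theorem chJ : Ch (E T) (O T) := Ch.of_iff (IvS.one.comm chR.ivs) fun g =>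
  ⟨fun h => ⟨h.1, fun r _ hr => by
      show _ = 1
      rw [commER h.1 hr, h.2.1, h.2.2]; ext <;> o8s⟩,
    fun h => by
      have := h.2 (x5 T 1) rfl (show x5 T 1 ∈ R T by o8s)
      rw [Set.mem_singleton_iff, commER h.1 (by o8s)] at this
      have := coords this
      o8s at this
      exact ⟨h.1, this⟩⟩

theorem extER (α : MulAut (E T)) {e r : U T} (he : e ∈ E T) (hr : r ∈ R T) :
    ext α (x4 T (e.b2 * r.a5) * x6 T (e.b8 * r.a5)) =
      x4 T ((ext α e).b2 * (ext α r).a5) * x6 T ((ext α e).b8 * (ext α r).a5) := by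
  rw [← commER he hr, ext_map_comm α he hr.1, commER (ext_mem α he) (chR.2 α r hr.1 hr)]

theorem sem [Finite K] (α : MulAut (E T)) : ∃ φ : RingAut K, ∃ a b c d : K, a * d ≠ b * c ∧ ∀ t u,
    ext α (x4 T t * x6 T u) = x4 T (a * φ t + b * φ u) * x6 T (c * φ t + d * φ u) := by
  have R5 : ∀ t, x5 T t ∈ R T := fun t => by o8s
  obtain ⟨f, hf⟩ : ∃ f : K → K, ∀ t, (ext α (x5 T t)).a5 = f t := ⟨_, fun _ => rfl⟩
  have k4 : ∀ t u, ext α (x4 T (t * u) * x6 T 0) =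
      x4 T ((ext α (y2 T t)).b2 * f u) * x6 T ((ext α (y2 T t)).b8 * f u) := fun t u => by
    rw [← hf, ← extER α (e := y2 T t) rfl (R5 u)]
    congr 1; ext <;> o8s
  have k6 : ∀ u, ext α (x4 T 0 * x6 T u) =
      x4 T ((ext α (y8 T 1)).b2 * f u) * x6 T ((ext α (y8 T 1)).b8 * f u) := fun u => by
    rw [← hf, ← extER α (e := y8 T 1) rfl (R5 u)]
    congr 1; ext <;> o8s
  generalize (ext α (y8 T 1)).b2 = b at k6
  generalize (ext α (y8 T 1)).b8 = d at k6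
  have k1 := k4 1
  simp only [one_mul] at k1
  have inj : ∀ t u t' u', ext α (x4 T t * x6 T u) = ext α (x4 T t' * x6 T u') → t = t' ∧ u = u' :=
    fun _ _ _ _ e => x46 (ext_injective α e)
  have one : ext α (x4 T 0 * x6 T 0) = x4 T 0 * x6 T 0 := by
    rw [show x4 T 0 * x6 T 0 = 1 by ext <;> o8s, ext_map_one]
  have hadd : ∀ t u, f (t + u) = f t + f u := fun t u => by
    have h1 := chR.2 α _ (R5 t).1 (R5 t)
    have h2 := chR.2 α _ (R5 u).1 (R5 u)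
    rw [← hf, ← hf, ← hf, show x5 T (t + u) = x5 T t * x5 T u by ext <;> o8s <;> o8ring T,
      ext_map_mul α (R5 t).1 (R5 u).1]
    generalize ext α (x5 T t) = g at h1
    generalize ext α (x5 T u) = k at h2
    obtain ⟨l1, l2, l3, l4, l5, l6, l7, l8, l9⟩ := h2
    obtain ⟨h1, h2, h3, h4, h5, h6, h7, h8, h9⟩ := h1
    o8s; simp only [h1, h2, h3, h4, h5, h6, h7, h8, h9, l1, l2, l3, l4, l5, l6, l7, l8, l9]
    o8ring T
  have hinj : Function.Injective f := fun t u e => (inj t 0 u 0 (by rw [k1, k1, e])).1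
  have h0 : f 0 = 0 := by
    have := hadd 0 0
    rw [add_zero] at this
    exact left_eq_add.1 this
  have h1 : f 1 ≠ 0 := fun e => one_ne_zero (hinj (e.trans h0.symm))
  have hmul : ∀ t u, f (t * u) * f 1 = f t * f u := fun t u => by
    obtain ⟨a1, a2⟩ := x46 ((k1 (t * u)).symm.trans (k4 t u))
    obtain ⟨b1, b2⟩ := x46 ((k1 (t * 1)).symm.trans (k4 t 1))
    rw [mul_one] at b1 b2
    by_contra hn
    have c1 : (ext α (y2 T 1)).b2 = 0 := (mul_eq_zero.1 (show _ * (f (t * u) * f 1 - f t * f u) = 0 by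
      linear_combination f 1 * a1 - f u * b1)).resolve_right (sub_ne_zero.2 hn)
    have c2 : (ext α (y2 T 1)).b8 = 0 := (mul_eq_zero.1 (show _ * (f (t * u) * f 1 - f t * f u) = 0 by
      linear_combination f 1 * a2 - f u * b2)).resolve_right (sub_ne_zero.2 hn)
    exact one_ne_zero (inj 1 0 0 0 (by rw [k1, c1, c2, zero_mul, one])).1
  generalize (ext α (y2 T 1)).b2 = a at k1
  generalize (ext α (y2 T 1)).b8 = c at k1
  let φ₀ : K →+* K :=
    { toFun := fun t => f t / f 1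
      map_one' := div_self h1
      map_mul' := fun t u => by field_simp; exact hmul t u
      map_zero' := by simp [h0]
      map_add' := fun t u => by rw [hadd, add_div] }
  let φ : RingAut K := RingEquiv.ofBijective φ₀ (Finite.injective_iff_bijective.1 φ₀.injective)
  have hφ : ∀ t, f t = f 1 * φ t := fun t => by
    change _ = f 1 * (f t / f 1)
    field_simp
  have key : ∀ t u, ext α (x4 T t * x6 T u) =
      x4 T (a * f 1 * φ t + b * f 1 * φ u) * x6 T (c * f 1 * φ t + d * f 1 * φ u) := fun t u => by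
    rw [show x4 T t * x6 T u = x4 T t * x6 T 0 * (x4 T 0 * x6 T u) by ext <;> o8s,
      ext_map_mul α (by o8s) (by o8s), k1, k6, hφ t, hφ u]
    ext <;> o8s <;> o8ring T
  refine ⟨φ, _, _, _, _, fun e => ?_, key⟩
  have two := T.two_eq_zero
  have z : ∀ t u, a * f 1 * t + b * f 1 * u = 0 → c * f 1 * t + d * f 1 * u = 0 → t = 0 ∧ u = 0 :=
    fun t u e1 e2 => by
      have := inj (φ.symm t) (φ.symm u) 0 0 (by
        rw [key, φ.apply_symm_apply, φ.apply_symm_apply, e1, e2, one])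
      exact ⟨φ.symm.map_eq_zero_iff.1 this.1, φ.symm.map_eq_zero_iff.1 this.2⟩
  obtain ⟨-, a0⟩ := z (b * f 1) (a * f 1) (by linear_combination (a * f 1 * (b * f 1)) * two)
    (by linear_combination (b * f 1 * (c * f 1)) * two + e)
  obtain ⟨-, c0⟩ := z (d * f 1) (c * f 1) (by linear_combination (b * f 1 * (c * f 1)) * two + e)
    (by linear_combination (c * f 1 * (d * f 1)) * two)
  exact one_ne_zero (z 1 0 (by rw [a0]; ring) (by rw [c0]; ring)).1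

theorem ker [Finite K] (α : MulAut (E T)) (h : ∀ w ∈ W T, ext α w = w) : ∃ k, α ^ 2 ^ k = 1 := by
  have k0 : ∀ e ∈ E T, ∀ r ∈ R T, e.b2 * r.a5 = (ext α e).b2 * (ext α r).a5 ∧
      e.b8 * r.a5 = (ext α e).b8 * (ext α r).a5 := fun e he r hr =>
    x46 ((h _ (by o8s)).symm.trans (extER α he hr))
  have R5 : x5 T 1 ∈ R T := by o8s
  obtain ⟨a1, a2⟩ : 1 * 1 = _ ∧ 0 * 1 = _ := k0 (y2 T 1) rfl _ R5
  obtain ⟨b1, b2⟩ : 0 * 1 = _ ∧ 1 * 1 = _ := k0 (y8 T 1) rfl _ R5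
  have c1 : (ext α (x5 T 1)).a5 = 1 := by
    have hr : ⁅x2 T 1, x8 T 1⁆ ∈ R T := by o8s; o8ring T
    have e1 : (1 : K) * ⁅x2 T 1, x8 T 1⁆.a5 = _ := (k0 (y2 T 1) rfl _ hr).1
    have m2 := ext_mem α (x := y2 T 1) rfl
    have m8 := ext_mem α (x := y8 T 1) rfl
    have e2 : ext α (x2 T 1) = ext α (y2 T 1) * ext α (y2 T 1) := by
      rw [← ext_map_mul α rfl rfl]; congr 1; ext <;> o8s <;> o8ring T
    have e8 : ext α (x8 T 1) = ext α (y8 T 1) * ext α (y8 T 1) := by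
      rw [← ext_map_mul α rfl rfl]; congr 1; ext <;> o8s <;> o8ring T
    obtain ⟨s0, s1, s2, s3, s4⟩ := sqE m2
    obtain ⟨t0, t1, t2, t3, t4⟩ := sqE m8
    rw [ext_map_comm α rfl rfl, e2, e8, commJJ s0 t0, s1, s2, s3, s4, t1, t2, t3, t4,
      commJJ (by o8s) (by o8s)] at e1
    generalize (ext α (x5 T 1)).a5 = c at *
    generalize (ext α (y2 T 1)).b2 = d at *
    generalize (ext α (y2 T 1)).b8 = d' at *
    generalize (ext α (y8 T 1)).b2 = f' at *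
    generalize (ext α (y8 T 1)).b8 = f at *
    have c0 : c ≠ 0 := by rintro rfl; simp at a1
    obtain rfl : d' = 0 := (mul_eq_zero.1 (a2.symm.trans (zero_mul _))).resolve_right c0
    obtain rfl : f' = 0 := (mul_eq_zero.1 (b1.symm.trans (zero_mul _))).resolve_right c0
    obtain rfl : f = d := mul_right_cancel₀ c0 (b2.symm.trans a1)
    o8s at e1
    have e3 := congrArg T.θ e1
    simp only [map_mul, map_one, T.θθ] at e3
    have : f = 1 := by
      calc f = f * (T.θ f * (T.θ f * f ^ 2 * (T.θ f * f ^ 2))) ^ 2 := by rw [← e3]; ring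
        _ = (f * (f * T.θ f * (f * T.θ f))) ^ 3 := by ring
        _ = 1 := by rw [← e1]; ring
    rw [this, one_mul, one_mul] at a1
    exact a1.symm
  rw [c1, mul_one, mul_one] at a1 a2 b1 b2
  have hE : ∀ e ∈ E T, (ext α e).b2 = e.b2 ∧ (ext α e).b8 = e.b8 := fun e he => by
    have := k0 e he _ R5
    rw [c1] at this
    exact ⟨by simpa [x5] using this.1.symm, by simpa [x5] using this.2.symm⟩
  have hR : ∀ r ∈ R T, (ext α r).a5 = r.a5 := fun r hr => by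
    have := (k0 (y2 T 1) rfl r hr).1
    rw [← a1] at this
    simpa [y2] using this.symm
  have m2 := ext_mem α (x := y2 T 1) rfl
  have m8 := ext_mem α (x := y8 T 1) rfl
  have hY : ∀ g ∈ Y T, (ext α g).a3 = g.a3 ∧ (ext α g).a7 = g.a7 := fun g hg => by
    have hg' := chY.2 α g hg.1 hg
    have e1 := hR _ ((charY g hg.1).1 hg (y8 T 1) rfl)
    have e2 := hR _ ((charY g hg.1).1 hg (y2 T 1) rfl)
    rw [ext_map_comm α hg.1 rfl, commYE hg' m8, commYE hg rfl, ← b1, ← b2] at e1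
    rw [ext_map_comm α hg.1 rfl, commYE hg' m2, commYE hg rfl, ← a1, ← a2] at e2
    exact ⟨by simpa [y8] using e1, by simpa [y2] using e2⟩
  have hJ : ∀ g ∈ O T, (ext α g).a2 = g.a2 ∧ (ext α g).b4 = g.b4 ∧ (ext α g).b6 = g.b6 ∧
      (ext α g).a8 = g.a8 := fun g hg => by
    have hg' := chJ.2 α g hg.1 hg
    obtain ⟨p0, p1, p2⟩ := commJE hg (p := y8 T 1) rfl
    obtain ⟨q0, q1, q2⟩ := commJE hg (p := y2 T 1) rfl
    obtain ⟨e1, e2⟩ := hY _ p0
    obtain ⟨e3, e4⟩ := hY _ q0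
    rw [ext_map_comm α hg.1 rfl] at e1 e2 e3 e4
    rw [(commJE hg' m8).2.1, p1, ← b1, ← b2] at e1
    rw [(commJE hg' m8).2.2, p2, ← b1, ← b2] at e2
    rw [(commJE hg' m2).2.1, q1, ← a1, ← a2] at e3
    rw [(commJE hg' m2).2.2, q2, ← a1, ← a2] at e4
    exact ⟨by simpa [y8] using e1, by simpa [y2] using e3, by simpa [y8] using e2,
      by simpa [y2] using e4⟩
  refine chain_end (chain_step isPGroup_U α Ch.self chJ (fun g hg => ?_)
    (chain_step isPGroup_U α chJ chY (fun g hg => ?_)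
      (chain_step isPGroup_U α chY chR (fun g hg => ?_)
        (chain_step isPGroup_U α chR chW (fun g hg => ?_) ⟨0, by simpa using h⟩))))
  · have h0 : (ext α g).a1 = 0 := ext_mem α hg
    obtain ⟨e1, e2⟩ := hE g hg
    rw [mem_E] at hg
    generalize ext α g = k at *
    o8s; simp only [h0, hg, e1, e2]; refine ⟨?_, ?_, ?_⟩ <;> o8ring T
  · obtain ⟨k1, k2, k3⟩ := chJ.2 α g hg.1 hg
    obtain ⟨e1, e2, e3, e4⟩ := hJ g hg
    obtain ⟨h1, h2, h3⟩ := hg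
    generalize ext α g = k at *
    o8s; simp only [h1, h2, h3, k1, k2, k3, e1, e2, e3, e4]
    refine ⟨?_, ?_, ?_, ?_, ?_, ?_, ?_⟩ <;> o8ring T
  · obtain ⟨k1, k2, k3, k4, k5, k6, k7⟩ := chY.2 α g hg.1 hg
    obtain ⟨e1, e2⟩ := hY g hg
    obtain ⟨h1, h2, h3, h4, h5, h6, h7⟩ := hg
    generalize ext α g = k at *
    o8s; simp only [h1, h2, h3, h4, h5, h6, h7, k1, k2, k3, k4, k5, k6, k7, e1, e2]
    refine ⟨?_, ?_, ?_, ?_, ?_, ?_, ?_, ?_, ?_⟩ <;> o8ring T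
  · obtain ⟨k1, k2, k3, k4, k5, k6, k7, k8, k9⟩ := chR.2 α g hg.1 hg
    have e1 := hR g hg
    obtain ⟨h1, h2, h3, h4, h5, h6, h7, h8, h9⟩ := hg
    generalize ext α g = k at *
    o8s; simp only [h1, h2, h3, h4, h5, h6, h7, h8, h9, k1, k2, k3, k4, k5, k6, k7, k8, k9, e1]
    refine ⟨?_, ?_, ?_, ?_, ?_, ?_, ?_, ?_, ?_, ?_⟩ <;> o8ring T

theorem ae1 [Finite K] : AE1 T := ⟨chW, sem, ker⟩

end Cfsg.Agent.H19.VB
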